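import Groth.Agent.Lib.Helper7.HartogsSpec
import Mathlib.AlgebraicGeometry.Noetherian

/-!
# Hartogs' lemma on a locally Noetherian scheme

If `U ⊆ X` is open and `depth 𝒪_{X,x} ≥ 2` for every `x ∉ U`, then for every open `V` the
restriction `Γ(X, V) → Γ(X, V ⊓ U)` is bijective.
-/

set_option autoImplicit false
set_option linter.unusedVariables false
set_option linter.style.haveILetI false

universe u

namespace Groth.Agent.Lib.Helper7.Hartogs

open AlgebraicGeometry CategoryTheory Opposite TopologicalSpace RingTheory.Sequence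
open Groth.Agent.Lib.Helper21.DepthKit Groth.Agent.Lib.Helper2.R0S1

section ringEquiv

variable {A A' : Type u} [CommRing A] [IsLocalRing A] [CommRing A'] [IsLocalRing A']

theorem depth_le_of_ringEquiv (e : A ≃+* A') : LocCoh.depth A A ≤ LocCoh.depth A' A' := by
  classical
  unfold LocCoh.depth LocCoh.idealDepth
  have h1 : ¬ (IsLocalRing.maximalIdeal A • (⊤ : Submodule A A) = ⊤) := by
    rw [smul_eq_mul, Ideal.mul_top]
    exact (IsLocalRing.maximalIdeal.isMaximal A).ne_top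
  have h2 : ¬ (IsLocalRing.maximalIdeal A' • (⊤ : Submodule A' A') = ⊤) := by
    rw [smul_eq_mul, Ideal.mul_top]
    exact (IsLocalRing.maximalIdeal.isMaximal A').ne_top
  rw [if_neg h1, if_neg h2]
  haveI := RingHomInvPair.of_ringEquiv e
  haveI := RingHomInvPair.symm (↑e : A →+* A') (e.symm : A' →+* A)
  refine iSup₂_le fun rs hrs => ?_
  refine le_iSup₂_of_le (rs.map e) ⟨?_, ?_⟩ ?_
  · exact (LinearEquiv.isWeaklyRegular_congr' (σ := (e : A →+* A')) e.toSemilinearEquiv rs).1 hrs.1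
  · intro r hr
    obtain ⟨r₀, hr₀, rfl⟩ := List.mem_map.1 hr
    have := hrs.2 r₀ hr₀
    rw [IsLocalRing.mem_maximalIdeal, mem_nonunits_iff] at this ⊢
    intro hu
    exact this ((isUnit_map_iff e r₀).1 hu)
  · rw [List.length_map]

theorem depth_eq_of_ringEquiv (e : A ≃+* A') : LocCoh.depth A A = LocCoh.depth A' A' :=
  le_antisymm (depth_le_of_ringEquiv e) (depth_le_of_ringEquiv e.symm)

end ringEquiv

section scheme

variable {X : Scheme.{u}} (U : X.Opens)

/-- the ideal of sections over `W` whose nonvanishing locus lies in `U` -/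
def idealOf (W : X.Opens) : Ideal Γ(X, W) where
  carrier := {c | X.basicOpen c ≤ U}
  add_mem' := fun {a b} ha hb => (X.basicOpen_add_le a b).trans (sup_le ha hb)
  zero_mem' := by
    show X.basicOpen (0 : Γ(X, W)) ≤ U
    rw [Scheme.basicOpen_zero]
    exact bot_le
  smul_mem' := fun r c hc => by
    show X.basicOpen (r • c) ≤ U
    rw [smul_eq_mul, Scheme.basicOpen_mul]
    exact inf_le_right.trans hc

theorem mem_idealOf {W : X.Opens} (c : Γ(X, W)) : c ∈ idealOf U W ↔ X.basicOpen c ≤ U := Iff.rfl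

variable [IsLocallyNoetherian X]
  (hU : ∀ x : X, x ∉ U → (2 : ℕ∞) ≤ LocCoh.depth (X.presheaf.stalk x) (X.presheaf.stalk x))

include hU in
theorem depth_idealOf {W : X.Opens} (hW : IsAffineOpen W) :
    haveI : IsNoetherianRing Γ(X, W) := IsLocallyNoetherian.component_noetherian ⟨W, hW⟩
    (2 : ℕ∞) ≤ LocCoh.idealDepth (idealOf U W) Γ(X, W) := by
  haveI : IsNoetherianRing Γ(X, W) := IsLocallyNoetherian.component_noetherian ⟨W, hW⟩
  rw [idealDepth_eq_iInf_depth_localization]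
  refine le_iInf₂ fun p hp => ?_
  have hxW : hW.fromSpec p ∈ W := by
    have : hW.fromSpec p ∈ Set.range hW.fromSpec := ⟨p, rfl⟩
    rw [hW.range_fromSpec] at this
    exact this
  have hxU : hW.fromSpec p ∉ U := by
    intro hx
    obtain ⟨c, hcU, hxc⟩ := hW.exists_basicOpen_le ⟨hW.fromSpec p, hx⟩ hxW
    have hcp : c ∈ p.asIdeal := hp ((mem_idealOf U c).2 hcU)
    have h1 : p ∈ hW.fromSpec ⁻¹ᵁ X.basicOpen c := hxc
    rw [hW.fromSpec_preimage_basicOpen] at h1
    exact h1 hcp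
  have h2 := hU _ hxU
  letI alg : Algebra Γ(X, W) (X.presheaf.stalk (hW.fromSpec p)) :=
    TopCat.Presheaf.algebra_section_stalk X.presheaf ⟨hW.fromSpec p, hxW⟩
  have hloc : IsLocalization.AtPrime (X.presheaf.stalk (hW.fromSpec p)) p.asIdeal :=
    hW.isLocalization_stalk' p hxW
  haveI : IsLocalization p.asIdeal.primeCompl (X.presheaf.stalk (hW.fromSpec p)) := hloc
  let e : Localization.AtPrime p.asIdeal ≃ₐ[Γ(X, W)] X.presheaf.stalk (hW.fromSpec p) :=
    IsLocalization.algEquiv p.asIdeal.primeCompl _ _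
  rw [depth_congr (locEquiv p.asIdeal), depth_eq_of_ringEquiv e.toRingEquiv]
  exact h2

include hU in
/-- Hartogs on an affine open. -/
theorem bijective_res_affine {W : X.Opens} (hW : IsAffineOpen W) :
    Function.Bijective (res (inf_le_left : W ⊓ U ≤ W)) := by
  haveI : IsNoetherianRing Γ(X, W) := IsLocallyNoetherian.component_noetherian ⟨W, hW⟩
  obtain ⟨a, ha, b, hb, hareg, hbreg⟩ := exists_regular_pair _ (depth_idealOf U hU hW)
  refine bijective_res hW (idealOf U W) (W ⊓ U) inf_le_left ?_ ?_ a b ha hb hareg hbreg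
  · intro c hc
    exact le_inf (X.basicOpen_le c) hc
  · intro x hx
    obtain ⟨c, hcU, hxc⟩ := hW.exists_basicOpen_le ⟨x, hx.2⟩ hx.1
    exact ⟨c, hcU, hxc⟩

include hU in
theorem injective_res (V : X.Opens) : Function.Injective (res (inf_le_left : V ⊓ U ≤ V)) := by
  rw [injective_iff_map_eq_zero]
  intro s hs
  apply TopCat.Sheaf.eq_of_locally_eq' X.sheaf
    (fun W : {W : X.affineOpens // (W : X.Opens) ≤ V} => (W.1 : X.Opens)) V
    (fun W => homOfLE W.2)
  · intro x hx
    obtain ⟨W, hW, hxW, hWV⟩ := exists_isAffineOpen_mem_and_subset (U := V) hx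
    exact Opens.mem_iSup.2 ⟨⟨⟨W, hW⟩, hWV⟩, hxW⟩
  · rintro ⟨⟨W, hW⟩, hWV⟩
    show res hWV s = res hWV 0
    rw [map_zero]
    apply (bijective_res_affine U hU hW).1
    rw [map_zero, res_res]
    have : res (inf_le_left.trans hWV : W ⊓ U ≤ V) s =
        res (inf_le_inf_right U hWV : W ⊓ U ≤ V ⊓ U) (res inf_le_left s) := by rw [res_res]
    rw [this, hs, map_zero]

include hU in
theorem surjective_res (V : X.Opens) : Function.Surjective (res (inf_le_left : V ⊓ U ≤ V)) := by
  intro t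
  let ι := {W : X.affineOpens // (W : X.Opens) ≤ V}
  have hex : ∀ W : ι, ∃ sW : Γ(X, (W.1 : X.Opens)),
      res (inf_le_left : (W.1 : X.Opens) ⊓ U ≤ W.1) sW =
        res (inf_le_inf_right U W.2 : (W.1 : X.Opens) ⊓ U ≤ V ⊓ U) t :=
    fun W => (bijective_res_affine U hU W.1.2).2 _
  choose sW hsW using hex
  have hcompat : TopCat.Presheaf.IsCompatible X.sheaf.1 (fun W : ι => (W.1 : X.Opens)) sW := by
    intro W W'
    show res (inf_le_left : (W.1 : X.Opens) ⊓ W'.1 ≤ W.1) (sW W) =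
      res (inf_le_right : (W.1 : X.Opens) ⊓ W'.1 ≤ W'.1) (sW W')
    apply injective_res U hU ((W.1 : X.Opens) ⊓ W'.1)
    rw [res_res, res_res]
    have e1 : res ((inf_le_left : (W.1 : X.Opens) ⊓ W'.1 ⊓ U ≤ (W.1 : X.Opens) ⊓ W'.1).trans
        inf_le_left) (sW W) =
        res (inf_le_inf_right U inf_le_left : (W.1 : X.Opens) ⊓ W'.1 ⊓ U ≤ (W.1 : X.Opens) ⊓ U)
          (res inf_le_left (sW W)) := by rw [res_res]
    have e2 : res ((inf_le_left : (W.1 : X.Opens) ⊓ W'.1 ⊓ U ≤ (W.1 : X.Opens) ⊓ W'.1).trans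
        inf_le_right) (sW W') =
        res (inf_le_inf_right U inf_le_right : (W.1 : X.Opens) ⊓ W'.1 ⊓ U ≤ (W'.1 : X.Opens) ⊓ U)
          (res inf_le_left (sW W')) := by rw [res_res]
    rw [e1, e2, hsW, hsW, res_res, res_res]
  have hcover : V ≤ ⨆ W : ι, (W.1 : X.Opens) := by
    intro x hx
    obtain ⟨W, hW, hxW, hWV⟩ := exists_isAffineOpen_mem_and_subset (U := V) hx
    exact Opens.mem_iSup.2 ⟨⟨⟨W, hW⟩, hWV⟩, hxW⟩
  obtain ⟨s, hs, -⟩ := TopCat.Sheaf.existsUnique_gluing' X.sheaf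
    (fun W : ι => (W.1 : X.Opens)) V (fun W => homOfLE W.2) hcover sW hcompat
  refine ⟨s, ?_⟩
  apply TopCat.Sheaf.eq_of_locally_eq' X.sheaf (fun W : ι => (W.1 : X.Opens) ⊓ U) (V ⊓ U)
    (fun W => homOfLE (inf_le_inf_right U W.2))
  · rintro x ⟨hxV, hxU⟩
    obtain ⟨W, hW, hxW, hWV⟩ := exists_isAffineOpen_mem_and_subset (U := V) hxV
    exact Opens.mem_iSup.2 ⟨⟨⟨W, hW⟩, hWV⟩, ⟨hxW, hxU⟩⟩
  · intro W
    show res (inf_le_inf_right U W.2) (res inf_le_left s) = res (inf_le_inf_right U W.2) t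
    rw [res_res, ← hsW W]
    have h1 : sW W = res W.2 s := (hs W).symm
    rw [h1, res_res]

include hU in
theorem bijective_res_of_depth (V : X.Opens) :
    Function.Bijective (res (inf_le_left : V ⊓ U ≤ V)) :=
  ⟨injective_res U hU V, surjective_res U hU V⟩

end scheme

end Groth.Agent.Lib.Helper7.Hartogs
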