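import Groth.Agent.Lib.Helper7.StalkLoc
import Groth.Agent.Lib.Helper7.HartogsScheme
import Groth.Agent.Lib.Helper21.DepthKit8
import Groth.Agent.Lib.Helper28.FinType

/-!
# Hartogs' lemma for coherent modules

If `F` is a coherent module on a locally Noetherian scheme and `depth F_x ≥ 2` off the open `U`,
then `Γ(V, F) → Γ(V ∩ U, F)` is bijective for every open `V`; and conversely.
-/

set_option autoImplicit false
set_option linter.unusedVariables false
set_option linter.style.haveILetI false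

universe u

namespace Groth.Agent.Lib.Helper7.ModHartogs

open CategoryTheory AlgebraicGeometry Opposite TopologicalSpace RingTheory.Sequence
open Groth.Agent.Lib.Helper28.QCohLoc Groth.Agent.Lib.Helper21.DepthKit
open scoped Pointwise

section alg

variable {R : Type*} [CommRing R] {N : Type*} [AddCommGroup N] [Module R N] {a b : R}

theorem exists_eq_pow_smul_of_smul (ha : IsSMulRegular N a)
    (hb : ∀ u : N, (∃ z, b • u = a • z) → ∃ z, u = a • z) :
    ∀ n : ℕ, ∀ u : N, (∃ z, b • u = a ^ n • z) → ∃ z, u = a ^ n • z := by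
  intro n
  induction n with
  | zero =>
    intro u _
    exact ⟨u, by rw [pow_zero, one_smul]⟩
  | succ n ih =>
    rintro u ⟨w, hw⟩
    obtain ⟨v, hv⟩ := ih u ⟨a • w, by rw [hw, pow_succ, mul_smul]⟩
    have h2 : a ^ n • (b • v) = a ^ n • (a • w) := by
      rw [smul_comm, ← hv, hw, pow_succ, mul_smul]
    have h3 : b • v = a • w := (ha.pow n) h2
    obtain ⟨v', hv'⟩ := hb v ⟨w, h3⟩
    exact ⟨v', by rw [hv, hv', pow_succ, mul_smul]⟩

theorem exists_eq_pow_smul_of_pow_smul (ha : IsSMulRegular N a)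
    (hb : ∀ u : N, (∃ z, b • u = a • z) → ∃ z, u = a • z) (n m : ℕ) :
    ∀ u : N, (∃ z, b ^ m • u = a ^ n • z) → ∃ z, u = a ^ n • z := by
  induction m with
  | zero =>
    rintro u ⟨z, hz⟩
    exact ⟨z, by rwa [pow_zero, one_smul] at hz⟩
  | succ m ih =>
    rintro u ⟨z, hz⟩
    apply ih
    apply exists_eq_pow_smul_of_smul ha hb n
    exact ⟨z, by rw [← mul_smul, ← pow_succ']; exact hz⟩

end alg

section regular

variable {B : Type u} [CommRing B] [IsNoetherianRing B] {N : Type u} [AddCommGroup N] [Module B N]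
  [Module.Finite B N]

/-- from ideal depth `≥ 2` on a finite module to a regular pair in elementwise form -/
theorem exists_regular_pair (J : Ideal B) (hdepth : (2 : ℕ∞) ≤ LocCoh.idealDepth J N) :
    ∃ a ∈ J, ∃ b ∈ J, IsSMulRegular N a ∧ ∀ u : N, (∃ z, b • u = a • z) → ∃ z, u = a • z := by
  by_cases hJ : J • (⊤ : Submodule B N) = ⊤
  · obtain ⟨r, hr1, hr2⟩ := Submodule.exists_sub_one_mem_and_smul_eq_zero_of_fg_of_le_smul J
      (⊤ : Submodule B N) (Module.Finite.fg_top) (le_of_eq hJ.symm)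
    have hc : (1 - r) ∈ J := by
      have := J.neg_mem hr1
      rwa [neg_sub] at this
    have hid : ∀ n : N, (1 - r) • n = n := by
      intro n
      rw [sub_smul, one_smul, hr2 n Submodule.mem_top, sub_zero]
    refine ⟨1 - r, hc, 1 - r, hc, ?_, ?_⟩
    · intro x y hxy
      simpa only [hid] using hxy
    · rintro u ⟨z, hz⟩
      exact ⟨z, by rw [← hz, hid]⟩
  · have h2 : ((2 : ℕ) : ℕ∞) ≤ LocCoh.idealDepth J N := hdepth
    obtain ⟨rs, hlen, hmem, hreg⟩ := (natCast_le_idealDepth_iff J hJ 2).1 h2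
    match rs, hlen, hmem, hreg with
    | [a, b], _, hmem, hreg =>
      rw [isWeaklyRegular_cons_iff, isWeaklyRegular_cons_iff] at hreg
      obtain ⟨ha, hb, -⟩ := hreg
      refine ⟨a, hmem a (by simp), b, hmem b (by simp), ha, ?_⟩
      rw [isSMulRegular_quotient_iff_mem_of_smul_mem] at hb
      rintro u ⟨w, hw⟩
      have h3 : b • u ∈ a • (⊤ : Submodule B N) := by
        rw [Submodule.mem_smul_pointwise_iff_exists]
        exact ⟨w, trivial, hw.symm⟩
      obtain ⟨w', -, hw'⟩ := (Submodule.mem_smul_pointwise_iff_exists _ _ _).1 (hb u h3)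
      exact ⟨w', hw'.symm⟩

end regular

section sheaf

variable {X : Scheme.{u}} (F : X.Modules) {W : X.Opens}

theorem isUnit_resO_of_le {V : X.Opens} (f : Γ(X, W)) (hVW : V ≤ W) (hV : V ≤ X.basicOpen f) :
    IsUnit (resO hVW f) := by
  have h1 : IsUnit (resO (X.basicOpen_le f) f) := RingedSpace.isUnit_res_basicOpen _ f
  have h2 : resO hVW f = resO hV (resO (X.basicOpen_le f) f) := by rw [resO_resO]
  rw [h2]
  exact h1.map _

/-- cancellation of a power of a function invertible on `V` -/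
theorem eq_of_pow_smul_eq {V : X.Opens} (f : Γ(X, W)) (hVW : V ≤ W) (hV : V ≤ X.basicOpen f)
    (n : ℕ) (y y' : Γ(F, V)) (h : (resO hVW f ^ n • y : Γ(F, V)) = resO hVW f ^ n • y') : y = y' :=
  ((isUnit_resO_of_le f hVW hV).pow n).smul_left_cancel.1 h

/-- a section over `W` vanishing on `D(a)` with `a` regular is zero -/
theorem eq_zero_of_res_eq_zero (hloc : IsLocOn F W) {a : Γ(X, W)}
    (ha : IsSMulRegular Γ(F, W) a) (r : Γ(F, W)) (h : res F (X.basicOpen_le a) r = 0) : r = 0 := by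
  obtain ⟨n, hn⟩ := hloc.inj a r h
  apply (ha.pow n)
  show a ^ n • r = a ^ n • 0
  rw [hn, smul_zero]

/-- a section over `W` vanishing on `D(a c)` with `a` regular vanishes on `D(c)` -/
theorem res_eq_zero_of_res_mul_eq_zero (hloc : IsLocOn F W) {a : Γ(X, W)}
    (ha : IsSMulRegular Γ(F, W) a) (c : Γ(X, W)) (r : Γ(F, W))
    (h : res F (X.basicOpen_le (a * c)) r = 0) : res F (X.basicOpen_le c) r = 0 := by
  obtain ⟨n, hn⟩ := hloc.inj (a * c) r h
  have h1 : c ^ n • r = 0 := by
    apply (ha.pow n)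
    show a ^ n • (c ^ n • r) = a ^ n • 0
    rw [smul_zero, ← mul_smul, ← mul_pow]
    exact hn
  have h2 := congrArg (res F (X.basicOpen_le c)) h1
  rw [res_smul, res_zero, resO_pow] at h2
  have h3 : (resO (X.basicOpen_le c) c ^ n • res F (X.basicOpen_le c) r : Γ(F, X.basicOpen c)) =
      resO (X.basicOpen_le c) c ^ n • 0 := by rw [h2, smul_zero]
  exact eq_of_pow_smul_eq F c (X.basicOpen_le c) le_rfl n _ _ h3

theorem bijective_res (hloc : IsLocOn F W) (I : Ideal Γ(X, W)) (U : X.Opens) (hUW : U ≤ W)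
    (hsub : ∀ c ∈ I, X.basicOpen c ≤ U) (hcov : ∀ x ∈ U, ∃ c ∈ I, x ∈ X.basicOpen c)
    (a b : Γ(X, W)) (ha : a ∈ I) (hb : b ∈ I) (hareg : IsSMulRegular Γ(F, W) a)
    (hbreg : ∀ u : Γ(F, W), (∃ z, b • u = a • z) → ∃ z, u = a • z) :
    Function.Bijective (res F hUW) := by
  constructor
  · intro r r' hrr'
    have h0 : res F hUW (r - r') = 0 := by rw [res_sub, hrr', sub_self]
    have h1 : r - r' = 0 := by
      apply eq_zero_of_res_eq_zero F hloc hareg
      rw [← res_res F hUW (hsub a ha), h0, res_zero]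
    exact sub_eq_zero.1 h1
  · intro s
    obtain ⟨n, x, hx⟩ := hloc.surj a (res F (hsub a ha) s)
    obtain ⟨m, y, hy⟩ := hloc.surj b (res F (hsub b hb) s)
    have hab_a : X.basicOpen (a * b) ≤ X.basicOpen a := by
      rw [Scheme.basicOpen_mul]; exact inf_le_left
    have hab_b : X.basicOpen (a * b) ≤ X.basicOpen b := by
      rw [Scheme.basicOpen_mul]; exact inf_le_right
    have habU : X.basicOpen (a * b) ≤ U := hab_a.trans (hsub a ha)
    have hx' := congrArg (res F hab_a) hx
    have hy' := congrArg (res F hab_b) hy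
    rw [res_smul, resO_pow, resO_resO, res_res, res_res] at hx' hy'
    -- `b^m x - a^n y` vanishes on `D(ab)`
    have hzero : res F (X.basicOpen_le (a * b)) (b ^ m • x - a ^ n • y) = 0 := by
      rw [res_sub, res_smul, res_smul, resO_pow, resO_pow, ← hx', ← hy', smul_comm, sub_self]
    obtain ⟨N, hN⟩ := hloc.inj (a * b) _ hzero
    have h1 : b ^ N • (b ^ m • x - a ^ n • y) = 0 := by
      apply (hareg.pow N)
      show a ^ N • (b ^ N • (b ^ m • x - a ^ n • y)) = a ^ N • 0
      rw [smul_zero, ← mul_smul, ← mul_pow]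
      exact hN
    have h2 : ∃ z, b ^ (N + m) • x = a ^ n • z := by
      refine ⟨b ^ N • y, ?_⟩
      rw [smul_sub, sub_eq_zero] at h1
      rw [pow_add, mul_smul, h1, smul_comm]
    obtain ⟨t, ht⟩ := exists_eq_pow_smul_of_pow_smul hareg hbreg n (N + m) x h2
    refine ⟨t, ?_⟩
    apply eq_of_locally_eq F (fun c : I => X.basicOpen (c : Γ(X, W))) U (fun c => hsub c c.2)
    · intro z hzU
      obtain ⟨c, hc, hzc⟩ := hcov z hzU
      exact Opens.mem_iSup.2 ⟨⟨c, hc⟩, hzc⟩
    · rintro ⟨c, hc⟩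
      show res F (hsub c hc) (res F hUW t) = res F (hsub c hc) s
      rw [res_res]
      obtain ⟨l, z, hz⟩ := hloc.surj c (res F (hsub c hc) s)
      have hac_a : X.basicOpen (a * c) ≤ X.basicOpen a := by
        rw [Scheme.basicOpen_mul]; exact inf_le_left
      have hac_c : X.basicOpen (a * c) ≤ X.basicOpen c := by
        rw [Scheme.basicOpen_mul]; exact inf_le_right
      have hacU : X.basicOpen (a * c) ≤ U := hac_a.trans (hsub a ha)
      have hx'' := congrArg (res F hac_a) hx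
      have hz'' := congrArg (res F hac_c) hz
      rw [res_smul, resO_pow, resO_resO, res_res, res_res] at hx'' hz''
      -- on `D(a c)`: `s = t`
      have hst : res F hacU s = res F (X.basicOpen_le (a * c)) t := by
        apply eq_of_pow_smul_eq F a (X.basicOpen_le (a * c)) hac_a n
        rw [hx'', ht, res_smul, resO_pow]
      have hzero2 : res F (X.basicOpen_le (a * c)) (c ^ l • t - z) = 0 := by
        rw [res_sub, res_smul, resO_pow, ← hst, hz'', sub_self]
      have hzero3 := res_eq_zero_of_res_mul_eq_zero F hloc hareg c _ hzero2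
      rw [res_sub, res_smul, resO_pow, sub_eq_zero] at hzero3
      apply eq_of_pow_smul_eq F c (X.basicOpen_le c) le_rfl l
      rw [hzero3, hz]

end sheaf

section scheme

open Groth.Agent.Lib.Helper7.Hartogs (idealOf mem_idealOf)

variable {X : Scheme.{u}} [IsLocallyNoetherian X] (F : X.Modules) [F.IsQuasicoherent]
  [SheafOfModules.IsFiniteType.{u} (R := X.ringCatSheaf) F] (U : X.Opens)
  (hU : ∀ x : X, x ∉ U → (2 : ℕ∞) ≤ LocCoh.depth (X.presheaf.stalk x) (F.presheaf.stalk x))

include hU in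
theorem depth_idealOf {W : X.Opens} (hW : IsAffineOpen W) :
    haveI : IsNoetherianRing Γ(X, W) := IsLocallyNoetherian.component_noetherian ⟨W, hW⟩
    haveI : Module.Finite Γ(X, W) Γ(F, W) :=
      Groth.Agent.Lib.Helper28.FinType.finite_of_isAffineOpen F hW
    (2 : ℕ∞) ≤ LocCoh.idealDepth (idealOf U W) Γ(F, W) := by
  haveI : IsNoetherianRing Γ(X, W) := IsLocallyNoetherian.component_noetherian ⟨W, hW⟩
  haveI : Module.Finite Γ(X, W) Γ(F, W) :=
    Groth.Agent.Lib.Helper28.FinType.finite_of_isAffineOpen F hW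
  rw [idealDepth_eq_iInf_depth_localization]
  refine le_iInf₂ fun p hp => ?_
  have hxW : hW.fromSpec p ∈ W := by
    have : hW.fromSpec p ∈ Set.range hW.fromSpec := ⟨p, rfl⟩
    rw [hW.range_fromSpec] at this
    exact this
  have hxU : hW.fromSpec p ∉ U := by
    intro hx
    obtain ⟨c, hcU, hxc⟩ := hW.exists_basicOpen_le ⟨hW.fromSpec p, hx⟩ hxW
    have hcp : c ∈ p.asIdeal := hp ((mem_idealOf U c).2 hcU)
    have h1 : p ∈ hW.fromSpec ⁻¹ᵁ X.basicOpen c := hxc
    rw [hW.fromSpec_preimage_basicOpen] at h1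
    exact h1 hcp
  have h2 := hU _ hxU
  rw [Groth.Agent.Lib.Helper7.StalkLoc.depth_stalk_eq F hW (isLocOn_of_isQuasicoherent F hW)
    (hW.fromSpec p) hxW] at h2
  have hpp : hW.primeIdealOf ⟨hW.fromSpec p, hxW⟩ = p := by
    apply hW.fromSpec.isOpenEmbedding.injective
    exact hW.fromSpec_primeIdealOf ⟨hW.fromSpec p, hxW⟩
  rw [hpp] at h2
  exact h2

include hU in
/-- module Hartogs on an affine open. -/
theorem bijective_res_affine {W : X.Opens} (hW : IsAffineOpen W) :
    Function.Bijective (res F (inf_le_left : W ⊓ U ≤ W)) := by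
  haveI : IsNoetherianRing Γ(X, W) := IsLocallyNoetherian.component_noetherian ⟨W, hW⟩
  haveI : Module.Finite Γ(X, W) Γ(F, W) :=
    Groth.Agent.Lib.Helper28.FinType.finite_of_isAffineOpen F hW
  obtain ⟨a, ha, b, hb, hareg, hbreg⟩ := exists_regular_pair _ (depth_idealOf F U hU hW)
  refine bijective_res F (isLocOn_of_isQuasicoherent F hW) (idealOf U W) (W ⊓ U) inf_le_left ?_ ?_
    a b ha hb hareg hbreg
  · intro c hc
    exact le_inf (X.basicOpen_le c) hc
  · intro x hx
    obtain ⟨c, hcU, hxc⟩ := hW.exists_basicOpen_le ⟨x, hx.2⟩ hx.1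
    exact ⟨c, hcU, hxc⟩

include hU in
theorem injective_res (V : X.Opens) : Function.Injective (res F (inf_le_left : V ⊓ U ≤ V)) := by
  intro s s' hs
  apply eq_of_locally_eq F
    (fun W : {W : X.affineOpens // (W : X.Opens) ≤ V} => (W.1 : X.Opens)) V (fun W => W.2)
  · intro x hx
    obtain ⟨W, hW, hxW, hWV⟩ := exists_isAffineOpen_mem_and_subset (U := V) hx
    exact Opens.mem_iSup.2 ⟨⟨⟨W, hW⟩, hWV⟩, hxW⟩
  · rintro ⟨⟨W, hW⟩, hWV⟩
    show res F hWV s = res F hWV s'
    apply (bijective_res_affine F U hU hW).1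
    rw [res_res, res_res]
    have e1 : res F ((inf_le_left : W ⊓ U ≤ W).trans hWV) s =
        res F (inf_le_inf_right U hWV : W ⊓ U ≤ V ⊓ U) (res F inf_le_left s) := by rw [res_res]
    have e2 : res F ((inf_le_left : W ⊓ U ≤ W).trans hWV) s' =
        res F (inf_le_inf_right U hWV : W ⊓ U ≤ V ⊓ U) (res F inf_le_left s') := by rw [res_res]
    rw [e1, e2, hs]

include hU in
theorem surjective_res (V : X.Opens) : Function.Surjective (res F (inf_le_left : V ⊓ U ≤ V)) := by
  intro t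
  let ι := {W : X.affineOpens // (W : X.Opens) ≤ V}
  have hex : ∀ W : ι, ∃ sW : Γ(F, (W.1 : X.Opens)),
      res F (inf_le_left : (W.1 : X.Opens) ⊓ U ≤ W.1) sW =
        res F (inf_le_inf_right U W.2 : (W.1 : X.Opens) ⊓ U ≤ V ⊓ U) t :=
    fun W => (bijective_res_affine F U hU W.1.2).2 _
  choose sW hsW using hex
  have hcompat : ∀ W W' : ι, res F (inf_le_left : (W.1 : X.Opens) ⊓ W'.1 ≤ W.1) (sW W) =
      res F (inf_le_right : (W.1 : X.Opens) ⊓ W'.1 ≤ W'.1) (sW W') := by
    intro W W'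
    apply injective_res F U hU ((W.1 : X.Opens) ⊓ W'.1)
    rw [res_res, res_res]
    have e1 : res F ((inf_le_left : (W.1 : X.Opens) ⊓ W'.1 ⊓ U ≤ (W.1 : X.Opens) ⊓ W'.1).trans
        inf_le_left) (sW W) =
        res F (inf_le_inf_right U inf_le_left : (W.1 : X.Opens) ⊓ W'.1 ⊓ U ≤ (W.1 : X.Opens) ⊓ U)
          (res F inf_le_left (sW W)) := by rw [res_res]
    have e2 : res F ((inf_le_left : (W.1 : X.Opens) ⊓ W'.1 ⊓ U ≤ (W.1 : X.Opens) ⊓ W'.1).trans
        inf_le_right) (sW W') =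
        res F (inf_le_inf_right U inf_le_right : (W.1 : X.Opens) ⊓ W'.1 ⊓ U ≤ (W'.1 : X.Opens) ⊓ U)
          (res F inf_le_left (sW W')) := by rw [res_res]
    rw [e1, e2, hsW, hsW, res_res, res_res]
  have hcover : V ≤ ⨆ W : ι, (W.1 : X.Opens) := by
    intro x hx
    obtain ⟨W, hW, hxW, hWV⟩ := exists_isAffineOpen_mem_and_subset (U := V) hx
    exact Opens.mem_iSup.2 ⟨⟨⟨W, hW⟩, hWV⟩, hxW⟩
  obtain ⟨s, hs⟩ := exists_gluing F (fun W : ι => (W.1 : X.Opens)) V (fun W => W.2) hcover sW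
    hcompat
  refine ⟨s, ?_⟩
  apply eq_of_locally_eq F (fun W : ι => (W.1 : X.Opens) ⊓ U) (V ⊓ U)
    (fun W => inf_le_inf_right U W.2)
  · rintro x ⟨hxV, hxU⟩
    obtain ⟨W, hW, hxW, hWV⟩ := exists_isAffineOpen_mem_and_subset (U := V) hxV
    exact Opens.mem_iSup.2 ⟨⟨⟨W, hW⟩, hWV⟩, ⟨hxW, hxU⟩⟩
  · intro W
    show res F (inf_le_inf_right U W.2) (res F inf_le_left s) = res F (inf_le_inf_right U W.2) t
    rw [res_res, ← hsW W, ← hs W, res_res]

include hU in
/-- **Hartogs for coherent modules.** -/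
theorem bijective_res_of_depth (V : X.Opens) :
    Function.Bijective (res F (inf_le_left : V ⊓ U ≤ V)) :=
  ⟨injective_res F U hU V, surjective_res F U hU V⟩

end scheme

end Groth.Agent.Lib.Helper7.ModHartogs
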