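import Groth.Prelude.Def_CAlg
import Groth.Agent.Lib.Helper21.DepthKit1
import Groth.Agent.Lib.Helper2.R0S1

/-!
# (S₂) for a Noetherian domain via associated primes of principal ideals
-/

set_option autoImplicit false
set_option linter.unusedVariables false
set_option linter.style.haveILetI false

namespace Groth.Agent.Lib.Helper7.S2Ass

open RingTheory.Sequence IsLocalRing Module
open Groth.Agent.Lib.Helper21.DepthKit Groth.Agent.Lib.Helper2.R0S1

universe u

/-- exchange lemma in a domain -/
theorem exchange {A : Type*} [CommRing A] [IsDomain A] {x y α B C₁ C₂ : A} (hα : α ≠ 0)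
    (hx : x ≠ 0) (h1 : x * B = α * C₁) (h2 : y * B = α * C₂)
    (hreg : ∀ c, (∃ d, y * c = x * d) → ∃ d, c = x * d) : ∃ C₃, B = α * C₃ := by
  have h0 : α * (y * C₁ - x * C₂) = 0 := by
    have : α * (y * C₁ - x * C₂) = y * (α * C₁) - x * (α * C₂) := by ring
    rw [this, ← h1, ← h2]
    ring
  have h3 : y * C₁ = x * C₂ := by
    rcases mul_eq_zero.1 h0 with h | h
    · exact absurd h hα
    · exact sub_eq_zero.1 h
  obtain ⟨C₃, hC₃⟩ := hreg C₁ ⟨C₂, h3⟩
  refine ⟨C₃, ?_⟩
  have : x * B = x * (α * C₃) := by
    rw [h1, hC₃]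
    ring
  exact mul_left_cancel₀ hx this

variable {R : Type u} [CommRing R] [IsDomain R] [IsNoetherianRing R]

theorem smul_mk_eq (a r b : R) :
    r • (Ideal.Quotient.mk (Ideal.span {a}) b) = Ideal.Quotient.mk (Ideal.span {a}) (r * b) := by
  rw [map_mul]
  rfl

/-- description of associated primes of `R/(a)` -/
theorem exists_colon_of_mem_ass {a : R} {P : Ideal R}
    (hP : P ∈ associatedPrimes R (R ⧸ Ideal.span {a})) :
    P.IsPrime ∧ ∃ b : R, ∀ r, r ∈ P ↔ r * b ∈ Ideal.span {a} := by
  obtain ⟨hprime, x, hx⟩ := isAssociatedPrime_iff.1 hP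
  obtain ⟨b, rfl⟩ := Ideal.Quotient.mk_surjective x
  refine ⟨hprime, b, fun r => ?_⟩
  rw [hx, Submodule.mem_colon_singleton, Submodule.mem_bot, smul_mk_eq,
    Ideal.Quotient.eq_zero_iff_mem]

theorem height_eq_one_of_hasSk (h : LocCoh.HasSk 2 R R) (a : R) (ha : a ≠ 0) (P : Ideal R)
    (hP : P ∈ associatedPrimes R (R ⧸ Ideal.span {a})) : P.height = 1 := by
  obtain ⟨hprime, b, hb⟩ := exists_colon_of_mem_ass hP
  haveI := hprime
  have haP : a ∈ P := (hb a).2 (Ideal.mul_mem_right _ _ (Ideal.mem_span_singleton_self a))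
  have hge : 1 ≤ P.height := by
    rw [Order.one_le_iff_pos, pos_iff_ne_zero, Ne, Ideal.height_eq_zero_iff_eq_bot]
    intro hbot
    rw [hbot] at haP
    exact ha haP
  have hle : P.height ≤ 1 := by
    by_contra hlt
    push Not at hlt
    have h2 : (2 : ℕ∞) ≤ P.height := Order.add_one_le_of_lt hlt
    have hS := h P
    rw [supportDim_loc] at hS
    have hmin : min ((2 : ℕ) : WithBot ℕ∞) ((P.height : ℕ∞) : WithBot ℕ∞) =
        ((2 : ℕ) : WithBot ℕ∞) := by
      apply min_eq_left
      have e2 : ((2 : ℕ) : WithBot ℕ∞) = (((2 : ℕ) : ℕ∞) : WithBot ℕ∞) := rfl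
      rw [e2, WithBot.coe_le_coe]
      exact_mod_cast h2
    rw [hmin] at hS
    have hdepth : ((2 : ℕ) : ℕ∞) ≤
        LocCoh.depth (Localization.AtPrime P) (LocalizedModule P.primeCompl R) := by
      have e2 : ((2 : ℕ) : WithBot ℕ∞) = (((2 : ℕ) : ℕ∞) : WithBot ℕ∞) := rfl
      rw [e2, WithBot.coe_le_coe] at hS
      exact hS
    haveI : Nontrivial (LocalizedModule P.primeCompl R) := (locEquiv P).toEquiv.nontrivial
    haveI : Module.Finite (Localization.AtPrime P) (LocalizedModule P.primeCompl R) :=
      Module.Finite.equiv (locEquiv P).symm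
    obtain ⟨rs, hlen, hmem, hreg⟩ := (natCast_le_depth_iff
      (A := Localization.AtPrime P) (M := LocalizedModule P.primeCompl R) 2).1 hdepth
    rw [LinearEquiv.isWeaklyRegular_congr (locEquiv P)] at hreg
    match rs, hlen, hmem, hreg with
    | [x, y], _, hmem, hreg =>
      rw [isWeaklyRegular_cons_iff, isWeaklyRegular_cons_iff] at hreg
      obtain ⟨hxreg, hyreg, -⟩ := hreg
      rw [isSMulRegular_quotient_iff_mem_of_smul_mem] at hyreg
      have hxm := hmem x (by simp)
      have hym := hmem y (by simp)
      have hx0 : x ≠ 0 := by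
        intro hx0
        have := hxreg (show x • (1 : Localization.AtPrime P) = x • 0 by rw [hx0]; simp)
        exact one_ne_zero this
      obtain ⟨x₀, s, rfl⟩ := IsLocalization.exists_mk'_eq P.primeCompl x
      obtain ⟨y₀, s', rfl⟩ := IsLocalization.exists_mk'_eq P.primeCompl y
      rw [IsLocalization.AtPrime.mk'_mem_maximal_iff (Localization.AtPrime P) P] at hxm hym
      obtain ⟨c₁, hc₁⟩ := Ideal.mem_span_singleton'.1 ((hb x₀).1 hxm)
      obtain ⟨c₂, hc₂⟩ := Ideal.mem_span_singleton'.1 ((hb y₀).1 hym)
      have hinj : Function.Injective (algebraMap R (Localization.AtPrime P)) :=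
        IsLocalization.injective _ P.primeCompl_le_nonZeroDivisors
      have hα : algebraMap R (Localization.AtPrime P) a ≠ 0 := by
        rw [Ne, map_eq_zero_iff _ hinj]
        exact ha
      have h1 : IsLocalization.mk' (Localization.AtPrime P) x₀ s *
          algebraMap R (Localization.AtPrime P) b =
          algebraMap R (Localization.AtPrime P) a *
            IsLocalization.mk' (Localization.AtPrime P) c₁ s := by
        rw [mul_comm, IsLocalization.mul_mk'_eq_mk'_of_mul, IsLocalization.mul_mk'_eq_mk'_of_mul,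
          mul_comm b x₀, ← hc₁, mul_comm]
      have h2' : IsLocalization.mk' (Localization.AtPrime P) y₀ s' *
          algebraMap R (Localization.AtPrime P) b =
          algebraMap R (Localization.AtPrime P) a *
            IsLocalization.mk' (Localization.AtPrime P) c₂ s' := by
        rw [mul_comm, IsLocalization.mul_mk'_eq_mk'_of_mul, IsLocalization.mul_mk'_eq_mk'_of_mul,
          mul_comm b y₀, ← hc₂, mul_comm]
      obtain ⟨C₃, hC₃⟩ := exchange hα hx0 h1 h2' (by
        rintro c ⟨d, hd⟩
        have := hyreg c (by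
          rw [Submodule.mem_smul_pointwise_iff_exists]
          exact ⟨d, trivial, by rw [smul_eq_mul, smul_eq_mul, hd]⟩)
        rw [Submodule.mem_smul_pointwise_iff_exists] at this
        obtain ⟨d', -, hd'⟩ := this
        exact ⟨d', hd'.symm⟩)
      obtain ⟨c₃, s₃, rfl⟩ := IsLocalization.exists_mk'_eq P.primeCompl C₃
      rw [IsLocalization.mul_mk'_eq_mk'_of_mul, IsLocalization.eq_mk'_iff_mul_eq, ← map_mul] at hC₃
      have h3 := hinj hC₃
      have : (s₃ : R) ∈ P := (hb s₃).2 (by
        rw [mul_comm, h3]
        exact Ideal.mul_mem_right _ _ (Ideal.mem_span_singleton_self a))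
      exact s₃.2 this
  exact le_antisymm hle hge

theorem hasSk_of_height
    (H : ∀ a : R, a ≠ 0 → ∀ P : Ideal R, P ∈ associatedPrimes R (R ⧸ Ideal.span {a}) →
      P.height = 1) : LocCoh.HasSk 2 R R := by
  intro p _
  rw [supportDim_loc]
  have e2 : ((2 : ℕ) : WithBot ℕ∞) = (((2 : ℕ) : ℕ∞) : WithBot ℕ∞) := rfl
  rw [e2, ← WithBot.coe_min, WithBot.coe_le_coe]
  by_cases hp0 : p = ⊥
  · have : p.height = 0 := Ideal.height_eq_zero_iff_eq_bot.2 hp0
    rw [this]
    simp
  · obtain ⟨a, hap, ha0⟩ := Submodule.exists_mem_ne_zero_of_ne_bot hp0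
    have hareg : IsSMulRegular R a := fun c d hcd => mul_left_cancel₀ ha0 hcd
    have haloc : algebraMap R (Localization.AtPrime p) a ∈
        maximalIdeal (Localization.AtPrime p) :=
      (IsLocalization.AtPrime.to_map_mem_maximal_iff (Localization.AtPrime p) p a).2 hap
    by_cases h2 : (2 : ℕ∞) ≤ p.height
    · have hfin := associatedPrimes.finite R (R ⧸ Ideal.span {a})
      have hy : ∃ y ∈ p, ∀ P ∈ associatedPrimes R (R ⧸ Ideal.span {a}), y ∉ P := by
        by_contra hcon
        push Not at hcon
        have hsub : (p : Set R) ⊆ ⋃ P ∈ (hfin.toFinset : Set (Ideal R)), (P : Set R) := by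
          intro y hy
          obtain ⟨P, hP, hyP⟩ := hcon y hy
          simp only [Set.mem_iUnion]
          exact ⟨P, by simpa using hP, hyP⟩
        obtain ⟨P, hP, hpP⟩ := (Ideal.subset_union_prime (f := fun P : Ideal R => P) p p
          (fun P hP _ _ => ((hfin.mem_toFinset.1 hP) : IsAssociatedPrime P _).isPrime)).1 hsub
        have h1 : P.height = 1 := H a ha0 P (hfin.mem_toFinset.1 hP)
        have := (Ideal.height_mono hpP).trans h1.le
        have h21 : (2 : ℕ∞) ≤ 1 := h2.trans this
        exact absurd h21 (by decide)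
      obtain ⟨y, hyp, hy⟩ := hy
      have hyreg : IsSMulRegular (QuotSMulTop a R) y := by
        rw [isSMulRegular_quotient_iff_mem_of_smul_mem]
        intro c hc
        by_contra hcn
        have hc' : (Ideal.Quotient.mk (Ideal.span {a}) c) ≠ 0 := by
          rw [Ne, Ideal.Quotient.eq_zero_iff_mem, Ideal.mem_span_singleton']
          rintro ⟨d, hd⟩
          apply hcn
          rw [Submodule.mem_smul_pointwise_iff_exists]
          exact ⟨d, trivial, by rw [smul_eq_mul, ← hd, mul_comm]⟩
        obtain ⟨P, hP, hle⟩ := exists_le_isAssociatedPrime_of_isNoetherianRing R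
          (Ideal.Quotient.mk (Ideal.span {a}) c) hc'
        apply hy P hP
        apply hle
        rw [Submodule.mem_colon_singleton, Submodule.mem_bot, smul_mk_eq,
          Ideal.Quotient.eq_zero_iff_mem, Ideal.mem_span_singleton']
        rw [Submodule.mem_smul_pointwise_iff_exists] at hc
        obtain ⟨d, -, hd⟩ := hc
        exact ⟨d, by rw [mul_comm, ← smul_eq_mul, hd, smul_eq_mul]⟩
      have hreg : IsWeaklyRegular R [a, y] := by
        rw [isWeaklyRegular_cons_iff, isWeaklyRegular_cons_iff]
        exact ⟨hareg, hyreg, IsWeaklyRegular.nil _ _⟩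
      have hloc := hreg.of_isLocalizedModule (Localization.AtPrime p) p.primeCompl
        (LocalizedModule.mkLinearMap p.primeCompl R)
      have hyloc : algebraMap R (Localization.AtPrime p) y ∈
          maximalIdeal (Localization.AtPrime p) :=
        (IsLocalization.AtPrime.to_map_mem_maximal_iff (Localization.AtPrime p) p y).2 hyp
      have hlen := length_le_idealDepth (maximalIdeal (Localization.AtPrime p)) _ hloc (by
        intro r hr
        simp only [List.map_cons, List.map_nil, List.mem_cons, List.not_mem_nil, or_false] at hr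
        rcases hr with rfl | rfl
        · exact haloc
        · exact hyloc)
      exact (min_le_left _ _).trans hlen
    · have h1 : p.height ≤ 1 := by
        push Not at h2
        exact ENat.lt_two_iff.1 h2
      have hreg : IsWeaklyRegular R [a] := by
        rw [isWeaklyRegular_cons_iff]
        exact ⟨hareg, IsWeaklyRegular.nil _ _⟩
      have hloc := hreg.of_isLocalizedModule (Localization.AtPrime p) p.primeCompl
        (LocalizedModule.mkLinearMap p.primeCompl R)
      have hlen := length_le_idealDepth (maximalIdeal (Localization.AtPrime p)) _ hloc (by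
        intro r hr
        simp only [List.map_cons, List.map_nil, List.mem_cons, List.not_mem_nil, or_false] at hr
        rw [hr]
        exact haloc)
      exact ((min_le_right _ _).trans h1).trans hlen

end Groth.Agent.Lib.Helper7.S2Ass
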