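import Groth.Agent.Lib.Helper21.DepthKit8

/-!
# Spreading out weakly regular sequences from a localization at a prime to a basic open
neighbourhood; invariance of weak regularity under unit multiples.
-/

set_option autoImplicit false
set_option linter.unusedVariables false
set_option linter.style.haveILetI false

namespace Groth.Agent.Lib.Helper7.RegSpread

open RingTheory.Sequence Groth.Agent.Lib.Helper21.DepthKit Pointwise

universe u

section unit

variable {R : Type*} [CommRing R]

theorem smul_top_eq_of_isUnit {M : Type*} [AddCommGroup M] [Module R M] (u r : R) (hu : IsUnit u) :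
    ((u * r) • (⊤ : Submodule R M)) = r • (⊤ : Submodule R M) := by
  obtain ⟨v, hv⟩ := hu.exists_left_inv
  ext x
  rw [Submodule.mem_smul_pointwise_iff_exists, Submodule.mem_smul_pointwise_iff_exists]
  constructor
  · rintro ⟨y, -, rfl⟩
    exact ⟨u • y, Submodule.mem_top, by rw [smul_smul, mul_comm]⟩
  · rintro ⟨y, -, rfl⟩
    refine ⟨v • y, Submodule.mem_top, ?_⟩
    rw [smul_smul, mul_comm u r, mul_assoc, mul_comm u v, hv, mul_one]

/-- weak regularity is invariant under multiplying the entries by units -/
theorem isWeaklyRegular_of_forall₂_unit {rs rs' : List R}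
    (h : List.Forall₂ (fun r r' => ∃ u : R, IsUnit u ∧ r' = u * r) rs rs') :
    ∀ (M : Type*) [AddCommGroup M] [Module R M], IsWeaklyRegular M rs → IsWeaklyRegular M rs' := by
  induction h with
  | nil => intro M _ _ _; exact IsWeaklyRegular.nil R M
  | @cons r r' rs rs' hrr' ht ih =>
    intro M _ _ hreg
    obtain ⟨u, hu, rfl⟩ := hrr'
    rw [isWeaklyRegular_cons_iff] at hreg ⊢
    refine ⟨(hu.isSMulRegular M).mul hreg.1, ?_⟩
    have e : QuotSMulTop r M ≃ₗ[R] QuotSMulTop (u * r) M :=
      Submodule.quotEquivOfEq _ _ (smul_top_eq_of_isUnit u r hu).symm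
    exact (e.isWeaklyRegular_congr rs').1 (ih (QuotSMulTop r M) hreg.2)

end unit

variable {A : Type u} [CommRing A] [IsNoetherianRing A]

/-- spreading out regularity of a single element -/
theorem exists_isSMulRegular_localization (x : A) (N : Type u) [AddCommGroup N] [Module A N]
    [Module.Finite A N] (p : Ideal A) [p.IsPrime]
    (h : IsSMulRegular (LocalizedModule p.primeCompl N) (algebraMap A (Localization.AtPrime p) x)) :
    ∃ g ∉ p, ∀ (q : Ideal A) [q.IsPrime], g ∉ q →
      IsSMulRegular (LocalizedModule q.primeCompl N) (algebraMap A (Localization.AtPrime q) x) := by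
  set K : Submodule A N := LinearMap.ker (LinearMap.lsmul A N x) with hK
  have hKmem : ∀ k : N, k ∈ K ↔ x • k = 0 := fun k => by
    rw [hK, LinearMap.mem_ker, LinearMap.lsmul_apply]
  have hsupp : (⟨p, inferInstance⟩ : PrimeSpectrum A) ∉ Module.support A K := by
    rw [Module.notMem_support_iff']
    rintro ⟨k, hk⟩
    have h1 : (algebraMap A (Localization.AtPrime p) x) •
        (LocalizedModule.mk k (1 : p.primeCompl)) = 0 := by
      rw [algebraMap_smul, LocalizedModule.smul'_mk, (hKmem k).1 hk, LocalizedModule.zero_mk]
    have h2 : LocalizedModule.mk k (1 : p.primeCompl) = 0 := by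
      apply h
      show _ • _ = _ • (0 : LocalizedModule p.primeCompl N)
      rw [h1, smul_zero]
    rw [← LocalizedModule.zero_mk (1 : p.primeCompl), LocalizedModule.mk_eq] at h2
    obtain ⟨u, hu⟩ := h2
    refine ⟨u.1, u.2, ?_⟩
    apply Subtype.ext
    have hu' : (u : A) • k = 0 := by simpa [Submonoid.smul_def] using hu
    simpa using hu'
  rw [Module.mem_support_iff_of_finite] at hsupp
  obtain ⟨g, hgann, hgp⟩ := SetLike.not_le_iff_exists.1 hsupp
  refine ⟨g, hgp, ?_⟩
  intro q _ hgq
  rw [isSMulRegular_iff_right_eq_zero_of_smul]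
  intro z hz
  induction z using LocalizedModule.induction_on with
  | _ m t =>
    rw [algebraMap_smul, LocalizedModule.smul'_mk, ← LocalizedModule.zero_mk (1 : q.primeCompl),
      LocalizedModule.mk_eq] at hz
    obtain ⟨u, hu⟩ := hz
    have hum : (u : A) • m ∈ K := by
      rw [hKmem, smul_comm]
      simpa [Submonoid.smul_def] using hu
    have h3 : g • ((u : A) • m) = 0 := by
      have := Module.mem_annihilator.1 hgann ⟨(u : A) • m, hum⟩
      exact congrArg Subtype.val this
    rw [← LocalizedModule.zero_mk (1 : q.primeCompl), LocalizedModule.mk_eq]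
    refine ⟨⟨g * u, q.primeCompl.mul_mem hgq u.2⟩, ?_⟩
    simp only [Submonoid.smul_def, smul_zero, one_smul]
    rw [mul_smul]
    exact h3

omit [IsNoetherianRing A] in
theorem isSMulRegular_quot_congr {R : Type*} [CommRing R] {N : Type*} [AddCommGroup N] [Module R N]
    {l₁ l₂ : List R} (h : l₁ = l₂) (r : R) :
    IsSMulRegular (N ⧸ (Ideal.ofList l₁ • ⊤ : Submodule R N)) r ↔
      IsSMulRegular (N ⧸ (Ideal.ofList l₂ • ⊤ : Submodule R N)) r := by
  subst h; rfl

omit [IsNoetherianRing A] in
/-- weak regularity on a localization, expressed through the localized quotients -/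
theorem isWeaklyRegular_localization_iff (xs : List A) (M : Type u) [AddCommGroup M] [Module A M]
    (q : Ideal A) [q.IsPrime] :
    IsWeaklyRegular (LocalizedModule q.primeCompl M)
        (xs.map (algebraMap A (Localization.AtPrime q))) ↔
      ∀ i (hi : i < xs.length),
        IsSMulRegular (LocalizedModule q.primeCompl
          (M ⧸ (Ideal.ofList (xs.take i) • ⊤ : Submodule A M)))
          (algebraMap A (Localization.AtPrime q) xs[i]) := by
  rw [isWeaklyRegular_iff]
  constructor
  · intro H i hi
    have h1 := H i (by simpa using hi)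
    rw [List.getElem_map] at h1
    have h2 := (isSMulRegular_quot_congr
      (N := LocalizedModule q.primeCompl M) (List.map_take (l := xs) (i := i)
        (f := algebraMap A (Localization.AtPrime q))).symm
        (algebraMap A (Localization.AtPrime q) xs[i])).1 h1
    exact ((localizedQuotOfListEquiv q (xs.take i)).isSMulRegular_congr _).1 h2
  · intro H i hi
    have hi' : i < xs.length := by simpa using hi
    have h1 := H i hi'
    have h2 := ((localizedQuotOfListEquiv q (xs.take i)).isSMulRegular_congr _).2 h1
    rw [List.getElem_map]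
    exact (isSMulRegular_quot_congr
      (N := LocalizedModule q.primeCompl M) (List.map_take (l := xs) (i := i)
        (f := algebraMap A (Localization.AtPrime q))).symm
        (algebraMap A (Localization.AtPrime q) xs[i])).2 h2

/-- spreading out a weakly regular sequence -/
theorem exists_isWeaklyRegular_localization (xs : List A) (M : Type u) [AddCommGroup M]
    [Module A M] [Module.Finite A M] (p : Ideal A) [p.IsPrime]
    (h : IsWeaklyRegular (LocalizedModule p.primeCompl M)
      (xs.map (algebraMap A (Localization.AtPrime p)))) :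
    ∃ g ∉ p, ∀ (q : Ideal A) [q.IsPrime], g ∉ q →
      IsWeaklyRegular (LocalizedModule q.primeCompl M)
        (xs.map (algebraMap A (Localization.AtPrime q))) := by
  classical
  rw [isWeaklyRegular_localization_iff] at h
  have key : ∀ i : Fin xs.length, ∃ g ∉ p, ∀ (q : Ideal A) [q.IsPrime], g ∉ q →
      IsSMulRegular (LocalizedModule q.primeCompl
        (M ⧸ (Ideal.ofList (xs.take i) • ⊤ : Submodule A M)))
        (algebraMap A (Localization.AtPrime q) xs[i]) := by
    intro i
    exact exists_isSMulRegular_localization xs[i] _ p (h i i.2)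
  choose g hgp hg using key
  refine ⟨∏ i : Fin xs.length, g i, ?_, ?_⟩
  · intro hmem
    obtain ⟨i, -, hi⟩ := (Ideal.IsPrime.prod_mem_iff (hp := inferInstance)).1 hmem
    exact hgp i hi
  · intro q _ hq
    rw [isWeaklyRegular_localization_iff]
    intro i hi
    apply hg ⟨i, hi⟩ q
    intro hmem
    apply hq
    exact Ideal.prod_mem (s := Finset.univ) (f := fun i : Fin xs.length => g i) q
      (Finset.mem_univ ⟨i, hi⟩) hmem

end Groth.Agent.Lib.Helper7.RegSpread
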