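import Mathlib.RingTheory.KrullDimension.Regular
import Mathlib.RingTheory.KrullDimension.Module
import Mathlib.RingTheory.HopkinsLevitzki
import Mathlib.RingTheory.FiniteLength
import Mathlib.RingTheory.Regular.RegularSequence
import Mathlib.RingTheory.Ideal.MinimalPrime.Noetherian

/-!
# `dim M` is the least number of parameters (semilocal Noetherian case)
-/

set_option autoImplicit false
set_option linter.unusedVariables false
set_option linter.style.haveILetI false
set_option maxSynthPendingDepth 3

namespace Groth.Agent.Lib.Helper7.SuppDimParams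

open Module

universe u v

variable {A : Type u} [CommRing A] {M : Type v} [AddCommGroup M] [Module A M]

/-- The quotient by the annihilator of a finitely generated Artinian module is an Artinian ring. -/
theorem isArtinianRing_quotient_annihilator [Module.Finite A M] [IsArtinian A M] :
    IsArtinianRing (A ⧸ Module.annihilator A M) := by
  obtain ⟨s, hs⟩ := (Module.finite_def.1 ‹Module.Finite A M›)
  let φ : A →ₗ[A] (s → M) := LinearMap.pi (fun m => LinearMap.toSpanSingleton A M m.1)
  have hker : LinearMap.ker φ = Module.annihilator A M := by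
    ext a
    rw [LinearMap.mem_ker, Module.mem_annihilator]
    constructor
    · intro h m
      have hm : m ∈ Submodule.span A (s : Set M) := hs ▸ Submodule.mem_top
      induction hm using Submodule.span_induction with
      | mem x hx =>
        have := congrFun h ⟨x, hx⟩
        simpa [φ] using this
      | zero => simp
      | add x y _ _ hx hy => rw [smul_add, hx, hy, add_zero]
      | smul c x _ hx => rw [smul_comm, hx, smul_zero]
    · intro h
      funext m
      simp [φ, h]
  have h1 : IsArtinian A (A ⧸ LinearMap.ker φ) :=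
    isArtinian_of_linearEquiv (φ.quotKerEquivRange).symm
  rw [hker] at h1
  exact isArtinian_of_tower A h1

theorem supportDim_le_zero_of_isFiniteLength [Module.Finite A M] (h : IsFiniteLength A M) :
    supportDim A M ≤ 0 := by
  rw [isFiniteLength_iff_isNoetherian_isArtinian] at h
  haveI := h.2
  haveI := isArtinianRing_quotient_annihilator (A := A) (M := M)
  rw [supportDim_eq_ringKrullDim_quotient_annihilator]
  have := Order.KrullDimLE.krullDim_le (n := 0) (α := PrimeSpectrum (A ⧸ Module.annihilator A M))
  rw [Nat.cast_zero] at this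
  exact this

theorem isFiniteLength_of_supportDim_le_zero [IsNoetherianRing A] [Module.Finite A M]
    (h : supportDim A M ≤ 0) : IsFiniteLength A M := by
  rw [isFiniteLength_iff_isNoetherian_isArtinian]
  refine ⟨inferInstance, ?_⟩
  rw [supportDim_eq_ringKrullDim_quotient_annihilator] at h
  haveI : Ring.KrullDimLE 0 (A ⧸ annihilator A M) := ⟨by rw [Nat.cast_zero]; exact h⟩
  haveI : IsArtinianRing (A ⧸ annihilator A M) := isArtinianRing_iff_krullDimLE_zero.2 inferInstance
  letI : Module (A ⧸ annihilator A M) M := Module.quotientAnnihilator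
  haveI : IsScalarTower A (A ⧸ annihilator A M) M :=
    (Module.isTorsionBySet_annihilator A M).isScalarTower
  haveI : Module.Finite (A ⧸ annihilator A M) M := Module.Finite.of_restrictScalars_finite A _ M
  haveI : IsArtinian (A ⧸ annihilator A M) M := inferInstance
  exact isArtinian_of_surjective_algebraMap (R := A ⧸ annihilator A M) Ideal.Quotient.mk_surjective

/-- If `M/(x₁,…,xₙ)M` has finite length with the `xᵢ` in the Jacobson radical, `dim M ≤ n`. -/
theorem supportDim_le_length [IsNoetherianRing A] (l : List A)
    (hl : ∀ r ∈ l, r ∈ Ring.jacobson A) :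
    ∀ (M : Type v) [AddCommGroup M] [Module A M] [Module.Finite A M],
      IsFiniteLength A (M ⧸ (Ideal.ofList l • ⊤ : Submodule A M)) →
      supportDim A M ≤ (l.length : ℕ) := by
  induction l with
  | nil =>
    intro M _ _ _ h
    have hbot : (Ideal.ofList ([] : List A) • ⊤ : Submodule A M) = ⊥ := by simp
    have e : (M ⧸ (Ideal.ofList ([] : List A) • ⊤ : Submodule A M)) ≃ₗ[A] M :=
      Submodule.quotEquivOfEqBot _ hbot
    have := supportDim_le_zero_of_isFiniteLength (e.isFiniteLength h)
    simpa using this
  | cons r rs ih =>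
    intro M _ _ _ h
    have hr : r ∈ (annihilator A M).jacobson :=
      Ideal.ringJacobson_le_jacobson (hl r (List.mem_cons_self))
    have h1 := supportDim_le_supportDim_quotSMulTop_succ_of_mem_jacobson hr
    have h2 := ih (fun r' hr' => hl r' (List.mem_cons_of_mem _ hr')) (QuotSMulTop r M)
      ((Submodule.quotOfListConsSMulTopEquivQuotSMulTopInner M r rs).isFiniteLength h)
    refine h1.trans ?_
    rw [List.length_cons, Nat.cast_add, Nat.cast_one]
    exact add_le_add_left h2 1

/-- Variant of `supportDim_quotSMulTop_succ_le_of_notMem_minimalPrimes` where only the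
non-maximal minimal primes have to be avoided. -/
theorem supportDim_quotSMulTop_le [Module.Finite A M] {x : A} (d : ℕ)
    (hn : ∀ p ∈ (annihilator A M).minimalPrimes, ¬ p.IsMaximal → x ∉ p)
    (hd : supportDim A M ≤ ((d + 1 : ℕ) : WithBot ℕ∞)) :
    supportDim A (QuotSMulTop x M) ≤ (d : WithBot ℕ∞) := by
  refine iSup_le fun p => ?_
  by_cases hp0 : p.length = 0
  · rw [hp0]; exact_mod_cast zero_le
  have hp := p.head.2
  simp only [support_quotSMulTop, Set.mem_inter_iff, PrimeSpectrum.mem_zeroLocus,
    Set.singleton_subset_iff] at hp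
  have le : support A (QuotSMulTop x M) ⊆ support A M := by simp
  let q : LTSeries (support A M) :=
    p.map (Set.MapsTo.restrict id (support A (QuotSMulTop x M)) (support A M) le) (fun _ _ h ↦ h)
  obtain ⟨r, hrm, hr⟩ := Ideal.exists_minimalPrimes_le (mem_support_iff_of_finite.mp q.head.2)
  -- the head of `p` is not maximal
  have hnotmax : ¬ r.IsMaximal ∨ r ≠ q.head.1.asIdeal := by
    by_cases hmax : r.IsMaximal
    · right
      intro heq
      -- `q.head < q 1`
      have hlt : p.head < p ⟨1, by omega⟩ := by
        apply p.strictMono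
        rw [Fin.lt_def]
        simp
      have h1 : p.head.1.asIdeal < (p ⟨1, by omega⟩).1.asIdeal := hlt
      have h2 : q.head.1.asIdeal = p.head.1.asIdeal := by simp [q]
      rw [← h2, ← heq] at h1
      exact h1.ne (hmax.eq_of_le (p ⟨1, by omega⟩).1.2.ne_top h1.le)
    · left; exact hmax
  have hne : r ≠ q.head.1.asIdeal := by
    rcases hnotmax with h | h
    · intro heq
      apply hn r hrm h
      rw [heq]
      have h2 : q.head.1.asIdeal = p.head.1.asIdeal := by simp [q]
      rw [h2]
      exact hp.2
    · exact h
  let r' : support A M := ⟨⟨r, hrm.1.1⟩, mem_support_iff_of_finite.mpr hrm.1.2⟩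
  have hr' : r' < q.head := lt_of_le_of_ne hr (fun h ↦ hne (by rw [← h]))
  have hlen : ((q.cons r' hr').length : WithBot ℕ∞) ≤ supportDim A M :=
    Order.LTSeries.length_le_krullDim _
  have h3 := hlen.trans hd
  rw [RelSeries.cons_length] at h3
  have : (q.length : ℕ) = p.length := by simp [q]
  rw [this] at h3
  exact_mod_cast Nat.le_of_succ_le_succ (by exact_mod_cast h3)

/-- Prime avoidance in the Jacobson radical of a semilocal ring. -/
theorem exists_mem_jacobson_notMem [Finite (MaximalSpectrum A)] (s : Finset (Ideal A))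
    (hs : ∀ p ∈ s, p.IsPrime ∧ ¬ p.IsMaximal) :
    ∃ x ∈ Ring.jacobson A, ∀ p ∈ s, x ∉ p := by
  classical
  by_contra hcon
  push_neg at hcon
  have hsub : ((Ring.jacobson A : Ideal A) : Set A) ⊆ ⋃ p ∈ (s : Set (Ideal A)), ((id p : Ideal A) : Set A) := by
    intro x hx
    obtain ⟨p, hp, hxp⟩ := hcon x hx
    exact Set.mem_biUnion hp hxp
  obtain ⟨p, hp, hle⟩ := (Ideal.subset_union_prime (f := id) (⊤ : Ideal A) ⊤
    (fun i hi _ _ => (hs i hi).1)).1 hsub
  change Ring.jacobson A ≤ p at hle
  have hfin : {I : Ideal A | I.IsMaximal}.Finite := by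
    have : {I : Ideal A | I.IsMaximal} = Set.range MaximalSpectrum.asIdeal := by
      ext I
      constructor
      · intro hI; exact ⟨⟨I, hI⟩, rfl⟩
      · rintro ⟨m, rfl⟩; exact m.isMaximal
    rw [this]
    exact Set.finite_range _
  rw [Ring.jacobson_eq_sInf_isMaximal] at hle
  have h2 : hfin.toFinset.inf id ≤ p := by
    rw [Finset.inf_id_eq_sInf]
    simpa using hle
  obtain ⟨m, hm, hmp⟩ := (hs p hp).1.inf_le'.1 h2
  have hm' : m.IsMaximal := by simpa using hm
  have : m = p := hm'.eq_of_le (hs p hp).1.ne_top hmp
  exact (hs p hp).2 (this ▸ hm')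

/-- If `dim M ≤ d` then there are `d` elements of the Jacobson radical with `M/(x)M` of finite
length. -/
theorem exists_list_of_supportDim_le [IsNoetherianRing A] [Finite (MaximalSpectrum A)] (d : ℕ) :
    ∀ (M : Type v) [AddCommGroup M] [Module A M] [Module.Finite A M],
      supportDim A M ≤ (d : WithBot ℕ∞) →
      ∃ l : List A, l.length = d ∧ (∀ r ∈ l, r ∈ Ring.jacobson A) ∧
        IsFiniteLength A (M ⧸ (Ideal.ofList l • ⊤ : Submodule A M)) := by
  classical
  induction d with
  | zero =>
    intro M _ _ _ h
    refine ⟨[], rfl, by simp, ?_⟩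
    have hbot : (Ideal.ofList ([] : List A) • ⊤ : Submodule A M) = ⊥ := by simp
    exact (Submodule.quotEquivOfEqBot _ hbot).symm.isFiniteLength
      (isFiniteLength_of_supportDim_le_zero (by simpa using h))
  | succ d ih =>
    intro M _ _ _ h
    have hfin : (annihilator A M).minimalPrimes.Finite :=
      Ideal.finite_minimalPrimes_of_isNoetherianRing _ _
    obtain ⟨x, hxj, hx⟩ := exists_mem_jacobson_notMem
      (hfin.toFinset.filter (fun p => ¬ p.IsMaximal)) (by
        intro p hp
        rw [Finset.mem_filter, Set.Finite.mem_toFinset] at hp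
        exact ⟨hp.1.1.1, hp.2⟩)
    have h' := supportDim_quotSMulTop_le (x := x) d (fun p hp hmax => hx p (by
      rw [Finset.mem_filter, Set.Finite.mem_toFinset]; exact ⟨hp, hmax⟩)) h
    obtain ⟨l, hlen, hl, hfl⟩ := ih (QuotSMulTop x M) h'
    refine ⟨x :: l, by simp [hlen], ?_, ?_⟩
    · intro r hr
      rcases List.mem_cons.1 hr with rfl | hr
      · exact hxj
      · exact hl r hr
    · exact (Submodule.quotOfListConsSMulTopEquivQuotSMulTopInner M x l).symm.isFiniteLength hfl

end Groth.Agent.Lib.Helper7.SuppDimParams
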