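import Mathlib.Algebra.Module.FinitePresentation
import Mathlib.LinearAlgebra.Dual.Defs
import Mathlib.RingTheory.Localization.AtPrime.Basic
import Mathlib.RingTheory.Localization.Module
import Mathlib.RingTheory.Noetherian.Basic

/-!
# Reflexivity of a localization: consequences for the kernel and cokernel of `G → G**`
-/

set_option autoImplicit false
set_option linter.unusedVariables false
set_option linter.style.haveILetI false

namespace Groth.Agent.Lib.Helper7.ReflLoc

universe u

variable {A : Type u} [CommRing A] [IsNoetherianRing A]
  {G : Type u} [AddCommGroup G] [Module A G] [Module.Finite A G]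

/-- the localization map on duals -/
noncomputable abbrev dualLoc (p : Ideal A) [p.IsPrime] :
    Module.Dual A G →ₗ[A]
      Module.Dual (Localization.AtPrime p) (LocalizedModule p.primeCompl G) :=
  IsLocalizedModule.mapExtendScalars p.primeCompl (LocalizedModule.mkLinearMap p.primeCompl G)
    (Algebra.linearMap A (Localization.AtPrime p)) (Localization.AtPrime p)

theorem dualLoc_apply (p : Ideal A) [p.IsPrime] (f : Module.Dual A G) (g : G) :
    dualLoc p f (LocalizedModule.mkLinearMap p.primeCompl G g) =
      algebraMap A (Localization.AtPrime p) (f g) := by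
  unfold dualLoc
  rw [IsLocalizedModule.mapExtendScalars_apply_apply, IsLocalizedModule.map_apply]
  rfl

/-- elements of the kernel of `G → G**` die in every reflexive localization -/
theorem exists_smul_eq_zero_of_eval_eq_zero (p : Ideal A) [p.IsPrime]
    [Module.IsReflexive (Localization.AtPrime p) (LocalizedModule p.primeCompl G)]
    (g : G) (hg : Module.Dual.eval A G g = 0) : ∃ s ∉ p, s • g = 0 := by
  haveI : Module.FinitePresentation A G := Module.finitePresentation_of_finite A G
  have hzero : LocalizedModule.mkLinearMap p.primeCompl G g = 0 := by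
    apply (Module.bijective_dual_eval (Localization.AtPrime p)
      (LocalizedModule p.primeCompl G)).1
    rw [map_zero]
    ext F
    rw [Module.Dual.eval_apply, LinearMap.zero_apply]
    obtain ⟨⟨f, s⟩, hfs⟩ := IsLocalizedModule.surj p.primeCompl (dualLoc (G := G) p) F
    have h1 := LinearMap.congr_fun hfs (LocalizedModule.mkLinearMap p.primeCompl G g)
    rw [dualLoc_apply, LinearMap.smul_apply] at h1
    have h2 : f g = 0 := by
      have := LinearMap.congr_fun hg f
      rwa [Module.Dual.eval_apply, LinearMap.zero_apply] at this
    rw [h2, map_zero] at h1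
    have hunit : IsUnit (algebraMap A (Localization.AtPrime p) (s : A)) :=
      IsLocalization.map_units (Localization.AtPrime p) s
    have h3 : algebraMap A (Localization.AtPrime p) (s : A) *
        F (LocalizedModule.mkLinearMap p.primeCompl G g) = 0 := by
      rw [← h1, Submonoid.smul_def, Algebra.smul_def]
    exact (hunit.mul_right_eq_zero).1 h3
  obtain ⟨r, hr, hrg⟩ := (LocalizedModule.mem_ker_mkLinearMap_iff (S := p.primeCompl)).1
    (LinearMap.mem_ker.2 hzero)
  exact ⟨r, hr, hrg⟩

/-- every element of `G**` lands in the image of `G` after multiplying by an element outside a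
prime at which `G` is reflexive -/
theorem exists_smul_mem_range_eval (p : Ideal A) [p.IsPrime]
    [Module.IsReflexive (Localization.AtPrime p) (LocalizedModule p.primeCompl G)]
    (c : Module.Dual A (Module.Dual A G)) :
    ∃ s ∉ p, ∃ g : G, s • c = Module.Dual.eval A G g := by
  haveI : Module.FinitePresentation A G := Module.finitePresentation_of_finite A G
  let c' : Module.Dual (Localization.AtPrime p) (LocalizedModule p.primeCompl G) →ₗ[A]
      Localization.AtPrime p :=
    IsLocalizedModule.lift p.primeCompl (dualLoc (G := G) p)
      ((Algebra.linearMap A (Localization.AtPrime p)) ∘ₗ c)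
      (IsLocalizedModule.map_units (Algebra.linearMap A (Localization.AtPrime p)))
  have hc' : ∀ f : Module.Dual A G,
      c' (dualLoc p f) = algebraMap A (Localization.AtPrime p) (c f) := by
    intro f
    have := IsLocalizedModule.lift_apply p.primeCompl (dualLoc (G := G) p)
      ((Algebra.linearMap A (Localization.AtPrime p)) ∘ₗ c)
      (IsLocalizedModule.map_units (Algebra.linearMap A (Localization.AtPrime p))) f
    exact this
  let c'' : Module.Dual (Localization.AtPrime p)
      (Module.Dual (Localization.AtPrime p) (LocalizedModule p.primeCompl G)) :=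
    c'.extendScalarsOfIsLocalization p.primeCompl (Localization.AtPrime p)
  obtain ⟨γ, hγ⟩ := (Module.bijective_dual_eval (Localization.AtPrime p)
    (LocalizedModule p.primeCompl G)).2 c''
  obtain ⟨⟨g, t⟩, hgt⟩ := IsLocalizedModule.surj p.primeCompl
    (LocalizedModule.mkLinearMap p.primeCompl G) γ
  have key : (Algebra.linearMap A (Localization.AtPrime p)) ∘ₗ ((t : A) • c) =
      (Algebra.linearMap A (Localization.AtPrime p)) ∘ₗ (Module.Dual.eval A G g) := by
    ext f
    simp only [LinearMap.comp_apply, LinearMap.smul_apply, Algebra.linearMap_apply,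
      Module.Dual.eval_apply]
    have e1 := dualLoc_apply p f g
    have e3 : (t : A) • γ = LocalizedModule.mkLinearMap p.primeCompl G g := hgt
    have e2 : dualLoc p f ((t : A) • γ) = (t : A) • dualLoc p f γ := by
      rw [← algebraMap_smul (Localization.AtPrime p) (t : A) γ, map_smul, algebraMap_smul]
    have h1 : dualLoc p f γ = c'' (dualLoc p f) := by
      rw [← hγ, Module.Dual.eval_apply]
    have h2 : c'' (dualLoc p f) = c' (dualLoc p f) := rfl
    rw [← e1, ← e3, e2, h1, h2, hc', smul_eq_mul, map_mul, Algebra.smul_def]
  obtain ⟨s, hs⟩ := Module.Finite.exists_smul_of_comp_eq_of_isLocalizedModule p.primeCompl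
    (Algebra.linearMap A (Localization.AtPrime p)) _ _ key
  refine ⟨(s : A) * (t : A), ?_, (s : A) • g, ?_⟩
  · exact (p.primeCompl.mul_mem s.2 t.2)
  · rw [mul_smul, map_smul]
    exact hs

end Groth.Agent.Lib.Helper7.ReflLoc
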