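import Groth.Agent.S8887
import Groth.Agent.Lib.Helper29.FreeIso3
import Groth.Agent.Lib.Helper28.FinType

/-!
# A coherent module with a free stalk is free on a neighbourhood (no integrality assumption)

* `independent_of_kill`: independence of sections over all opens of `D(g)` from a killing relation.
* `exists_kill_of_li`: the killing element from linear independence of the germs (Noetherian).
* `exists_iso_freeMod_of_free_stalk`: the main statement.
-/

set_option autoImplicit false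
set_option linter.unusedVariables false
set_option linter.style.haveILetI false

universe u

namespace Groth.Agent.Lib.Helper7.StalkFree

open AlgebraicGeometry CategoryTheory CategoryTheory.Limits Opposite TopologicalSpace
open Groth.Agent.Lib.Helper29.QCohStalk Groth.Agent.Lib.Helper28.QCohLoc
open Groth.Agent.Lib.Helper29.FreeIso

variable {X : Scheme.{u}}

theorem isUnit_resO_of_le_basicOpen {U₀ V : X.Opens} (g : Γ(X, U₀)) (hV : V ≤ U₀)
    (hVg : V ≤ X.basicOpen g) : IsUnit (resO hV g) := by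
  have h1' : IsUnit (resO (X.basicOpen_le g) g) := RingedSpace.isUnit_res_basicOpen _ g
  have h2' : resO hV g = resO hVg (resO (X.basicOpen_le g) g) := by rw [resO_resO]
  rw [h2']
  exact h1'.map _

/-- independence over every open of `D(g)` of the restricted sections -/
theorem independent_of_kill (F : X.Modules) {U₀ : X.Opens} (hU₀ : IsAffineOpen U₀)
    (hloc : IsLocOn F U₀) {r : ℕ} (σ : Fin r → Γ(F, U₀)) (g : Γ(X, U₀))
    (hg : ∀ c : Fin r → Γ(X, U₀), (∑ j, c j • σ j : Γ(F, U₀)) = 0 → ∀ j, g * c j = 0)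
    (V : X.Opens) (hV : V ≤ U₀) (hVg : V ≤ X.basicOpen g) (c : Fin r → Γ(X, V))
    (hc : (∑ j : Fin r, c j • res F hV (σ j) : Γ(F, V)) = 0) (j : Fin r) : c j = 0 := by
  classical
  -- local statement
  have key : ∀ pt : X, pt ∈ V → ∃ (W : X.Opens) (hW : W ≤ V), pt ∈ W ∧ resO hW (c j) = 0 := by
    intro pt hpt
    obtain ⟨h, hhV, hpth⟩ := hU₀.exists_basicOpen_le (V := V) ⟨pt, hpt⟩ (hV hpt)
    refine ⟨X.basicOpen h, hhV, hpth, ?_⟩
    have hD : X.basicOpen h ≤ U₀ := X.basicOpen_le h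
    haveI := hU₀.isLocalization_basicOpen h
    letI : Algebra Γ(X, U₀) Γ(X, X.basicOpen h) := (X.presheaf.map (homOfLE hD).op).hom.toAlgebra
    have halg : ∀ a : Γ(X, U₀), algebraMap Γ(X, U₀) Γ(X, X.basicOpen h) a = resO hD a := fun a => rfl
    obtain ⟨b, hb⟩ := IsLocalization.exist_integer_multiples (Submonoid.powers h) Finset.univ
      (fun i : Fin r => resO hhV (c i))
    obtain ⟨N, hN⟩ := b.2
    have hex : ∀ i : Fin r, ∃ a : Γ(X, U₀), resO hD a = resO hD (h ^ N) * resO hhV (c i) := by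
      intro i
      obtain ⟨a, ha⟩ := hb i (Finset.mem_univ i)
      refine ⟨a, ?_⟩
      rw [← halg, ha, Algebra.smul_def, halg, ← hN]
    choose a ha using hex
    have hhunit : IsUnit (resO hD h) := RingedSpace.isUnit_res_basicOpen _ h
    have hgunit : IsUnit (resO hD g) := isUnit_resO_of_le_basicOpen g hD (hhV.trans hVg)
    -- the combination of the `a i` restricts to zero on `D(h)`
    have h1 : res F hD (∑ i, a i • σ i) = 0 := by
      rw [res_sum_smul]
      have h2 := congrArg (fun z => resO hD (h ^ N) • res F hhV z) hc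
      simp only [res_zero, smul_zero] at h2
      rw [res_sum_smul, Finset.smul_sum] at h2
      refine Eq.trans (Finset.sum_congr rfl fun i _ => ?_) h2
      rw [ha i, mul_smul, res_res]
    obtain ⟨n, hn⟩ := hloc.inj h _ h1
    have h3 : (∑ i, (h ^ n * a i) • σ i : Γ(F, U₀)) = 0 := by
      rw [Finset.smul_sum] at hn
      refine Eq.trans (Finset.sum_congr rfl fun i _ => ?_) hn
      exact mul_smul _ _ _
    have h4 := hg _ h3 j
    have hm : ∀ x y : Γ(X, U₀), resO hD (x * y) = resO hD x * resO hD y :=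
      fun x y => map_mul (X.presheaf.map (homOfLE hD).op).hom x y
    have h0 : resO hD (0 : Γ(X, U₀)) = 0 := map_zero (X.presheaf.map (homOfLE hD).op).hom
    have h5 := congrArg (resO hD) h4
    rw [hm, hm, h0, ha j, resO_pow, resO_pow] at h5
    have h6 := (hgunit.mul_right_eq_zero).1 h5
    have h7 := ((hhunit.pow n).mul_right_eq_zero).1 h6
    exact ((hhunit.pow N).mul_right_eq_zero).1 h7
  choose W hW hptW hres using key
  refine TopCat.Sheaf.eq_of_locally_eq' X.sheaf (fun p : V => W p.1 p.2) V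
    (fun p => homOfLE (hW p.1 p.2)) ?_ (c j) 0 ?_
  · intro y hy
    exact Opens.mem_iSup.2 ⟨⟨y, hy⟩, hptW y hy⟩
  · intro p
    have := hres p.1 p.2
    rw [map_zero]
    exact this

/-- assembly over an open `U ≤ D(f) ⊓ D(g)` -/
theorem nonempty_iso_free_of_le (F : X.Modules) {U₀ : X.Opens}
    (hU₀ : IsAffineOpen U₀) (hloc : IsLocOn F U₀) {r : ℕ} (σ : Fin r → Γ(F, U₀))
    (g : Γ(X, U₀))
    (hg : ∀ c : Fin r → Γ(X, U₀), (∑ j, c j • σ j : Γ(F, U₀)) = 0 → ∀ j, g * c j = 0)
    (f : Γ(X, U₀)) (hD : ∀ m : Γ(F, U₀), ∃ c : Fin r → Γ(X, U₀), f • m = ∑ j, c j • σ j)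
    (U : X.Opens) (hUf : U ≤ X.basicOpen f) (hUg : U ≤ X.basicOpen g) :
    Nonempty (F.restrict U.ι ≅ FlatMod.freeMod (↑U) r) := by
  have hUle : U ≤ U₀ := hUf.trans (X.basicOpen_le f)
  have himgU : ∀ W : (U : Scheme.{u}).Opens, U.ι ''ᵁ W ≤ U := fun W => by
    intro y hy
    obtain ⟨z, -, rfl⟩ := hy
    exact z.2
  have himg : ∀ W : (U : Scheme.{u}).Opens, U.ι ''ᵁ W ≤ U₀ := fun W => (himgU W).trans hUle
  let τ : Fin r → Γ(F.restrict U.ι, ⊤) := fun j => res F (himg ⊤) (σ j)
  have hτres : ∀ (W : (U : Scheme.{u}).Opens) (j : Fin r),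
      res (F.restrict U.ι) (le_top : W ≤ ⊤) (τ j) = res F (himg W) (σ j) := by
    intro W j
    rw [Groth.Agent.S8887.res_restrict]
    exact res_res F _ _ (σ j)
  refine Groth.Agent.Lib.Helper29.FreeIso.nonempty_iso_freeMod (F.restrict U.ι) τ ?_ ?_
  · -- independence
    intro W c hc j
    have hc' : (∑ j : Fin r, ((show Γ(X, U.ι ''ᵁ W) from c j) • res F (himg W) (σ j) :
        Γ(F, U.ι ''ᵁ W))) = 0 := by
      refine Eq.trans (Finset.sum_congr rfl fun j _ => ?_) hc
      have e1 := Groth.Agent.S8887.restrict_smul' F U W (c j)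
        (res (F.restrict U.ι) (le_top : W ≤ ⊤) (τ j))
      refine Eq.trans ?_ e1.symm
      congr 1
      exact (hτres W j).symm
    exact independent_of_kill F hU₀ hloc σ g hg _ (himg W) ((himgU W).trans hUg)
      (fun j => (show Γ(X, U.ι ''ᵁ W) from c j)) hc' j
  · -- generation
    intro W t' pt hpt
    have hpt' : U.ι pt ∈ U.ι ''ᵁ W := ⟨pt, hpt, rfl⟩
    obtain ⟨g', hptg, hgW, hg'⟩ := Groth.Agent.S8887.generated_of_smul F hU₀ hloc σ f hD _
      ((himgU W).trans hUf) (show Γ(F, U.ι ''ᵁ W) from t') _ hpt'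
    let W₁ : (U : Scheme.{u}).Opens := U.ι ⁻¹ᵁ X.basicOpen g'
    have hV_le_g : U.ι ''ᵁ W₁ ≤ X.basicOpen g' := by
      rintro _ ⟨z, hz, rfl⟩
      exact hz
    have hW₁ : W₁ ≤ W := by
      intro z hz
      have : U.ι z ∈ U.ι ''ᵁ W := hgW hz
      obtain ⟨z', hz', hzz⟩ := this
      have : z' = z := U.ι.isOpenEmbedding.injective hzz
      rw [← this]; exact hz'
    obtain ⟨c, hc⟩ := hg' _ hV_le_g (hV_le_g.trans hgW) (himg W₁)
    refine ⟨W₁, hW₁, hptg, c, ?_⟩
    rw [Groth.Agent.S8887.res_restrict, hc]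
    refine Finset.sum_congr rfl fun j _ => ?_
    have e1 := Groth.Agent.S8887.restrict_smul' F U W₁ (c j)
      (res (F.restrict U.ι) (le_top : W₁ ≤ ⊤) (τ j))
    refine Eq.trans ?_ e1.symm
    congr 1
    exact (hτres W₁ j).symm

/-- the killing element from linear independence of the germs at a point -/
theorem exists_kill_of_li (F : X.Modules) {U₀ : X.Opens} (hU₀ : IsAffineOpen U₀)
    [IsNoetherianRing Γ(X, U₀)] (x : X) (hx : x ∈ U₀) {r : ℕ} (σ : Fin r → Γ(F, U₀))
    (hli : LinearIndependent (X.presheaf.stalk x) (fun j => gm F U₀ x hx (σ j))) :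
    ∃ g : Γ(X, U₀), IsUnit (X.presheaf.germ U₀ x hx g) ∧
      ∀ c : Fin r → Γ(X, U₀), (∑ j, c j • σ j : Γ(F, U₀)) = 0 → ∀ j, g * c j = 0 := by
  classical
  let K : Submodule Γ(X, U₀) (Fin r → Γ(X, U₀)) :=
    LinearMap.ker (Fintype.linearCombination Γ(X, U₀) σ)
  have hK : ∀ c : Fin r → Γ(X, U₀), c ∈ K ↔ (∑ j, c j • σ j : Γ(F, U₀)) = 0 := by
    intro c
    rw [LinearMap.mem_ker, Fintype.linearCombination_apply]
  have hfg : K.FG := IsNoetherian.noetherian K
  obtain ⟨S, hS⟩ := hfg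
  -- each element of `K` is killed by a function invertible at `x`
  have h1 : ∀ c : Fin r → Γ(X, U₀), c ∈ K → ∃ t : Γ(X, U₀),
      IsUnit (X.presheaf.germ U₀ x hx t) ∧ ∀ j, t * c j = 0 := by
    intro c hcK
    have h0 := (hK c).1 hcK
    have h2 := congrArg (gm F U₀ x hx) h0
    rw [gm_sum_smul, gm_zero] at h2
    have h3 := Fintype.linearIndependent_iff.1 hli _ h2
    have h4 : ∀ j, ∃ t : Γ(X, U₀), IsUnit (X.presheaf.germ U₀ x hx t) ∧ t * c j = 0 :=
      fun j => stalk_affine_eq_zero hU₀ x hx (c j) (h3 j)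
    choose t ht htc using h4
    refine ⟨∏ j, t j, ?_, fun j => ?_⟩
    · rw [map_prod]
      exact IsUnit.prod_univ_iff.2 fun j => ht j
    · rw [← Finset.mul_prod_erase Finset.univ t (Finset.mem_univ j), mul_comm (t j), mul_assoc,
        htc j, mul_zero]
  have h1' : ∀ c : Fin r → Γ(X, U₀), ∃ t : Γ(X, U₀),
      IsUnit (X.presheaf.germ U₀ x hx t) ∧ (c ∈ K → ∀ j, t * c j = 0) := by
    intro c
    by_cases hcK : c ∈ K
    · obtain ⟨t, ht, htc⟩ := h1 c hcK
      exact ⟨t, ht, fun _ => htc⟩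
    · exact ⟨1, by rw [map_one]; exact isUnit_one, fun h => absurd h hcK⟩
  choose t ht htc using h1'
  refine ⟨∏ s ∈ S, t s, ?_, ?_⟩
  · rw [map_prod]
    exact (IsUnit.prod_iff).2 fun s _ => ht s
  · have hall : ∀ c : Fin r → Γ(X, U₀), c ∈ Submodule.span Γ(X, U₀) (S : Set (Fin r → Γ(X, U₀))) →
        (∏ s ∈ S, t s) • c = 0 := by
      intro c hcK
      induction hcK using Submodule.span_induction with
      | mem y hy =>
        have hyK : y ∈ K := by rw [← hS]; exact Submodule.subset_span hy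
        funext j
        show (∏ s ∈ S, t s) * y j = 0
        rw [← Finset.mul_prod_erase S t hy, mul_comm (t y), mul_assoc, htc y hyK j, mul_zero]
      | zero => exact smul_zero _
      | add y z _ _ hy hz => rw [smul_add, hy, hz, add_zero]
      | smul a y _ hy => rw [smul_comm, hy, smul_zero]
    intro c hc j
    have hcK : c ∈ K := (hK c).2 hc
    rw [← hS] at hcK
    exact congrFun (hall c hcK) j

/-- A coherent module on a locally Noetherian scheme whose stalk at `x` is free is free of the same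
rank on an open neighbourhood of `x`. -/
theorem exists_iso_freeMod_of_free_stalk (X : Scheme.{u}) [IsLocallyNoetherian X] (F : X.Modules)
    (hF : Coh.IsCoh F) (x : X) [Module.Free (X.presheaf.stalk x) (F.presheaf.stalk x)] :
    ∃ U : X.Opens, x ∈ U ∧ Nonempty (F.restrict U.ι ≅ FlatMod.freeMod (↑U)
      (Module.finrank (X.presheaf.stalk x) (F.presheaf.stalk x))) := by
  haveI : F.IsQuasicoherent := hF.1
  haveI : SheafOfModules.IsFiniteType.{u} (R := X.ringCatSheaf) F := hF.2
  obtain ⟨U₀, hU₀', hx, -⟩ := (Opens.isBasis_iff_nbhd.1 X.isBasis_affineOpens)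
    (show x ∈ (⊤ : X.Opens) from trivial)
  have hU₀ : IsAffineOpen U₀ := hU₀'
  have hloc := isLocOn_of_isQuasicoherent F hU₀
  haveI : IsNoetherianRing Γ(X, U₀) := IsLocallyNoetherian.component_noetherian ⟨U₀, hU₀⟩
  haveI : Module.Finite Γ(X, U₀) Γ(F, U₀) :=
    Groth.Agent.Lib.Helper28.FinType.finite_of_isAffineOpen F hU₀
  haveI hfinN : Module.Finite (X.presheaf.stalk x) (F.presheaf.stalk x) :=
    Groth.Agent.S4637.finite_stalk F hU₀ hloc x hx
  let b := Module.finBasis (X.presheaf.stalk x) (F.presheaf.stalk x)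
  have hex : ∀ j, ∃ (t : Γ(X, U₀)) (m : Γ(F, U₀)), IsUnit (X.presheaf.germ U₀ x hx t) ∧
      X.presheaf.germ U₀ x hx t • b j = gm F U₀ x hx m :=
    fun j => exists_germ_smul_eq F hU₀ hloc x hx (b j)
  choose t σ ht htσ using hex
  let b' := b.unitsSMul (fun j => (ht j).unit)
  have hb' : ∀ j, b' j = gm F U₀ x hx (σ j) := by
    intro j
    rw [Module.Basis.unitsSMul_apply, ← htσ j]
    rfl
  have hfun : (fun j => gm F U₀ x hx (σ j)) = b' := funext fun j => (hb' j).symm
  have hspan : Submodule.span (X.presheaf.stalk x) (Set.range fun j => gm F U₀ x hx (σ j)) = ⊤ := by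
    rw [hfun]; exact b'.span_eq
  have hli : LinearIndependent (X.presheaf.stalk x) (fun j => gm F U₀ x hx (σ j)) := by
    rw [hfun]; exact b'.linearIndependent
  obtain ⟨S, hS⟩ := (Module.Finite.fg_top : (⊤ : Submodule Γ(X, U₀) Γ(F, U₀)).FG)
  have hC := Groth.Agent.S8887.exists_smul_eq_sum F hU₀ hloc x hx σ hspan
  choose fm hfm cm hcm using hC
  classical
  have hfu : IsUnit (X.presheaf.germ U₀ x hx (∏ m ∈ S, fm m)) := by
    rw [map_prod]
    exact (IsUnit.prod_iff).2 fun m _ => hfm m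
  have hD := Groth.Agent.S8887.exists_prod_smul_eq_sum S hS σ fm cm hcm
  obtain ⟨g, hgu, hg⟩ := exists_kill_of_li F hU₀ x hx σ hli
  have hxf : x ∈ X.basicOpen (∏ m ∈ S, fm m) := (Scheme.mem_basicOpen _ _ _ hx).2 hfu
  have hxg : x ∈ X.basicOpen g := (Scheme.mem_basicOpen _ _ _ hx).2 hgu
  exact ⟨X.basicOpen (∏ m ∈ S, fm m) ⊓ X.basicOpen g, ⟨hxf, hxg⟩,
    nonempty_iso_free_of_le F hU₀ hloc σ g hg _ hD _ inf_le_left inf_le_right⟩

/-- the stalks of a coherent module are finite modules -/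
theorem finite_stalk_of_isCoh (X : Scheme.{u}) (F : X.Modules) (hF : Coh.IsCoh F) (x : X) :
    Module.Finite (X.presheaf.stalk x) (F.presheaf.stalk x) := by
  haveI : F.IsQuasicoherent := hF.1
  haveI : SheafOfModules.IsFiniteType.{u} (R := X.ringCatSheaf) F := hF.2
  obtain ⟨U₀, hU₀', hx, -⟩ := (Opens.isBasis_iff_nbhd.1 X.isBasis_affineOpens)
    (show x ∈ (⊤ : X.Opens) from trivial)
  have hU₀ : IsAffineOpen U₀ := hU₀'
  have hloc := isLocOn_of_isQuasicoherent F hU₀
  haveI : Module.Finite Γ(X, U₀) Γ(F, U₀) :=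
    Groth.Agent.Lib.Helper28.FinType.finite_of_isAffineOpen F hU₀
  exact Groth.Agent.S4637.finite_stalk F hU₀ hloc x hx

/-- the stalks of a module free on a neighbourhood are finite free -/
theorem free_stalk_of_iso (F : X.Modules) (x : X) (U : X.Opens) (hxU : x ∈ U) (n : ℕ)
    (e : F.restrict U.ι ≅ FlatMod.freeMod (↑U) n) :
    Module.Free (X.presheaf.stalk x) (F.presheaf.stalk x) ∧
      Module.Finite (X.presheaf.stalk x) (F.presheaf.stalk x) ∧
      Module.finrank (X.presheaf.stalk x) (F.presheaf.stalk x) = n := by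
  obtain ⟨τ, hτ⟩ := exists_isBasisOn_of_iso F U n e
  haveI : Nontrivial (X.presheaf.stalk x) := inferInstance
  refine ⟨hτ.free_stalk x hxU, hτ.finite_stalk x hxU, ?_⟩
  rw [Module.finrank_eq_card_basis (hτ.stalkBasis x hxU), Fintype.card_fin]

end Groth.Agent.Lib.Helper7.StalkFree
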