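import Groth.Agent.Lib.Helper7.ModHartogs

/-!
# Converse of Hartogs' lemma for coherent modules

If `Γ(V, F) → Γ(V ⊓ U, F)` is bijective for all (affine) opens `V`, then `depth F_x ≥ 2` for
all `x ∉ U`.
-/

set_option autoImplicit false
set_option linter.unusedVariables false
set_option linter.style.haveILetI false

universe u

namespace Groth.Agent.Lib.Helper7.ModHartogs

open CategoryTheory AlgebraicGeometry Opposite TopologicalSpace RingTheory.Sequence
open Groth.Agent.Lib.Helper28.QCohLoc Groth.Agent.Lib.Helper21.DepthKit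
open scoped Pointwise

section sheafconv

variable {X : Scheme.{u}} (F : X.Modules) {W : X.Opens}

/-- a section over `W` killed by all of `I` vanishes on `U = ⋃_{c ∈ I} D(c)` -/
theorem res_eq_zero_of_forall_smul_eq_zero (I : Ideal Γ(X, W)) (U : X.Opens) (hUW : U ≤ W)
    (hsub : ∀ c ∈ I, X.basicOpen c ≤ U) (hcov : ∀ x ∈ U, ∃ c ∈ I, x ∈ X.basicOpen c)
    (n : Γ(F, W)) (hn : ∀ c ∈ I, c • n = 0) : res F hUW n = 0 := by
  apply eq_of_locally_eq F (fun c : I => X.basicOpen (c : Γ(X, W))) U (fun c => hsub c c.2)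
  · intro z hzU
    obtain ⟨c, hc, hzc⟩ := hcov z hzU
    exact Opens.mem_iSup.2 ⟨⟨c, hc⟩, hzc⟩
  · rintro ⟨c, hc⟩
    show res F (hsub c hc) (res F hUW n) = res F (hsub c hc) 0
    rw [res_res, res_zero]
    have h1 := congrArg (res F (X.basicOpen_le c)) (hn c hc)
    rw [res_smul, res_zero] at h1
    apply (isUnit_resO_of_le c (X.basicOpen_le c) le_rfl).smul_left_cancel.1
    rw [h1, smul_zero]

theorem exists_isSMulRegular_of_injective [IsNoetherianRing Γ(X, W)]
    [Module.Finite Γ(X, W) Γ(F, W)] (I : Ideal Γ(X, W)) (U : X.Opens) (hUW : U ≤ W)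
    (hsub : ∀ c ∈ I, X.basicOpen c ≤ U) (hcov : ∀ x ∈ U, ∃ c ∈ I, x ∈ X.basicOpen c)
    (hinj : Function.Injective (res F hUW)) : ∃ a ∈ I, IsSMulRegular Γ(F, W) a := by
  by_contra hcon
  push_neg at hcon
  obtain ⟨q, hq, hIq⟩ := exists_le_associatedPrime_of_forall_not_isSMulRegular I hcon
  obtain ⟨hqp, x, hx⟩ := isAssociatedPrime_iff.1 hq
  have hx0 : x = 0 := by
    apply hinj
    rw [res_zero]
    apply res_eq_zero_of_forall_smul_eq_zero F I U hUW hsub hcov
    intro c hc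
    have : c ∈ (⊥ : Submodule Γ(X, W) Γ(F, W)).colon {x} := hx ▸ hIq hc
    rw [Submodule.mem_colon_singleton] at this
    exact (Submodule.mem_bot _).1 this
  apply hqp.ne_top
  rw [hx, hx0, Ideal.eq_top_iff_one, Submodule.mem_colon_singleton, smul_zero]
  exact Submodule.zero_mem _

theorem exists_isSMulRegular_quot_of_bijective [IsNoetherianRing Γ(X, W)]
    [Module.Finite Γ(X, W) Γ(F, W)] (I : Ideal Γ(X, W)) (U : X.Opens) (hUW : U ≤ W)
    (hsub : ∀ c ∈ I, X.basicOpen c ≤ U) (hcov : ∀ x ∈ U, ∃ c ∈ I, x ∈ X.basicOpen c)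
    (hbij : Function.Bijective (res F hUW)) (a : Γ(X, W)) (ha : IsSMulRegular Γ(F, W) a) :
    ∃ b ∈ I, IsSMulRegular (QuotSMulTop a Γ(F, W)) b := by
  by_contra hcon
  push_neg at hcon
  obtain ⟨q, hq, hIq⟩ := exists_le_associatedPrime_of_forall_not_isSMulRegular
    (M := QuotSMulTop a Γ(F, W)) I hcon
  obtain ⟨hqp, xbar, hx⟩ := isAssociatedPrime_iff.1 hq
  obtain ⟨n, rfl⟩ := Submodule.Quotient.mk_surjective _ xbar
  have hcover : U ≤ ⨆ c : I, X.basicOpen (c : Γ(X, W)) := by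
    intro z hzU
    obtain ⟨c, hc, hzc⟩ := hcov z hzU
    exact Opens.mem_iSup.2 ⟨⟨c, hc⟩, hzc⟩
  have hmem : ∀ c ∈ I, ∃ m : Γ(F, W), c • n = a • m := by
    intro c hc
    have h1 : c ∈ (⊥ : Submodule Γ(X, W) (QuotSMulTop a Γ(F, W))).colon
        {Submodule.Quotient.mk n} := hx ▸ hIq hc
    rw [Submodule.mem_colon_singleton, Submodule.mem_bot, ← Submodule.Quotient.mk_smul,
      Submodule.Quotient.mk_eq_zero] at h1
    obtain ⟨m, -, hm⟩ := (Submodule.mem_smul_pointwise_iff_exists _ _ _).1 h1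
    exact ⟨m, hm.symm⟩
  choose! m hm using hmem
  have hu : ∀ c : I, IsUnit (resO (X.basicOpen_le (c : Γ(X, W))) (c : Γ(X, W))) :=
    fun c => isUnit_resO_of_le _ _ le_rfl
  have ht : ∀ c : I, ∃ t : Γ(F, X.basicOpen (c : Γ(X, W))),
      resO (X.basicOpen_le c.1) c.1 • t = res F (X.basicOpen_le c.1) (m c.1) := by
    intro c
    obtain ⟨v, hv⟩ := hu c
    refine ⟨(↑v⁻¹ : Γ(X, X.basicOpen c.1)) • res F (X.basicOpen_le c.1) (m c.1), ?_⟩
    rw [← hv, smul_smul, Units.mul_inv, one_smul]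
  choose t ht using ht
  have hcompat : ∀ c c' : I,
      res F (inf_le_left : X.basicOpen c.1 ⊓ X.basicOpen c'.1 ≤ X.basicOpen c.1) (t c) =
        res F (inf_le_right : X.basicOpen c.1 ⊓ X.basicOpen c'.1 ≤ X.basicOpen c'.1) (t c') := by
    intro c c'
    have hcc' : c'.1 • m c.1 = c.1 • m c'.1 := by
      apply ha
      show a • (c'.1 • m c.1) = a • (c.1 • m c'.1)
      rw [smul_comm a, ← hm c.1 c.2, smul_comm a, ← hm c'.1 c'.2, smul_comm]
    have hD : X.basicOpen c.1 ⊓ X.basicOpen c'.1 ≤ W := inf_le_left.trans (X.basicOpen_le _)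
    have hu1 : IsUnit (resO hD c.1) := isUnit_resO_of_le c.1 hD inf_le_left
    have hu2 : IsUnit (resO hD c'.1) := isUnit_resO_of_le c'.1 hD inf_le_right
    apply hu1.smul_left_cancel.1
    apply hu2.smul_left_cancel.1
    have e1 : resO hD c.1 • res F inf_le_left (t c) = res F hD (m c.1) := by
      have := congrArg
        (res F (inf_le_left : X.basicOpen c.1 ⊓ X.basicOpen c'.1 ≤ X.basicOpen c.1)) (ht c)
      rw [res_smul, resO_resO, res_res] at this
      exact this
    have e2 : resO hD c'.1 • res F inf_le_right (t c') = res F hD (m c'.1) := by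
      have := congrArg
        (res F (inf_le_right : X.basicOpen c.1 ⊓ X.basicOpen c'.1 ≤ X.basicOpen c'.1)) (ht c')
      rw [res_smul, resO_resO, res_res] at this
      exact this
    rw [e1, smul_comm, e2, ← res_smul, ← res_smul, hcc']
  obtain ⟨tt, htt⟩ := exists_gluing F (fun c : I => X.basicOpen (c : Γ(X, W))) U
    (fun c => hsub c c.2) hcover t hcompat
  obtain ⟨z, hz⟩ := hbij.2 tt
  have haz : a • z = n := by
    apply hbij.1
    apply eq_of_locally_eq F (fun c : I => X.basicOpen (c : Γ(X, W))) U (fun c => hsub c c.2)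
      hcover
    intro c
    show res F (hsub c c.2) (res F hUW (a • z)) = res F (hsub c c.2) (res F hUW n)
    rw [res_smul, hz, res_smul, htt c, resO_resO, res_res]
    apply (hu c).smul_left_cancel.1
    rw [smul_comm, ht c, ← res_smul, ← res_smul, ← hm c.1 c.2]
  apply hqp.ne_top
  rw [hx, Ideal.eq_top_iff_one, Submodule.mem_colon_singleton, one_smul, Submodule.mem_bot,
    Submodule.Quotient.mk_eq_zero]
  exact (Submodule.mem_smul_pointwise_iff_exists _ _ _).2 ⟨z, trivial, haz⟩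

theorem two_le_idealDepth_of_bijective [IsNoetherianRing Γ(X, W)]
    [Module.Finite Γ(X, W) Γ(F, W)] (I : Ideal Γ(X, W)) (U : X.Opens) (hUW : U ≤ W)
    (hsub : ∀ c ∈ I, X.basicOpen c ≤ U) (hcov : ∀ x ∈ U, ∃ c ∈ I, x ∈ X.basicOpen c)
    (hbij : Function.Bijective (res F hUW)) : (2 : ℕ∞) ≤ LocCoh.idealDepth I Γ(F, W) := by
  by_cases hIN : I • (⊤ : Submodule Γ(X, W) Γ(F, W)) = ⊤
  · unfold LocCoh.idealDepth
    rw [if_pos hIN]
    exact le_top
  · obtain ⟨a, haI, ha⟩ := exists_isSMulRegular_of_injective F I U hUW hsub hcov hbij.1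
    obtain ⟨b, hbI, hb⟩ := exists_isSMulRegular_quot_of_bijective F I U hUW hsub hcov hbij a ha
    have h2 := (natCast_le_idealDepth_iff I hIN 2).2 ⟨[a, b], rfl, ?_, ?_⟩
    · exact_mod_cast h2
    · intro r hr
      simp only [List.mem_cons, List.not_mem_nil, or_false] at hr
      rcases hr with rfl | rfl <;> assumption
    · rw [isWeaklyRegular_cons_iff]
      refine ⟨ha, ?_⟩
      rw [isWeaklyRegular_cons_iff]
      exact ⟨hb, IsWeaklyRegular.nil _ _⟩

end sheafconv

section schemeconv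

open Groth.Agent.Lib.Helper7.Hartogs (idealOf mem_idealOf)

variable {X : Scheme.{u}} [IsLocallyNoetherian X] (F : X.Modules) [F.IsQuasicoherent]
  [SheafOfModules.IsFiniteType.{u} (R := X.ringCatSheaf) F] (U : X.Opens)

/-- **Converse of Hartogs for coherent modules.** -/
theorem two_le_depth_stalk_of_bijective
    (hbij : ∀ V : X.Opens, Function.Bijective (res F (inf_le_left : V ⊓ U ≤ V)))
    (x : X) (hx : x ∉ U) :
    (2 : ℕ∞) ≤ LocCoh.depth (X.presheaf.stalk x) (F.presheaf.stalk x) := by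
  obtain ⟨W, hW, hxW, -⟩ := exists_isAffineOpen_mem_and_subset (U := (⊤ : X.Opens)) (x := x)
    trivial
  haveI : IsNoetherianRing Γ(X, W) := IsLocallyNoetherian.component_noetherian ⟨W, hW⟩
  haveI : Module.Finite Γ(X, W) Γ(F, W) :=
    Groth.Agent.Lib.Helper28.FinType.finite_of_isAffineOpen F hW
  have h2 : (2 : ℕ∞) ≤ LocCoh.idealDepth (idealOf U W) Γ(F, W) := by
    refine two_le_idealDepth_of_bijective F (idealOf U W) (W ⊓ U) inf_le_left ?_ ?_ (hbij W)
    · intro c hc
      exact le_inf (X.basicOpen_le c) hc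
    · intro y hy
      obtain ⟨c, hcU, hyc⟩ := hW.exists_basicOpen_le ⟨y, hy.2⟩ hy.1
      exact ⟨c, hcU, hyc⟩
  rw [Groth.Agent.Lib.Helper7.StalkLoc.depth_stalk_eq F hW (isLocOn_of_isQuasicoherent F hW) x hxW]
  refine h2.trans (idealDepth_le_depth_localization _ _ ?_)
  intro c hc
  by_contra hcp
  apply hx
  apply (mem_idealOf U c).1 hc
  have h1 : hW.primeIdealOf ⟨x, hxW⟩ ∈ hW.fromSpec ⁻¹ᵁ X.basicOpen c := by
    rw [hW.fromSpec_preimage_basicOpen]
    exact hcp
  have h3 := hW.fromSpec_primeIdealOf ⟨x, hxW⟩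
  have h4 : hW.fromSpec (hW.primeIdealOf ⟨x, hxW⟩) ∈ X.basicOpen c := h1
  rw [h3] at h4
  exact h4

end schemeconv

end Groth.Agent.Lib.Helper7.ModHartogs
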