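import Groth.Agent.Lib.Helper7.AffineChain
import Mathlib.RingTheory.KrullDimension.Polynomial
import Mathlib.RingTheory.KrullDimension.Field

/-!
# The dimension formula `ht p + dim A/p = dim A` for affine domains
-/

set_option autoImplicit false
set_option linter.unusedVariables false
set_option linter.style.haveILetI false

namespace Groth.Agent.Lib.Helper7.AffDim

universe u v

variable {k : Type u} [Field k] (A : Type v) [CommRing A] [Algebra k A] [Algebra.FiniteType k A]

include k in
theorem exists_isMin_coheight_eq_aux :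
    ∀ (n : ℕ) (p : PrimeSpectrum A), Order.height p = n →
      ∃ q : PrimeSpectrum A, q ≤ p ∧ IsMin q ∧ Order.coheight q = Order.coheight p + n := by
  intro n
  induction n with
  | zero =>
    intro p hp
    refine ⟨p, le_rfl, ?_, by simp⟩
    rw [← Order.height_eq_zero]
    exact_mod_cast hp
  | succ n ih =>
    intro p hp
    have hp' : Order.height p = (n : ℕ∞) + 1 := by exact_mod_cast hp
    rw [Order.height_eq_coe_add_one_iff] at hp'
    obtain ⟨_, ⟨y, hyp, hy⟩, hall⟩ := hp'
    have hcov : y ⋖ p := by
      refine ⟨hyp, ?_⟩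
      intro r hyr hrp
      have h1 := Order.height_add_one_le hyr
      have h2 := hall r hrp
      rw [hy] at h1
      have : ((n : ℕ∞) + 1) ≤ n := h1.trans h2
      have h3 : (n : ℕ∞) < n + 1 := by
        exact_mod_cast Nat.lt_succ_self n
      exact absurd this (not_le.2 h3)
    have hco := AffChain.coheight_covBy (k := k) A hcov
    obtain ⟨q, hqy, hqmin, hq⟩ := ih y hy
    refine ⟨q, hqy.trans hyp.le, hqmin, ?_⟩
    rw [hq, ← hco]
    push_cast
    ring

include k in
/-- every prime `p` contains a minimal prime `q` with `dim A/q = dim A/p + ht p` -/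
theorem exists_isMin_coheight_eq (p : PrimeSpectrum A) :
    ∃ q : PrimeSpectrum A, q ≤ p ∧ IsMin q ∧
      Order.coheight q = Order.coheight p + Order.height p := by
  haveI : IsNoetherianRing A := Algebra.FiniteType.isNoetherianRing k A
  haveI := p.isPrime
  have hfin : Order.height p ≠ ⊤ := by
    have := Ideal.height_ne_top (I := p.asIdeal) (Ideal.IsPrime.ne_top inferInstance)
    rwa [PrimeSpectrum.height_eq_orderHeight] at this
  obtain ⟨n, hn⟩ := ENat.ne_top_iff_exists.1 hfin
  obtain ⟨q, h1, h2, h3⟩ := exists_isMin_coheight_eq_aux (k := k) A n p hn.symm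
  exact ⟨q, h1, h2, by rw [h3, hn]⟩

include k in
/-- the dimension formula for affine domains -/
theorem height_add_dim_quotient [IsDomain A] (p : Ideal A) [hp : p.IsPrime] :
    (p.height : WithBot ℕ∞) + ringKrullDim (A ⧸ p) = ringKrullDim A := by
  obtain ⟨q, hqp, hqmin, hq⟩ := exists_isMin_coheight_eq (k := k) A ⟨p, hp⟩
  have hqbot : q = ⊥ := by
    rw [← isMin_iff_eq_bot]; exact hqmin
  subst hqbot
  have h1 : ringKrullDim A = ((Order.coheight (⊥ : PrimeSpectrum A) : ℕ∞) : WithBot ℕ∞) := by
    rw [Order.coheight_bot_eq_krullDim]; rfl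
  have h2 := AffChain.ringKrullDim_quotient_eq_coheight (A := A) ⟨p, hp⟩
  change ringKrullDim (A ⧸ p) = _ at h2
  have h3 := PrimeSpectrum.height_eq_orderHeight (⟨p, hp⟩ : PrimeSpectrum A)
  change p.height = _ at h3
  rw [h1, h2, hq, h3]
  push_cast
  rw [add_comm]

/-- the dimension formula in a polynomial ring -/
theorem mvPolynomial_height_add (K : Type u) [Field K] (m : ℕ)
    (p : Ideal (MvPolynomial (Fin m) K)) [hp : p.IsPrime] :
    (p.height : WithBot ℕ∞) + ringKrullDim (MvPolynomial (Fin m) K ⧸ p) = (m : WithBot ℕ∞) := by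
  rw [height_add_dim_quotient (k := K) (MvPolynomial (Fin m) K) p,
    MvPolynomial.ringKrullDim_of_isNoetherianRing, ringKrullDim_eq_zero_of_field]
  simp

end Groth.Agent.Lib.Helper7.AffDim
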