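import Mathlib

/-!
# Support of a localized module when the module has full support
-/

set_option autoImplicit false
set_option linter.unusedVariables false

universe u

namespace Groth.Agent.Lib.Helper7.SupportLoc

variable {A : Type u} [CommRing A] {M : Type u} [AddCommGroup M] [Module A M]

theorem support_localized_eq_univ (hsupp : Module.support A M = Set.univ) (p : Ideal A)
    [p.IsPrime] :
    Module.support (Localization.AtPrime p) (LocalizedModule p.primeCompl M) = Set.univ := by
  rw [Set.eq_univ_iff_forall]
  intro q'
  by_contra hq'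
  rw [Module.notMem_support_iff, LocalizedModule.subsingleton_iff] at hq'
  let q : PrimeSpectrum A := ⟨q'.asIdeal.comap (algebraMap A (Localization.AtPrime p)),
    Ideal.IsPrime.comap _⟩
  have hqp : q.asIdeal ≤ p := by
    intro x hx
    by_contra hxp
    have hunit : IsUnit (algebraMap A (Localization.AtPrime p) x) :=
      IsLocalization.map_units (Localization.AtPrime p) (⟨x, hxp⟩ : p.primeCompl)
    exact q'.2.ne_top (Ideal.eq_top_of_isUnit_mem _ hx hunit)
  have hq : q ∈ Module.support A M := by rw [hsupp]; trivial
  rw [Module.mem_support_iff, ← not_subsingleton_iff_nontrivial,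
    LocalizedModule.subsingleton_iff] at hq
  apply hq
  intro m
  obtain ⟨s', hs'q, hs'⟩ := hq' (LocalizedModule.mk m 1)
  obtain ⟨s, t, rfl⟩ := IsLocalization.exists_mk'_eq p.primeCompl s'
  have hsq : s ∉ q.asIdeal := by
    intro hs
    apply hs'q
    show IsLocalization.mk' (Localization.AtPrime p) s t ∈ q'.asIdeal
    rw [IsLocalization.mk'_eq_mul_mk'_one]
    exact Ideal.mul_mem_right _ _ hs
  have h1 : IsLocalization.mk' (Localization.AtPrime p) s t •
      (LocalizedModule.mk m (1 : p.primeCompl)) = LocalizedModule.mk (s • m) t := by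
    rw [← Localization.mk_eq_mk', LocalizedModule.mk_smul_mk, mul_one]
  rw [h1] at hs'
  rw [← LocalizedModule.zero_mk (1 : p.primeCompl), LocalizedModule.mk_eq] at hs'
  obtain ⟨u, hu⟩ := hs'
  simp only [one_smul, smul_zero] at hu
  refine ⟨u.1 * s, fun h => (q.2.mem_or_mem h).elim (fun h' => u.2 (hqp h')) hsq, ?_⟩
  rw [mul_smul]
  exact hu

theorem supportDim_localized_eq_height (hsupp : Module.support A M = Set.univ) (p : Ideal A)
    [p.IsPrime] :
    Module.supportDim (Localization.AtPrime p) (LocalizedModule p.primeCompl M) =
      (p.height : WithBot ℕ∞) := by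
  rw [Module.supportDim, support_localized_eq_univ hsupp p,
    ← IsLocalization.AtPrime.ringKrullDim_eq_height p (Localization.AtPrime p)]
  exact Order.krullDim_eq_of_orderIso OrderIso.Set.univ

end Groth.Agent.Lib.Helper7.SupportLoc
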