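import Mathlib.RingTheory.Ideal.KrullsHeightTheorem
import Mathlib.RingTheory.Ideal.Height
import Mathlib.RingTheory.Ideal.MinimalPrime.Noetherian
import Mathlib.Topology.JacobsonSpace
import Mathlib.Topology.NoetherianSpace
import Mathlib.Topology.LocallyClosed
import Mathlib.RingTheory.Spectrum.Prime.Topology
import Mathlib.RingTheory.Spectrum.Prime.Noetherian
import Mathlib.RingTheory.Spectrum.Maximal.Basic
import Mathlib.RingTheory.KrullDimension.Field

/-!
# Noetherian domains with an element in every nonzero prime; punctured spectra are Jacobson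
-/

set_option autoImplicit false
set_option linter.unusedVariables false
set_option linter.style.haveILetI false

namespace Groth.Agent.Lib.Helper7.JacPunct

section L1

variable {D : Type*} [CommRing D] [IsDomain D] [IsNoetherianRing D]

/-- In a Noetherian domain with a nonzero element `f` lying in every nonzero prime, every nonzero
maximal ideal is a minimal prime over `(f)`, hence of height at most one. -/
theorem maximal_mem_minimalPrimes (f : D) (hf0 : f ≠ 0)
    (hf : ∀ P : Ideal D, P.IsPrime → P ≠ ⊥ → f ∈ P) (m : Ideal D) (hm : m.IsMaximal)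
    (hm0 : m ≠ ⊥) : m ∈ (Ideal.span {f}).minimalPrimes := by
  classical
  have hfm : f ∈ m := hf m hm.isPrime hm0
  have hfin := Ideal.finite_minimalPrimes_of_isNoetherianRing D (Ideal.span {f})
  have hsub : (m : Set D) ⊆ ⋃ Q ∈ (hfin.toFinset : Set (Ideal D)), (Q : Set D) := by
    intro y hym
    simp only [Set.mem_iUnion]
    by_cases hy0 : y = 0
    · obtain ⟨Q1, hQ1, -⟩ := Ideal.exists_minimalPrimes_le
        ((Ideal.span_singleton_le_iff_mem _).2 hfm : Ideal.span {f} ≤ m)
      exact ⟨Q1, by simpa using hQ1, by rw [hy0]; exact Q1.zero_mem⟩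
    · obtain ⟨Q, hQmin, -⟩ := Ideal.exists_minimalPrimes_le
        ((Ideal.span_singleton_le_iff_mem _).2 hym : Ideal.span {y} ≤ m)
      haveI := hQmin.1.1
      have hyQ : y ∈ Q := hQmin.1.2 (Ideal.mem_span_singleton_self y)
      have hQht : Q.height ≤ 1 :=
        Ideal.height_le_one_of_isPrincipal_of_mem_minimalPrimes (Ideal.span {y}) Q hQmin
      have hQ0 : Q ≠ ⊥ := by
        intro h
        rw [h, Ideal.mem_bot] at hyQ
        exact hy0 hyQ
      have hfQ := hf Q hQmin.1.1 hQ0
      obtain ⟨Q1, hQ1, hQ1Q⟩ := Ideal.exists_minimalPrimes_le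
        ((Ideal.span_singleton_le_iff_mem _).2 hfQ : Ideal.span {f} ≤ Q)
      haveI := hQ1.1.1
      have hQ1eq : Q1 = Q := by
        by_contra hne
        have hlt : Q1 < Q := lt_of_le_of_ne hQ1Q hne
        have h1 : Q1.height < Q.height := Ideal.height_strict_mono_of_isPrime_of_isPrime hlt
        have h2 : Q1.height = 0 := by
          have : Q1.height < 1 := lt_of_lt_of_le h1 hQht
          exact Order.lt_one_iff.1 this
        rw [Ideal.height_eq_zero_iff, IsDomain.minimalPrimes_eq_singleton_bot,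
          Set.mem_singleton_iff] at h2
        have hfQ1 : f ∈ Q1 := hQ1.1.2 (Ideal.mem_span_singleton_self f)
        rw [h2, Ideal.mem_bot] at hfQ1
        exact hf0 hfQ1
      exact ⟨Q1, by simpa using hQ1, by rw [hQ1eq]; exact hyQ⟩
  obtain ⟨Q, hQ, hmQ⟩ := (Ideal.subset_union_prime (f := fun Q : Ideal D => Q) ⊥ ⊥
    (fun Q hQ _ _ => (hfin.mem_toFinset.1 hQ).1.1)).1 hsub
  have hQmin := hfin.mem_toFinset.1 hQ
  have : m = Q := hm.eq_of_le hQmin.1.1.ne_top hmQ
  rw [this]
  exact hQmin

theorem maximal_height_le_one (f : D) (hf0 : f ≠ 0)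
    (hf : ∀ P : Ideal D, P.IsPrime → P ≠ ⊥ → f ∈ P) (m : Ideal D) (hm : m.IsMaximal) :
    m.height ≤ 1 := by
  by_cases hm0 : m = ⊥
  · rw [hm0]
    have : (⊥ : Ideal D).height = 0 := by
      rw [Ideal.height_eq_zero_iff, IsDomain.minimalPrimes_eq_singleton_bot]
      rfl
    rw [this]
    exact zero_le
  · haveI := hm.isPrime
    exact Ideal.height_le_one_of_isPrincipal_of_mem_minimalPrimes (Ideal.span {f}) m
      (maximal_mem_minimalPrimes f hf0 hf m hm hm0)

theorem finite_maximal (f : D) (hf0 : f ≠ 0)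
    (hf : ∀ P : Ideal D, P.IsPrime → P ≠ ⊥ → f ∈ P) : {m : Ideal D | m.IsMaximal}.Finite := by
  have hfin := Ideal.finite_minimalPrimes_of_isNoetherianRing D (Ideal.span {f})
  apply (hfin.union (Set.finite_singleton (⊥ : Ideal D))).subset
  intro m hm
  by_cases hm0 : m = ⊥
  · right; exact hm0
  · left; exact maximal_mem_minimalPrimes f hf0 hf m hm hm0

end L1

section L2

variable {A : Type*} [CommRing A] [IsNoetherianRing A]

/-- If `f ∉ q` lies in every prime strictly containing the prime `q`, there is no chain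
`q < q' < q''` of primes. -/
theorem no_chain_of_forall_mem (q : Ideal A) [hq : q.IsPrime] (f : A) (hfq : f ∉ q)
    (hf : ∀ r : Ideal A, r.IsPrime → q < r → f ∈ r)
    (q' q'' : Ideal A) (hq' : q'.IsPrime) (hq'' : q''.IsPrime) (h1 : q < q') (h2 : q' < q'') :
    False := by
  haveI : IsDomain (A ⧸ q) := Ideal.Quotient.isDomain q
  have hsurj : Function.Surjective (Ideal.Quotient.mk q) := Ideal.Quotient.mk_surjective
  have hcm : ∀ r : Ideal A, q ≤ r → (r.map (Ideal.Quotient.mk q)).comap (Ideal.Quotient.mk q) = r := by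
    intro r hr
    rw [Ideal.comap_map_of_surjective _ hsurj, ← RingHom.ker_eq_comap_bot, Ideal.mk_ker,
      sup_eq_left.2 hr]
  have hf0 : Ideal.Quotient.mk q f ≠ 0 := by
    rwa [Ne, Ideal.Quotient.eq_zero_iff_mem]
  have hall : ∀ P : Ideal (A ⧸ q), P.IsPrime → P ≠ ⊥ → Ideal.Quotient.mk q f ∈ P := by
    intro P hP hP0
    have hr : (P.comap (Ideal.Quotient.mk q)).IsPrime := Ideal.IsPrime.comap _
    have hqr : q < P.comap (Ideal.Quotient.mk q) := by
      refine lt_of_le_of_ne ?_ ?_
      · intro a ha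
        rw [Ideal.mem_comap, Ideal.Quotient.eq_zero_iff_mem.2 ha]
        exact P.zero_mem
      · intro heq
        apply hP0
        rw [eq_bot_iff]
        intro b hb
        obtain ⟨a, rfl⟩ := hsurj b
        have : a ∈ P.comap (Ideal.Quotient.mk q) := hb
        rw [← heq] at this
        rw [Ideal.mem_bot, Ideal.Quotient.eq_zero_iff_mem]
        exact this
    exact hf _ hr hqr
  have hker' : RingHom.ker (Ideal.Quotient.mk q) ≤ q' := by rw [Ideal.mk_ker]; exact h1.le
  have hker'' : RingHom.ker (Ideal.Quotient.mk q) ≤ q'' := by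
    rw [Ideal.mk_ker]; exact h1.le.trans h2.le
  haveI hP' : (q'.map (Ideal.Quotient.mk q)).IsPrime :=
    Ideal.map_isPrime_of_surjective hsurj hker'
  haveI hP'' : (q''.map (Ideal.Quotient.mk q)).IsPrime :=
    Ideal.map_isPrime_of_surjective hsurj hker''
  have hlt1 : (⊥ : Ideal (A ⧸ q)) < q'.map (Ideal.Quotient.mk q) := by
    rw [bot_lt_iff_ne_bot]
    intro h
    have := hcm q' h1.le
    rw [h, ← RingHom.ker_eq_comap_bot, Ideal.mk_ker] at this
    exact h1.ne this
  have hlt2 : q'.map (Ideal.Quotient.mk q) < q''.map (Ideal.Quotient.mk q) := by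
    refine lt_of_le_of_ne (Ideal.map_mono h2.le) ?_
    intro h
    have := congrArg (Ideal.comap (Ideal.Quotient.mk q)) h
    rw [hcm q' h1.le, hcm q'' (h1.le.trans h2.le)] at this
    exact h2.ne this
  obtain ⟨m, hm, hle⟩ := Ideal.exists_le_maximal _ hP''.ne_top
  haveI := hm.isPrime
  have hm1 := maximal_height_le_one _ hf0 hall m hm
  haveI : (⊥ : Ideal (A ⧸ q)).IsPrime := Ideal.isPrime_bot
  have e1 := Ideal.height_add_one_le_of_lt_of_isPrime hlt1
  have e2 := Ideal.height_add_one_le_of_lt_of_isPrime hlt2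
  have e3 := Ideal.height_mono hle
  have : (2 : ℕ∞) ≤ 1 := by
    calc (2 : ℕ∞) = 0 + 1 + 1 := by norm_num
      _ ≤ (⊥ : Ideal (A ⧸ q)).height + 1 + 1 := by gcongr; exact zero_le
      _ ≤ (q'.map (Ideal.Quotient.mk q)).height + 1 := by gcongr
      _ ≤ (q''.map (Ideal.Quotient.mk q)).height := e2
      _ ≤ m.height := e3
      _ ≤ 1 := hm1
  exact absurd this (by decide)

end L2

section T

/-- A T0 space that is locally Noetherian and in which every locally closed point is closed is a
Jacobson space. -/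
theorem jacobsonSpace_of_locally_noetherian {U : Type*} [TopologicalSpace U] [T0Space U]
    (hloc : ∀ x : U, ∃ V : Set U, IsOpen V ∧ x ∈ V ∧ TopologicalSpace.NoetherianSpace V)
    (hstar : ∀ x : U, IsLocallyClosed ({x} : Set U) → IsClosed ({x} : Set U)) :
    JacobsonSpace U := by
  rw [jacobsonSpace_iff_locallyClosed]
  intro Z hZne hZ
  obtain ⟨x, hx⟩ := hZne
  obtain ⟨V, hVo, hxV, hVN⟩ := hloc x
  have hW : IsLocallyClosed (Z ∩ V) := hZ.inter hVo.isLocallyClosed
  haveI : TopologicalSpace.NoetherianSpace ↥(Z ∩ V) :=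
    (Topology.IsEmbedding.inclusion (Set.inter_subset_right : Z ∩ V ⊆ V)).isInducing.noetherianSpace
  haveI : Nonempty ↥(Z ∩ V) := ⟨⟨x, hx, hxV⟩⟩
  obtain ⟨w, -, hw⟩ := IsClosed.exists_closed_singleton (X := ↥(Z ∩ V)) isClosed_univ
    Set.univ_nonempty
  obtain ⟨C, hC, hCw⟩ := isClosed_induced_iff.1 hw
  have heq : ({w.1} : Set U) = (Z ∩ V) ∩ C := by
    ext y
    constructor
    · rintro rfl
      refine ⟨w.2, ?_⟩
      have : w ∈ Subtype.val ⁻¹' C := by rw [hCw]; rfl
      exact this
    · rintro ⟨hyW, hyC⟩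
      have : (⟨y, hyW⟩ : ↥(Z ∩ V)) ∈ Subtype.val ⁻¹' C := hyC
      rw [hCw] at this
      have h2 : (⟨y, hyW⟩ : ↥(Z ∩ V)) = w := this
      exact congrArg Subtype.val h2
  have hlc : IsLocallyClosed ({w.1} : Set U) := by
    rw [heq]
    exact hW.inter hC.isLocallyClosed
  exact ⟨w.1, w.2.1, hstar _ hlc⟩

end T

section Star

variable {A : Type*} [CommRing A] [IsNoetherianRing A]

/-- In the spectrum of a Noetherian ring, there is no chain `q < q' < q''` starting at a locally
closed point `q`. -/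
theorem no_chain_of_isLocallyClosed_singleton (q q' q'' : PrimeSpectrum A)
    (hq : IsLocallyClosed ({q} : Set (PrimeSpectrum A))) (h1 : q < q') (h2 : q' < q'') :
    False := by
  obtain ⟨U, Z, hU, hZ, hUZ⟩ := hq
  have hqUZ : q ∈ U ∩ Z := by rw [← hUZ]; rfl
  obtain ⟨I, hI⟩ := (PrimeSpectrum.isClosed_iff_zeroLocus_ideal _).1 hU.isClosed_compl
  have hnot : ¬ ((I : Set A) ⊆ q.asIdeal) := by
    intro h
    have : q ∈ Uᶜ := by rw [hI]; exact h
    exact this hqUZ.1
  obtain ⟨f, hfI, hfq⟩ := Set.not_subset.1 hnot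
  haveI := q.2
  refine no_chain_of_forall_mem q.asIdeal f hfq ?_ q'.asIdeal q''.asIdeal q'.2 q''.2 h1 h2
  intro r hr hqr
  have hrZ : (⟨r, hr⟩ : PrimeSpectrum A) ∈ Z :=
    ((PrimeSpectrum.le_iff_specializes q ⟨r, hr⟩).1 hqr.le).mem_closed hZ hqUZ.2
  have hrU : (⟨r, hr⟩ : PrimeSpectrum A) ∉ U := by
    intro h
    have hmem : (⟨r, hr⟩ : PrimeSpectrum A) ∈ ({q} : Set (PrimeSpectrum A)) := by
      rw [hUZ]; exact ⟨h, hrZ⟩
    have heq : (⟨r, hr⟩ : PrimeSpectrum A) = q := hmem
    have : r = q.asIdeal := congrArg PrimeSpectrum.asIdeal heq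
    exact hqr.ne this.symm
  have hmem : (⟨r, hr⟩ : PrimeSpectrum A) ∈ PrimeSpectrum.zeroLocus (I : Set A) := by
    rw [← hI]; exact hrU
  exact hmem hfI

end Star

section Q

variable {A : Type*} [CommRing A]

/-- If `f` lies in every prime strictly containing the prime `q`, then the image of `f` in `A ⧸ q`
lies in every nonzero prime. -/
theorem forall_mem_quotient (q : Ideal A) (f : A)
    (hf : ∀ r : Ideal A, r.IsPrime → q < r → f ∈ r) :
    ∀ P : Ideal (A ⧸ q), P.IsPrime → P ≠ ⊥ → Ideal.Quotient.mk q f ∈ P := by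
  have hsurj : Function.Surjective (Ideal.Quotient.mk q) := Ideal.Quotient.mk_surjective
  intro P hP hP0
  have hr : (P.comap (Ideal.Quotient.mk q)).IsPrime := Ideal.IsPrime.comap _
  have hqr : q < P.comap (Ideal.Quotient.mk q) := by
    refine lt_of_le_of_ne ?_ ?_
    · intro a ha
      rw [Ideal.mem_comap, Ideal.Quotient.eq_zero_iff_mem.2 ha]
      exact P.zero_mem
    · intro heq
      apply hP0
      rw [eq_bot_iff]
      intro b hb
      obtain ⟨a, rfl⟩ := hsurj b
      have : a ∈ P.comap (Ideal.Quotient.mk q) := hb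
      rw [← heq] at this
      rw [Ideal.mem_bot, Ideal.Quotient.eq_zero_iff_mem]
      exact this
  exact hf _ hr hqr

end Q

section Star2

variable {A : Type*} [CommRing A]

/-- A locally closed point `q` of a prime spectrum admits `f ∉ q` lying in all primes strictly
containing `q`. -/
theorem exists_notMem_forall_mem_of_isLocallyClosed_singleton (q : PrimeSpectrum A)
    (hq : IsLocallyClosed ({q} : Set (PrimeSpectrum A))) :
    ∃ f : A, f ∉ q.asIdeal ∧ ∀ r : Ideal A, r.IsPrime → q.asIdeal < r → f ∈ r := by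
  obtain ⟨U, Z, hU, hZ, hUZ⟩ := hq
  have hqUZ : q ∈ U ∩ Z := by rw [← hUZ]; rfl
  obtain ⟨I, hI⟩ := (PrimeSpectrum.isClosed_iff_zeroLocus_ideal _).1 hU.isClosed_compl
  have hnot : ¬ ((I : Set A) ⊆ q.asIdeal) := by
    intro h
    have : q ∈ Uᶜ := by rw [hI]; exact h
    exact this hqUZ.1
  obtain ⟨f, hfI, hfq⟩ := Set.not_subset.1 hnot
  refine ⟨f, hfq, ?_⟩
  intro r hr hqr
  have hrZ : (⟨r, hr⟩ : PrimeSpectrum A) ∈ Z :=
    ((PrimeSpectrum.le_iff_specializes q ⟨r, hr⟩).1 hqr.le).mem_closed hZ hqUZ.2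
  have hrU : (⟨r, hr⟩ : PrimeSpectrum A) ∉ U := by
    intro h
    have hmem : (⟨r, hr⟩ : PrimeSpectrum A) ∈ ({q} : Set (PrimeSpectrum A)) := by
      rw [hUZ]; exact ⟨h, hrZ⟩
    have heq : (⟨r, hr⟩ : PrimeSpectrum A) = q := hmem
    have : r = q.asIdeal := congrArg PrimeSpectrum.asIdeal heq
    exact hqr.ne this.symm
  have hmem : (⟨r, hr⟩ : PrimeSpectrum A) ∈ PrimeSpectrum.zeroLocus (I : Set A) := by
    rw [← hI]; exact hrU
  exact hmem hfI

end Star2

section SL

variable {D : Type*} [CommRing D] [IsDomain D] [IsNoetherianRing D]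

/-- A Noetherian domain, not a field, with a nonzero element in every nonzero prime is semilocal
of dimension one. -/
theorem semilocal_dim_one (f : D) (hf0 : f ≠ 0)
    (hall : ∀ P : Ideal D, P.IsPrime → P ≠ ⊥ → f ∈ P) (hnf : ¬ IsField D) :
    Finite (MaximalSpectrum D) ∧ ringKrullDim D = 1 := by
  have hfinS := finite_maximal f hf0 hall
  refine ⟨?_, ?_⟩
  · haveI : Finite ↥{m : Ideal D | m.IsMaximal} := hfinS.to_subtype
    exact Finite.of_injective
      (fun m : MaximalSpectrum D =>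
        (⟨m.asIdeal, m.isMaximal⟩ : ↥{m : Ideal D | m.IsMaximal}))
      (fun m m' hmm => MaximalSpectrum.ext (congrArg Subtype.val hmm))
  · apply le_antisymm
    · rw [ringKrullDim_le_iff_isMaximal_height_le]
      intro m hm
      have := maximal_height_le_one f hf0 hall m hm
      exact_mod_cast this
    · rw [ringKrullDim, Order.one_le_krullDim_iff]
      obtain ⟨m, hm⟩ := Ideal.exists_maximal D
      refine ⟨⟨⊥, Ideal.isPrime_bot⟩, ⟨m, hm.isPrime⟩, ?_⟩
      refine lt_of_le_of_ne bot_le ?_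
      intro heq
      have : (⊥ : Ideal D) = m := congrArg PrimeSpectrum.asIdeal heq
      rw [← this] at hm
      exact hnf (Ring.isField_iff_maximal_bot.2 hm)

end SL

end Groth.Agent.Lib.Helper7.JacPunct
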