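import Mathlib.AlgebraicGeometry.AffineScheme
import Mathlib.AlgebraicGeometry.Morphisms.FiniteType
import Mathlib.Topology.Sober
import Mathlib.AlgebraicGeometry.Properties

/-!
# Points of an affine open and primes of its ring of sections
-/

set_option autoImplicit false
set_option linter.unusedVariables false
set_option linter.style.haveILetI false

universe u

namespace Groth.Agent.Lib.Helper7.AffPts

open AlgebraicGeometry CategoryTheory TopologicalSpace Topology

variable {X : Scheme.{u}} {U : X.Opens} (hU : IsAffineOpen U)

include hU in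
theorem mem_primeIdealOf_iff (x : U) (f : Γ(X, U)) :
    f ∈ (hU.primeIdealOf x).asIdeal ↔ (x : X) ∉ X.basicOpen f := by
  rw [hU.primeIdealOf_eq_map_closedPoint x, Scheme.mem_basicOpen X f x.1 x.2]
  show (X.presheaf.germ U x.1 x.2).hom f ∈ IsLocalRing.maximalIdeal _ ↔ _
  rw [IsLocalRing.mem_maximalIdeal, mem_nonunits_iff]

include hU in
theorem primeIdealOf_le_iff (x y : U) :
    hU.primeIdealOf x ≤ hU.primeIdealOf y ↔ (x : X) ⤳ (y : X) := by
  rw [PrimeSpectrum.le_iff_specializes, ← subtype_specializes_iff]
  have hind : IsInducing (hU.isoSpec.hom : ↥U → Spec Γ(X, U)) :=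
    (Scheme.homeoOfIso hU.isoSpec).isInducing
  exact hind.specializes_iff

include hU in
theorem primeIdealOf_injective : Function.Injective hU.primeIdealOf :=
  (Scheme.homeoOfIso hU.isoSpec).injective

include hU in
theorem primeIdealOf_surjective : Function.Surjective hU.primeIdealOf :=
  (Scheme.homeoOfIso hU.isoSpec).surjective

/-- In a scheme, the closure of a point is an irreducible component iff the point has no proper
generization. -/
theorem closure_mem_irreducibleComponents_iff (x : X) :
    closure ({x} : Set X) ∈ irreducibleComponents (X : Type u) ↔ ∀ y : X, y ⤳ x → y = x := by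
  constructor
  · intro h y hy
    have h1 : closure ({x} : Set X) ⊆ closure ({y} : Set X) :=
      Specializes.closure_subset hy
    have h2 : closure ({y} : Set X) ⊆ closure ({x} : Set X) :=
      h.2 isIrreducible_singleton.closure h1
    have h3 : x ⤳ y := specializes_iff_mem_closure.2 (h2 (subset_closure rfl))
    exact (h3.antisymm hy).eq.symm ▸ rfl
  · intro h
    obtain ⟨Z, hZ, hsub⟩ := exists_mem_irreducibleComponents_subset_of_isIrreducible
      (closure ({x} : Set X)) isIrreducible_singleton.closure
    obtain ⟨ξ, hξ⟩ := QuasiSober.sober hZ.1 (isClosed_of_mem_irreducibleComponents Z hZ)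
    have hxZ : x ∈ Z := hsub (subset_closure rfl)
    have hsp : ξ ⤳ x := hξ.specializes hxZ
    have : ξ = x := h ξ hsp
    rw [← this, hξ.def]
    exact hZ

include hU in
/-- A point of an affine open is a maximal point of the scheme iff its prime is minimal. -/
theorem forall_specializes_eq_iff (x : U) :
    (∀ y : X, y ⤳ (x : X) → y = x) ↔ (hU.primeIdealOf x).asIdeal ∈ minimalPrimes Γ(X, U) := by
  rw [← PrimeSpectrum.isMin_iff]
  constructor
  · intro h q hq
    obtain ⟨z, rfl⟩ := primeIdealOf_surjective hU q
    have h1 : (z : X) ⤳ (x : X) := (primeIdealOf_le_iff hU z x).1 hq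
    have h2 : (z : X) = x := h z h1
    have h3 : z = x := Subtype.ext h2
    rw [h3]
  · intro h y hy
    have hyU : y ∈ U := hy.mem_open U.isOpen x.2
    have h1 : hU.primeIdealOf ⟨y, hyU⟩ ≤ hU.primeIdealOf x :=
      (primeIdealOf_le_iff hU ⟨y, hyU⟩ x).2 hy
    have h2 : hU.primeIdealOf x ≤ hU.primeIdealOf ⟨y, hyU⟩ := h h1
    have h3 := primeIdealOf_injective hU (le_antisymm h1 h2)
    exact congrArg Subtype.val h3

end Groth.Agent.Lib.Helper7.AffPts
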