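import Groth.Agent.S2680
import Groth.Agent.Lib.Helper7.AffineDimFormula
import Mathlib.RingTheory.AlgebraicIndependent.TranscendenceBasis

/-!
# Local dimension at closed points of affine algebras, transcendence degree of residue fields
-/

set_option autoImplicit false
set_option linter.unusedVariables false
set_option linter.style.haveILetI false

namespace Groth.Agent.Lib.Helper7.ClosedPtDim

universe u

variable (k : Type u) [Field k] (A : Type u) [CommRing A] [Algebra k A] [Algebra.FiniteType k A]

include k in
/-- In an algebra of finite type over a field, the height of a maximal ideal is the dimension of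
the quotient by some minimal prime contained in it. -/
theorem exists_minimalPrime_dim_eq_height (m : Ideal A) [hm : m.IsMaximal] :
    ∃ q ∈ minimalPrimes A, q ≤ m ∧ ringKrullDim (A ⧸ q) = (m.height : WithBot ℕ∞) := by
  haveI : m.IsPrime := hm.isPrime
  obtain ⟨q, hqm, hqmin, hq⟩ :=
    Groth.Agent.Lib.Helper7.AffDim.exists_isMin_coheight_eq (k := k) A ⟨m, hm.isPrime⟩
  have hmax : IsMax (⟨m, hm.isPrime⟩ : PrimeSpectrum A) := by
    rw [PrimeSpectrum.isMax_iff]; exact hm
  rw [Order.coheight_eq_zero.2 hmax, zero_add] at hq
  refine ⟨q.asIdeal, ?_, hqm, ?_⟩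
  · rw [← PrimeSpectrum.isMin_iff]; exact hqmin
  · rw [Groth.Agent.Lib.Helper7.AffChain.ringKrullDim_quotient_eq_coheight q, hq,
      ← PrimeSpectrum.height_eq_orderHeight]

/-- Transcendence degree of a field algebraic over a finite type domain `S` is the common value
`n` of `dim S`, and of the heights of all maximal ideals of `S`. -/
theorem exists_nat_trdeg_eq (S : Type u) [CommRing S] [IsDomain S] [Algebra k S]
    [Algebra.FiniteType k S] (K : Type u) [Field K] [Algebra k K] [Algebra S K]
    [IsScalarTower k S K] (hinj : Function.Injective (algebraMap S K))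
    [Algebra.IsAlgebraic S K] :
    ∃ n : ℕ, Algebra.trdeg k K = n ∧ ringKrullDim S = n ∧
      ∀ (m : Ideal S) [m.IsMaximal], ringKrullDim (Localization.AtPrime m) = n := by
  obtain ⟨n, h1, h2, h3⟩ := Groth.Agent.S2680.result k S
  refine ⟨n, ?_, h2, h3⟩
  rw [← h1]
  haveI : FaithfulSMul S K := (faithfulSMul_iff_algebraMap_injective _ _).2 hinj
  haveI : FaithfulSMul k S := inferInstance
  have e1 := trdeg_add_eq k S (A := K)
  rw [trdeg_eq_zero (R := S) (A := K), add_zero] at e1
  haveI halgS : Algebra.IsAlgebraic S (FractionRing S) :=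
    (IsFractionRing.comap_isAlgebraic_iff (A := S) (K := FractionRing S)
      (C := FractionRing S)).2 inferInstance
  have e2 := trdeg_add_eq k S (A := FractionRing S)
  rw [trdeg_eq_zero (R := S) (A := FractionRing S), add_zero] at e2
  rw [← e1, ← e2]

end Groth.Agent.Lib.Helper7.ClosedPtDim
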