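import Groth.Prelude.Def_CurvBase
import Groth.Agent.Lib.Helper7.ClosedPointDim
import Groth.Agent.Lib.Helper7.AffinePoints
import Mathlib.AlgebraicGeometry.ResidueField

/-!
# Transcendence degree of residue fields of schemes locally of finite type over a field
-/

set_option autoImplicit false
set_option linter.unusedVariables false
set_option linter.style.haveILetI false

universe u

namespace Groth.Agent.Lib.Helper7.ResTrdeg

open AlgebraicGeometry CategoryTheory TopologicalSpace Topology

variable (k : Type u) [Field k] (X : Scheme.{u}) [X.Over (Spec (CommRingCat.of k))]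

/-- The structure map `k → Γ(X, U)`. -/
noncomputable def kToΓ (U : X.Opens) : k →+* Γ(X, U) :=
  ((X ↘ Spec (CommRingCat.of k)).appLE ⊤ U le_top).hom.comp
    (Scheme.ΓSpecIso (CommRingCat.of k)).inv.hom

theorem germ_kToΓ (U : X.Opens) (x : X) (hx : x ∈ U) (c : k) :
    (X.presheaf.germ U x hx).hom (kToΓ k X U c) = Curv2.stalkMap k X x c := by
  show (X.presheaf.germ U x hx).hom
    (((X ↘ Spec (CommRingCat.of k)).appLE ⊤ U le_top).hom _) = (X.presheaf.germ ⊤ x trivial).hom _
  unfold Scheme.Hom.appLE
  exact X.presheaf.germ_res_apply (homOfLE (le_top : U ≤ ⊤)) x hx _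

theorem finiteType_kToΓ [LocallyOfFiniteType (X ↘ Spec (CommRingCat.of k))] {U : X.Opens}
    (hU : IsAffineOpen U) : (kToΓ k X U).FiniteType := by
  have hsurj : Function.Surjective (Scheme.ΓSpecIso (CommRingCat.of k)).inv.hom :=
    (ConcreteCategory.bijective_of_isIso (Scheme.ΓSpecIso (CommRingCat.of k)).inv).2
  exact RingHom.FiniteType.comp
    ((X ↘ Spec (CommRingCat.of k)).finiteType_appLE (isAffineOpen_top _) hU le_top)
      (RingHom.FiniteType.of_surjective _ hsurj)

/-- The transcendence degree over `k` of the residue field at a point `x` of an affine open `U`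
is `dim Γ(X, U)/𝔭_x`. -/
theorem exists_nat_trdeg_residueField [LocallyOfFiniteType (X ↘ Spec (CommRingCat.of k))]
    {U : X.Opens} (hU : IsAffineOpen U) (x : U) :
    letI := (kToΓ k X U).toAlgebra
    ∃ n : ℕ, @Algebra.trdeg k (X.residueField x) _ _ (Curv2.resAlgebra k X x) = n ∧
      ringKrullDim (Γ(X, U) ⧸ (hU.primeIdealOf x).asIdeal) = n ∧
      ∀ (m : Ideal (Γ(X, U) ⧸ (hU.primeIdealOf x).asIdeal)) [m.IsMaximal],
        ringKrullDim (Localization.AtPrime m) = n := by
  letI algA : Algebra k Γ(X, U) := (kToΓ k X U).toAlgebra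
  haveI ftA : Algebra.FiniteType k Γ(X, U) := finiteType_kToΓ k X hU
  letI algK : Algebra k (X.residueField x) := Curv2.resAlgebra k X x
  set p : Ideal Γ(X, U) := (hU.primeIdealOf x).asIdeal with hp
  haveI : p.IsPrime := (hU.primeIdealOf x).isPrime
  let φ : Γ(X, U) →+* X.residueField x :=
    (X.residue x).hom.comp (X.presheaf.germ U x x.2).hom
  have hker : ∀ a, φ a = 0 ↔ a ∈ p := by
    intro a
    rw [hp, hU.primeIdealOf_eq_map_closedPoint x]
    show IsLocalRing.residue _ ((X.presheaf.germ U x x.2).hom a) = 0 ↔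
      (X.presheaf.germ U x.1 x.2).hom a ∈ IsLocalRing.maximalIdeal _
    rw [IsLocalRing.residue_eq_zero_iff]
  let ψ : Γ(X, U) ⧸ p →+* X.residueField x :=
    Ideal.Quotient.lift p φ (fun a ha => (hker a).2 ha)
  letI algQ : Algebra (Γ(X, U) ⧸ p) (X.residueField x) := ψ.toAlgebra
  haveI tower : IsScalarTower k (Γ(X, U) ⧸ p) (X.residueField x) := by
    apply IsScalarTower.of_algebraMap_eq
    intro c
    show Curv2.resMap k X x c = ψ (Ideal.Quotient.mk p (kToΓ k X U c))
    rw [Ideal.Quotient.lift_mk]
    show (X.residue x).hom (Curv2.stalkMap k X x c) =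
      (X.residue x).hom ((X.presheaf.germ U x x.2).hom (kToΓ k X U c))
    rw [germ_kToΓ]
  have hinj : Function.Injective (algebraMap (Γ(X, U) ⧸ p) (X.residueField x)) := by
    rw [injective_iff_map_eq_zero]
    intro a ha
    obtain ⟨a, rfl⟩ := Ideal.Quotient.mk_surjective a
    have : φ a = 0 := ha
    rw [Ideal.Quotient.eq_zero_iff_mem]
    exact (hker a).1 this
  haveI halg : Algebra.IsAlgebraic (Γ(X, U) ⧸ p) (X.residueField x) := by
    constructor
    intro z
    obtain ⟨z', rfl⟩ := IsLocalRing.residue_surjective (R := X.presheaf.stalk x) z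
    haveI := hU.isLocalization_stalk x
    obtain ⟨⟨a, s⟩, has⟩ := IsLocalization.surj p.primeCompl z'
    have has' : z' * (X.presheaf.germ U x x.2).hom s.1 = (X.presheaf.germ U x x.2).hom a := has
    have hs : (Ideal.Quotient.mk p s.1) ≠ 0 := by
      rw [Ne, Ideal.Quotient.eq_zero_iff_mem]
      exact s.2
    refine ⟨Polynomial.C (Ideal.Quotient.mk p s.1) * Polynomial.X -
      Polynomial.C (Ideal.Quotient.mk p a), ?_, ?_⟩
    · intro h0
      have := congrArg (fun q => Polynomial.coeff q 1) h0
      simp at this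
      exact hs this
    · simp only [map_sub, map_mul, Polynomial.aeval_C, Polynomial.aeval_X]
      show ψ (Ideal.Quotient.mk p s.1) * (X.residue x).hom z' - ψ (Ideal.Quotient.mk p a) = 0
      rw [Ideal.Quotient.lift_mk, Ideal.Quotient.lift_mk]
      show (X.residue x).hom ((X.presheaf.germ U x x.2).hom s.1) * (X.residue x).hom z' -
        (X.residue x).hom ((X.presheaf.germ U x x.2).hom a) = 0
      rw [← has', map_mul]
      ring
  exact Groth.Agent.Lib.Helper7.ClosedPtDim.exists_nat_trdeg_eq k (Γ(X, U) ⧸ p)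
    (X.residueField x) hinj

end Groth.Agent.Lib.Helper7.ResTrdeg
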