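import Groth.Agent.Lib.Helper7.SpecChain
import Groth.Agent.Lib.Helper7.ResFieldTrdeg
import Groth.Agent.Lib.Helper7.AffineDimFormula

/-!
# Dimension of the closure of a point on a scheme locally of finite type over a field
-/

set_option autoImplicit false
set_option linter.unusedVariables false
set_option linter.style.haveILetI false

universe u

namespace Groth.Agent.Lib.Helper7.VarDim

open AlgebraicGeometry CategoryTheory TopologicalSpace Topology
open Groth.Agent.Lib.Helper7.SpecChain Groth.Agent.Lib.Helper7.AffPts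

section Affine

variable {X : Scheme.{u}} {U : X.Opens} (hU : IsAffineOpen U)

include hU in
/-- A chain of points below `η` starting in an affine open `U` bounds `dim Γ(U)/𝔭_η` from
below. -/
theorem chain_le_dim_quotient {m : ℕ} (x : Fin (m + 1) → X) (hc : IsPtChain x) (hx0 : x 0 ∈ U)
    (η : X) (hη : η ⤳ x (Fin.last m)) :
    ∃ hηU : η ∈ U,
      (m : WithBot ℕ∞) ≤ ringKrullDim (Γ(X, U) ⧸ (hU.primeIdealOf ⟨η, hηU⟩).asIdeal) := by
  have hxU : ∀ i, x i ∈ U := fun i => (hc.specializes_zero i).mem_open U.isOpen hx0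
  have hηU : η ∈ U := hη.mem_open U.isOpen (hxU _)
  refine ⟨hηU, ?_⟩
  let q : Fin (m + 1) → PrimeSpectrum Γ(X, U) := fun j => hU.primeIdealOf ⟨x j, hxU j⟩
  let p : LTSeries (PrimeSpectrum Γ(X, U))ᵒᵈ :=
    { length := m
      toFun := fun j => OrderDual.toDual (q j)
      step := by
        intro j
        show OrderDual.toDual (q j.castSucc) < OrderDual.toDual (q j.succ)
        rw [OrderDual.toDual_lt_toDual, lt_iff_le_not_ge]
        exact ⟨(primeIdealOf_le_iff hU _ _).2 (hc j).1,
          fun h => (hc j).2 ((primeIdealOf_le_iff hU _ _).1 h)⟩ }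
  have h1 : (p.length : ℕ∞) ≤ Order.height p.last := Order.length_le_height_last
  have h2 : Order.height p.last = Order.coheight (q (Fin.last m)) := rfl
  have h3 : Order.coheight (q (Fin.last m)) ≤ Order.coheight (hU.primeIdealOf ⟨η, hηU⟩) :=
    Order.coheight_anti ((primeIdealOf_le_iff hU ⟨η, hηU⟩ ⟨_, hxU _⟩).2 hη)
  rw [AffChain.ringKrullDim_quotient_eq_coheight]
  have h4 : ((m : ℕ) : ℕ∞) ≤ Order.coheight (hU.primeIdealOf ⟨η, hηU⟩) := by
    have : (p.length : ℕ∞) = (m : ℕ∞) := rfl
    rw [← this]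
    exact h1.trans (h2 ▸ h3)
  exact_mod_cast h4

include hU in
/-- `dim Γ(U)/𝔭_η ≤ dim closure{η}`. -/
theorem dim_quotient_le (η : X) (hηU : η ∈ U) :
    ringKrullDim (Γ(X, U) ⧸ (hU.primeIdealOf ⟨η, hηU⟩).asIdeal) ≤
      topologicalKrullDim ↥(closure ({η} : Set X)) := by
  rw [AffChain.ringKrullDim_quotient_eq_coheight]
  have h0 : ((0 : ℕ) : WithBot ℕ∞) ≤ topologicalKrullDim ↥(closure ({η} : Set X)) := by
    refine le_dim_of_chain (closure ({η} : Set X)) isClosed_closure (m := 0) (fun _ => η)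
      (fun _ => subset_closure rfl) ?_
    intro i
    exact i.elim0
  have hne : topologicalKrullDim ↥(closure ({η} : Set X)) ≠ ⊥ := by
    intro hbot
    rw [hbot] at h0
    simp at h0
  obtain ⟨d, hd⟩ := WithBot.ne_bot_iff_exists.1 hne
  rw [← hd, WithBot.coe_le_coe, Order.coheight_le_iff]
  intro p hp
  -- points of the chain of primes
  let y : Fin (p.length + 1) → U := fun j => Classical.choose (primeIdealOf_surjective hU (p j))
  have hy : ∀ j, hU.primeIdealOf (y j) = p j := fun j =>
    Classical.choose_spec (primeIdealOf_surjective hU (p j))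
  let x : Fin (p.length + 1) → X := fun j => (y (Fin.rev j)).1
  have hc : IsPtChain x := by
    intro i
    have hstep := p.step (Fin.rev i)
    have e1 : Fin.rev i.succ = (Fin.rev i).castSucc := Fin.rev_succ i
    have e2 : Fin.rev i.castSucc = (Fin.rev i).succ := Fin.rev_castSucc i
    show ((y (Fin.rev i.succ)).1 ⤳ (y (Fin.rev i.castSucc)).1) ∧
      ¬ ((y (Fin.rev i.castSucc)).1 ⤳ (y (Fin.rev i.succ)).1)
    rw [e1, e2, ← primeIdealOf_le_iff hU, ← primeIdealOf_le_iff hU, hy, hy]
    exact ⟨hstep.le, hstep.not_ge⟩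
  have hxT : ∀ i, x i ∈ closure ({η} : Set X) := by
    intro i
    rw [← specializes_iff_mem_closure]
    have : hU.primeIdealOf ⟨η, hηU⟩ ≤ hU.primeIdealOf (y (Fin.rev i)) := by
      rw [hy]
      exact hp.trans (LTSeries.head_le p _)
    exact (primeIdealOf_le_iff hU ⟨η, hηU⟩ (y (Fin.rev i))).1 this
  have := le_dim_of_chain (closure ({η} : Set X)) isClosed_closure x hxT hc
  rw [← hd] at this
  exact_mod_cast this

end Affine

section Field

variable (k : Type u) [Field k] (X : Scheme.{u}) [X.Over (Spec (CommRingCat.of k))]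
  [LocallyOfFiniteType (X ↘ Spec (CommRingCat.of k))]

include k in
/-- On a scheme locally of finite type over a field, `dim Γ(U)/𝔭_η` does not depend on the affine
open neighbourhood `U` of `η`. -/
theorem dim_quotient_indep (η : X) {U U' : X.Opens} (hU : IsAffineOpen U) (hU' : IsAffineOpen U')
    (hηU : η ∈ U) (hηU' : η ∈ U') :
    ringKrullDim (Γ(X, U) ⧸ (hU.primeIdealOf ⟨η, hηU⟩).asIdeal) =
      ringKrullDim (Γ(X, U') ⧸ (hU'.primeIdealOf ⟨η, hηU'⟩).asIdeal) := by
  obtain ⟨n, hn1, hn2, -⟩ := ResTrdeg.exists_nat_trdeg_residueField k X hU ⟨η, hηU⟩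
  obtain ⟨n', hn1', hn2', -⟩ := ResTrdeg.exists_nat_trdeg_residueField k X hU' ⟨η, hηU'⟩
  have hnn : n = n' := by
    have : (n : Cardinal) = n' := hn1.symm.trans hn1'
    exact_mod_cast this
  rw [hn2, hn2', hnn]

include k in
/-- **The dimension of the closure of a point** of a scheme locally of finite type over a field is
`dim Γ(U)/𝔭_η` for any affine open neighbourhood `U` of `η`. -/
theorem dim_closure_eq (η : X) {U : X.Opens} (hU : IsAffineOpen U) (hηU : η ∈ U) :
    topologicalKrullDim ↥(closure ({η} : Set X)) =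
      ringKrullDim (Γ(X, U) ⧸ (hU.primeIdealOf ⟨η, hηU⟩).asIdeal) := by
  apply le_antisymm ?_ (dim_quotient_le hU η hηU)
  apply dim_le_of_chains _ isClosed_closure
  intro m x hx hc
  obtain ⟨U', hU', hxU', -⟩ :=
    exists_isAffineOpen_mem_and_subset (X := X) (x := x 0) (U := ⊤) (by simp)
  obtain ⟨hηU', hle⟩ := chain_le_dim_quotient hU' x hc hxU' η
    (specializes_iff_mem_closure.2 (hx _))
  rw [dim_quotient_indep k X η hU hU' hηU hηU']
  exact hle

include k in
/-- the dimension of the closure of a point is the transcendence degree of its residue field -/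
theorem exists_nat_dim_closure_eq (η : X) :
    ∃ n : ℕ, @Algebra.trdeg k (X.residueField η) _ _ (Curv2.resAlgebra k X η) = n ∧
      topologicalKrullDim ↥(closure ({η} : Set X)) = n := by
  obtain ⟨U, hU, hηU, -⟩ :=
    exists_isAffineOpen_mem_and_subset (X := X) (x := η) (U := ⊤) (by simp)
  obtain ⟨n, hn1, hn2, -⟩ := ResTrdeg.exists_nat_trdeg_residueField k X hU ⟨η, hηU⟩
  exact ⟨n, hn1, by rw [dim_closure_eq k X η hU hηU, hn2]⟩

end Field

end Groth.Agent.Lib.Helper7.VarDim
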