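import Groth.Agent.Lib.Helper7.NoetherNormInt
import Mathlib.RingTheory.AlgebraicIndependent.TranscendenceBasis
import Mathlib.RingTheory.NoetherNormalization

/-!
# Algebraically independent elements bound the Krull dimension from below
-/

set_option autoImplicit false
set_option linter.unusedVariables false
set_option linter.style.haveILetI false
set_option maxSynthPendingDepth 3

namespace Groth.Agent.Lib.Helper7.DimTrdeg

open Cardinal

universe u v

/-- A domain of finite type over a field containing `t` algebraically independent elements has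
Krull dimension at least `t`. -/
theorem le_ringKrullDim_of_algebraicIndependent_of_isDomain {k : Type u} {D : Type v} [Field k]
    [CommRing D] [IsDomain D] [Algebra k D] [Algebra.FiniteType k D] {t : ℕ} (x : Fin t → D)
    (hx : AlgebraicIndependent k x) : ((t : ℕ∞) : WithBot ℕ∞) ≤ ringKrullDim D := by
  classical
  obtain ⟨s, g, hginj, hgfin⟩ := exists_finite_inj_algHom_of_fg k D
  have hdim : ringKrullDim D = ((s : ℕ∞) : WithBot ℕ∞) := by
    rw [NNInt.ringKrullDim_eq_of_injective_isIntegral g.toRingHom hginj hgfin.to_isIntegral]
    exact NNInt.ringKrullDim_mvPolynomial_fin k s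
  have h1 := hx.lift_cardinalMk_le_trdeg
  set S : Set D := Set.range (fun i : Fin s => g (MvPolynomial.X i)) with hS
  have hadj : Algebra.adjoin k S = g.range := by
    have h := AlgHom.map_adjoin g (Set.range (MvPolynomial.X : Fin s → MvPolynomial (Fin s) k))
    rw [MvPolynomial.adjoin_range_X, Algebra.map_top, ← Set.range_comp] at h
    rw [h]
    rfl
  have halg : Algebra.IsAlgebraic (Algebra.adjoin k S) D := by
    rw [hadj]
    have : Algebra.IsIntegral g.range D := by
      refine ⟨fun d => ?_⟩
      obtain ⟨p, hpm, hp⟩ := hgfin.to_isIntegral d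
      refine ⟨p.map g.rangeRestrict.toRingHom, hpm.map _, ?_⟩
      rw [Polynomial.eval₂_map]
      have hc : (algebraMap (↥g.range) D).comp g.rangeRestrict.toRingHom = g.toRingHom :=
        RingHom.ext fun _ => rfl
      rw [hc]
      exact hp
    infer_instance
  have h2 : Algebra.trdeg k D ≤ #S := Algebra.IsAlgebraic.trdeg_le_cardinalMk k S
  have h3 : #S ≤ lift.{v} #(Fin s) := by
    simpa using Cardinal.mk_range_le_lift (f := fun i : Fin s => g (MvPolynomial.X i))
  have h4 : (t : Cardinal.{v}) ≤ (s : Cardinal.{v}) := by
    have := h1.trans (Cardinal.lift_le.2 (h2.trans h3))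
    simpa using this
  rw [hdim]
  exact_mod_cast h4

/-- A finite type algebra over a field containing `t` algebraically independent elements has
Krull dimension at least `t`. -/
theorem le_ringKrullDim_of_algebraicIndependent {k : Type u} {F : Type v} [Field k]
    [CommRing F] [Algebra k F] [Algebra.FiniteType k F] {t : ℕ} (x : Fin t → F)
    (hx : AlgebraicIndependent k x) : ((t : ℕ∞) : WithBot ℕ∞) ≤ ringKrullDim F := by
  classical
  set M : Submonoid F := Submonoid.map
    (MvPolynomial.aeval x : MvPolynomial (Fin t) k →ₐ[k] F)
    (nonZeroDivisors (MvPolynomial (Fin t) k)) with hM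
  have hinj : Function.Injective (MvPolynomial.aeval x : MvPolynomial (Fin t) k →ₐ[k] F) := hx
  have hdisj : Disjoint ((⊥ : Ideal F) : Set F) M := by
    rw [Set.disjoint_left]
    rintro y hy ⟨f, hf, rfl⟩
    have hy0 : MvPolynomial.aeval x f = 0 := by simpa using hy
    have : f = 0 := hinj (by rw [hy0, map_zero])
    exact nonZeroDivisors.ne_zero hf this
  obtain ⟨P, hP, -, hPM⟩ := Ideal.exists_le_prime_disjoint ⊥ M hdisj
  have hx' : AlgebraicIndependent k (fun i => Ideal.Quotient.mk P (x i)) := by
    unfold AlgebraicIndependent
    have hcomp : (MvPolynomial.aeval (fun i => Ideal.Quotient.mk P (x i)) :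
        MvPolynomial (Fin t) k →ₐ[k] F ⧸ P) =
        (Ideal.Quotient.mkₐ k P).comp (MvPolynomial.aeval x) := by
      apply MvPolynomial.algHom_ext
      intro i
      simp
    rw [hcomp, injective_iff_map_eq_zero]
    intro f hf
    by_contra hne
    have h1 : MvPolynomial.aeval x f ∈ P := by
      rw [AlgHom.comp_apply, Ideal.Quotient.mkₐ_eq_mk, Ideal.Quotient.eq_zero_iff_mem] at hf
      exact hf
    have h2 : MvPolynomial.aeval x f ∈ M := ⟨f, mem_nonZeroDivisors_of_ne_zero hne, rfl⟩
    exact Set.disjoint_left.1 hPM h1 h2
  have := le_ringKrullDim_of_algebraicIndependent_of_isDomain _ hx'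
  exact this.trans (ringKrullDim_le_of_surjective _ Ideal.Quotient.mk_surjective)

/-- An injective ring map of finite type from a polynomial ring in `t` variables over a field
forces Krull dimension at least `t`. -/
theorem le_ringKrullDim_of_injective {k : Type u} {F : Type v} [Field k] [CommRing F] {t : ℕ}
    (ι : MvPolynomial (Fin t) k →+* F) (hinj : Function.Injective ι) (hft : ι.FiniteType) :
    ((t : ℕ∞) : WithBot ℕ∞) ≤ ringKrullDim F := by
  letI : Algebra k F := (ι.comp MvPolynomial.C).toAlgebra
  let ι' : MvPolynomial (Fin t) k →ₐ[k] F := { ι with commutes' := fun r => rfl }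
  have : Algebra.FiniteType k F := by
    have h1 : (algebraMap k F).FiniteType :=
      RingHom.FiniteType.comp hft (RingHom.finiteType_algebraMap.2 inferInstance)
    exact RingHom.finiteType_algebraMap.1 h1
  have hx : AlgebraicIndependent k (fun i => ι (MvPolynomial.X i)) := by
    unfold AlgebraicIndependent
    have : (MvPolynomial.aeval (fun i => ι (MvPolynomial.X i))) = ι' := by
      apply MvPolynomial.algHom_ext
      intro i
      simp [ι']
    rw [this]
    exact hinj
  exact le_ringKrullDim_of_algebraicIndependent _ hx

end Groth.Agent.Lib.Helper7.DimTrdeg
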