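import Groth.Agent.Lib.Helper7.AffineDimFormula
import Mathlib.RingTheory.Localization.Ideal
import Mathlib.RingTheory.Ideal.Height
import Mathlib.RingTheory.Ideal.Over

/-!
# `dim (D_P / Q D_P) + dim D/P = dim D/Q` for primes `Q ≤ P` of an affine algebra
-/

set_option autoImplicit false
set_option linter.unusedVariables false
set_option linter.style.haveILetI false

universe u v w

namespace Groth.Agent.Lib.Helper7.LocQuotDim

variable {k : Type u} [Field k] (D : Type v) [CommRing D] [Algebra k D] [Algebra.FiniteType k D]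
  (A : Type w) [CommRing A] [Algebra D A]

theorem comap_map_mk_of_le (P Q : Ideal D) (hQP : Q ≤ P) :
    (P.map (Ideal.Quotient.mk Q)).comap (Ideal.Quotient.mk Q) = P := by
  rw [Ideal.comap_map_of_surjective _ Ideal.Quotient.mk_surjective, ← RingHom.ker_eq_comap_bot,
    Ideal.mk_ker]
  exact sup_eq_left.2 hQP

theorem algebraMapSubmonoid_primeCompl (P Q : Ideal D) [P.IsPrime] (hQP : Q ≤ P)
    [(P.map (Ideal.Quotient.mk Q)).IsPrime] :
    Algebra.algebraMapSubmonoid (D ⧸ Q) P.primeCompl =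
      (P.map (Ideal.Quotient.mk Q)).primeCompl := by
  have hc := comap_map_mk_of_le D P Q hQP
  ext x
  constructor
  · rintro ⟨a, ha, rfl⟩
    show (Ideal.Quotient.mk Q a) ∉ P.map (Ideal.Quotient.mk Q)
    intro hmem
    have : a ∈ (P.map (Ideal.Quotient.mk Q)).comap (Ideal.Quotient.mk Q) := hmem
    rw [hc] at this
    exact ha this
  · intro hx
    obtain ⟨a, rfl⟩ := Ideal.Quotient.mk_surjective x
    refine ⟨a, ?_, rfl⟩
    intro haP
    exact hx (Ideal.mem_map_of_mem _ haP)

include k in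
theorem dim_localization_quotient_add (P Q : Ideal D) [hP : P.IsPrime] [hQ : Q.IsPrime]
    (hQP : Q ≤ P) [IsLocalization.AtPrime A P] :
    ringKrullDim (A ⧸ Q.map (algebraMap D A)) + ringKrullDim (D ⧸ P) = ringKrullDim (D ⧸ Q) := by
  haveI hP' : (P.map (Ideal.Quotient.mk Q)).IsPrime :=
    Ideal.map_isPrime_of_surjective Ideal.Quotient.mk_surjective (by rw [Ideal.mk_ker]; exact hQP)
  haveI : IsLocalization.AtPrime (A ⧸ Q.map (algebraMap D A)) (P.map (Ideal.Quotient.mk Q)) := by
    unfold IsLocalization.AtPrime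
    rw [← algebraMapSubmonoid_primeCompl D P Q hQP]
    infer_instance
  have h1 := IsLocalization.AtPrime.ringKrullDim_eq_height (P.map (Ideal.Quotient.mk Q))
    (A ⧸ Q.map (algebraMap D A))
  have h2 := AffDim.height_add_dim_quotient (k := k) (D ⧸ Q) (P.map (Ideal.Quotient.mk Q))
  have h3 : ringKrullDim ((D ⧸ Q) ⧸ P.map (Ideal.Quotient.mk Q)) = ringKrullDim (D ⧸ P) :=
    ringKrullDim_eq_of_ringEquiv (DoubleQuot.quotQuotEquivQuotOfLE hQP)
  rw [h1, ← h3, h2]

end Groth.Agent.Lib.Helper7.LocQuotDim
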