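import Mathlib.Topology.KrullDimension
import Mathlib.Topology.NoetherianSpace
import Mathlib.Topology.Irreducible
import Mathlib.Topology.JacobsonSpace

/-!
# Topological Krull dimension and irreducible components

* `topologicalKrullDim_le_of_forall_component`: the dimension of a space is bounded by any bound
  on the dimensions of its irreducible components.
* `liftIrr`: irreducible closed subsets inside a closed subset, as irreducible closed subsets of
  the subspace.
-/

set_option autoImplicit false

namespace Groth.Agent.Lib.Helper7.TopDimComp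

open TopologicalSpace Topology

variable {X : Type*} [TopologicalSpace X]

/-- The preimage in a subspace `S` of a preirreducible set contained in `S` is preirreducible. -/
theorem isPreirreducible_preimage_val {S Z : Set X} (hZ : IsPreirreducible Z) (hZS : Z ⊆ S) :
    IsPreirreducible ((Subtype.val : S → X) ⁻¹' Z) := by
  intro u v hu hv ⟨a, haZ, hau⟩ ⟨b, hbZ, hbv⟩
  obtain ⟨u', hu', rfl⟩ := isOpen_induced_iff.1 hu
  obtain ⟨v', hv', rfl⟩ := isOpen_induced_iff.1 hv
  obtain ⟨c, hcZ, hcu, hcv⟩ := hZ u' v' hu' hv' ⟨a.1, haZ, hau⟩ ⟨b.1, hbZ, hbv⟩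
  exact ⟨⟨c, hZS hcZ⟩, hcZ, hcu, hcv⟩

/-- An irreducible closed subset contained in `S`, viewed in the subspace `S`. -/
def liftIrr (S : Set X) (Z : IrreducibleCloseds X) (hZS : (Z : Set X) ⊆ S) :
    IrreducibleCloseds ↥S where
  carrier := (Subtype.val : S → X) ⁻¹' (Z : Set X)
  isIrreducible' := by
    refine ⟨?_, isPreirreducible_preimage_val Z.isIrreducible.isPreirreducible hZS⟩
    obtain ⟨z, hz⟩ := Z.isIrreducible.nonempty
    exact ⟨⟨z, hZS hz⟩, hz⟩
  isClosed' := Z.isClosed.preimage continuous_subtype_val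

theorem liftIrr_lt {S : Set X} {Z Z' : IrreducibleCloseds X} (hZS : (Z : Set X) ⊆ S)
    (hZ'S : (Z' : Set X) ⊆ S) (h : Z < Z') : liftIrr S Z hZS < liftIrr S Z' hZ'S := by
  rw [lt_iff_le_and_ne]
  refine ⟨fun a ha => h.le ha, fun heq => h.ne ?_⟩
  apply IrreducibleCloseds.ext
  have h1 : ((liftIrr S Z hZS : IrreducibleCloseds ↥S) : Set ↥S) =
      ((liftIrr S Z' hZ'S : IrreducibleCloseds ↥S) : Set ↥S) := by rw [heq]
  ext z
  constructor
  · intro hz
    have : (⟨z, hZS hz⟩ : ↥S) ∈ ((liftIrr S Z hZS : IrreducibleCloseds ↥S) : Set ↥S) := hz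
    rw [h1] at this
    exact this
  · intro hz
    have : (⟨z, hZ'S hz⟩ : ↥S) ∈ ((liftIrr S Z' hZ'S : IrreducibleCloseds ↥S) : Set ↥S) := hz
    rw [← h1] at this
    exact this

/-- A chain of irreducible closed subsets all contained in `S` has length at most `dim S`. -/
theorem length_le_of_last_subset (S : Set X) (p : LTSeries (IrreducibleCloseds X))
    (hp : (p.last : Set X) ⊆ S) : (p.length : WithBot ℕ∞) ≤ topologicalKrullDim ↥S := by
  have hsub : ∀ i, ((p i : IrreducibleCloseds X) : Set X) ⊆ S := fun i a ha =>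
    hp ((show (p i : IrreducibleCloseds X) ≤ p.last from LTSeries.monotone p (Fin.le_last i)) ha)
  let q : LTSeries (IrreducibleCloseds ↥S) :=
    { length := p.length
      toFun := fun i => liftIrr S (p i) (hsub i)
      step := fun i => liftIrr_lt (hsub _) (hsub _) (p.step i) }
  exact Order.LTSeries.length_le_krullDim q

/-- The dimension of a space is bounded by any common bound on the dimensions of its irreducible
components. -/
theorem topologicalKrullDim_le_of_forall_component (B : WithBot ℕ∞)
    (h : ∀ X' ∈ irreducibleComponents X, topologicalKrullDim ↥X' ≤ B) :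
    topologicalKrullDim X ≤ B := by
  unfold topologicalKrullDim Order.krullDim
  apply iSup_le
  intro p
  obtain ⟨X', hX', hsub⟩ :=
    exists_mem_irreducibleComponents_subset_of_isIrreducible _ p.last.isIrreducible
  exact (length_le_of_last_subset X' p hsub).trans (h X' hX')

/-- In a Jacobson space, a nonempty locally closed subset contains a closed point. -/
theorem exists_isClosed_singleton_mem_of_isOpen_inter [JacobsonSpace X] {Z U : Set X}
    (hZ : IsClosed Z) (hU : IsOpen U) (hne : (Z ∩ U).Nonempty) :
    ∃ x ∈ Z ∩ U, IsClosed ({x} : Set X) := by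
  obtain ⟨y, hyZ, hyU⟩ := hne
  have hcl : closure (Z ∩ closedPoints X) = Z := JacobsonSpace.closure_inter_closedPoints hZ
  have hy : y ∈ closure (Z ∩ closedPoints X) := by rw [hcl]; exact hyZ
  obtain ⟨x, hxU, hxZ, hxc⟩ := mem_closure_iff.1 hy U hU hyU
  exact ⟨x, ⟨hxZ, hxU⟩, hxc⟩

end Groth.Agent.Lib.Helper7.TopDimComp
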