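import Mathlib.RingTheory.Flat.Basic
import Mathlib.LinearAlgebra.TensorProduct.Quotient
import Mathlib.RingTheory.Artinian.Ring
import Mathlib.RingTheory.HopkinsLevitzki
import Mathlib.RingTheory.LocalRing.MaximalIdeal.Basic
import Mathlib.RingTheory.Ideal.Operations
import Mathlib.LinearAlgebra.Isomorphisms

/-!
# Endomorphisms of deformations of a module with only scalar endomorphisms

`R` an Artinian local `K`-algebra with residue field `K`, `F` a flat `R`-module with a commuting
`D`-action, `θ : F → E` identifying `F / m F` with `E`, `End_D(E) = K`.  Then every `R`- and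
`D`-linear endomorphism of `F` is multiplication by a unique element of `R`.
-/

set_option autoImplicit false
set_option linter.unusedSectionVars false
set_option linter.unusedVariables false
set_option linter.style.haveILetI false

namespace Groth.Agent.Lib.Helper7.DefMod

open scoped TensorProduct

section flat

variable {R : Type*} [CommRing R] {F : Type*} [AddCommGroup F] [Module R F]

/-- the colon ideal `(J : t)` -/
def colonElt (J : Ideal R) (t : R) : Ideal R := Submodule.comap (LinearMap.mulLeft R t) J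

lemma mem_colonElt {J : Ideal R} {t a : R} : a ∈ colonElt J t ↔ t * a ∈ J := Iff.rfl

/-- for a flat module, `t z ∈ J F` implies `z ∈ (J : t) F` -/
theorem mem_colon_smul_of_flat [Module.Flat R F] (J : Ideal R) (t : R) (z : F)
    (h : t • z ∈ J • (⊤ : Submodule R F)) : z ∈ colonElt J t • (⊤ : Submodule R F) := by
  set C := colonElt J t with hC
  have hle : C ≤ LinearMap.ker (J.mkQ.comp (LinearMap.mulLeft R t)) := by
    intro a ha
    rw [LinearMap.mem_ker, LinearMap.comp_apply, Submodule.mkQ_apply,
      Submodule.Quotient.mk_eq_zero]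
    exact ha
  let μ : R ⧸ C →ₗ[R] R ⧸ J := C.liftQ (J.mkQ.comp (LinearMap.mulLeft R t)) hle
  have hμ : Function.Injective μ := by
    rw [← LinearMap.ker_eq_bot]
    apply Submodule.ker_liftQ_eq_bot
    intro a ha
    rw [LinearMap.mem_ker, LinearMap.comp_apply, Submodule.mkQ_apply,
      Submodule.Quotient.mk_eq_zero] at ha
    exact ha
  have hinj := Module.Flat.rTensor_preserves_injective_linearMap (M := F) μ hμ
  have hμ1 : μ 1 = Ideal.Quotient.mk J t := by
    change μ (Submodule.Quotient.mk 1) = _
    rw [Submodule.liftQ_apply, LinearMap.comp_apply, LinearMap.mulLeft_apply, mul_one]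
    rfl
  have h1 : (μ.rTensor F) ((1 : R ⧸ C) ⊗ₜ[R] z) = 0 := by
    rw [LinearMap.rTensor_tmul, hμ1]
    apply (TensorProduct.quotTensorEquivQuotSMul F J).injective
    rw [TensorProduct.quotTensorEquivQuotSMul_mk_tmul, map_zero, Submodule.Quotient.mk_eq_zero]
    exact h
  have h2 : ((1 : R ⧸ C) ⊗ₜ[R] z) = 0 := hinj (by rw [h1, map_zero])
  have h3 := congrArg (TensorProduct.quotTensorEquivQuotSMul F C) h2
  rw [TensorProduct.quotTensorEquivQuotSMul_mk_one_tmul, map_zero,
    Submodule.Quotient.mk_eq_zero] at h3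
  exact h3

end flat

section main

variable {K : Type*} [Field K] {R : Type*} [CommRing R] [Algebra K R] [IsLocalRing R]
  [IsArtinianRing R] (res : R →ₐ[K] K)
  (hm : ∀ a : R, a ∈ IsLocalRing.maximalIdeal R ↔ res a = 0)
  {D : Type*} [Ring D]
  {E : Type*} [AddCommGroup E] [Module K E] [Module D E] [Nontrivial E]
  (hE : ∀ ψ : E →ₗ[D] E, ∃ c : K, ∀ y : E, ψ y = c • y)
  {F : Type*} [AddCommGroup F] [Module R F] [Module D F] [SMulCommClass R D F] [Module.Flat R F]
  (θ : F →ₗ[D] E) (hθ : ∀ (r : R) (x : F), θ (r • x) = res r • θ x)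
  (hsurj : Function.Surjective θ)
  (hker : ∀ x : F, θ x = 0 ↔ x ∈ IsLocalRing.maximalIdeal R • (⊤ : Submodule R F))

include hE hsurj in
/-- a `D`-linear map `F → E` killing `ker θ` is a scalar multiple of `θ` -/
lemma exists_scalar (Ψ : F →ₗ[D] E) (hΨ : ∀ x, θ x = 0 → Ψ x = 0) :
    ∃ c : K, ∀ x, Ψ x = c • θ x := by
  have hle : LinearMap.ker θ ≤ LinearMap.ker Ψ := fun x hx => hΨ x hx
  let g : E →ₗ[D] E := ((LinearMap.ker θ).liftQ Ψ hle).comp
    (θ.quotKerEquivOfSurjective hsurj).symm.toLinearMap
  obtain ⟨c, hc⟩ := hE g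
  refine ⟨c, fun x => ?_⟩
  rw [← hc]
  have h1 : (θ.quotKerEquivOfSurjective hsurj).symm (θ x) = Submodule.Quotient.mk x := by
    rw [LinearEquiv.symm_apply_eq]
    rfl
  change Ψ x = ((LinearMap.ker θ).liftQ Ψ hle) ((θ.quotKerEquivOfSurjective hsurj).symm (θ x))
  rw [h1, Submodule.liftQ_apply]

/-- `D` preserves `J F` -/
lemma smul_mem_ideal_smul (J : Ideal R) (d : D) (w : F)
    (hw : w ∈ J • (⊤ : Submodule R F)) : d • w ∈ J • (⊤ : Submodule R F) := by
  refine Submodule.smul_induction_on hw (fun a ha y _ => ?_) (fun x y hx hy => ?_)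
  · rw [← smul_comm a d y]
    exact Submodule.smul_mem_smul ha Submodule.mem_top
  · rw [smul_add]
    exact add_mem hx hy

/-- the approximation property: `φ` is multiplication by some `r` modulo `I F` -/
def Approx (φ : F →ₗ[R] F) (I : Ideal R) : Prop :=
  ∃ r : R, ∀ x : F, φ x - r • x ∈ I • (⊤ : Submodule R F)

include hm hE hθ hsurj hker in
lemma approx_step (φ : F →ₗ[R] F) (hφ : ∀ (d : D) (x : F), φ (d • x) = d • φ x)
    (I : Ideal R) (hI : I ≠ ⊥) (h : Approx φ I) : ∃ I' : Ideal R, I' < I ∧ Approx φ I' := by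
  classical
  -- a maximal proper subideal
  let S : Set (Ideal R) := {J | J < I}
  have hS : S.Nonempty := ⟨⊥, bot_lt_iff_ne_bot.2 hI⟩
  obtain ⟨I', hI'S, hmax⟩ :=
    (wellFounded_gt : WellFounded ((· > ·) : Ideal R → Ideal R → Prop)).has_min S hS
  have hI'lt : I' < I := hI'S
  obtain ⟨t, htI, htI'⟩ := SetLike.exists_of_lt hI'lt
  have hspan : Ideal.span {t} ≤ I := (Ideal.span_singleton_le_iff_mem _).2 htI
  have hsup : I' ⊔ Ideal.span {t} = I := by
    have hle : I' ⊔ Ideal.span {t} ≤ I := sup_le hI'lt.le hspan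
    rcases lt_or_eq_of_le hle with hlt | heq
    · exfalso
      apply hmax _ hlt
      refine lt_of_le_of_ne le_sup_left ?_
      intro heq
      apply htI'
      rw [heq]
      exact Ideal.mem_sup_right (Ideal.mem_span_singleton_self t)
    · exact heq
  have hmt : ∀ a ∈ IsLocalRing.maximalIdeal R, a * t ∈ I' := by
    set J := I' ⊔ IsLocalRing.maximalIdeal R * Ideal.span {t} with hJ
    have hJle : J ≤ I := sup_le hI'lt.le (Ideal.mul_le_right.trans hspan)
    have hJne : J ≠ I := by
      intro heq
      have htJ : t ∈ J := heq ▸ htI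
      rw [hJ, Submodule.mem_sup] at htJ
      obtain ⟨i', hi', y, hy, hsum⟩ := htJ
      rw [Ideal.mem_mul_span_singleton] at hy
      obtain ⟨a, ha, rfl⟩ := hy
      have h1 : (1 - a) * t = i' := by linear_combination (-1 : R) * hsum
      have hu : IsUnit (1 - a) := by
        have hna : a ∈ nonunits R := by
          rwa [← IsLocalRing.mem_maximalIdeal]
        rcases IsLocalRing.isUnit_or_isUnit_one_sub_self a with h | h
        · exact absurd h hna
        · exact h
      obtain ⟨u, hu⟩ := hu
      apply htI'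
      have h2 : t = ↑u⁻¹ * i' := by
        rw [← h1, ← hu, ← mul_assoc, Units.inv_mul, one_mul]
      rw [h2]
      exact I'.mul_mem_left _ hi'
    have hJlt : J < I := lt_of_le_of_ne hJle hJne
    have hJeq : J = I' := by
      by_contra hne
      exact hmax J hJlt (lt_of_le_of_ne le_sup_left (Ne.symm hne))
    intro a ha
    rw [← hJeq]
    exact Ideal.mem_sup_right (Ideal.mul_mem_mul ha (Ideal.mem_span_singleton_self t))
  have hmI : ∀ a ∈ IsLocalRing.maximalIdeal R, ∀ b ∈ I, a * b ∈ I' := by
    intro a ha b hb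
    rw [← hsup, Submodule.mem_sup] at hb
    obtain ⟨i', hi', y, hy, rfl⟩ := hb
    rw [Ideal.mem_span_singleton'] at hy
    obtain ⟨s, rfl⟩ := hy
    rw [mul_add]
    refine add_mem (I'.mul_mem_left _ hi') ?_
    have : a * (s * t) = s * (a * t) := by ring
    rw [this]
    exact I'.mul_mem_left _ (hmt a ha)
  obtain ⟨r, hr⟩ := h
  -- the error term
  let ψ : F → F := fun x => φ x - r • x
  have hψadd : ∀ x y, ψ (x + y) = ψ x + ψ y := by
    intro x y
    simp only [ψ, map_add, smul_add]
    abel
  have hψR : ∀ (a : R) (x : F), ψ (a • x) = a • ψ x := by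
    intro a x
    simp only [ψ, map_smul, smul_sub]
    rw [smul_comm a r x]
  have hψD : ∀ (d : D) (x : F), ψ (d • x) = d • ψ x := by
    intro d x
    simp only [ψ, hφ, smul_sub]
    rw [smul_comm r d x]
  have hψI : ∀ x, ψ x ∈ I • (⊤ : Submodule R F) := hr
  have hdec : ∀ x, ∃ z : F, ψ x - t • z ∈ I' • (⊤ : Submodule R F) := by
    intro x
    have h1 := hψI x
    rw [← hsup, Submodule.sup_smul, Submodule.mem_sup] at h1
    obtain ⟨y', hy', w, hw, hsum⟩ := h1
    rw [Submodule.ideal_span_singleton_smul, Submodule.mem_smul_pointwise_iff_exists] at hw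
    obtain ⟨z, _, rfl⟩ := hw
    refine ⟨z, ?_⟩
    rw [← hsum, add_sub_cancel_right]
    exact hy'
  have hU : ∀ z : F, t • z ∈ I' • (⊤ : Submodule R F) → θ z = 0 := by
    intro z hz
    rw [hker]
    have h1 := mem_colon_smul_of_flat I' t z hz
    have hle : colonElt I' t ≤ IsLocalRing.maximalIdeal R := by
      apply IsLocalRing.le_maximalIdeal
      intro htop
      have h2 : (1 : R) ∈ colonElt I' t := htop ▸ Submodule.mem_top
      rw [mem_colonElt, mul_one] at h2
      exact htI' h2
    exact Submodule.smul_mono_left hle h1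
  have htm : ∀ w : F, w ∈ IsLocalRing.maximalIdeal R • (⊤ : Submodule R F) →
      t • w ∈ I' • (⊤ : Submodule R F) := by
    intro w hw
    refine Submodule.smul_induction_on hw (fun a ha y _ => ?_) (fun x y hx hy => ?_)
    · rw [smul_smul, mul_comm]
      exact Submodule.smul_mem_smul (hmt a ha) Submodule.mem_top
    · rw [smul_add]
      exact add_mem hx hy
  have hψm : ∀ x : F, x ∈ IsLocalRing.maximalIdeal R • (⊤ : Submodule R F) →
      ψ x ∈ I' • (⊤ : Submodule R F) := by
    intro x hx
    refine Submodule.smul_induction_on hx (fun a ha y _ => ?_) (fun x y hx hy => ?_)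
    · rw [hψR]
      refine Submodule.smul_induction_on (hψI y) (fun b hb y' _ => ?_) (fun x y hx hy => ?_)
      · rw [smul_smul]
        exact Submodule.smul_mem_smul (hmI a ha b hb) Submodule.mem_top
      · rw [smul_add]
        exact add_mem hx hy
    · rw [hψadd]
      exact add_mem hx hy
  choose zf hzf using hdec
  let Ψ : F →ₗ[D] E :=
    { toFun := fun x => θ (zf x)
      map_add' := fun x y => by
        rw [← map_add, ← sub_eq_zero, ← map_sub]
        apply hU
        have h1 : t • (zf (x + y) - (zf x + zf y)) =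
            (ψ x - t • zf x) + (ψ y - t • zf y) - (ψ (x + y) - t • zf (x + y)) := by
          rw [hψadd, smul_sub, smul_add]
          abel
        rw [h1]
        exact sub_mem (add_mem (hzf x) (hzf y)) (hzf (x + y))
      map_smul' := fun d x => by
        rw [RingHom.id_apply, ← map_smul, ← sub_eq_zero, ← map_sub]
        apply hU
        have h1 : t • (zf (d • x) - d • zf x) =
            d • (ψ x - t • zf x) - (ψ (d • x) - t • zf (d • x)) := by
          rw [hψD, smul_sub, smul_sub, smul_comm t d]
          abel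
        rw [h1]
        exact sub_mem (smul_mem_ideal_smul I' d _ (hzf x)) (hzf (d • x)) }
  have hΨ : ∀ x, θ x = 0 → Ψ x = 0 := by
    intro x hx
    rw [hker] at hx
    apply hU
    have h1 : t • zf x = ψ x - (ψ x - t • zf x) := by abel
    rw [h1]
    exact sub_mem (hψm x hx) (hzf x)
  obtain ⟨c, hc⟩ := exists_scalar hE θ hsurj Ψ hΨ
  refine ⟨I', hI'lt, r + algebraMap K R c * t, fun x => ?_⟩
  have h1 : φ x - (r + algebraMap K R c * t) • x =
      (ψ x - t • zf x) + t • (zf x - algebraMap K R c • x) := by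
    simp only [ψ, add_smul, smul_sub, mul_smul]
    rw [smul_comm t (algebraMap K R c)]
    abel
  rw [h1]
  refine add_mem (hzf x) (htm _ ?_)
  rw [← hker, map_sub, hθ, AlgHom.commutes, Algebra.algebraMap_self, RingHom.id_apply, sub_eq_zero]
  exact hc x

include hm hE hθ hsurj hker in
/-- **Main theorem**: every `R`- and `D`-linear endomorphism is a unique scalar. -/
theorem existsUnique_smul_eq (φ : F →ₗ[R] F) (hφ : ∀ (d : D) (x : F), φ (d • x) = d • φ x) :
    ∃! r : R, ∀ x : F, φ x = r • x := by
  classical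
  -- approximation modulo `m F`
  have h0 : Approx φ (IsLocalRing.maximalIdeal R) := by
    let φD : F →ₗ[D] F :=
      { toFun := φ
        map_add' := φ.map_add
        map_smul' := fun d x => hφ d x }
    have hΨ : ∀ x, θ x = 0 → (θ.comp φD) x = 0 := by
      intro x hx
      rw [hker] at hx
      change θ (φ x) = 0
      rw [hker]
      refine Submodule.smul_induction_on hx (fun a ha y _ => ?_) (fun x y hx hy => ?_)
      · rw [map_smul]
        exact Submodule.smul_mem_smul ha Submodule.mem_top
      · rw [map_add]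
        exact add_mem hx hy
    obtain ⟨c, hc⟩ := exists_scalar hE θ hsurj (θ.comp φD) hΨ
    refine ⟨algebraMap K R c, fun x => ?_⟩
    rw [← hker, map_sub, hθ, AlgHom.commutes, Algebra.algebraMap_self, RingHom.id_apply,
      sub_eq_zero]
    exact hc x
  have key : ∀ I : Ideal R, Approx φ I → Approx φ ⊥ := by
    intro I
    induction I using (wellFounded_lt : WellFounded ((· < ·) : Ideal R → Ideal R → Prop)).induction with
    | _ I ih =>
      intro hI
      by_cases hbot : I = ⊥
      · rwa [hbot] at hI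
      · obtain ⟨I', hlt, hI'⟩ := approx_step res hm hE θ hθ hsurj hker φ hφ I hbot hI
        exact ih I' hlt hI'
  obtain ⟨r, hr⟩ := key _ h0
  have hr' : ∀ x, φ x = r • x := by
    intro x
    have := hr x
    rw [Submodule.bot_smul, Submodule.mem_bot, sub_eq_zero] at this
    exact this
  refine ⟨r, hr', fun r' hr'' => ?_⟩
  by_contra hne
  have hne' : r' - r ≠ 0 := sub_ne_zero.2 hne
  -- `(r' - r) F = 0` forces `F = m F`
  obtain ⟨e, he⟩ := exists_ne (0 : E)
  obtain ⟨x, rfl⟩ := hsurj e
  apply he
  rw [hker]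
  have h1 : (r' - r) • x ∈ (⊥ : Ideal R) • (⊤ : Submodule R F) := by
    rw [sub_smul, ← hr'', ← hr', sub_self]
    exact zero_mem _
  have h2 := mem_colon_smul_of_flat ⊥ (r' - r) x h1
  have hle : colonElt ⊥ (r' - r) ≤ IsLocalRing.maximalIdeal R := by
    apply IsLocalRing.le_maximalIdeal
    intro htop
    have h3 : (1 : R) ∈ colonElt ⊥ (r' - r) := htop ▸ Submodule.mem_top
    rw [mem_colonElt, mul_one, Submodule.mem_bot] at h3
    exact hne' h3
  exact Submodule.smul_mono_left hle h2

include hm hE hθ hsurj hker in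
/-- automorphisms of a deformation are multiplication by elements of `1 + m` -/
theorem existsUnique_res_eq_one (α : F →ₗ[R] F) (hαD : ∀ (d : D) (x : F), α (d • x) = d • α x)
    (hαθ : ∀ x : F, θ (α x) = θ x) :
    ∃! r : R, res r = 1 ∧ ∀ x : F, α x = r • x := by
  obtain ⟨r, hr, huniq⟩ := existsUnique_smul_eq res hm hE θ hθ hsurj hker α hαD
  refine ⟨r, ⟨?_, hr⟩, fun r' hr' => huniq r' hr'.2⟩
  obtain ⟨e, he⟩ := exists_ne (0 : E)
  obtain ⟨x, rfl⟩ := hsurj e
  have h1 := hαθ x
  rw [hr, hθ] at h1
  have h2 : (res r - 1) • θ x = 0 := by rw [sub_smul, one_smul, h1, sub_self]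
  rcases smul_eq_zero.1 h2 with h | h
  · exact sub_eq_zero.1 h
  · exact absurd h he

end main

end Groth.Agent.Lib.Helper7.DefMod
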