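import Mathlib

/-!
# The local ring of a fibre: `O_{X_y, x} ≃ O_{X,x} / m_y O_{X,x}`
-/

universe u

open CategoryTheory CategoryTheory.Limits AlgebraicGeometry TopologicalSpace IsLocalRing

namespace Groth.Agent.Lib.Helper7.FibreStalkIso

variable {X Y : Scheme.{u}}

/-- general form, with the point of the fibre as the primary variable -/
theorem nonempty_ringEquiv_aux (f : X ⟶ Y) (y : Y) (z : f.fiber y) (x : X)
    (hx : f.fiberι y z = x) :
    Nonempty ((X.presheaf.stalk x ⧸
        (maximalIdeal (Y.presheaf.stalk (f x))).map (f.stalkMap x).hom) ≃+*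
      (f.fiber y).presheaf.stalk z) := by
  subst hx
  set ι := f.fiberι y with hι
  have hy : f (ι z) = y := by
    have : ι z ∈ Set.range ι := ⟨z, rfl⟩
    rw [hι, Scheme.Hom.range_fiberι] at this
    exact this
  set φ : Y.presheaf.stalk (f (ι z)) ⟶ X.presheaf.stalk (ι z) := f.stalkMap (ι z) with hφ
  set θ : X.presheaf.stalk (ι z) ⟶ (f.fiber y).presheaf.stalk z := ι.stalkMap z with hθ
  set I : Ideal (X.presheaf.stalk (ι z)) :=
    (maximalIdeal (Y.presheaf.stalk (f (ι z)))).map φ.hom with hI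
  -- (K), (K2)
  have K : Spec.map θ ≫ X.fromSpecStalk (ι z) = (f.fiber y).fromSpecStalk z ≫ ι :=
    Scheme.SpecMap_stalkMap_fromSpecStalk (f := ι) (x := z)
  have K2 : Spec.map φ ≫ Y.fromSpecStalk (f (ι z)) = X.fromSpecStalk (ι z) ≫ f :=
    Scheme.SpecMap_stalkMap_fromSpecStalk (f := f) (x := ι z)
  have hcongr : Spec.map (Y.residueFieldCongr hy).hom ≫ Y.fromSpecResidueField (f (ι z)) =
      Y.fromSpecResidueField y := Scheme.residueFieldCongr_fromSpecResidueField hy
  -- (a) surjectivity
  have hsurj : Function.Surjective θ.hom := ι.stalkMap_surjective z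
  -- (b) `φ ≫ θ` factors through the residue field
  let ρ : Y.residueField (f (ι z)) ⟶ (f.fiber y).presheaf.stalk z :=
    Spec.preimage ((f.fiber y).fromSpecStalk z ≫ f.fiberToSpecResidueField y ≫
      Spec.map (Y.residueFieldCongr hy).hom)
  have hb : φ ≫ θ = Y.residue (f (ι z)) ≫ ρ := by
    apply Spec.map_injective
    haveI : Mono (Y.fromSpecStalk (f (ι z))) := inferInstance
    rw [← cancel_mono (Y.fromSpecStalk (f (ι z)))]
    rw [Spec.map_comp, Category.assoc, K2, ← Category.assoc, K, Category.assoc]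
    have hfac : ι ≫ f = f.fiberToSpecResidueField y ≫ Y.fromSpecResidueField y :=
      f.fiber_fac y
    rw [hfac, ← hcongr]
    rw [Spec.map_comp, Spec.map_preimage]
    simp only [Category.assoc, Scheme.fromSpecResidueField]
  have hkill : I ≤ RingHom.ker θ.hom := by
    rw [hI, Ideal.map_le_iff_le_comap]
    intro a ha
    rw [Ideal.mem_comap, RingHom.mem_ker]
    have h1 : θ.hom (φ.hom a) = ρ.hom ((Y.residue (f (ι z))).hom a) :=
      congrArg (fun k => k.hom a) hb
    rw [h1]
    have h2 : (Y.residue (f (ι z))).hom a = 0 := by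
      change IsLocalRing.residue _ a = 0
      rw [IsLocalRing.residue_eq_zero_iff]
      exact ha
    rw [h2, map_zero]
  -- the quotient `B/I` is local
  haveI : IsLocalHom φ.hom := inferInstanceAs (IsLocalHom (f.stalkMap (ι z)).hom)
  have hIle : I ≤ maximalIdeal (X.presheaf.stalk (ι z)) :=
    IsLocalRing.map_maximalIdeal_le φ.hom
  haveI : Nontrivial (X.presheaf.stalk (ι z) ⧸ I) :=
    Ideal.Quotient.nontrivial_iff.2 (fun h => (maximalIdeal.isMaximal _).ne_top
      (top_le_iff.mp (h ▸ hIle)))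
  haveI : IsLocalRing (X.presheaf.stalk (ι z) ⧸ I) :=
    IsLocalRing.of_surjective' (Ideal.Quotient.mk I) Ideal.Quotient.mk_surjective
  let q : X.presheaf.stalk (ι z) ⟶ CommRingCat.of (X.presheaf.stalk (ι z) ⧸ I) :=
    CommRingCat.ofHom (Ideal.Quotient.mk I)
  haveI : IsLocalHom q.hom :=
    IsLocalHom.of_surjective (Ideal.Quotient.mk I) Ideal.Quotient.mk_surjective
  -- (c) the section
  let τ : Y.residueField (f (ι z)) ⟶ CommRingCat.of (X.presheaf.stalk (ι z) ⧸ I) :=
    CommRingCat.ofHom (Ideal.quotientMap I φ.hom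
      (Ideal.map_le_iff_le_comap.1 (le_of_eq hI.symm)))
  have hτ : Y.residue (f (ι z)) ≫ τ = φ ≫ q := by
    ext a
    rfl
  have hcompat : (Spec.map q ≫ X.fromSpecStalk (ι z)) ≫ f =
      (Spec.map τ ≫ Spec.map (Y.residueFieldCongr hy).inv) ≫ Y.fromSpecResidueField y := by
    rw [← hcongr]
    simp only [Category.assoc]
    rw [← Spec.map_comp_assoc (Y.residueFieldCongr hy).hom, Iso.hom_inv_id, Spec.map_id,
      Category.id_comp]
    rw [Scheme.fromSpecResidueField, ← Spec.map_comp_assoc, hτ, Spec.map_comp_assoc, K2]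
  let h : Spec (CommRingCat.of (X.presheaf.stalk (ι z) ⧸ I)) ⟶ f.fiber y :=
    pullback.lift (Spec.map q ≫ X.fromSpecStalk (ι z))
      (Spec.map τ ≫ Spec.map (Y.residueFieldCongr hy).inv) hcompat
  have hh : h ≫ ι = Spec.map q ≫ X.fromSpecStalk (ι z) := pullback.lift_fst _ _ _
  have hz : h (closedPoint (X.presheaf.stalk (ι z) ⧸ I)) = z := by
    apply ι.isEmbedding.injective
    have h1 := congrArg (fun k => k.base (closedPoint (X.presheaf.stalk (ι z) ⧸ I))) hh
    simp only [Scheme.Hom.comp_base, TopCat.comp_app] at h1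
    rw [h1]
    have h2 : (Spec.map q) (closedPoint (X.presheaf.stalk (ι z) ⧸ I)) =
        closedPoint (X.presheaf.stalk (ι z)) := Spec_closedPoint
    rw [h2, Scheme.fromSpecStalk_closedPoint]
  let σ : (f.fiber y).presheaf.stalk z ⟶ CommRingCat.of (X.presheaf.stalk (ι z) ⧸ I) :=
    (f.fiber y).presheaf.stalkSpecializes (specializes_of_eq hz) ≫ Scheme.stalkClosedPointTo h
  have hσ : Spec.map σ ≫ (f.fiber y).fromSpecStalk z = h := by
    rw [Spec.map_comp, Category.assoc, Scheme.SpecMap_stalkSpecializes_fromSpecStalk,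
      Scheme.Spec_stalkClosedPointTo_fromSpecStalk]
  have hθσ : θ ≫ σ = q := by
    apply Spec.map_injective
    rw [← cancel_mono (X.fromSpecStalk (ι z))]
    rw [Spec.map_comp, Category.assoc, K, ← Category.assoc, hσ, hh]
  have hker : RingHom.ker θ.hom = I := by
    apply le_antisymm _ hkill
    intro b hb'
    rw [RingHom.mem_ker] at hb'
    have h1 : σ.hom (θ.hom b) = q.hom b := congrArg (fun k => k.hom b) hθσ
    rw [hb', map_zero] at h1
    exact Ideal.Quotient.eq_zero_iff_mem.1 h1.symm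
  exact ⟨(Ideal.quotEquivOfEq hker.symm).trans (RingHom.quotientKerEquivOfSurjective hsurj)⟩

/-- **the local ring of the fibre** -/
theorem nonempty_ringEquiv (f : X ⟶ Y) (x : X) :
    Nonempty ((X.presheaf.stalk x ⧸
        (maximalIdeal (Y.presheaf.stalk (f x))).map (f.stalkMap x).hom) ≃+*
      (f.fiber (f x)).presheaf.stalk (f.asFiber x)) :=
  nonempty_ringEquiv_aux f (f x) (f.asFiber x) x (f.fiberι_asFiber x)

end Groth.Agent.Lib.Helper7.FibreStalkIso
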