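import Mathlib
import Groth.Agent.Lib.Helper21.FlatDescP

/-!
# Helper7 — FPKer: kernels of surjections onto flat finitely presented modules (EGA IV 11.3.9.1)

* `fp_of_exact`: extensions of finitely presented modules are finitely presented (exact-sequence form).
* `fp_ker_of_fp_ker`: Schanuel-type lemma: if `N` has one surjection from a projective module with
  finitely presented kernel, every surjection from a finitely presented module has f.p. kernel.
* `exists_projective_fp_ker`: `R → S` f.p., `N` f.p. over `S` and flat over `R` ⇒ `N` is the quotient of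
  a finite projective `S`-module by a finitely presented submodule (via a Noetherian model).
* `fp_ker_of_flat`: `R → S` f.p., `G`, `N` f.p. over `S`, `N` flat over `R`, `p : G → N` surjective ⇒
  `ker p` finitely presented.
-/

namespace Groth.Agent.Lib.Helper7.FPKer

open TensorProduct Function

universe u

section Schanuel

variable {S : Type*} [CommRing S]

/-- extension of f.p. by f.p. is f.p., exact sequence form. -/
theorem fp_of_exact {A B C : Type*} [AddCommGroup A] [Module S A] [AddCommGroup B] [Module S B]
    [AddCommGroup C] [Module S C] [Module.FinitePresentation S A] [Module.FinitePresentation S C]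
    (f : A →ₗ[S] B) (g : B →ₗ[S] C) (hf : Injective f) (hg : Surjective g) (H : Exact f g) :
    Module.FinitePresentation S B := by
  haveI : Module.FinitePresentation S (LinearMap.ker g) := by
    rw [LinearMap.exact_iff.mp H]
    exact .of_equiv (LinearEquiv.ofInjective f hf)
  exact Module.finitePresentation_of_ker g hg

theorem fp_ker_of_fp_ker {P N G : Type*} [AddCommGroup P] [Module S P]
    [AddCommGroup N] [Module S N] [AddCommGroup G] [Module S G]
    [Module.Projective S P] [Module.FinitePresentation S G]
    (π : P →ₗ[S] N) (hπ : Surjective π) [Module.FinitePresentation S (LinearMap.ker π)]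
    (p : G →ₗ[S] N) (hp : Surjective p) : Module.FinitePresentation S (LinearMap.ker p) := by
  let d : (P × G) →ₗ[S] N := π.comp (LinearMap.fst S P G) - p.comp (LinearMap.snd S P G)
  have hd : ∀ x : P × G, x ∈ LinearMap.ker d ↔ π x.1 = p x.2 := by
    intro x
    simp [d, sub_eq_zero]
  let q₁ : LinearMap.ker d →ₗ[S] P := (LinearMap.fst S P G).comp (LinearMap.ker d).subtype
  let q₂ : LinearMap.ker d →ₗ[S] G := (LinearMap.snd S P G).comp (LinearMap.ker d).subtype
  have hq₂ : Surjective q₂ := by
    intro g
    obtain ⟨a, ha⟩ := hπ (p g)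
    exact ⟨⟨(a, g), (hd _).2 ha⟩, rfl⟩
  have hq₁ : Surjective q₁ := by
    intro a
    obtain ⟨g, hg⟩ := hp (π a)
    exact ⟨⟨(a, g), (hd _).2 hg.symm⟩, rfl⟩
  let i₂ : LinearMap.ker π →ₗ[S] LinearMap.ker d :=
    LinearMap.codRestrict (LinearMap.ker d) ((LinearMap.inl S P G).comp (LinearMap.ker π).subtype)
      (fun a => (hd _).2 (by simp))
  let i₁ : LinearMap.ker p →ₗ[S] LinearMap.ker d :=
    LinearMap.codRestrict (LinearMap.ker d) ((LinearMap.inr S P G).comp (LinearMap.ker p).subtype)
      (fun g => (hd _).2 (by simp))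
  have hi₂ : Injective i₂ := by
    intro a b hab
    have := congrArg (fun x : LinearMap.ker d => x.1.1) hab
    exact Subtype.ext this
  have hi₁ : Injective i₁ := by
    intro a b hab
    have := congrArg (fun x : LinearMap.ker d => x.1.2) hab
    exact Subtype.ext this
  have hex₂ : Exact i₂ q₂ := by
    intro x
    constructor
    · intro hx
      have hx2 : x.1.2 = 0 := hx
      have hx1 : π x.1.1 = 0 := by rw [(hd x.1).1 x.2, hx2, map_zero]
      exact ⟨⟨x.1.1, hx1⟩, Subtype.ext (Prod.ext rfl hx2.symm)⟩
    · rintro ⟨a, rfl⟩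
      rfl
  have hex₁ : Exact i₁ q₁ := by
    intro x
    constructor
    · intro hx
      have hx1 : x.1.1 = 0 := hx
      have hx2 : p x.1.2 = 0 := by rw [← (hd x.1).1 x.2, hx1, map_zero]
      exact ⟨⟨x.1.2, hx2⟩, Subtype.ext (Prod.ext hx1.symm rfl)⟩
    · rintro ⟨a, rfl⟩
      rfl
  haveI : Module.FinitePresentation S (LinearMap.ker d) := fp_of_exact i₂ q₂ hi₂ hq₂ hex₂
  exact Module.finitePresentation_of_projective_of_exact i₁ q₁ hi₁ hq₁ hex₁

end Schanuel

section Model

open Groth.Agent.Lib.Helper21.FlatDesc

/-- naturality of `IsPushout.cancelBaseChange` (in the `symm` direction). -/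
theorem baseChange_cancelBaseChange_symm {R₀ R S₀ S : Type*} [CommRing R₀] [CommRing R] [CommRing S₀]
    [CommRing S] [Algebra R₀ R] [Algebra R₀ S₀] [Algebra R₀ S] [Algebra R S] [Algebra S₀ S]
    [IsScalarTower R₀ R S] [IsScalarTower R₀ S₀ S] [Algebra.IsPushout R₀ R S₀ S]
    {K F : Type*} [AddCommGroup K] [Module R₀ K] [Module S₀ K] [IsScalarTower R₀ S₀ K]
    [AddCommGroup F] [Module R₀ F] [Module S₀ F] [IsScalarTower R₀ S₀ F]
    (j : K →ₗ[S₀] F) (y : R ⊗[R₀] K) :
    j.baseChange S ((Algebra.IsPushout.cancelBaseChange R₀ R S₀ S K).symm y) =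
      (Algebra.IsPushout.cancelBaseChange R₀ R S₀ S F).symm ((j.restrictScalars R₀).lTensor R y) := by
  induction y with
  | zero => simp
  | add x y hx hy => rw [map_add, map_add, hx, hy, map_add, map_add]
  | tmul r k =>
    rw [Algebra.IsPushout.cancelBaseChange_symm_tmul, LinearMap.lTensor_tmul,
      Algebra.IsPushout.cancelBaseChange_symm_tmul, LinearMap.baseChange_tmul]
    rfl

/-- `R → S` finitely presented, `N` a finitely presented `S`-module flat over `R`: then `N` is the quotient
of a finite projective `S`-module by a finitely presented submodule. -/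
theorem exists_projective_fp_ker (R : Type u) [CommRing R] (S : Type u) [CommRing S] [Algebra R S]
    [Algebra.FinitePresentation R S] (N : Type u) [AddCommGroup N] [Module S N] [Module R N]
    [IsScalarTower R S N] [Module.FinitePresentation S N] [Module.Flat R N] :
    ∃ (P : Type u) (_ : AddCommGroup P) (_ : Module S P) (_ : Module.Projective S P)
      (π : P →ₗ[S] N), Surjective π ∧ Module.FinitePresentation S (LinearMap.ker π) := by
  obtain ⟨R₀, _, _, S₀, _, _, _, _, _, _, M₀, _, _, _, _, _, _, f, hR₀, hS₀, hM₀fin, hM₀flat,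
    hpush, hf⟩ := exists_flat_model R S N
  haveI : Algebra.FiniteType ℤ S₀ := Algebra.FiniteType.trans hR₀ hS₀
  haveI : IsNoetherianRing S₀ := Algebra.FiniteType.isNoetherianRing ℤ S₀
  obtain ⟨m, π₀, hπ₀⟩ := Module.Finite.exists_fin' S₀ M₀
  let K₀ : Submodule S₀ (Fin m → S₀) := LinearMap.ker π₀
  haveI : Module.FinitePresentation S₀ K₀ := Module.finitePresentation_of_finite S₀ K₀
  let j : S ⊗[S₀] K₀ →ₗ[S] S ⊗[S₀] (Fin m → S₀) := K₀.subtype.baseChange S
  let π' : S ⊗[S₀] (Fin m → S₀) →ₗ[S] S ⊗[S₀] M₀ := π₀.baseChange S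
  have hπ' : Surjective π' := by
    have : Surjective (π₀.lTensor S) := LinearMap.lTensor_surjective S hπ₀
    exact this
  have hex : Exact j π' := by
    have : Exact (K₀.subtype.lTensor S) (π₀.lTensor S) :=
      lTensor_exact S (LinearMap.exact_subtype_ker_map π₀) hπ₀
    exact this
  have hj0 : Injective ((K₀.subtype.restrictScalars R₀).lTensor R) :=
    lTensor_injective_of_flat_coker (K₀.subtype.restrictScalars R₀) (π₀.restrictScalars R₀)
      K₀.injective_subtype (LinearMap.exact_subtype_ker_map π₀) hπ₀ R
  have hj : Injective j := by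
    intro a b hab
    obtain ⟨a', rfl⟩ := (Algebra.IsPushout.cancelBaseChange R₀ R S₀ S K₀).symm.surjective a
    obtain ⟨b', rfl⟩ := (Algebra.IsPushout.cancelBaseChange R₀ R S₀ S K₀).symm.surjective b
    rw [baseChange_cancelBaseChange_symm, baseChange_cancelBaseChange_symm] at hab
    rw [hj0 ((Algebra.IsPushout.cancelBaseChange R₀ R S₀ S (Fin m → S₀)).symm.injective hab)]
  let π : S ⊗[S₀] (Fin m → S₀) →ₗ[S] N := hf.equiv.toLinearMap ∘ₗ π'
  have hπ : Surjective π := hf.equiv.surjective.comp hπ'
  have hker : LinearMap.ker π = LinearMap.range j := by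
    rw [LinearMap.ker_comp, LinearEquiv.ker, Submodule.comap_bot]
    exact LinearMap.exact_iff.mp hex
  haveI : Module.FinitePresentation S (LinearMap.ker π) := by
    rw [hker]
    have e : (S ⊗[S₀] K₀) ≃ₗ[S] LinearMap.range j := LinearEquiv.ofInjective j hj
    exact Module.FinitePresentation.of_equiv (R := S) (M := S ⊗[S₀] K₀) (N := LinearMap.range j) e
  exact ⟨S ⊗[S₀] (Fin m → S₀), inferInstance, inferInstance, inferInstance, π, hπ, inferInstance⟩

/-- **EGA IV 11.3.9.1 (algebra form).** `R → S` finitely presented, `G`, `N` finitely presented `S`-modules,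
`N` flat over `R`, `p : G → N` surjective. Then `ker p` is a finitely presented `S`-module. -/
theorem fp_ker_of_flat (R : Type u) [CommRing R] (S : Type u) [CommRing S] [Algebra R S]
    [Algebra.FinitePresentation R S] (N : Type u) [AddCommGroup N] [Module S N] [Module R N]
    [IsScalarTower R S N] [Module.FinitePresentation S N] [Module.Flat R N]
    {G : Type u} [AddCommGroup G] [Module S G] [Module.FinitePresentation S G]
    (p : G →ₗ[S] N) (hp : Surjective p) : Module.FinitePresentation S (LinearMap.ker p) := by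
  obtain ⟨P, _, _, _, π, hπ, _⟩ := exists_projective_fp_ker R S N
  exact fp_ker_of_fp_ker π hπ p hp

end Model

end Groth.Agent.Lib.Helper7.FPKer
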