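import Groth.Agent.Lib.Helper7.FibreDepthDim
import Groth.Prelude.Def_CInt

/-!
# Depth and dimension of the local rings of fibres of flat morphisms
-/

universe u

open CategoryTheory CategoryTheory.Limits AlgebraicGeometry TopologicalSpace IsLocalRing

namespace Groth.Agent.Lib.Helper7.FibreDepthDimScheme

open Groth.Agent.Lib.Helper7.FibreCM Groth.Agent.Lib.Helper7.FibreCMComp
  Groth.Agent.Lib.Helper7.FibreDepthDim Groth.Agent.Lib.Helper7.FibreCMScheme

section single

variable {X S : Scheme.{u}} [IsLocallyNoetherian X] [IsLocallyNoetherian S] (f : X ⟶ S) (x : X)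

/-- depth of the fibre local ring is at most the depth of `O_{X,x}` for `f` flat at `x` -/
theorem depth_fiberStalk_le (hfl : (f.stalkMap x).hom.Flat) :
    LocCoh.depth (CInt.fiberStalk f x) (CInt.fiberStalk f x) ≤
      LocCoh.depth (X.presheaf.stalk x) (X.presheaf.stalk x) := by
  letI : Algebra (S.presheaf.stalk (f x)) (X.presheaf.stalk x) := (f.stalkMap x).hom.toAlgebra
  haveI : IsLocalHom (algebraMap (S.presheaf.stalk (f x)) (X.presheaf.stalk x)) :=
    inferInstanceAs (IsLocalHom (f.stalkMap x).hom)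
  haveI : Module.Flat (S.presheaf.stalk (f x)) (X.presheaf.stalk x) := hfl
  obtain ⟨e0⟩ := Groth.Agent.Lib.Helper7.FibreStalkIso.nonempty_ringEquiv f x
  have e : (X.presheaf.stalk x ⧸ IB (S.presheaf.stalk (f x)) (X.presheaf.stalk x)) ≃+*
    CInt.fiberStalk f x := e0
  have h := depth_fibre_le (S.presheaf.stalk (f x)) (X.presheaf.stalk x)
  rw [Groth.Agent.Lib.Helper7.Hartogs.depth_eq_of_ringEquiv e] at h
  exact h

/-- depth formula for the fibre local ring -/
theorem depth_eq_add (hfl : (f.stalkMap x).hom.Flat) :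
    LocCoh.depth (X.presheaf.stalk x) (X.presheaf.stalk x) =
      LocCoh.depth (S.presheaf.stalk (f x)) (S.presheaf.stalk (f x)) +
        LocCoh.depth (CInt.fiberStalk f x) (CInt.fiberStalk f x) := by
  letI : Algebra (S.presheaf.stalk (f x)) (X.presheaf.stalk x) := (f.stalkMap x).hom.toAlgebra
  haveI : IsLocalHom (algebraMap (S.presheaf.stalk (f x)) (X.presheaf.stalk x)) :=
    inferInstanceAs (IsLocalHom (f.stalkMap x).hom)
  haveI : Module.Flat (S.presheaf.stalk (f x)) (X.presheaf.stalk x) := hfl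
  obtain ⟨e0⟩ := Groth.Agent.Lib.Helper7.FibreStalkIso.nonempty_ringEquiv f x
  have e : (X.presheaf.stalk x ⧸ IB (S.presheaf.stalk (f x)) (X.presheaf.stalk x)) ≃+*
    CInt.fiberStalk f x := e0
  have h := FibreDepthDim.depth_eq_add (S.presheaf.stalk (f x)) (X.presheaf.stalk x)
  rw [Groth.Agent.Lib.Helper7.Hartogs.depth_eq_of_ringEquiv e] at h
  exact h

/-- dimension formula for the fibre local ring -/
theorem dim_eq_add (hfl : (f.stalkMap x).hom.Flat) :
    ringKrullDim (X.presheaf.stalk x) =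
      ringKrullDim (S.presheaf.stalk (f x)) + ringKrullDim (CInt.fiberStalk f x) := by
  letI : Algebra (S.presheaf.stalk (f x)) (X.presheaf.stalk x) := (f.stalkMap x).hom.toAlgebra
  haveI : IsLocalHom (algebraMap (S.presheaf.stalk (f x)) (X.presheaf.stalk x)) :=
    inferInstanceAs (IsLocalHom (f.stalkMap x).hom)
  haveI : Module.Flat (S.presheaf.stalk (f x)) (X.presheaf.stalk x) := hfl
  obtain ⟨e0⟩ := Groth.Agent.Lib.Helper7.FibreStalkIso.nonempty_ringEquiv f x
  have e : (X.presheaf.stalk x ⧸ IB (S.presheaf.stalk (f x)) (X.presheaf.stalk x)) ≃+*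
    CInt.fiberStalk f x := e0
  have h := FibreDepthDim.dim_eq_add (S.presheaf.stalk (f x)) (X.presheaf.stalk x)
  rw [ringKrullDim_eq_of_ringEquiv e] at h
  exact h

end single

section comp

variable {X Y Z : Scheme.{u}} [IsLocallyNoetherian X] [IsLocallyNoetherian Y]
  (f : X ⟶ Y) (g : Y ⟶ Z) (x : X)

/-- for `f` flat at `x`, the fibre local ring of `g` at `f x` has dimension at most that of the
fibre local ring of `f ≫ g` at `x` -/
theorem dim_fiberStalk_le_comp (hfl : (f.stalkMap x).hom.Flat) :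
    ringKrullDim (CInt.fiberStalk g (f x)) ≤ ringKrullDim (CInt.fiberStalk (f ≫ g) x) := by
  letI : Algebra (Z.presheaf.stalk (g (f x))) (Y.presheaf.stalk (f x)) :=
    (g.stalkMap (f x)).hom.toAlgebra
  letI : Algebra (Y.presheaf.stalk (f x)) (X.presheaf.stalk x) := (f.stalkMap x).hom.toAlgebra
  letI : Algebra (Z.presheaf.stalk (g (f x))) (X.presheaf.stalk x) :=
    ((f.stalkMap x).hom.comp (g.stalkMap (f x)).hom).toAlgebra
  haveI : IsScalarTower (Z.presheaf.stalk (g (f x))) (Y.presheaf.stalk (f x))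
      (X.presheaf.stalk x) := IsScalarTower.of_algebraMap_eq (fun _ => rfl)
  haveI : IsLocalHom (algebraMap (Z.presheaf.stalk (g (f x))) (Y.presheaf.stalk (f x))) :=
    inferInstanceAs (IsLocalHom (g.stalkMap (f x)).hom)
  haveI : IsLocalHom (algebraMap (Y.presheaf.stalk (f x)) (X.presheaf.stalk x)) :=
    inferInstanceAs (IsLocalHom (f.stalkMap x).hom)
  haveI : Module.Flat (Y.presheaf.stalk (f x)) (X.presheaf.stalk x) := hfl
  obtain ⟨e⟩ := exists_equiv_comp f g x
  obtain ⟨e1⟩ := Groth.Agent.Lib.Helper7.FibreStalkIso.nonempty_ringEquiv g (f x)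
  obtain ⟨e2⟩ := Groth.Agent.Lib.Helper7.FibreStalkIso.nonempty_ringEquiv (f ≫ g) x
  have h := dim_base_le (Y.presheaf.stalk (f x) ⧸
      IB (Z.presheaf.stalk (g (f x))) (Y.presheaf.stalk (f x)))
    (X.presheaf.stalk x ⧸ IC (Z.presheaf.stalk (g (f x))) (Y.presheaf.stalk (f x))
      (X.presheaf.stalk x))
  rw [← ringKrullDim_eq_of_ringEquiv e, ringKrullDim_eq_of_ringEquiv e2] at h
  refine le_trans (le_of_eq ?_) h
  exact (ringKrullDim_eq_of_ringEquiv e1).symm

end comp

end Groth.Agent.Lib.Helper7.FibreDepthDimScheme
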