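import Mathlib
import Groth.Prelude.Def_RegImm
import Groth.Agent.S5802
import Groth.Agent.S5803
import Groth.Agent.Lib.Helper5.RegSpreadRing
import Groth.Agent.Lib.Helper5.RegDescA
import Groth.Agent.Lib.Helper5.RegComp

/-!
# A quasi-regular sequence in a Noetherian ring is regular near every prime containing it
-/

set_option autoImplicit false
universe u

namespace Groth.Agent.Lib.Helper7.QRegSpread

open RingTheory.Sequence

/-- In a Noetherian ring `A`, let `rs` be a quasi-regular sequence contained in the prime `p`.
Then there is `g ∉ p` such that `rs` becomes weakly regular in (any model of) `A_g`. -/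
theorem exists_away_weaklyRegular_of_qr {A : Type u} [CommRing A] [IsNoetherianRing A]
    (p : Ideal A) [p.IsPrime] (rs : List A) (hq : CAlgX.IsQuasiRegular rs.get)
    (hle : Ideal.ofList rs ≤ p) :
    ∃ g ∉ p, ∀ (S : Type u) [CommRing S] [Algebra A S] [IsLocalization.Away g S],
      IsWeaklyRegular S (rs.map (algebraMap A S)) := by
  let R := Localization.AtPrime p
  have hfl : (algebraMap A R).Flat :=
    RingHom.flat_algebraMap_iff.mpr (IsLocalization.flat R p.primeCompl)
  have h1 : RegImm.Kind.quasi.Seq R (rs.map (algebraMap A R)) :=
    Groth.Agent.Lib.Helper5.RegDesc.kind_seq_map_of_flat' RegImm.Kind.quasi (by decide)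
      (algebraMap A R) hfl rs hq
  have h2 : CAlgX.IsQuasiRegular (rs.map (algebraMap A R)).get := h1
  have h3 := Groth.Agent.S5803.result R (rs.map (algebraMap A R)).length
    (rs.map (algebraMap A R)).get (fun i => by
      rw [IsLocalRing.ringJacobson_eq_maximalIdeal]
      have hmem : (rs.map (algebraMap A R)).get i ∈ rs.map (algebraMap A R) := List.get_mem _ _
      obtain ⟨a, ha, hai⟩ := List.mem_map.1 hmem
      rw [← hai]
      exact (IsLocalization.AtPrime.to_map_mem_maximal_iff R p a).2
        (hle (Ideal.subset_span (by simpa using ha)))) h2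
  rw [List.ofFn_get] at h3
  exact Groth.Agent.Lib.Helper5.RegSpreadRing.exists_away_weaklyRegular p R rs h3

end Groth.Agent.Lib.Helper7.QRegSpread
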