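import Mathlib

/-!
# Descent of flatness along a faithfully flat extension
`A → B → C`, `C` flat over `A` and faithfully flat over `B` ⇒ `B` flat over `A`.
-/

universe u

open TensorProduct

namespace Groth.Agent.Lib.Helper7.FlatDescentFF

variable (A B C : Type u) [CommRing A] [CommRing B] [CommRing C]
  [Algebra A B] [Algebra B C] [Algebra A C] [IsScalarTower A B C]

open TensorProduct.AlgebraTensorModule in
theorem flat_of_flat_of_faithfullyFlat [Module.Flat A C] [Module.FaithfullyFlat B C] :
    Module.Flat A B := by
  rw [Module.Flat.iff_lTensor_preserves_injective_linearMap]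
  intro N N' _ _ _ _ j hj
  have h0 : ⇑(LinearMap.lTensor B j) = ⇑(AlgebraTensorModule.lTensor B B j) := rfl
  rw [h0, ← Module.FaithfullyFlat.lTensor_injective_iff_injective B C]
  have h1 := lTensor_comp_cancelBaseChange (R := A) (A := B) (B := B) (M := C) (N := N) (Q := N') j
  have h2 : Function.Injective (AlgebraTensorModule.lTensor B C j) :=
    Module.Flat.lTensor_preserves_injective_linearMap (M := C) j hj
  have h3 : Function.Injective ((AlgebraTensorModule.lTensor B C j) ∘ₗ
      (cancelBaseChange A B B C N).toLinearMap) := by
    rw [LinearMap.coe_comp]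
    exact h2.comp (cancelBaseChange A B B C N).injective
  rw [h1] at h3
  rw [LinearMap.coe_comp] at h3
  exact Function.Injective.of_comp h3

end Groth.Agent.Lib.Helper7.FlatDescentFF
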