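import Mathlib.RingTheory.GradedAlgebra.Homogeneous.Ideal
import Mathlib.RingTheory.GradedAlgebra.Radical
import Mathlib.RingTheory.FiniteType
import Mathlib.RingTheory.Ideal.MinimalPrime.Basic
import Mathlib.RingTheory.Noetherian.Basic

/-!
# ℕ-graded algebras with degree-zero part a field: the irrelevant ideal
-/

set_option autoImplicit false
set_option linter.unusedVariables false
set_option linter.style.haveILetI false

namespace Groth.Agent.Lib.Helper7.GrIrr

open DirectSum

universe u v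

variable {K : Type u} [Field K] {A : Type v} [CommRing A] [Algebra K A]
  (𝒜 : ℕ → Submodule K A) [GradedAlgebra 𝒜]

theorem mem_irrelevant_iff' (a : A) :
    a ∈ (HomogeneousIdeal.irrelevant 𝒜).toIdeal ↔ (decompose 𝒜 a 0 : A) = 0 := by
  rw [HomogeneousIdeal.toIdeal_irrelevant, RingHom.mem_ker]
  rfl

/-- a proper homogeneous ideal is contained in the irrelevant ideal -/
theorem le_irrelevant (h0 : ∀ a ∈ 𝒜 0, ∃ c : K, algebraMap K A c = a) {I : Ideal A}
    (hI : I.IsHomogeneous 𝒜) (hne : I ≠ ⊤) : I ≤ (HomogeneousIdeal.irrelevant 𝒜).toIdeal := by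
  intro a ha
  rw [mem_irrelevant_iff']
  have h1 : (decompose 𝒜 a 0 : A) ∈ I := hI 0 ha
  obtain ⟨c, hc⟩ := h0 _ (SetLike.coe_mem (decompose 𝒜 a 0))
  by_contra hne0
  have hc0 : c ≠ 0 := by
    rintro rfl
    rw [map_zero] at hc
    exact hne0 hc.symm
  apply hne
  rw [Ideal.eq_top_iff_one]
  have : (1 : A) = algebraMap K A c⁻¹ * (decompose 𝒜 a 0 : A) := by
    rw [← hc, ← map_mul, inv_mul_cancel₀ hc0, map_one]
  rw [this]
  exact I.mul_mem_left _ h1

theorem irrelevant_isMaximal [Nontrivial A] (h0 : ∀ a ∈ 𝒜 0, ∃ c : K, algebraMap K A c = a) :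
    (HomogeneousIdeal.irrelevant 𝒜).toIdeal.IsMaximal := by
  rw [Ideal.isMaximal_iff]
  constructor
  · rw [mem_irrelevant_iff']
    have : (decompose 𝒜 (1 : A) 0 : A) = 1 :=
      DirectSum.decompose_of_mem_same 𝒜 (SetLike.GradedOne.one_mem)
    rw [this]
    exact one_ne_zero
  · intro J x hJ hx hxJ
    rw [mem_irrelevant_iff'] at hx
    obtain ⟨c, hc⟩ := h0 _ (SetLike.coe_mem (decompose 𝒜 x 0))
    have hc0 : c ≠ 0 := by
      rintro rfl
      rw [map_zero] at hc
      exact hx hc.symm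
    have hdiff : x - (decompose 𝒜 x 0 : A) ∈ (HomogeneousIdeal.irrelevant 𝒜).toIdeal := by
      rw [mem_irrelevant_iff', DirectSum.decompose_sub, DFinsupp.sub_apply,
        AddSubgroupClass.coe_sub,
        DirectSum.decompose_of_mem_same 𝒜 (SetLike.coe_mem (decompose 𝒜 x 0)), sub_self]
    have hx0J : (decompose 𝒜 x 0 : A) ∈ J := by
      have := J.sub_mem hxJ (hJ hdiff)
      rwa [sub_sub_cancel] at this
    have : (1 : A) = algebraMap K A c⁻¹ * (decompose 𝒜 x 0 : A) := by
      rw [← hc, ← map_mul, inv_mul_cancel₀ hc0, map_one]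
    rw [this]
    exact J.mul_mem_left _ hx0J

/-- Minimal primes of a homogeneous ideal are homogeneous. -/
theorem isHomogeneous_of_mem_minimalPrimes {J P : Ideal A}
    (hJ : J.IsHomogeneous 𝒜) (hP : P ∈ J.minimalPrimes) : P.IsHomogeneous 𝒜 := by
  have hprime : (P.homogeneousCore 𝒜).toIdeal.IsPrime := Ideal.IsPrime.homogeneousCore hP.1.1
  have hle : (P.homogeneousCore 𝒜).toIdeal ≤ P := Ideal.toIdeal_homogeneousCore_le _ P
  have hJle : J ≤ (P.homogeneousCore 𝒜).toIdeal := by
    rw [← hJ.toIdeal_homogeneousCore_eq_self]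
    exact Ideal.homogeneousCore_mono _ hP.1.2
  have := hP.2 ⟨hprime, hJle⟩ hle
  have heq : (P.homogeneousCore 𝒜).toIdeal = P := le_antisymm hle this
  rw [← heq]
  exact (P.homogeneousCore 𝒜).isHomogeneous

/-- a Noetherian graded algebra with `A₀ = K` is finitely generated over `K` -/
theorem finiteType [IsNoetherianRing A] (h0 : ∀ a ∈ 𝒜 0, ∃ c : K, algebraMap K A c = a) :
    Algebra.FiniteType K A := by
  classical
  obtain ⟨G₀, hG₀⟩ := (IsNoetherian.noetherian (HomogeneousIdeal.irrelevant 𝒜).toIdeal :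
    (HomogeneousIdeal.irrelevant 𝒜).toIdeal.FG)
  let G : Finset A := G₀.biUnion
    (fun g => (decompose 𝒜 g).support.image (fun j => (decompose 𝒜 g j : A)))
  have hG₀mem : ∀ g ∈ G₀, g ∈ (HomogeneousIdeal.irrelevant 𝒜).toIdeal := fun g hg => by
    rw [← hG₀]; exact Ideal.subset_span hg
  have hGhom : ∀ g' ∈ G, ∃ j, 0 < j ∧ g' ∈ 𝒜 j := by
    intro g' hg'
    simp only [G, Finset.mem_biUnion, Finset.mem_image] at hg'
    obtain ⟨g, hg, j, hj, rfl⟩ := hg'
    refine ⟨j, Nat.pos_of_ne_zero ?_, SetLike.coe_mem _⟩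
    rintro rfl
    have h0' : (decompose 𝒜 g 0 : A) = 0 := (mem_irrelevant_iff' 𝒜 g).1 (hG₀mem g hg)
    rw [DFinsupp.mem_support_toFun] at hj
    exact hj (Subtype.ext h0')
  have hspan : Ideal.span (G : Set A) = (HomogeneousIdeal.irrelevant 𝒜).toIdeal := by
    apply le_antisymm
    · rw [Ideal.span_le]
      intro g hg
      obtain ⟨j, hj, hgj⟩ := hGhom g hg
      exact HomogeneousIdeal.mem_irrelevant_of_mem 𝒜 hj hgj
    · rw [← hG₀, Ideal.span_le]
      intro g hg
      rw [← DirectSum.sum_support_decompose 𝒜 g]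
      refine Ideal.sum_mem _ fun j hj => Ideal.subset_span ?_
      simp only [G, Finset.coe_biUnion, Set.mem_iUnion, Finset.coe_image]
      exact ⟨g, hg, j, hj, rfl⟩
  have key : ∀ n, ∀ x ∈ 𝒜 n, x ∈ Algebra.adjoin K (G : Set A) := by
    intro n
    induction n using Nat.strong_induction_on with
    | _ n ih =>
      intro x hx
      rcases Nat.eq_zero_or_pos n with rfl | hn
      · obtain ⟨c, rfl⟩ := h0 x hx
        exact Subalgebra.algebraMap_mem _ c
      · have hxS : x ∈ Ideal.span (G : Set A) := by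
          rw [hspan]; exact HomogeneousIdeal.mem_irrelevant_of_mem 𝒜 hn hx
        obtain ⟨c, -, hc⟩ := Submodule.mem_span_finset.mp hxS
        have hxn : x = (decompose 𝒜 x n : A) := (DirectSum.decompose_of_mem_same 𝒜 hx).symm
        rw [hxn, ← hc, DirectSum.decompose_sum, DFinsupp.finsetSum_apply,
          AddSubmonoidClass.coe_finsetSum]
        refine Subalgebra.sum_mem _ fun g hg => ?_
        obtain ⟨l, hl0, hgl⟩ := hGhom g hg
        by_cases hln : l ≤ n
        · rw [smul_eq_mul, DirectSum.coe_decompose_mul_of_right_mem_of_le 𝒜 hgl hln]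
          exact Subalgebra.mul_mem _ (ih (n - l) (by omega) _ (SetLike.coe_mem _))
            (Algebra.subset_adjoin hg)
        · rw [smul_eq_mul, DirectSum.coe_decompose_mul_of_right_mem_of_not_le 𝒜 hgl hln]
          exact Subalgebra.zero_mem _
  refine ⟨⟨G, ?_⟩⟩
  rw [eq_top_iff]
  intro x _
  rw [← DirectSum.sum_support_decompose 𝒜 x]
  exact Subalgebra.sum_mem _ fun i _ => key i _ (SetLike.coe_mem _)

end Groth.Agent.Lib.Helper7.GrIrr
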