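import Groth.Agent.Lib.Helper7.AffineChain
import Groth.Agent.Lib.Helper7.GradedIrrelevant
import Groth.Agent.Lib.Helper12.DepthFiniteMap
import Groth.Agent.Lib.Helper12.DepthLocCoh
import Groth.Agent.Lib.Helper21.DepthKit8
import Groth.Agent.Lib.Helper2.R0S1
import Groth.Agent.S0321

/-!
# Cohen–Macaulayness of `A/(I ∩ J)` at the irrelevant ideal
-/

set_option autoImplicit false
set_option linter.unusedVariables false
set_option linter.style.haveILetI false

namespace Groth.Agent.Lib.Helper7.CMInf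

open Groth.Agent.Lib.Helper21.DepthKit Groth.Agent.Lib.Helper2.R0S1 Groth.Agent.Lib.Helper12
open Groth.Agent.Lib.Helper7.GrIrr Groth.Agent.Lib.Helper12.DepthBC

universe u v

section D1

variable {C : Type v} [CommRing C] [LocCoh.IsCohenMacaulayRing C]

theorem idealDepth_maximal_of_CM (m : Ideal C) [hm : m.IsMaximal] :
    ((LocCoh.idealDepth m C : ℕ∞) : WithBot ℕ∞) = ringKrullDim (Localization.AtPrime m) := by
  have hIM : m • (⊤ : Submodule C C) ≠ ⊤ := by
    rw [smul_top_eq_self]; exact hm.ne_top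
  obtain ⟨q, hq, hmq, hdepth⟩ := exists_prime_depth_localization_eq m hIM
  have hqm : m = q := hm.eq_of_le hq.ne_top hmq
  subst hqm
  haveI := LocCoh.IsCohenMacaulayRing.isCohenMacaulayLocalRing_localization (R := C) m
  have hcm := LocCoh.IsCohenMacaulayLocalRing.supportDim_eq_depth (R := Localization.AtPrime m)
  rw [Module.supportDim_self_eq_ringKrullDim] at hcm
  rw [hcm, ← hdepth, depth_congr (locEquiv m)]

end D1

section dimInf

variable {A : Type v} [CommRing A]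

theorem ringKrullDim_quotient_inf_le (I J : Ideal A) (x : WithBot ℕ∞)
    (hI : ringKrullDim (A ⧸ I) ≤ x) (hJ : ringKrullDim (A ⧸ J) ≤ x) :
    ringKrullDim (A ⧸ (I ⊓ J)) ≤ x := by
  rw [ringKrullDim_quotient] at hI hJ ⊢
  unfold Order.krullDim
  apply iSup_le
  intro c
  have hhead : I ⊓ J ≤ c.head.1.asIdeal := (PrimeSpectrum.mem_zeroLocus _ _).1 c.head.2
  have key : ∀ I' : Ideal A, I' ≤ c.head.1.asIdeal →
      Order.krullDim (PrimeSpectrum.zeroLocus (R := A) I') ≤ x → (c.length : WithBot ℕ∞) ≤ x := by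
    intro I' hI' hx
    let c' : LTSeries (PrimeSpectrum.zeroLocus (R := A) I') :=
      { length := c.length
        toFun := fun i => ⟨(c i).1, (PrimeSpectrum.mem_zeroLocus _ _).2
          (hI'.trans (show c.head.1 ≤ (c i).1 from c.head_le i))⟩
        step := fun i => c.step i }
    exact (Order.LTSeries.length_le_krullDim c').trans hx
  rcases (Ideal.IsPrime.inf_le c.head.1.isPrime).1 hhead with h | h
  · exact key I h hI
  · exact key J h hJ

end dimInf

section exact_seq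

variable {A : Type v} [CommRing A] (I J : Ideal A)

/-- `A/(I ∩ J) → A/I × A/J` -/
noncomputable def fMap : (A ⧸ (I ⊓ J)) →ₗ[A] (A ⧸ I) × (A ⧸ J) :=
  Submodule.liftQ (I ⊓ J) (LinearMap.prod (Submodule.mkQ I) (Submodule.mkQ J)) (by
    intro x hx
    rw [LinearMap.mem_ker]
    show (Submodule.mkQ I x, Submodule.mkQ J x) = 0
    rw [Prod.mk_eq_zero]
    exact ⟨(Submodule.Quotient.mk_eq_zero _).2 hx.1, (Submodule.Quotient.mk_eq_zero _).2 hx.2⟩)

/-- `A/I × A/J → A/(I + J)` -/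
noncomputable def gMap : (A ⧸ I) × (A ⧸ J) →ₗ[A] A ⧸ (I ⊔ J) :=
  LinearMap.coprod
    (Submodule.liftQ I (Submodule.mkQ (I ⊔ J)) (by
      intro x hx
      rw [LinearMap.mem_ker]
      exact (Submodule.Quotient.mk_eq_zero _).2 (Submodule.mem_sup_left hx)))
    (-(Submodule.liftQ J (Submodule.mkQ (I ⊔ J)) (by
      intro x hx
      rw [LinearMap.mem_ker]
      exact (Submodule.Quotient.mk_eq_zero _).2 (Submodule.mem_sup_right hx))))

theorem fMap_mk (a : A) :
    fMap I J (Submodule.Quotient.mk a) = (Submodule.Quotient.mk a, Submodule.Quotient.mk a) := rfl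

theorem gMap_mk (a b : A) :
    gMap I J (Submodule.Quotient.mk a, Submodule.Quotient.mk b) =
      Submodule.Quotient.mk (a - b) := by
  unfold gMap
  rw [LinearMap.coprod_apply, LinearMap.neg_apply]
  show Submodule.Quotient.mk a + -Submodule.Quotient.mk b = _
  rw [← sub_eq_add_neg, ← Submodule.Quotient.mk_sub]

theorem fMap_injective : Function.Injective (fMap I J) := by
  rw [injective_iff_map_eq_zero]
  intro x hx
  obtain ⟨a, rfl⟩ := Submodule.Quotient.mk_surjective _ x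
  rw [fMap_mk, Prod.mk_eq_zero, Submodule.Quotient.mk_eq_zero, Submodule.Quotient.mk_eq_zero] at hx
  exact (Submodule.Quotient.mk_eq_zero _).2 ⟨hx.1, hx.2⟩

theorem gMap_surjective : Function.Surjective (gMap I J) := by
  intro y
  obtain ⟨c, rfl⟩ := Submodule.Quotient.mk_surjective _ y
  refine ⟨(Submodule.Quotient.mk c, Submodule.Quotient.mk 0), ?_⟩
  rw [gMap_mk, sub_zero]

theorem exact_fMap_gMap : Function.Exact (fMap I J) (gMap I J) := by
  rintro ⟨x, y⟩
  obtain ⟨a, rfl⟩ := Submodule.Quotient.mk_surjective _ x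
  obtain ⟨b, rfl⟩ := Submodule.Quotient.mk_surjective _ y
  rw [gMap_mk, Submodule.Quotient.mk_eq_zero]
  constructor
  · intro h
    obtain ⟨i, hi, j, hj, hij⟩ := Submodule.mem_sup.1 h
    refine ⟨Submodule.Quotient.mk (a - i), ?_⟩
    rw [fMap_mk, Prod.mk.injEq]
    constructor
    · rw [Submodule.Quotient.eq]
      simpa using hi
    · rw [Submodule.Quotient.eq]
      have : a - i - b = j := by linear_combination -hij
      rw [this]
      exact hj
  · rintro ⟨z, hz⟩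
    obtain ⟨c, rfl⟩ := Submodule.Quotient.mk_surjective _ z
    rw [fMap_mk, Prod.mk.injEq, Submodule.Quotient.eq, Submodule.Quotient.eq] at hz
    have : a - b = (-(c - a)) + (c - b) := by ring
    rw [this]
    exact Submodule.add_mem_sup (I.neg_mem hz.1) hz.2

end exact_seq

section graded

variable {K : Type u} [Field K] {A : Type v} [CommRing A] [Algebra K A] [IsNoetherianRing A]
  (𝒜 : ℕ → Submodule K A) [GradedAlgebra 𝒜] (h0 : ∀ a ∈ 𝒜 0, ∃ c : K, algebraMap K A c = a)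

include h0 in
theorem map_irrelevant_isMaximal {I : Ideal A} (hI : I.IsHomogeneous 𝒜) (hne : I ≠ ⊤) :
    ((HomogeneousIdeal.irrelevant 𝒜).toIdeal.map (Ideal.Quotient.mk I)).IsMaximal := by
  haveI : Nontrivial A := by
    by_contra hnt
    rw [not_nontrivial_iff_subsingleton] at hnt
    exact hne (Subsingleton.elim _ _)
  have hmax := irrelevant_isMaximal 𝒜 h0
  have hle := le_irrelevant 𝒜 h0 hI hne
  rcases Ideal.map_eq_top_or_isMaximal_of_surjective (Ideal.Quotient.mk I)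
    Ideal.Quotient.mk_surjective hmax with h | h
  · exfalso
    have := congrArg (Ideal.comap (Ideal.Quotient.mk I)) h
    rw [Ideal.comap_map_of_surjective _ Ideal.Quotient.mk_surjective, ← RingHom.ker_eq_comap_bot,
      Ideal.mk_ker, Ideal.comap_top, sup_eq_left.2 hle] at this
    exact hmax.ne_top this
  · exact h

include h0 in
theorem minimalPrimes_quotient_le {I : Ideal A} (hI : I.IsHomogeneous 𝒜) (hne : I ≠ ⊤) :
    ∀ P ∈ minimalPrimes (A ⧸ I),
      P ≤ (HomogeneousIdeal.irrelevant 𝒜).toIdeal.map (Ideal.Quotient.mk I) := by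
  intro P hP
  have hcomap : P.comap (Ideal.Quotient.mk I) ∈ I.minimalPrimes := by
    rw [Ideal.minimalPrimes_eq_comap]
    exact ⟨P, hP, rfl⟩
  have hhom := isHomogeneous_of_mem_minimalPrimes 𝒜 hI hcomap
  have hle := le_irrelevant 𝒜 h0 hhom hcomap.1.1.ne_top
  rw [← Ideal.map_comap_of_surjective _ Ideal.Quotient.mk_surjective P]
  exact Ideal.map_mono hle

include h0 in
theorem idealDepth_quotient_of_CM {I : Ideal A} (hI : I.IsHomogeneous 𝒜)
    [LocCoh.IsCohenMacaulayRing (A ⧸ I)] (d : ℕ) (hdim : ringKrullDim (A ⧸ I) = d) :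
    LocCoh.idealDepth (HomogeneousIdeal.irrelevant 𝒜).toIdeal (A ⧸ I) = d := by
  have hne : I ≠ ⊤ := by
    rintro rfl
    haveI : Subsingleton (A ⧸ (⊤ : Ideal A)) := Ideal.Quotient.subsingleton_iff.2 rfl
    rw [ringKrullDim_eq_bot_of_subsingleton] at hdim
    exact absurd hdim (by simp)
  haveI := finiteType 𝒜 h0
  haveI hmax := map_irrelevant_isMaximal 𝒜 h0 hI hne
  rw [idealDepth_eq_of_finite (A := A) (B := A ⧸ I) (A ⧸ I) (HomogeneousIdeal.irrelevant 𝒜).toIdeal]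
  have h1 := idealDepth_maximal_of_CM (C := A ⧸ I)
    ((HomogeneousIdeal.irrelevant 𝒜).toIdeal.map (Ideal.Quotient.mk I))
  have h2 := AffChain.ringKrullDim_localization_eq (k := K) (A ⧸ I)
    ((HomogeneousIdeal.irrelevant 𝒜).toIdeal.map (Ideal.Quotient.mk I))
    (minimalPrimes_quotient_le 𝒜 h0 hI hne)
  rw [h2, hdim] at h1
  have h3 : LocCoh.idealDepth ((HomogeneousIdeal.irrelevant 𝒜).toIdeal.map (Ideal.Quotient.mk I))
      (A ⧸ I) = (d : ℕ∞) := by exact_mod_cast h1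
  exact h3

local notation "𝔫" => HomogeneousIdeal.toIdeal (HomogeneousIdeal.irrelevant 𝒜)

include h0 in
theorem main (I J : Ideal A) (hI : I.IsHomogeneous 𝒜) (hJ : J.IsHomogeneous 𝒜) (e : ℕ)
    (he : 1 ≤ e)
    (hIcm : LocCoh.IsCohenMacaulayRing (A ⧸ I)) (hJcm : LocCoh.IsCohenMacaulayRing (A ⧸ J))
    (hIJcm : LocCoh.IsCohenMacaulayRing (A ⧸ (I ⊔ J)))
    (hIdim : ringKrullDim (A ⧸ I) = (e : WithBot ℕ∞))
    (hJdim : ringKrullDim (A ⧸ J) = (e : WithBot ℕ∞))
    (hIJdim : ringKrullDim (A ⧸ (I ⊔ J)) = ((e - 1 : ℕ) : WithBot ℕ∞))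
    [hm : (Ideal.map (Ideal.Quotient.mk (I ⊓ J)) 𝔫).IsPrime] :
    LocCoh.IsCohenMacaulayLocalRing (Localization.AtPrime (Ideal.map (Ideal.Quotient.mk (I ⊓ J)) 𝔫)) ∧
      ringKrullDim (Localization.AtPrime (Ideal.map (Ideal.Quotient.mk (I ⊓ J)) 𝔫)) =
        (e : WithBot ℕ∞) := by
  have dI : LocCoh.idealDepth 𝔫 (A ⧸ I) = e := idealDepth_quotient_of_CM 𝒜 h0 hI e hIdim
  have dJ : LocCoh.idealDepth 𝔫 (A ⧸ J) = e := idealDepth_quotient_of_CM 𝒜 h0 hJ e hJdim
  have dIJ : LocCoh.idealDepth 𝔫 (A ⧸ (I ⊔ J)) = ((e - 1 : ℕ) : ℕ∞) :=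
    idealDepth_quotient_of_CM 𝒜 h0 (hI.sup hJ) (e - 1) hIJdim
  have hprod := (Groth.Agent.S0321.result A 𝔫 (A ⧸ I) ((A ⧸ I) × (A ⧸ J)) (A ⧸ J)
    (LinearMap.inl A (A ⧸ I) (A ⧸ J)) (LinearMap.snd A (A ⧸ I) (A ⧸ J))
    LinearMap.inl_injective LinearMap.snd_surjective Function.Exact.inl_snd).1
  rw [dI, dJ, min_self] at hprod
  have hker := (Groth.Agent.S0321.result A 𝔫 (A ⧸ (I ⊓ J)) ((A ⧸ I) × (A ⧸ J)) (A ⧸ (I ⊔ J))
    (fMap I J) (gMap I J) (fMap_injective I J) (gMap_surjective I J) (exact_fMap_gMap I J)).2.2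
  rw [dIJ] at hker
  have he1 : ((e - 1 : ℕ) : ℕ∞) + 1 = e := by
    have : e - 1 + 1 = e := by omega
    exact_mod_cast this
  rw [he1] at hker
  have hdk : (e : ℕ∞) ≤ LocCoh.idealDepth 𝔫 (A ⧸ (I ⊓ J)) := le_trans (le_min hprod le_rfl) hker
  rw [idealDepth_eq_of_finite (A := A) (B := A ⧸ (I ⊓ J)) (A ⧸ (I ⊓ J)) 𝔫] at hdk
  have hloc := idealDepth_le_depth_localization (A := A ⧸ (I ⊓ J)) (M := A ⧸ (I ⊓ J))
    (Ideal.map (Ideal.Quotient.mk (I ⊓ J)) 𝔫) (Ideal.map (Ideal.Quotient.mk (I ⊓ J)) 𝔫) le_rfl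
  rw [depth_congr (locEquiv (Ideal.map (Ideal.Quotient.mk (I ⊓ J)) 𝔫))] at hloc
  have hdepth : (e : ℕ∞) ≤ LocCoh.depth (Localization.AtPrime (Ideal.map (Ideal.Quotient.mk (I ⊓ J)) 𝔫))
      (Localization.AtPrime (Ideal.map (Ideal.Quotient.mk (I ⊓ J)) 𝔫)) := hdk.trans hloc
  have hdimB : ringKrullDim (A ⧸ (I ⊓ J)) ≤ e :=
    ringKrullDim_quotient_inf_le I J e hIdim.le hJdim.le
  have hdimloc : ringKrullDim (Localization.AtPrime (Ideal.map (Ideal.Quotient.mk (I ⊓ J)) 𝔫)) ≤ e := by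
    rw [IsLocalization.AtPrime.ringKrullDim_eq_height (Ideal.map (Ideal.Quotient.mk (I ⊓ J)) 𝔫)]
    exact (Ideal.height_le_ringKrullDim_of_ne_top hm.ne_top).trans hdimB
  have hle := depth_le_supportDim (A := Localization.AtPrime (Ideal.map (Ideal.Quotient.mk (I ⊓ J)) 𝔫))
    (M := Localization.AtPrime (Ideal.map (Ideal.Quotient.mk (I ⊓ J)) 𝔫))
  rw [Module.supportDim_self_eq_ringKrullDim] at hle
  have h1 : (((e : ℕ) : ℕ∞) : WithBot ℕ∞) ≤
      ((LocCoh.depth (Localization.AtPrime (Ideal.map (Ideal.Quotient.mk (I ⊓ J)) 𝔫))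
        (Localization.AtPrime (Ideal.map (Ideal.Quotient.mk (I ⊓ J)) 𝔫)) : ℕ∞) : WithBot ℕ∞) :=
    WithBot.coe_le_coe.2 hdepth
  have hdimeq : ringKrullDim (Localization.AtPrime (Ideal.map (Ideal.Quotient.mk (I ⊓ J)) 𝔫)) =
      (e : WithBot ℕ∞) := le_antisymm hdimloc (h1.trans hle)
  refine ⟨⟨?_⟩, hdimeq⟩
  rw [Module.supportDim_self_eq_ringKrullDim]
  exact le_antisymm (hdimeq.le.trans h1) hle

end graded

end Groth.Agent.Lib.Helper7.CMInf
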