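import Groth.Agent.Lib.Helper7.CatenaryAffine
import Mathlib.RingTheory.Ideal.KrullsHeightTheorem
import Mathlib.RingTheory.KrullDimension.NonZeroDivisors

/-!
# Chains of primes in finitely generated algebras over a field

* `exists_ltSeries_of_le_coheight`: in a finitely generated algebra over a field, for a prime
  `p` contained in a maximal ideal `𝔪` and `n ≤ dim A/p` there is a chain of primes from `p` to
  `𝔪` of length at least `n`.
* `ringKrullDim_le_height_of_minimalPrimes_le`: if every minimal prime lies in the maximal ideal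
  `𝔪` then `dim A ≤ ht 𝔪`.
-/

set_option autoImplicit false
set_option linter.unusedVariables false
set_option linter.style.haveILetI false

namespace Groth.Agent.Lib.Helper7.AffChain

universe u v

theorem ringKrullDim_quotient_eq_coheight {A : Type*} [CommRing A] (q : PrimeSpectrum A) :
    ringKrullDim (A ⧸ q.asIdeal) = (Order.coheight q : ℕ∞) := by
  rw [ringKrullDim_quotient, Order.coheight_eq_krullDim_Ici]
  have : PrimeSpectrum.zeroLocus (q.asIdeal : Set A) = Set.Ici q := by
    ext x
    rw [PrimeSpectrum.mem_zeroLocus, Set.mem_Ici]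
    rfl
  rw [this]

variable {k : Type u} [Field k] (A : Type v) [CommRing A] [Algebra k A] [Algebra.FiniteType k A]

include k in
theorem coheight_covBy {q p₁ : PrimeSpectrum A} (hcov : q ⋖ p₁) :
    Order.coheight p₁ + 1 = Order.coheight q := by
  have h := CatAff.dim_quotient_covBy_step (k := k) A q p₁ hcov
  rw [ringKrullDim_quotient_eq_coheight, ringKrullDim_quotient_eq_coheight] at h
  exact_mod_cast h

include k in
/-- between a prime and a strictly bigger prime there is a cover -/
theorem exists_covBy_le {p m : PrimeSpectrum A} (hpm : p < m) :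
    ∃ q : PrimeSpectrum A, p ⋖ q ∧ q ≤ m := by
  haveI : IsNoetherianRing A := Algebra.FiniteType.isNoetherianRing k A
  let S : Set (PrimeSpectrum A) := {r | p < r ∧ r ≤ m}
  have hne : S.Nonempty := ⟨m, hpm, le_rfl⟩
  obtain ⟨q, hqS, hqmin⟩ := (InvImage.wf (fun r : PrimeSpectrum A => r.asIdeal.height)
    (wellFounded_lt (α := ℕ∞))).has_min S hne
  refine ⟨q, ⟨hqS.1, ?_⟩, hqS.2⟩
  intro r hpr hrq
  have hrS : r ∈ S := ⟨hpr, hrq.le.trans hqS.2⟩
  apply hqmin r hrS
  show r.asIdeal.height < q.asIdeal.height
  haveI := r.isPrime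
  haveI := q.isPrime
  exact Ideal.height_strict_mono_of_isPrime_of_isPrime hrq

include k in
theorem exists_ltSeries_of_le_coheight (m : PrimeSpectrum A) (hm : m.asIdeal.IsMaximal) :
    ∀ (n : ℕ) (p : PrimeSpectrum A), p ≤ m → (n : ℕ∞) ≤ Order.coheight p →
      ∃ c : LTSeries (PrimeSpectrum A), c.head = p ∧ c.last = m ∧ n ≤ c.length := by
  intro n
  induction n with
  | zero =>
    intro p hpm _
    rcases eq_or_lt_of_le hpm with h | h
    · exact ⟨RelSeries.singleton _ p, rfl, h, Nat.zero_le _⟩
    · exact ⟨(RelSeries.singleton _ m).cons p h, rfl, by simp, Nat.zero_le _⟩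
  | succ n ih =>
    intro p hpm hn
    have hne : p ≠ m := by
      rintro rfl
      have h0 : Order.coheight p = 0 := Order.coheight_eq_zero.2 (PrimeSpectrum.isMax_iff.2 hm)
      rw [h0] at hn
      simp at hn
    obtain ⟨q, hpq, hqm⟩ := exists_covBy_le (k := k) A (lt_of_le_of_ne hpm hne)
    have hstep := coheight_covBy (k := k) A hpq
    have hq : (n : ℕ∞) ≤ Order.coheight q := by
      rw [← hstep] at hn
      have : ((n : ℕ∞) + 1) ≤ Order.coheight q + 1 := by exact_mod_cast hn
      exact (ENat.add_le_add_iff_right (by simp)).1 this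
    obtain ⟨c, hch, hcl, hlen⟩ := ih q hqm hq
    refine ⟨c.cons p (by rw [hch]; exact hpq.lt), rfl, by simp [hcl], ?_⟩
    simp only [RelSeries.cons_length]
    omega

include k in
/-- If every minimal prime of `A` lies in the maximal ideal `𝔪`, then `dim A ≤ ht 𝔪`. -/
theorem ringKrullDim_le_height_of_minimalPrimes_le (m : Ideal A) [hm : m.IsMaximal]
    (hmin : ∀ P ∈ minimalPrimes A, P ≤ m) :
    ringKrullDim A ≤ (m.height : WithBot ℕ∞) := by
  haveI : m.IsPrime := hm.isPrime
  unfold ringKrullDim Order.krullDim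
  apply iSup_le
  intro c
  obtain ⟨P, hP, hPle⟩ := Ideal.exists_minimalPrimes_le (I := ⊥) (J := c.head.asIdeal) bot_le
  have hPprime : P.IsPrime := hP.1.1
  let P' : PrimeSpectrum A := ⟨P, hPprime⟩
  have h1 : (c.length : ℕ∞) ≤ Order.coheight P' :=
    (Order.length_le_coheight_head (p := c)).trans (Order.coheight_anti (show P' ≤ c.head from hPle))
  obtain ⟨c', hc'h, hc'l, hlen⟩ := exists_ltSeries_of_le_coheight (k := k) A ⟨m, inferInstance⟩ hm
    c.length P' (hmin P hP) h1
  have h2 : (c'.length : ℕ∞) ≤ Order.height c'.last := Order.length_le_height_last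
  rw [hc'l, ← PrimeSpectrum.height_eq_orderHeight] at h2
  have h3 : (c.length : ℕ∞) ≤ m.height := le_trans (by exact_mod_cast hlen) h2
  exact_mod_cast h3

include k in
theorem ringKrullDim_localization_eq (m : Ideal A) [hm : m.IsMaximal]
    (hmin : ∀ P ∈ minimalPrimes A, P ≤ m) :
    ringKrullDim (Localization.AtPrime m) = ringKrullDim A := by
  rw [IsLocalization.AtPrime.ringKrullDim_eq_height m]
  exact le_antisymm (Ideal.height_le_ringKrullDim_of_ne_top hm.ne_top)
    (ringKrullDim_le_height_of_minimalPrimes_le (k := k) A m hmin)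

end Groth.Agent.Lib.Helper7.AffChain
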