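import Groth.Agent.Lib.Helper7.HartogsScheme
import Mathlib.Topology.Connected.PathConnected
import Mathlib.Topology.Connected.LocallyConnected

/-!
# Locally Noetherian schemes are locally connected; clopen subsets and idempotents; Hartogs and
connected components.
-/

set_option autoImplicit false
set_option linter.unusedVariables false
set_option linter.style.haveILetI false

universe u

namespace Groth.Agent.Lib.Helper7.LocConn

open AlgebraicGeometry CategoryTheory Opposite TopologicalSpace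
open Groth.Agent.Lib.Helper7.Hartogs

/-- In a Noetherian ring, there is `a ∉ p` such that every minimal prime below a prime not
containing `a` is also below `p`. -/
theorem exists_not_mem_minimal_le {A : Type*} [CommRing A] [IsNoetherianRing A]
    (p : Ideal A) [hp : p.IsPrime] :
    ∃ a, a ∉ p ∧ ∀ P ∈ minimalPrimes A, a ∉ P → P ≤ p := by
  classical
  have hfin : (minimalPrimes A).Finite := minimalPrimes.finite_of_isNoetherianRing A
  set S : Finset (Ideal A) := hfin.toFinset.filter (fun P => ¬ P ≤ p) with hS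
  have h1 : ¬ (S.inf id ≤ p) := by
    intro hle
    rw [Ideal.IsPrime.inf_le' hp] at hle
    obtain ⟨P, hPS, hPp⟩ := hle
    exact (Finset.mem_filter.1 hPS).2 hPp
  obtain ⟨a, haS, hap⟩ := SetLike.not_le_iff_exists.1 h1
  refine ⟨a, hap, fun P hP haP => ?_⟩
  by_contra hPp
  apply haP
  have : P ∈ S := Finset.mem_filter.2 ⟨hfin.mem_toFinset.2 hP, hPp⟩
  exact (Finset.inf_le this : S.inf id ≤ id P) haS

variable {X : Scheme.{u}}

theorem exists_nhds_joinedIn [IsLocallyNoetherian X] (F : X.Opens) (y : X) (hy : y ∈ F) :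
    ∃ N : X.Opens, y ∈ N ∧ N ≤ F ∧ ∀ z ∈ N, JoinedIn (F : Set X) y z := by
  obtain ⟨W, hW, hyW, hWF⟩ := exists_isAffineOpen_mem_and_subset (x := y) (U := F) hy
  haveI : IsNoetherianRing Γ(X, W) := IsLocallyNoetherian.component_noetherian ⟨W, hW⟩
  have hmemW : ∀ q : PrimeSpectrum Γ(X, W), hW.fromSpec q ∈ W := by
    intro q
    have : hW.fromSpec q ∈ Set.range hW.fromSpec := ⟨q, rfl⟩
    rw [hW.range_fromSpec] at this
    exact this
  have hsurj : ∀ x ∈ W, ∃ q : PrimeSpectrum Γ(X, W), hW.fromSpec q = x := by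
    intro x hx
    have : x ∈ Set.range hW.fromSpec := by rw [hW.range_fromSpec]; exact hx
    exact this
  have hbasic : ∀ (q : PrimeSpectrum Γ(X, W)) (c : Γ(X, W)),
      hW.fromSpec q ∈ X.basicOpen c ↔ c ∉ q.asIdeal := by
    intro q c
    have h1 : hW.fromSpec q ∈ X.basicOpen c ↔ q ∈ hW.fromSpec ⁻¹ᵁ X.basicOpen c := Iff.rfl
    rw [h1, hW.fromSpec_preimage_basicOpen]
    rfl
  have hspec : ∀ q q' : PrimeSpectrum Γ(X, W), q.asIdeal ≤ q'.asIdeal →
      hW.fromSpec q ⤳ hW.fromSpec q' := by
    intro q q' h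
    exact ((PrimeSpectrum.le_iff_specializes q q').1 h).map hW.fromSpec.continuous
  obtain ⟨p, hp⟩ := hsurj y hyW
  haveI := p.2
  obtain ⟨a, hap, ha⟩ := exists_not_mem_minimal_le p.asIdeal
  refine ⟨X.basicOpen a, ?_, (X.basicOpen_le a).trans hWF, ?_⟩
  · rw [← hp]
    exact (hbasic p a).2 hap
  · intro z hza
    obtain ⟨q, rfl⟩ := hsurj z (X.basicOpen_le a hza)
    have haq : a ∉ q.asIdeal := (hbasic q a).1 hza
    haveI := q.2
    obtain ⟨P, hP, hPq⟩ := Ideal.exists_minimalPrimes_le (bot_le : (⊥ : Ideal Γ(X, W)) ≤ q.asIdeal)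
    have hPp : P ≤ p.asIdeal := ha P hP (fun h => haq (hPq h))
    let η : PrimeSpectrum Γ(X, W) := ⟨P, hP.1.1⟩
    have hηF : hW.fromSpec η ∈ (F : Set X) := hWF (hmemW η)
    have h1 : JoinedIn (F : Set X) (hW.fromSpec η) y :=
      (hp ▸ hspec η p hPp).joinedIn hηF hy
    have h2 : JoinedIn (F : Set X) (hW.fromSpec η) (hW.fromSpec q) :=
      (hspec η q hPq).joinedIn hηF (hWF (hmemW q))
    exact h1.symm.trans h2

instance locallyConnectedSpace [IsLocallyNoetherian X] : LocallyConnectedSpace X := by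
  rw [locallyConnectedSpace_iff_connectedComponentIn_open]
  intro F hF x hx
  rw [isOpen_iff_forall_mem_open]
  intro y hy
  have hyF : y ∈ F := connectedComponentIn_subset F x hy
  obtain ⟨N, hyN, hNF, hN⟩ := exists_nhds_joinedIn ⟨F, hF⟩ y hyF
  refine ⟨N, ?_, N.2, hyN⟩
  intro z hz
  have hj : JoinedIn F y z := hN z hz
  rw [connectedComponentIn_eq hy]
  have hsub : pathComponentIn F y ⊆ connectedComponentIn F y :=
    (isPathConnected_pathComponentIn hyF).isConnected.isPreconnected.subset_connectedComponentIn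
      (mem_pathComponentIn_self hyF) pathComponentIn_subset
  exact hsub hj

/-- A section over `T₁ ⊔ T₂` (disjoint opens) which is `1` on `T₁` and `0` on `T₂`. -/
theorem exists_indicator (T₁ T₂ : X.Opens) (hdisj : T₁ ⊓ T₂ = ⊥) :
    ∃ e : Γ(X, T₁ ⊔ T₂), res le_sup_left e = 1 ∧ res le_sup_right e = 0 := by
  let Us : Bool → X.Opens := fun b => if b then T₁ else T₂
  let sf : ∀ b : Bool, Γ(X, Us b) := fun b => if b then 1 else 0
  have hle : ∀ b, Us b ≤ T₁ ⊔ T₂ := by
    intro b
    cases b
    · exact le_sup_right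
    · exact le_sup_left
  have hcompat : TopCat.Presheaf.IsCompatible X.sheaf.1 Us sf := by
    intro i j
    cases i <;> cases j
    · rfl
    · have hsub : Subsingleton Γ(X, Us false ⊓ Us true) := by
        have : Us false ⊓ Us true = ⊥ := by
          show T₂ ⊓ T₁ = ⊥
          rw [inf_comm]; exact hdisj
        rw [this]; infer_instance
      exact @Subsingleton.elim _ hsub _ _
    · have hsub : Subsingleton Γ(X, Us true ⊓ Us false) := by
        have : Us true ⊓ Us false = ⊥ := hdisj
        rw [this]; infer_instance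
      exact @Subsingleton.elim _ hsub _ _
    · rfl
  have hcover : T₁ ⊔ T₂ ≤ ⨆ b, Us b := by
    rw [iSup_bool_eq]
    exact le_rfl
  obtain ⟨s, hs, -⟩ := TopCat.Sheaf.existsUnique_gluing' X.sheaf Us (T₁ ⊔ T₂)
    (fun b => homOfLE (hle b)) hcover sf hcompat
  exact ⟨s, hs true, hs false⟩

theorem bijective_res_congr' {V₁ V₂ V₁' V₂' : X.Opens} (e : V₁ = V₂)
    (e' : V₁' = V₂') (h₁ : V₁ ≤ V₁') (h₂ : V₂ ≤ V₂') :
    Function.Bijective (res h₁) → Function.Bijective (res h₂) := by
  subst e e'
  exact id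

/-- If sections extend uniquely from `T₁ ⊔ T₂` (disjoint opens) to `X`, the clopen decomposition
extends. -/
theorem exists_clopen_extension_of_bijective (T₁ T₂ : X.Opens) (hdisj : T₁ ⊓ T₂ = ⊥)
    (hb : Function.Bijective (res (le_top : T₁ ⊔ T₂ ≤ ⊤))) :
    ∃ T₁' T₂' : X.Opens, T₁' ⊓ T₂' = ⊥ ∧ T₁' ⊔ T₂' = ⊤ ∧ T₁' ⊓ (T₁ ⊔ T₂) = T₁ := by
  obtain ⟨e, he1, he0⟩ := exists_indicator T₁ T₂ hdisj
  obtain ⟨e', he'⟩ := hb.2 e
  have h1 : res (le_top : T₁ ≤ ⊤) e' = 1 := by rw [← he1, ← he', res_res]
  have h0 : res (le_top : T₂ ≤ ⊤) e' = 0 := by rw [← he0, ← he', res_res]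
  have hee : e * e = e := by
    apply TopCat.Sheaf.eq_of_locally_eq' X.sheaf (fun b : Bool => if b then T₁ else T₂) (T₁ ⊔ T₂)
      (fun b => homOfLE (by cases b; exact le_sup_right; exact le_sup_left))
    · rw [iSup_bool_eq]; exact le_rfl
    · intro b
      cases b
      · show res le_sup_right (e * e) = res le_sup_right e
        rw [map_mul, he0, mul_zero]
      · show res le_sup_left (e * e) = res le_sup_left e
        rw [map_mul, he1, mul_one]
  have hidem : e' * e' = e' := by
    apply hb.1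
    rw [map_mul, he', hee]
  refine ⟨X.basicOpen e', X.basicOpen (1 - e'), ?_, ?_, ?_⟩
  · rw [← Scheme.basicOpen_mul, mul_sub, mul_one, hidem, sub_self, Scheme.basicOpen_zero]
  · rw [eq_top_iff]
    intro x _
    rcases IsLocalRing.isUnit_or_isUnit_one_sub_self (X.presheaf.germ ⊤ x trivial e') with h | h
    · exact Or.inl ((X.mem_basicOpen_top e' x).2 h)
    · refine Or.inr ((X.mem_basicOpen_top (1 - e') x).2 ?_)
      rw [map_sub, map_one]
      exact h
  · have hT1 : T₁ ⊓ X.basicOpen e' = T₁ := by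
      have h2 := X.basicOpen_res e' (homOfLE (le_top : T₁ ≤ ⊤)).op
      rw [← h2]
      show X.basicOpen (res le_top e') = T₁
      rw [h1, Scheme.basicOpen_one]
    have hT2 : T₂ ⊓ X.basicOpen e' = ⊥ := by
      have h2 := X.basicOpen_res e' (homOfLE (le_top : T₂ ≤ ⊤)).op
      rw [← h2]
      show X.basicOpen (res le_top e') = ⊥
      rw [h0, Scheme.basicOpen_zero]
    rw [inf_sup_left, inf_comm, hT1, inf_comm, hT2, sup_bot_eq]

variable [IsLocallyNoetherian X] (U : X.Opens)
  (hU : ∀ x : X, x ∉ U → (2 : ℕ∞) ≤ LocCoh.depth (X.presheaf.stalk x) (X.presheaf.stalk x))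

include hU in
/-- Under Hartogs' condition, a clopen decomposition of `U` extends to one of `X`. -/
theorem exists_clopen_extension (T₁ T₂ : X.Opens) (hdisj : T₁ ⊓ T₂ = ⊥) (hsup : T₁ ⊔ T₂ = U) :
    ∃ T₁' T₂' : X.Opens, T₁' ⊓ T₂' = ⊥ ∧ T₁' ⊔ T₂' = ⊤ ∧ T₁' ⊓ U = T₁ := by
  subst hsup
  have hb : Function.Bijective (res (le_top : T₁ ⊔ T₂ ≤ ⊤)) :=
    bijective_res_congr' (top_inf_eq _) rfl _ _ (bijective_res_of_depth (T₁ ⊔ T₂) hU ⊤)
  exact exists_clopen_extension_of_bijective T₁ T₂ hdisj hb

include hU in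
/-- Under Hartogs' condition, `U ↪ X` induces a bijection on connected components. -/
theorem bijective_connectedComponentsMap :
    Function.Bijective (Continuous.connectedComponentsMap
      (continuous_subtype_val : Continuous (fun x : U => (x : X)))) := by
  constructor
  · intro c c' hcc'
    obtain ⟨u, rfl⟩ := ConnectedComponents.surjective_coe c
    obtain ⟨u', rfl⟩ := ConnectedComponents.surjective_coe c'
    rw [Continuous.connectedComponentsMap_mk, Continuous.connectedComponentsMap_mk,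
      ConnectedComponents.coe_eq_coe'] at hcc'
    rw [ConnectedComponents.coe_eq_coe']
    have hlc : LocallyConnectedSpace U := U.2.locallyConnectedSpace
    have hTclopen : IsClopen (connectedComponent u') := @isClopen_connectedComponent _ _ hlc _
    let T₁ : X.Opens := ⟨Subtype.val '' (connectedComponent u'),
      U.2.isOpenMap_subtype_val _ hTclopen.isOpen⟩
    let T₂ : X.Opens := ⟨Subtype.val '' (connectedComponent u')ᶜ,
      U.2.isOpenMap_subtype_val _ hTclopen.compl.isOpen⟩
    have hdisj : T₁ ⊓ T₂ = ⊥ := by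
      rw [eq_bot_iff]
      rintro x ⟨⟨v, hv, rfl⟩, ⟨w, hw, hwv⟩⟩
      have : w = v := Subtype.ext hwv
      exact hw (this ▸ hv)
    have hsup : T₁ ⊔ T₂ = U := by
      apply le_antisymm
      · rintro x (⟨v, hv, rfl⟩ | ⟨v, hv, rfl⟩)
        · exact v.2
        · exact v.2
      · intro x hx
        by_cases h : (⟨x, hx⟩ : U) ∈ connectedComponent u'
        · exact Or.inl ⟨⟨x, hx⟩, h, rfl⟩
        · exact Or.inr ⟨⟨x, hx⟩, h, rfl⟩
    obtain ⟨T₁', T₂', hd', hs', hT₁'⟩ := exists_clopen_extension U hU T₁ T₂ hdisj hsup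
    have hclopen' : IsClopen (T₁' : Set X) := by
      refine ⟨?_, T₁'.2⟩
      have hcompl : (T₁' : Set X)ᶜ = (T₂' : Set X) := by
        ext x
        constructor
        · intro hx
          have : x ∈ T₁' ⊔ T₂' := by rw [hs']; trivial
          rcases this with h | h
          · exact absurd h hx
          · exact h
        · intro hx hx1
          have : x ∈ T₁' ⊓ T₂' := ⟨hx1, hx⟩
          rw [hd'] at this
          exact this
      rw [← isOpen_compl_iff, hcompl]
      exact T₂'.2
    have hu'T : (u' : X) ∈ T₁' := by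
      have : (u' : X) ∈ T₁ := ⟨u', mem_connectedComponent, rfl⟩
      rw [← hT₁'] at this
      exact this.1
    have hsub := hclopen'.connectedComponent_subset hu'T
    have huT1 : (u : X) ∈ T₁' ⊓ U := ⟨hsub hcc', u.2⟩
    rw [hT₁'] at huT1
    obtain ⟨v, hvT, hv⟩ := huT1
    have : v = u := Subtype.ext hv
    exact this ▸ hvT
  · intro c
    obtain ⟨x, rfl⟩ := ConnectedComponents.surjective_coe c
    by_cases hne : ∃ u ∈ U, u ∈ connectedComponent x
    · obtain ⟨u, huU, hu⟩ := hne
      refine ⟨ConnectedComponents.mk ⟨u, huU⟩, ?_⟩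
      rw [Continuous.connectedComponentsMap_mk, ConnectedComponents.coe_eq_coe']
      exact hu
    · exfalso
      push Not at hne
      let C : X.Opens := ⟨connectedComponent x, isOpen_connectedComponent⟩
      have hCU : C ⊓ U = ⊥ := by
        rw [eq_bot_iff]
        rintro y ⟨hyC, hyU⟩
        exact hne y hyU hyC
      have hb := bijective_res_of_depth U hU C
      have hsub : Subsingleton Γ(X, C ⊓ U) := by rw [hCU]; infer_instance
      have h10 : (1 : Γ(X, C)) = 0 := hb.1 (@Subsingleton.elim _ hsub _ _)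
      have hC : C = ⊥ := by
        have h3 : X.basicOpen (1 : Γ(X, C)) = C := Scheme.basicOpen_one X
        rw [h10, Scheme.basicOpen_zero] at h3
        exact h3.symm
      have hx : x ∈ C := mem_connectedComponent
      rw [hC] at hx
      exact hx

end Groth.Agent.Lib.Helper7.LocConn
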