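import Groth.Agent.S2604
import Groth.Agent.Lib.Helper7.FibreStalkIso
import Groth.Agent.Lib.Helper7.HartogsScheme
import Groth.Prelude.Def_MoreMor

/-!
# Cohen–Macaulay morphisms at a point via the local ring `O_{X,x}/m_y O_{X,x}`
-/

universe u

open CategoryTheory CategoryTheory.Limits AlgebraicGeometry TopologicalSpace IsLocalRing TensorProduct

namespace Groth.Agent.Lib.Helper7.FibreCM

open Groth.Agent.Lib.Helper21

/-- Cohen–Macaulay local rings are invariant under ring isomorphisms -/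
theorem isCM_of_ringEquiv {A A' : Type u} [CommRing A] [CommRing A'] (e : A ≃+* A')
    [hA : LocCoh.IsCohenMacaulayLocalRing A] : LocCoh.IsCohenMacaulayLocalRing A' := by
  haveI : IsNoetherianRing A' := isNoetherianRing_of_ringEquiv A e
  haveI : IsLocalRing A' := e.isLocalRing
  refine { supportDim_eq_depth := ?_ }
  rw [Module.supportDim_self_eq_ringKrullDim, ← ringKrullDim_eq_of_ringEquiv e,
    ← Groth.Agent.Lib.Helper7.Hartogs.depth_eq_of_ringEquiv e,
    ← Module.supportDim_self_eq_ringKrullDim]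
  exact hA.supportDim_eq_depth

theorem isCM_iff_of_ringEquiv {A A' : Type u} [CommRing A] [CommRing A'] (e : A ≃+* A') :
    LocCoh.IsCohenMacaulayLocalRing A ↔ LocCoh.IsCohenMacaulayLocalRing A' :=
  ⟨fun _ => isCM_of_ringEquiv e, fun _ => isCM_of_ringEquiv e.symm⟩

section Flat

variable (A B : Type u) [CommRing A] [CommRing B] [IsNoetherianRing A] [IsNoetherianRing B]
  [IsLocalRing A] [IsLocalRing B] [Algebra A B] [IsLocalHom (algebraMap A B)]

/-- the fibre module of `B` is Cohen–Macaulay iff the fibre ring is a Cohen–Macaulay local ring -/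
theorem isCM_fibMod_iff :
    LocCoh.IsCohenMacaulayModule (EGA4.FibRing A B) (EGA4.FibMod A B B) ↔
      LocCoh.IsCohenMacaulayLocalRing (B ⧸ (maximalIdeal A).map (algebraMap A B)) := by
  have heq : (EGA4.mB A B • (⊤ : Submodule B B)) = EGA4.mB A B := by
    rw [smul_eq_mul, Ideal.mul_top]
  let e0 : EGA4.FibMod A B B ≃ₗ[B] EGA4.FibRing A B := Submodule.quotEquivOfEq _ _ heq
  let e : EGA4.FibMod A B B ≃ₗ[EGA4.FibRing A B] EGA4.FibRing A B :=
    e0.extendScalarsOfSurjective Ideal.Quotient.mk_surjective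
  have h1 : LocCoh.IsCohenMacaulayModule (EGA4.FibRing A B) (EGA4.FibMod A B B) ↔
      LocCoh.IsCohenMacaulayModule (EGA4.FibRing A B) (EGA4.FibRing A B) := by
    unfold LocCoh.IsCohenMacaulayModule
    rw [Module.supportDim_eq_of_equiv e, DepthKit.depth_congr e]
  rw [h1]
  constructor
  · intro h
    exact { supportDim_eq_depth := h }
  · intro h
    exact h.supportDim_eq_depth

/-- **flat local homomorphisms**: `B` is Cohen–Macaulay iff `A` and the closed fibre are -/
theorem isCM_iff_of_flat [Module.Flat A B] :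
    LocCoh.IsCohenMacaulayLocalRing B ↔
      (LocCoh.IsCohenMacaulayLocalRing A ∧
        LocCoh.IsCohenMacaulayLocalRing (B ⧸ (maximalIdeal A).map (algebraMap A B))) := by
  have key := Groth.Agent.S2604.result A B A B
  rw [isCM_fibMod_iff] at key
  let e : B ⊗[A] A ≃ₗ[B] B := TensorProduct.AlgebraTensorModule.rid A B B
  have h1 : LocCoh.IsCohenMacaulayModule B (B ⊗[A] A) ↔ LocCoh.IsCohenMacaulayModule B B := by
    unfold LocCoh.IsCohenMacaulayModule
    rw [Module.supportDim_eq_of_equiv e, DepthKit.depth_congr e]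
  rw [h1] at key
  constructor
  · intro h
    obtain ⟨h2, h3⟩ := key.1 h.supportDim_eq_depth
    exact ⟨{ supportDim_eq_depth := h2 }, h3⟩
  · rintro ⟨h2, h3⟩
    exact { supportDim_eq_depth := key.2 ⟨h2.supportDim_eq_depth, h3⟩ }

end Flat

/-- Cohen–Macaulayness of a morphism at a point, in terms of `O_{X,x}/m_{f x} O_{X,x}` -/
theorem isCMAt_iff {X S : Scheme.{u}} (f : X ⟶ S) (x : X) :
    MoreMor.IsCMAt f x ↔ ((f.stalkMap x).hom.Flat ∧
      LocCoh.IsCohenMacaulayLocalRing (X.presheaf.stalk x ⧸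
        (maximalIdeal (S.presheaf.stalk (f x))).map (f.stalkMap x).hom)) := by
  obtain ⟨e⟩ := Groth.Agent.Lib.Helper7.FibreStalkIso.nonempty_ringEquiv f x
  unfold MoreMor.IsCMAt
  rw [isCM_iff_of_ringEquiv e]

/-- flat morphism with Cohen–Macaulay source local ring -/
theorem isCMAt_and_isCM_of_flat {X Y : Scheme.{u}} (f : X ⟶ Y) [IsLocallyNoetherian X]
    [IsLocallyNoetherian Y] (x : X) (hfl : (f.stalkMap x).hom.Flat)
    (hX : LocCoh.IsCohenMacaulayLocalRing (X.presheaf.stalk x)) :
    MoreMor.IsCMAt f x ∧ LocCoh.IsCohenMacaulayLocalRing (Y.presheaf.stalk (f x)) := by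
  letI : Algebra (Y.presheaf.stalk (f x)) (X.presheaf.stalk x) := (f.stalkMap x).hom.toAlgebra
  haveI : IsLocalHom (algebraMap (Y.presheaf.stalk (f x)) (X.presheaf.stalk x)) :=
    inferInstanceAs (IsLocalHom (f.stalkMap x).hom)
  haveI : Module.Flat (Y.presheaf.stalk (f x)) (X.presheaf.stalk x) := hfl
  have h := (isCM_iff_of_flat (Y.presheaf.stalk (f x)) (X.presheaf.stalk x)).1 hX
  exact ⟨(isCMAt_iff f x).2 ⟨hfl, h.2⟩, h.1⟩

end Groth.Agent.Lib.Helper7.FibreCM
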