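import Mathlib
import Groth.Agent.Lib.Helper21.TorReg

/-!
# Rigidity of `Tor` along regular sequences (acyclicity-lemma style)
-/

set_option autoImplicit false
set_option backward.isDefEq.respectTransparency false
set_option backward.defeqAttrib.useBackward true
set_option linter.unusedVariables false

universe v u

namespace Groth.Agent.Lib.Helper7.TorRigid

open CategoryTheory Limits HomologicalComplex MonoidalCategory
open Groth.Agent.Lib.Helper21.TorLES Groth.Agent.Lib.Helper21.TorReg
open scoped Pointwise

section Linear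

variable {R : Type u} [CommRing R]

/-- `homologyMap` is compatible with scalar multiplication. -/
lemma homologyMap_smul' {K L : ChainComplex (ModuleCat.{u} R) ℕ} (r : R) (φ : K ⟶ L) (n : ℕ) :
    HomologicalComplex.homologyMap (r • φ) n = r • HomologicalComplex.homologyMap φ n := by
  unfold HomologicalComplex.homologyMap
  have : (HomologicalComplex.shortComplexFunctor (ModuleCat.{u} R) (ComplexShape.down ℕ) n).map
      (r • φ) = r • (HomologicalComplex.shortComplexFunctor (ModuleCat.{u} R)
        (ComplexShape.down ℕ) n).map φ := by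
    ext <;> rfl
  rw [this, ShortComplex.homologyMap_smul]

lemma homologyMap_smul_id {K : ChainComplex (ModuleCat.{u} R) ℕ} (r : R) (n : ℕ) :
    HomologicalComplex.homologyMap (r • 𝟙 K) n = r • 𝟙 (K.homology n) := by
  rw [homologyMap_smul', HomologicalComplex.homologyMap_id]

end Linear

section Module

variable {R : Type u} [CommRing R]

/-- notation: `H_n(P ⊗ M)` -/
noncomputable abbrev HH {X : ModuleCat.{u} R} (P : ProjectiveResolution X) (M : ModuleCat.{u} R)
    (n : ℕ) : ModuleCat.{u} R :=
  H P ((tensoringRight (ModuleCat.{u} R)).obj M) n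

lemma mapHC_smul_second (M : ModuleCat.{u} R) (r : R) {X : ModuleCat.{u} R}
    (P : ProjectiveResolution X) :
    (NatTrans.mapHomologicalComplex ((tensoringRight (ModuleCat.{u} R)).map (r • 𝟙 M))
      (ComplexShape.down ℕ)).app P.complex = r • 𝟙 _ := by
  ext n : 1
  simp only [NatTrans.mapHomologicalComplex_app_f, HomologicalComplex.smul_f_apply,
    HomologicalComplex.id_f]
  show P.complex.X n ◁ (r • 𝟙 M) = r • 𝟙 _
  rw [MonoidalLinear.whiskerLeft_smul, MonoidalCategory.whiskerLeft_id]
  rfl

lemma smul_id_hom_apply {Y : ModuleCat.{u} R} (r : R) (z : Y) : (r • 𝟙 Y).hom z = r • z := by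
  simp

/-- If `r` kills the second variable then it kills `H_n(P ⊗ M)`. -/
lemma smul_eq_zero_of_second {X : ModuleCat.{u} R} (P : ProjectiveResolution X)
    (M : ModuleCat.{u} R) (r : R) (hM : ∀ m : M, r • m = 0) (n : ℕ) (z : HH P M n) :
    r • z = 0 := by
  have h0 : r • 𝟙 M = 0 := by
    ext m
    simp [hM m]
  have h1 := mapHC_smul_second M r P
  rw [h0, Functor.map_zero] at h1
  have h2 : (NatTrans.mapHomologicalComplex (0 : (tensoringRight (ModuleCat.{u} R)).obj M ⟶
      (tensoringRight (ModuleCat.{u} R)).obj M) (ComplexShape.down ℕ)).app P.complex = 0 := by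
    ext n : 1
    simp
  rw [h2] at h1
  have h3 := homologyMap_smul_id (K := (((tensoringRight (ModuleCat.{u} R)).obj
    M).mapHomologicalComplex (ComplexShape.down ℕ)).obj P.complex) r n
  rw [← h1, HomologicalComplex.homologyMap_zero] at h3
  have h4 : r • z = (r • 𝟙 (HH P M n)).hom z := (smul_id_hom_apply r z).symm
  rw [h4]
  have h5 : (r • 𝟙 (HH P M n)) = 0 := h3.symm
  rw [h5, ModuleCat.hom_zero, LinearMap.zero_apply]

/-- If `r` kills the first variable then it kills `H_n(P ⊗ M)`. -/
lemma smul_eq_zero_of_first {X : ModuleCat.{u} R} (P : ProjectiveResolution X)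
    (M : ModuleCat.{u} R) (r : R) (hX : ∀ x : X, r • x = 0) (n : ℕ) (z : HH P M n) :
    r • z = 0 := by
  have h0 : r • 𝟙 X = 0 := by
    ext m
    simp [hX m]
  have h1 := homologyMap_map_eq_zero ((tensoringRight (ModuleCat.{u} R)).obj M) P
    (r • 𝟙 P.complex) (smul_id_comp_π r h0 P) n
  have h2 : (((tensoringRight (ModuleCat.{u} R)).obj M).mapHomologicalComplex
      (ComplexShape.down ℕ)).map (r • 𝟙 P.complex) = r • 𝟙 _ := by
    ext n : 1
    simp only [Functor.mapHomologicalComplex_map_f, HomologicalComplex.smul_f_apply,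
      HomologicalComplex.id_f]
    show (r • 𝟙 (P.complex.X n)) ▷ M = r • 𝟙 _
    rw [MonoidalLinear.smul_whiskerRight, MonoidalCategory.id_whiskerRight]
    rfl
  rw [h2, homologyMap_smul_id] at h1
  have h4 : r • z = (r • 𝟙 (HH P M n)).hom z := (smul_id_hom_apply r z).symm
  rw [h4]
  have h5 : (r • 𝟙 (HH P M n)) = 0 := h1
  rw [h5, ModuleCat.hom_zero, LinearMap.zero_apply]

/-- The quotient `M/xM` as an object. -/
noncomputable abbrev quot (M : ModuleCat.{u} R) (x : R) : ModuleCat.{u} R :=
  ModuleCat.of R (M ⧸ (x • (⊤ : Submodule R M)))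

/-- If `x` is `M`-regular and `H_{n+1}(P ⊗ M/xM) = 0`, then `x` is injective on `H_n(P ⊗ M)`. -/
lemma eq_zero_of_smul_eq_zero {X : ModuleCat.{u} R} (P : ProjectiveResolution X)
    (M : ModuleCat.{u} R) (x : R) (hreg : IsSMulRegular M x) (n : ℕ)
    (hN : IsZero (HH P (quot M x) (n + 1))) (z : HH P M n) (hz : x • z = 0) : z = 0 := by
  let N : ModuleCat.{u} R := quot M x
  let f : M ⟶ M := x • 𝟙 M
  let g : M ⟶ N := ModuleCat.ofHom (Submodule.mkQ (x • (⊤ : Submodule R M)))
  have hf : ∀ m : M, f.hom m = x • m := fun m => by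
    simp [f]
  have w : f ≫ g = 0 := by
    ext m
    simp only [ModuleCat.hom_comp, LinearMap.comp_apply, hf, ModuleCat.hom_zero,
      LinearMap.zero_apply]
    show Submodule.mkQ _ (x • m) = 0
    rw [Submodule.mkQ_apply, Submodule.Quotient.mk_eq_zero]
    exact Submodule.smul_mem_pointwise_smul m x ⊤ Submodule.mem_top
  have hS : (ShortComplex.mk f g w).ShortExact := by
    apply ModuleCat.shortComplex_shortExact
    · intro m
      constructor
      · intro hm
        have : m ∈ x • (⊤ : Submodule R M) := by
          rw [← Submodule.Quotient.mk_eq_zero]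
          exact hm
        obtain ⟨m', -, rfl⟩ := (Submodule.mem_smul_pointwise_iff_exists _ _ _).mp this
        exact ⟨m', hf m'⟩
      · rintro ⟨m', rfl⟩
        exact congrArg (fun φ => φ.hom m') w
    · intro a b hab
      rw [hf, hf] at hab
      exact hreg hab
    · exact Submodule.mkQ_surjective _
  have hmono := mono_homologyMap_of_isZero _ _ (map_comp_zero_right f g w) P
    (fun Q _ => shortExact_app_right f g w hS Q) n hN
  rw [mapHC_smul_second, homologyMap_smul_id] at hmono
  have hinj := (ModuleCat.mono_iff_injective _).1 hmono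
  apply hinj
  rw [smul_id_hom_apply, hz, map_zero]

/-- **Rigidity of `Tor` along a regular sequence** (acyclicity lemma in `Tor` form).
`Pr` is a class of modules, closed under `M ↦ M/xM`, on which `H_i(P ⊗ -)` vanishes for `i > c` and
is `J`-power torsion. -/
theorem isZero_of_isWeaklyRegular {X : ModuleCat.{u} R} (P : ProjectiveResolution X) (c : ℕ)
    (J : Ideal R) (Pr : ModuleCat.{u} R → Prop)
    (h1 : ∀ M, Pr M → ∀ i, c < i → IsZero (HH P M i))
    (h2 : ∀ M (x : R), Pr M → Pr (quot M x))
    (h3 : ∀ M, Pr M → ∀ (i : ℕ) (a : R), a ∈ J → ∀ z : HH P M i, ∃ k : ℕ, a ^ k • z = 0) :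
    ∀ (xs : List R), (∀ x ∈ xs, x ∈ J) → ∀ M : ModuleCat.{u} R, Pr M →
      RingTheory.Sequence.IsWeaklyRegular M xs → ∀ t : ℕ, c - t < xs.length →
        IsZero (HH P M t) := by
  intro xs
  induction xs with
  | nil =>
    intro _ M _ _ t ht
    simp at ht
  | cons x xs ih =>
    intro hJ M hM hreg t ht
    obtain ⟨hx, hreg'⟩ := (RingTheory.Sequence.isWeaklyRegular_cons_iff M x xs).1 hreg
    have hxJ : x ∈ J := hJ x List.mem_cons_self
    have hN : IsZero (HH P (quot M x) (t + 1)) := by
      by_cases hct : c < t + 1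
      · exact h1 _ (h2 M x hM) _ hct
      · apply ih (fun y hy => hJ y (List.mem_cons_of_mem _ hy)) (quot M x) (h2 M x hM) hreg'
          (t + 1)
        simp only [List.length_cons] at ht
        omega
    have hall : ∀ z : HH P M t, z = 0 := by
      intro z
      obtain ⟨k, hk⟩ := h3 M hM t x hxJ z
      induction k with
      | zero => simpa using hk
      | succ k ihk =>
        apply ihk
        apply eq_zero_of_smul_eq_zero P M x hx t hN
        rw [← mul_smul, ← pow_succ']
        exact hk
    haveI : Subsingleton (HH P M t) := ⟨fun a b => by rw [hall a, hall b]⟩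
    exact ModuleCat.isZero_of_subsingleton _

end Module

end Groth.Agent.Lib.Helper7.TorRigid
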