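import Mathlib
import Groth.Agent.Lib.Helper7.TorRigid
import Groth.Agent.Lib.Helper2.LocalCrit
import Groth.Agent.S0563
import Groth.Agent.S14414

/-!
# Flatness over a regular local ring from a regular sequence of parameters (miracle flatness core)
-/

set_option autoImplicit false
set_option backward.isDefEq.respectTransparency false
set_option backward.defeqAttrib.useBackward true
set_option linter.unusedVariables false

universe u

namespace Groth.Agent.Lib.Helper7.MiracleFlat

open CategoryTheory Limits IsLocalRing
open Groth.Agent.Lib.Helper21.TorLES Groth.Agent.Lib.Helper7.TorRigid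

variable {A : Type u} [CommRing A] [IsRegularLocalRing A]

/-- `Tor_t^A(k, M) = 0` for `t ≥ 1` if `M` carries a regular sequence of `dim A` elements of
`𝔪_A`. -/
theorem isZero_tor (M : ModuleCat.{u} A) (xs : List A) (hxs : ∀ x ∈ xs, x ∈ maximalIdeal A) (d : ℕ)
    (hd : ringKrullDim A = d) (hlen : xs.length = d)
    (hreg : RingTheory.Sequence.IsWeaklyRegular M xs) (t : ℕ) (ht : 1 ≤ t) :
    IsZero (((Tor (ModuleCat.{u} A) t).obj (ModuleCat.of A (A ⧸ maximalIdeal A))).obj M) := by
  let k : ModuleCat.{u} A := ModuleCat.of A (A ⧸ maximalIdeal A)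
  let P := ProjectiveResolution.of k
  have h0 : ∀ N' : ModuleCat.{u} A, ∀ i, d < i → IsZero (HH P N' i) := by
    intro N' i hi
    obtain ⟨e⟩ := tor_iso_homology_left i k N' P
    refine IsZero.of_iso ?_ e.symm
    haveI : HasProjectiveDimensionLE N' d := Groth.Agent.S0563.result A d hd N'
    exact Groth.Agent.S14414.result A k N' d i hi
  have hk : ∀ (a : A), a ∈ maximalIdeal A → ∀ y : k, a • y = 0 := by
    intro a ha y
    obtain ⟨y', rfl⟩ := Ideal.Quotient.mk_surjective y
    show a • (Ideal.Quotient.mk _ y') = 0
    rw [← Ideal.Quotient.mk_eq_mk, ← Submodule.Quotient.mk_smul, Submodule.Quotient.mk_eq_zero]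
    exact Ideal.mul_mem_right _ _ ha
  have key : IsZero (HH P M t) := by
    by_cases hdt : d < t
    · exact h0 M t hdt
    · exact isZero_of_isWeaklyRegular P d (maximalIdeal A) (fun _ => True)
        (fun N' _ i hi => h0 N' i hi) (fun _ _ _ => trivial)
        (fun N' _ i a ha z => ⟨1, by
          rw [pow_one]
          exact smul_eq_zero_of_first P N' a (hk a ha) i z⟩)
        xs hxs M trivial hreg t (by
          rw [hlen]
          have : t ≤ d := not_lt.1 hdt
          omega)
  obtain ⟨e⟩ := tor_iso_homology_left t k M P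
  exact IsZero.of_iso key e

/-- Flatness over the regular local ring `A` of a finite module over a Noetherian local
`A`-algebra which carries a regular sequence of `dim A` elements of `𝔪_A`. -/
theorem flat_of_isWeaklyRegular {B : Type u} [CommRing B] [IsNoetherianRing B] [IsLocalRing B]
    [Algebra A B] [IsLocalHom (algebraMap A B)] (M : Type u) [AddCommGroup M] [Module B M]
    [Module A M] [IsScalarTower A B M] [Module.Finite B M] (xs : List A)
    (hxs : ∀ x ∈ xs, x ∈ maximalIdeal A) (d : ℕ) (hd : ringKrullDim A = d) (hlen : xs.length = d)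
    (hreg : RingTheory.Sequence.IsWeaklyRegular M xs) : Module.Flat A M := by
  have h1 := isZero_tor (ModuleCat.of A M) xs hxs d hd hlen hreg 1 le_rfl
  let f : ModuleCat.of A (maximalIdeal A) ⟶ ModuleCat.of A A :=
    ModuleCat.ofHom (maximalIdeal A).subtype
  let g : ModuleCat.of A A ⟶ ModuleCat.of A (A ⧸ maximalIdeal A) :=
    ModuleCat.ofHom (Submodule.mkQ (maximalIdeal A))
  have w : f ≫ g = 0 := by
    ext x
    simp only [ModuleCat.hom_comp, LinearMap.comp_apply, ModuleCat.hom_zero, LinearMap.zero_apply]
    show Submodule.mkQ _ ((maximalIdeal A).subtype x) = 0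
    rw [Submodule.mkQ_apply, Submodule.Quotient.mk_eq_zero]
    exact x.2
  have hS : (ShortComplex.mk f g w).ShortExact := by
    apply ModuleCat.shortComplex_shortExact
    · intro a
      constructor
      · intro ha
        have : a ∈ maximalIdeal A := by
          rw [← Submodule.Quotient.mk_eq_zero]
          exact ha
        exact ⟨⟨a, this⟩, rfl⟩
      · rintro ⟨x, rfl⟩
        exact congrArg (fun φ => φ.hom x) w
    · exact Subtype.val_injective
    · exact Submodule.mkQ_surjective _
  haveI : Module.Flat A (ModuleCat.of A A) := (inferInstance : Module.Flat A A)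
  have h2 : Function.Injective (LinearMap.rTensor M (maximalIdeal A).subtype) :=
    (isZero_tor_one_iff_of_flat f g w hS (ModuleCat.of A M)).1 h1
  have h3 : Function.Injective (LinearMap.lTensor M (maximalIdeal A).subtype) :=
    (LinearMap.lTensor_inj_iff_rTensor_inj _ _).2 h2
  letI : Field (A ⧸ maximalIdeal A) := Ideal.Quotient.field (maximalIdeal A)
  haveI : Module.Flat (A ⧸ maximalIdeal A) (TensorProduct A (A ⧸ maximalIdeal A) M) :=
    inferInstance
  refine Groth.Agent.Lib.Helper2.LocalCrit.flat_of_injective_of_flat_quotient (S := B)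
    (maximalIdeal A) ?_ h3
  rw [IsLocalRing.jacobson_eq_maximalIdeal ⊥ bot_ne_top]
  exact IsLocalRing.map_maximalIdeal_le (algebraMap A B)

end Groth.Agent.Lib.Helper7.MiracleFlat
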