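import Mathlib
import Groth.Agent.Lib.helper19.FiniteCMFlat
import Groth.Agent.S10834

/-!
# Counting the points of a fibre of a finite unramified extension of regular domains

Ring-level input for S15003.

* `flat_of_regular`: a domain `B` finite over a subring `A`, with all localizations of `A` at maximal
  ideals and of `B` at primes regular, is flat over `A` (localize, then `helper19`'s `FiniteCMFlat.main`).
* `card_primeSpectrum_eq_finrank`: étale algebra over a separably closed field: number of primes is the
  dimension.
* `natCard_fibre`: if moreover `B` is formally unramified over `A` and `κ(p)` is separably closed, then the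
  fibre of `Spec B → Spec A` over `p` has exactly `finrank A B` points.
-/

set_option autoImplicit false
universe u

namespace Groth.Agent.Lib.Helper7.FinUnramCount

open IsLocalRing

/-- regular local rings are Cohen–Macaulay (packaged). -/
theorem isCM_of_regular (R : Type u) [CommRing R] [IsRegularLocalRing R] :
    LocCoh.IsCohenMacaulayLocalRing R :=
  { supportDim_eq_depth := Groth.Agent.S10834.isCM_of_isRegularLocalRing R }

/-- A domain finite over a subring, both with regular localizations, is flat. -/
theorem flat_of_regular (A B : Type u) [CommRing A] [CommRing B] [IsDomain B] [Algebra A B]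
    [Module.Finite A B] (hinj : Function.Injective (algebraMap A B))
    (hA : ∀ (P : Ideal A) [P.IsMaximal], IsRegularLocalRing (Localization.AtPrime P))
    (hB : ∀ (Q : Ideal B) [Q.IsPrime], IsRegularLocalRing (Localization.AtPrime Q)) :
    Module.Flat A B := by
  refine Module.flat_of_isLocalized_maximal A B
    (fun P _ => Localization (Algebra.algebraMapSubmonoid B P.primeCompl))
    (fun P _ => (IsScalarTower.toAlgHom A B
      (Localization (Algebra.algebraMapSubmonoid B P.primeCompl))).toLinearMap) ?_
  intro P hP
  let R := Localization.AtPrime P
  let S := Localization (Algebra.algebraMapSubmonoid B P.primeCompl)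
  haveI : IsRegularLocalRing R := hA P
  have hle : Algebra.algebraMapSubmonoid B P.primeCompl ≤ nonZeroDivisors B := by
    rintro _ ⟨a, ha, rfl⟩
    apply mem_nonZeroDivisors_of_ne_zero
    intro h0
    have : a = 0 := hinj (by rw [h0, map_zero])
    exact ha (this ▸ P.zero_mem)
  haveI : IsDomain S := IsLocalization.isDomain_localization hle
  haveI : IsScalarTower A R S := isScalarTower_localizationAlgebra P.primeCompl B
  have hinj' : Function.Injective (algebraMap R S) := localizationAlgebra_injective R S hinj
  have hflat : Module.Flat R S := by
    refine Groth.Agent.Lib.Helper19.FiniteCMFlat.main R S hinj' ?_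
    intro q hq
    let e := IsLocalization.localizationLocalizationAtPrimeIsoLocalization
      (Algebra.algebraMapSubmonoid B P.primeCompl) q
    haveI := hB (q.comap (algebraMap B S))
    haveI : IsRegularLocalRing (Localization.AtPrime q) :=
      IsRegularLocalRing.of_ringEquiv e.toRingEquiv
    exact isCM_of_regular _
  exact Module.Flat.trans A R S

section Alg

variable (Ω : Type u) [Field Ω] [IsSepClosed Ω] (A : Type u) [CommRing A] [Algebra Ω A]
  [Algebra.Etale Ω A]

/-- for an étale algebra over a separably closed field the number of primes is the dimension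
(copied from `Helper23.Shriek.FinEtCount` to keep imports light). -/
lemma card_primeSpectrum_eq_finrank : Nat.card (PrimeSpectrum A) = Module.finrank Ω A := by
  obtain ⟨m, ⟨e⟩⟩ := Algebra.IsFiniteSplit.nonempty_algEquiv_fun Ω A
  have h1 : Module.finrank Ω A = m := by
    rw [e.toLinearEquiv.finrank_eq, Module.finrank_fin_fun]
  have h2 : Nat.card (PrimeSpectrum A) = Nat.card (PrimeSpectrum (Fin m → Ω)) :=
    Nat.card_congr (PrimeSpectrum.comapEquiv e.toRingEquiv).toEquiv
  have h3 : Nat.card (PrimeSpectrum (Fin m → Ω)) = Nat.card (Σ _ : Fin m, PrimeSpectrum Ω) :=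
    (Nat.card_congr (Equiv.ofBijective _
      (PrimeSpectrum.sigmaToPi_bijective (fun _ : Fin m => Ω)))).symm
  rw [h1, h2, h3, Nat.card_sigma]
  simp

end Alg

/-- The fibre of a finite flat formally unramified extension of a domain over a prime with separably
closed residue field has exactly `finrank A B` points. -/
theorem natCard_fibre_of_flat (A B : Type u) [CommRing A] [CommRing B] [IsDomain A] [Algebra A B]
    [Module.Finite A B] [Module.Flat A B] [Algebra.FormallyUnramified A B]
    (p : PrimeSpectrum A) [IsSepClosed p.asIdeal.ResidueField] :
    Nat.card (PrimeSpectrum.comap (algebraMap A B) ⁻¹' {p}) = Module.finrank A B := by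
  rw [Nat.card_congr (PrimeSpectrum.preimageEquivFiber A B p)]
  haveI : Algebra.FormallyUnramified p.asIdeal.ResidueField (p.asIdeal.Fiber B) := inferInstance
  haveI : Module.Finite p.asIdeal.ResidueField (p.asIdeal.Fiber B) := inferInstance
  haveI : Algebra.FormallyEtale p.asIdeal.ResidueField (p.asIdeal.Fiber B) :=
    Algebra.FormallyEtale.of_formallyUnramified_of_field _ _
  haveI : Algebra.FinitePresentation p.asIdeal.ResidueField (p.asIdeal.Fiber B) :=
    Algebra.FinitePresentation.of_finiteType.mp inferInstance
  haveI : Algebra.Etale p.asIdeal.ResidueField (p.asIdeal.Fiber B) := ⟨inferInstance, inferInstance⟩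
  rw [card_primeSpectrum_eq_finrank p.asIdeal.ResidueField (p.asIdeal.Fiber B)]
  exact Ideal.finrank_fiber_eq_finrank p.asIdeal

/-- Main ring-level statement. -/
theorem natCard_fibre (A B : Type u) [CommRing A] [CommRing B] [IsDomain B] [Algebra A B]
    [Module.Finite A B] [Algebra.FormallyUnramified A B]
    (hinj : Function.Injective (algebraMap A B))
    (hA : ∀ (P : Ideal A) [P.IsMaximal], IsRegularLocalRing (Localization.AtPrime P))
    (hB : ∀ (Q : Ideal B) [Q.IsPrime], IsRegularLocalRing (Localization.AtPrime Q))
    (p : PrimeSpectrum A) [IsSepClosed p.asIdeal.ResidueField] :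
    Nat.card (PrimeSpectrum.comap (algebraMap A B) ⁻¹' {p}) = Module.finrank A B := by
  haveI : IsDomain A := hinj.isDomain
  haveI := flat_of_regular A B hinj hA hB
  exact natCard_fibre_of_flat A B p

end Groth.Agent.Lib.Helper7.FinUnramCount
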