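import Mathlib
import Groth.Agent.Lib.Helper5.RegSmoothLocal

/-!
# A scheme smooth over a field has regular local rings (any field)
-/

set_option autoImplicit false
universe u

namespace Groth.Agent.Lib.Helper7.SmoothFieldReg

open CategoryTheory AlgebraicGeometry

set_option backward.isDefEq.respectTransparency.types false in
theorem regular_stalk_of_smooth (k : Type u) [Field k] {X : Scheme.{u}}
    (f : X ⟶ Spec (CommRingCat.of k)) [Smooth f] (x : X) :
    IsRegularLocalRing (X.presheaf.stalk x) := by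
  obtain ⟨V, hV, hxV, -⟩ := exists_isAffineOpen_mem_and_subset (x := x) (U := ⊤) trivial
  have hU : IsAffineOpen (⊤ : (Spec (CommRingCat.of k)).Opens) := isAffineOpen_top _
  have hVU : V ≤ f ⁻¹ᵁ ⊤ := le_top
  have hs : (f.appLE ⊤ V hVU).hom.Smooth :=
    HasRingHomProperty.appLE (P := @Smooth) f inferInstance ⟨⊤, hU⟩ ⟨V, hV⟩ hVU
  let e : Γ(Spec (CommRingCat.of k), ⊤) ≃+* k :=
    (Scheme.ΓSpecIso (CommRingCat.of k)).commRingCatIsoToRingEquiv
  haveI : IsRegularRing Γ(Spec (CommRingCat.of k), ⊤) := IsRegularRing.of_ringEquiv e.symm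
  algebraize [(f.appLE ⊤ V hVU).hom]
  haveI : Algebra.Smooth Γ(Spec (CommRingCat.of k), ⊤) Γ(X, V) := hs
  let q := (hV.primeIdealOf ⟨x, hxV⟩).asIdeal
  haveI : q.LiesOver (q.under Γ(Spec (CommRingCat.of k), ⊤)) := ⟨rfl⟩
  have hreg : IsRegularLocalRing (Localization.AtPrime q) :=
    Groth.Agent.Lib.Helper5.RegSmooth.regular_of_smooth_of_regular_base
      Γ(Spec (CommRingCat.of k), ⊤) Γ(X, V) (q.under Γ(Spec (CommRingCat.of k), ⊤)) q
  letI := TopCat.Presheaf.algebra_section_stalk X.presheaf (U := V) ⟨x, hxV⟩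
  haveI h1 : IsLocalization.AtPrime (X.presheaf.stalk x) q := hV.isLocalization_stalk ⟨x, hxV⟩
  exact IsRegularLocalRing.of_ringEquiv
    (IsLocalization.algEquiv q.primeCompl (Localization.AtPrime q) (X.presheaf.stalk x)).toRingEquiv

end Groth.Agent.Lib.Helper7.SmoothFieldReg
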