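import Mathlib
import Groth.Agent.S10882
import Groth.Agent.Lib.lead.FlatEquidim
import Groth.Agent.Lib.Helper4.SmoothInt
import Groth.Agent.Lib.Helper7.VarietyDim
import Groth.Agent.Lib.Helper7.TopDimComponents
import Groth.Agent.Lib.Helper7.SmoothFieldReg
import Groth.Agent.Lib.Helper7.FinUnramCount

/-!
# Flat ⟺ finite for morphisms of smooth proper geometrically connected varieties of equal dimension
-/

set_option autoImplicit false
universe u

namespace Groth.Agent.Lib.Helper7.SmoothProperFlatFin

open CategoryTheory CategoryTheory.Limits AlgebraicGeometry TopologicalSpace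

/-- an irreducible component of a discrete space has dimension `0`. -/
theorem dim_component_discrete {T : Type*} [TopologicalSpace T] [DiscreteTopology T] (Z : Set T)
    (hZ : Z ∈ irreducibleComponents T) : topologicalKrullDim Z = 0 := by
  have hirr : IsIrreducible Z := hZ.1
  obtain ⟨z, hz⟩ := hirr.nonempty
  apply le_antisymm
  · exact topologicalKrullDim_zero_of_discreteTopology _
  · haveI : Nonempty (IrreducibleCloseds Z) :=
      ⟨⟨closure {⟨z, hz⟩}, isIrreducible_singleton.closure, isClosed_closure⟩⟩
    exact Order.krullDim_nonneg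

/-- the dimension of an irreducible finite type `k`-scheme is a natural number. -/
theorem exists_nat_dim (k : Type u) [Field k] (X : Scheme.{u}) [X.Over (Spec (CommRingCat.of k))]
    [LocallyOfFiniteType (X ↘ Spec (CommRingCat.of k))] [IrreducibleSpace X] :
    ∃ n : ℕ, topologicalKrullDim X = n := by
  obtain ⟨n, -, hn⟩ := Groth.Agent.Lib.Helper7.VarDim.exists_nat_dim_closure_eq k X (genericPoint X)
  refine ⟨n, ?_⟩
  rw [← hn]
  have hcl : closure ({genericPoint X} : Set X) = Set.univ := (genericPoint_spec X).def
  rw [hcl]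
  exact (IsHomeomorph.topologicalKrullDim_eq _ (Homeomorph.Set.univ X).isHomeomorph).symm

theorem dim_univ {T : Type*} [TopologicalSpace T] :
    topologicalKrullDim (Set.univ : Set T) = topologicalKrullDim T :=
  IsHomeomorph.topologicalKrullDim_eq _ (Homeomorph.Set.univ T).isHomeomorph

theorem le_zero_of_add_eq (d : WithBot ℕ∞) (n : ℕ)
    (h : d + ((n : ℕ) : WithBot ℕ∞) = ((n : ℕ) : WithBot ℕ∞)) : d ≤ 0 := by
  induction d using WithBot.recBotCoe with
  | bot => exact bot_le
  | coe m =>
    have h' : ((m + (n : ℕ∞) : ℕ∞) : WithBot ℕ∞) = (((n : ℕ) : ℕ∞) : WithBot ℕ∞) := by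
      exact_mod_cast h
    have h2 : m + (n : ℕ∞) = (n : ℕ∞) := WithBot.coe_injective h'
    have h3 : m = 0 := by
      have : m + (n : ℕ∞) = 0 + (n : ℕ∞) := by rw [h2, zero_add]
      exact (ENat.add_left_injective_of_ne_top (ENat.coe_ne_top n)) this
    rw [h3]
    rfl

/-- Main theorem: for smooth proper geometrically connected `k`-schemes of the same dimension, a
`k`-morphism is flat iff it is finite. -/
theorem flat_iff_isFinite (k : Type u) [Field k] {X Y : Scheme.{u}}
    (qX : X ⟶ Spec (CommRingCat.of k)) (qY : Y ⟶ Spec (CommRingCat.of k))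
    [Smooth qX] [IsProper qX] [GeometricallyConnected qX]
    [Smooth qY] [IsProper qY] [GeometricallyConnected qY]
    (g : X ⟶ Y) (hg : g ≫ qY = qX) (hdim : topologicalKrullDim X = topologicalKrullDim Y) :
    Flat g ↔ IsFinite g := by
  haveI : IsIntegral X := Groth.Agent.Lib.Helper4.SmoothInt.isIntegral_of_smooth_geomConnected k X qX
  haveI : IsIntegral Y := Groth.Agent.Lib.Helper4.SmoothInt.isIntegral_of_smooth_geomConnected k Y qY
  subst hg
  letI : Y.Over (Spec (CommRingCat.of k)) := ⟨qY⟩
  letI : X.Over (Spec (CommRingCat.of k)) := ⟨g ≫ qY⟩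
  haveI : LocallyOfFiniteType (Y ↘ Spec (CommRingCat.of k)) :=
    inferInstanceAs (LocallyOfFiniteType qY)
  haveI : LocallyOfFiniteType (X ↘ Spec (CommRingCat.of k)) :=
    inferInstanceAs (LocallyOfFiniteType (g ≫ qY))
  obtain ⟨n, hn⟩ := exists_nat_dim k X
  have hnY : topologicalKrullDim Y = n := hdim ▸ hn
  haveI : LocallyOfFiniteType g := locallyOfFiniteType_of_comp g qY
  haveI : IsProper g := IsProper.of_comp g qY
  constructor
  · intro hflat
    haveI := hflat
    have hfin : ∀ y, (g ⁻¹' {y}).Finite := by
      intro y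
      haveI : IsLocallyNoetherian (g.fiber y) :=
        LocallyOfFiniteType.isLocallyNoetherian (g.fiberToSpecResidueField y)
      haveI : CompactSpace (g.fiber y) :=
        QuasiCompact.compactSpace_of_compactSpace (g.fiberToSpecResidueField y)
      have hd : topologicalKrullDim (g.fiber y) ≤ 0 := by
        apply Groth.Agent.Lib.Helper7.TopDimComp.topologicalKrullDim_le_of_forall_component
        intro C hC
        have := Groth.Agent.Lib.lead.FlatEquidim.dim_component_add k (g ≫ qY) qY g rfl y C hC
        rw [hn, hnY] at this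
        exact le_zero_of_add_eq _ n this
      haveI : IsLocallyArtinian (g.fiber y) := .of_topologicalKrullDim_le_zero hd
      haveI : IsArtinianScheme (g.fiber y) := {}
      haveI : Finite (g.fiber y) := inferInstance
      rw [← g.range_fiberι y]
      exact Set.finite_range _
    haveI := LocallyQuasiFinite.of_finite_preimage_singleton g hfin
    exact IsFinite.of_isProper_of_locallyQuasiFinite g
  · intro hfinite
    haveI := hfinite
    refine Groth.Agent.S10882.result k qY g
      (fun y => Groth.Agent.Lib.Helper7.SmoothFieldReg.regular_stalk_of_smooth k qY y)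
      (fun x => ?_) n n le_rfl ?_ ?_ ?_
    · haveI := Groth.Agent.Lib.Helper7.SmoothFieldReg.regular_stalk_of_smooth k (g ≫ qY) x
      exact Groth.Agent.Lib.Helper7.FinUnramCount.isCM_of_regular _
    · intro Z hZ
      rw [irreducibleComponents_eq_singleton, Set.mem_singleton_iff] at hZ
      rw [hZ, dim_univ, hn]
    · intro Z hZ
      rw [irreducibleComponents_eq_singleton, Set.mem_singleton_iff] at hZ
      rw [hZ, dim_univ, hnY]
    · intro y Z hZ
      haveI : DiscreteTopology (g ⁻¹' {y}) :=
        isDiscrete_iff_discreteTopology.mp (g.isDiscrete_preimage_singleton y)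
      rw [Nat.sub_self]
      exact dim_component_discrete Z hZ

end Groth.Agent.Lib.Helper7.SmoothProperFlatFin
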