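import Groth.Agent.Lib.Helper17.FibreStalk
import Groth.Agent.Lib.Helper17.FlatDict
import Groth.Agent.Lib.Helper7.AffinePoints
import Groth.Agent.Lib.lead.StalkDimIneq
import Mathlib

/-!
# Affine chart dictionary for pointwise flatness of modules (helper7)

* `affine_chart_of_opens`: for a pullback square and affine opens `US, UX, UT`, the open
  `g'⁻¹ UX ⊓ f'⁻¹ UT` is affine and its ring of functions is the pushout.
* `isFlatOverAt_iff_flat_localizedModule`: `F` is `f`-flat at `x ∈ UX` iff the localization of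
  `Γ(F, UX)` at the prime of `x` is flat over `Γ(S, US)`.
* `exists_isBaseChange_sections`: sections of a pullback over affine opens are a base change.
* `exists_point_of_prime`: points of an affine open from primes.
-/

set_option backward.isDefEq.respectTransparency.types false
set_option autoImplicit false
set_option linter.unusedVariables false
set_option linter.style.haveILetI false
universe u
open AlgebraicGeometry CategoryTheory Limits TensorProduct TopologicalSpace

namespace Groth.Agent.Lib.Helper7.FlatChart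

open Groth.Agent.Lib.Helper17.ModStalk Groth.Agent.Lib.Helper17.FlatDict
  Groth.Agent.Lib.Helper17.ModPullback

theorem affine_chart_of_opens {X S X' S' : Scheme.{u}} {f : X ⟶ S} {f' : X' ⟶ S'} {g' : X' ⟶ X}
    {g : S' ⟶ S} (hc : IsPullback g' f' f g) {US : S.Opens} {UX : X.Opens} {UT : S'.Opens}
    (hUS : IsAffineOpen US) (hUX : IsAffineOpen UX) (hUT : IsAffineOpen UT)
    (hUSX : UX ≤ f ⁻¹ᵁ US) (hUST : UT ≤ g ⁻¹ᵁ US) :
    IsAffineOpen (g' ⁻¹ᵁ UX ⊓ f' ⁻¹ᵁ UT) ∧
      IsPushout (f.appLE US UX hUSX) (g.appLE US UT hUST)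
        (g'.appLE UX (g' ⁻¹ᵁ UX ⊓ f' ⁻¹ᵁ UT) inf_le_left)
        (f'.appLE UT (g' ⁻¹ᵁ UX ⊓ f' ⁻¹ᵁ UT) inf_le_right) := by
  refine ⟨?_, ?_⟩
  · have : IsAffine (US : Scheme) := hUS
    have : IsAffine (UX : Scheme) := hUX
    have : IsAffine (UT : Scheme) := hUT
    exact .of_isIso (Scheme.Hom.isPullback_resLE hc hUST hUSX rfl).isoPullback.hom
  · have := isIso_pushoutSection_of_isAffineOpen hc hUST hUSX rfl hUS hUT hUX
    exact (isIso_pushoutSection_iff hc hUST hUSX rfl).mp this

/-- Pointwise flatness of a quasi-coherent module on affine charts. -/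
theorem isFlatOverAt_iff_flat_localizedModule {X S : Scheme.{u}} (f : X ⟶ S) (F : X.Modules)
    [F.IsQuasicoherent] {UX : X.Opens} (hUX : IsAffineOpen UX) {US : S.Opens} (hUS : IsAffineOpen US)
    (hUSX : UX ≤ f ⁻¹ᵁ US) (x : X) (hx : x ∈ UX)
    [Algebra Γ(S, US) Γ(X, UX)] (halg : algebraMap Γ(S, US) Γ(X, UX) = (f.appLE US UX hUSX).hom)
    [Module Γ(S, US) Γ(F, UX)] [IsScalarTower Γ(S, US) Γ(X, UX) Γ(F, UX)] :
    FlatMod.IsFlatOverAt f F x ↔
      Module.Flat Γ(S, US)
        (LocalizedModule (hUX.primeIdealOf ⟨x, hx⟩).asIdeal.primeCompl Γ(F, UX)) := by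
  classical
  letI mA : Module Γ(X, UX) (F.presheaf.stalk x) := moduleStalkSections F UX x hx
  letI mR : Module Γ(S, US) (F.presheaf.stalk x) :=
    Module.compHom _ (algebraMap Γ(S, US) Γ(X, UX))
  haveI : IsScalarTower Γ(S, US) Γ(X, UX) (F.presheaf.stalk x) := IsScalarTower.of_compHom _ _ _
  have hsm : ∀ (r : Γ(S, US)) (n : F.presheaf.stalk x),
      r • n = (f.stalkMap x).hom (S.presheaf.germ US (f x) (hUSX hx) r) • n := by
    intro r n
    change X.presheaf.germ UX x hx (algebraMap Γ(S, US) Γ(X, UX) r) • n = _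
    rw [halg]
    congr 1
    change _ = (f.stalkMap x) (S.presheaf.germ US (f x) (hUSX hx) r)
    rw [Scheme.Hom.germ_stalkMap_apply, Scheme.Hom.appLE]
    exact (TopCat.Presheaf.germ_res_apply X.presheaf (homOfLE hUSX) x hx _)
  rw [isFlatOverAt_iff_flat_of_affine f F x hUS (hUSX hx) hsm]
  haveI := isLocalizedModule_germLinear F hUX x hx
  let e := IsLocalizedModule.iso (hUX.primeIdealOf ⟨x, hx⟩).asIdeal.primeCompl
    (germLinear F UX x hx)
  exact ⟨fun h => Module.Flat.of_linearEquiv (e.restrictScalars Γ(S, US)),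
    fun h => Module.Flat.of_linearEquiv (e.restrictScalars Γ(S, US)).symm⟩

/-- Sections of a pullback of a quasi-coherent module over affine opens form a base change. -/
theorem exists_isBaseChange_sections {X X' : Scheme.{u}} (g : X' ⟶ X) (F : X.Modules)
    [F.IsQuasicoherent] {UY : X'.Opens} (hUY : IsAffineOpen UY) {UX : X.Opens}
    (hUX : IsAffineOpen UX) (e : UY ≤ g ⁻¹ᵁ UX)
    [inst : Algebra Γ(X, UX) Γ(X', UY)]
    (halg : algebraMap Γ(X, UX) Γ(X', UY) = (g.appLE UX UY e).hom)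
    [Module Γ(X, UX) Γ((Scheme.Modules.pullback g).obj F, UY)]
    [IsScalarTower Γ(X, UX) Γ(X', UY) Γ((Scheme.Modules.pullback g).obj F, UY)] :
    ∃ φ : Γ(F, UX) →ₗ[Γ(X, UX)] Γ((Scheme.Modules.pullback g).obj F, UY),
      IsBaseChange Γ(X', UY) φ := by
  obtain rfl : inst = (g.appLE UX UY e).hom.toAlgebra :=
    Algebra.algebra_ext _ _ (fun r => by rw [halg]; rfl)
  letI : Algebra Γ(X, UX) Γ(X', UY) := (g.appLE UX UY e).hom.toAlgebra
  obtain ⟨ε⟩ := nonempty_linearEquiv_pullback_sections g F hUY hUX e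
  exact ⟨_, IsBaseChange.of_equiv (f := (ε.symm.toLinearMap.restrictScalars Γ(X, UX)) ∘ₗ
    (TensorProduct.mk Γ(X, UX) Γ(X', UY) Γ(F, UX) 1)) ε.symm (fun x => rfl)⟩

/-- Points of an affine open from primes of its ring of functions. -/
theorem exists_point_of_prime {X : Scheme.{u}} {U : X.Opens} (hU : IsAffineOpen U)
    (P : Ideal Γ(X, U)) [P.IsPrime] :
    ∃ (x : X) (hx : x ∈ U), (hU.primeIdealOf ⟨x, hx⟩).asIdeal = P := by
  obtain ⟨z, hz⟩ := Groth.Agent.Lib.Helper7.AffPts.primeIdealOf_surjective hU ⟨P, inferInstance⟩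
  exact ⟨z.1, z.2, by rw [hz]⟩

end Groth.Agent.Lib.Helper7.FlatChart
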