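import Groth.Agent.Lib.Helper7.FlatChart
import Mathlib

/-!
# Pointwise flatness: invariance under isomorphism and base change along a composite (helper7)

* `sectionsLinearEquiv`: an isomorphism of modules induces linear equivalences on sections.
* `isFlatOverAt_of_iso`: `IsFlatOverAt` is invariant under isomorphisms of quasi-coherent modules.
* `isFlatOverAt_pullback_comp`: for `h : S'' ⟶ S'`, `g : S' ⟶ S`, flatness of the pullback of `F` to
  `X ×_S S'` at the image of `x''` implies flatness of the pullback of `F` to `X ×_S S''` at `x''`.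
-/

set_option backward.isDefEq.respectTransparency.types false
set_option autoImplicit false
set_option linter.unusedVariables false
set_option linter.style.haveILetI false
universe u
open AlgebraicGeometry CategoryTheory Limits TensorProduct TopologicalSpace

namespace Groth.Agent.Lib.Helper7.FlatChart

/-- An isomorphism of modules induces linear equivalences on sections. -/
noncomputable def sectionsLinearEquiv {X : Scheme.{u}} {M N : X.Modules} (e : M ≅ N) (U : X.Opens) :
    Γ(M, U) ≃ₗ[Γ(X, U)] Γ(N, U) where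
  toFun := e.hom.app U
  invFun := e.inv.app U
  map_add' := map_add _
  map_smul' r x := Scheme.Modules.Hom.app_smul e.hom r x
  left_inv x := by
    have h : (e.hom ≫ e.inv).app U = (𝟙 M : M ⟶ M).app U := by rw [e.hom_inv_id]
    rw [Scheme.Modules.Hom.comp_app, Scheme.Modules.Hom.id_app] at h
    exact ConcreteCategory.congr_hom h x
  right_inv x := by
    have h : (e.inv ≫ e.hom).app U = (𝟙 N : N ⟶ N).app U := by rw [e.inv_hom_id]
    rw [Scheme.Modules.Hom.comp_app, Scheme.Modules.Hom.id_app] at h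
    exact ConcreteCategory.congr_hom h x

theorem isFlatOverAt_of_iso {X S : Scheme.{u}} (f : X ⟶ S) {M N : X.Modules} [M.IsQuasicoherent]
    [N.IsQuasicoherent] (e : M ≅ N) (x : X) (h : FlatMod.IsFlatOverAt f M x) :
    FlatMod.IsFlatOverAt f N x := by
  classical
  obtain ⟨US, hUS, hsUS, -⟩ := Opens.isBasis_iff_nbhd.mp S.isBasis_affineOpens
    (show f x ∈ (⊤ : S.Opens) from trivial)
  obtain ⟨UX, hUX, hxUX, hUSX⟩ := Opens.isBasis_iff_nbhd.mp X.isBasis_affineOpens
    (show x ∈ f ⁻¹ᵁ US from hsUS)
  letI alg : Algebra Γ(S, US) Γ(X, UX) := (f.appLE US UX hUSX).hom.toAlgebra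
  letI mM : Module Γ(S, US) Γ(M, UX) := Module.compHom _ (algebraMap Γ(S, US) Γ(X, UX))
  haveI : IsScalarTower Γ(S, US) Γ(X, UX) Γ(M, UX) := IsScalarTower.of_compHom _ _ _
  letI mN : Module Γ(S, US) Γ(N, UX) := Module.compHom _ (algebraMap Γ(S, US) Γ(X, UX))
  haveI : IsScalarTower Γ(S, US) Γ(X, UX) Γ(N, UX) := IsScalarTower.of_compHom _ _ _
  rw [isFlatOverAt_iff_flat_localizedModule f M hUX hUS hUSX x hxUX rfl] at h
  rw [isFlatOverAt_iff_flat_localizedModule f N hUX hUS hUSX x hxUX rfl]
  let ε := sectionsLinearEquiv e UX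
  let E := IsLocalizedModule.iso (hUX.primeIdealOf ⟨x, hxUX⟩).asIdeal.primeCompl
    ((LocalizedModule.mkLinearMap (hUX.primeIdealOf ⟨x, hxUX⟩).asIdeal.primeCompl Γ(N, UX)) ∘ₗ
      ε.toLinearMap)
  exact Module.Flat.of_linearEquiv (E.restrictScalars Γ(S, US)).symm

open Groth.Agent.Lib.Helper17.FibreStalk in
theorem isFlatOverAt_pullback_comp {X S S' S'' : Scheme.{u}} (f : X ⟶ S) (g : S' ⟶ S) (h : S'' ⟶ S')
    (F : X.Modules) [F.IsQuasicoherent] (x'' : ↥(pullback f (h ≫ g)))
    (H : FlatMod.IsFlatOverAt (pullback.snd f g) ((Scheme.Modules.pullback (pullback.fst f g)).obj F)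
      (pullback.map f (h ≫ g) f g (𝟙 X) h (𝟙 S) (by simp) (by simp) x'')) :
    FlatMod.IsFlatOverAt (pullback.snd f (h ≫ g))
      ((Scheme.Modules.pullback (pullback.fst f (h ≫ g))).obj F) x'' := by
  set k := pullback.map f (h ≫ g) f g (𝟙 X) h (𝟙 S) (by simp) (by simp) with hk
  have hk1 : k ≫ pullback.fst f g = pullback.fst f (h ≫ g) :=
    (pullback.lift_fst _ _ _).trans (Category.comp_id _)
  have hk2 : k ≫ pullback.snd f g = pullback.snd f (h ≫ g) ≫ h := pullback.lift_snd _ _ _
  have hbig : IsPullback (k ≫ pullback.fst f g) (pullback.snd f (h ≫ g)) f (h ≫ g) := by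
    rw [hk1]; exact IsPullback.of_hasPullback _ _
  have hleft : IsPullback k (pullback.snd f (h ≫ g)) (pullback.snd f g) h :=
    IsPullback.of_right hbig hk2 (IsPullback.of_hasPullback f g)
  have h1 := isFlatOverAt_baseChange (pullback.snd f g) (pullback.snd f (h ≫ g)) k h hleft
    ((Scheme.Modules.pullback (pullback.fst f g)).obj F) x'' H
  let e : (Scheme.Modules.pullback k).obj ((Scheme.Modules.pullback (pullback.fst f g)).obj F) ≅
      (Scheme.Modules.pullback (pullback.fst f (h ≫ g))).obj F :=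
    (Scheme.Modules.pullbackComp k (pullback.fst f g)).app F ≪≫
      (Scheme.Modules.pullbackCongr hk1).app F
  exact isFlatOverAt_of_iso _ e x'' h1

end Groth.Agent.Lib.Helper7.FlatChart
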