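import Mathlib
import Groth.Agent.Lib.Helper7.FPKer
import Groth.Agent.Lib.Helper7.FlatChart
import Groth.Agent.Lib.Helper21.FlatDescL
import Groth.Agent.Lib.Helper17.CohKer
import Groth.Agent.Lib.Helper17.AffineSurj
import Groth.Agent.Lib.Helper29.FPDict

/-!
# Helper7 — FPKerScheme: the kernel of an epimorphism onto a flat finitely presented module is finitely
presented (EGA IV 11.3.9.1, scheme form).
-/

set_option backward.isDefEq.respectTransparency.types false
set_option autoImplicit false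
set_option linter.unusedVariables false
set_option linter.style.haveILetI false
universe u
open AlgebraicGeometry CategoryTheory Limits TensorProduct TopologicalSpace

namespace Groth.Agent.Lib.Helper7.FPKer

open Groth.Agent.Lib.Helper29.FPDict Groth.Agent.Lib.Helper17.CohKer
  Groth.Agent.Lib.Helper21.FlatDesc Groth.Agent.Lib.Helper7.FlatChart

/-- sections of a morphism of modules as a linear map -/
noncomputable def appLinear {X : Scheme.{u}} {M N : X.Modules} (φ : M ⟶ N) (U : X.Opens) :
    Γ(M, U) →ₗ[Γ(X, U)] Γ(N, U) where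
  toFun := φ.app U
  map_add' := map_add _
  map_smul' r x := Scheme.Modules.Hom.app_smul φ r x

@[simp] theorem appLinear_apply {X : Scheme.{u}} {M N : X.Modules} (φ : M ⟶ N) (U : X.Opens)
    (x : Γ(M, U)) : appLinear φ U x = φ.app U x := rfl

/-- sections of the kernel are the kernel of sections -/
noncomputable def kernelSectionsEquiv {X : Scheme.{u}} {M N : X.Modules} (φ : M ⟶ N) (U : X.Opens) :
    Γ(kernel φ, U) ≃ₗ[Γ(X, U)] LinearMap.ker (appLinear φ U) :=
  LinearEquiv.ofBijective
    (LinearMap.codRestrict (LinearMap.ker (appLinear φ U)) (appLinear (kernel.ι φ) U)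
      (fun k => app_kernel_ι_app φ U k))
    ⟨fun a b hab => kernel_ι_app_injective φ U (congrArg Subtype.val hab),
      fun y => by
        obtain ⟨k, hk⟩ := exists_kernel_app_eq φ U y.1 y.2
        exact ⟨k, Subtype.ext hk⟩⟩

theorem app_surjective_of_epi {X : Scheme.{u}} {G H : X.Modules} [G.IsQuasicoherent]
    [H.IsQuasicoherent] (p : G ⟶ H) [Epi p] {U : X.Opens} (hU : IsAffineOpen U) :
    Function.Surjective (p.app U) := by
  let S : ShortComplex X.Modules := ShortComplex.mk (kernel.ι p) p (kernel.condition p)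
  have hS : S.ShortExact :=
    { exact := ShortComplex.exact_of_f_is_kernel _ (kernelIsKernel _)
      mono_f := inferInstanceAs (Mono (kernel.ι p))
      epi_g := inferInstanceAs (Epi p) }
  haveI : S.X₁.IsQuasicoherent := isQuasicoherent_kernel p
  exact Groth.Agent.Lib.Helper17.AffineSurj.surjective_app_of_shortExact S hS hU

/-- sections of a relatively flat quasi-coherent module over an affine open lying over an affine open
are flat over the base ring. -/
theorem flat_sections_of_isFlatOver {X Y : Scheme.{u}} (f : X ⟶ Y) (H : X.Modules) [H.IsQuasicoherent]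
    (hflat : FlatMod.IsFlatOver f H) {U : X.Opens} {V : Y.Opens} (hU : IsAffineOpen U)
    (hV : IsAffineOpen V) (hUV : U ≤ f ⁻¹ᵁ V) :
    letI : Algebra Γ(Y, V) Γ(X, U) := (f.appLE V U hUV).hom.toAlgebra
    letI : Module Γ(Y, V) Γ(H, U) := Module.compHom Γ(H, U) (algebraMap Γ(Y, V) Γ(X, U))
    Module.Flat Γ(Y, V) Γ(H, U) := by
  letI : Algebra Γ(Y, V) Γ(X, U) := (f.appLE V U hUV).hom.toAlgebra
  letI : Module Γ(Y, V) Γ(H, U) := Module.compHom Γ(H, U) (algebraMap Γ(Y, V) Γ(X, U))
  haveI : IsScalarTower Γ(Y, V) Γ(X, U) Γ(H, U) := IsScalarTower.of_compHom _ _ _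
  refine Module.flat_of_isLocalized_maximal Γ(X, U) Γ(H, U)
    (fun P _ => LocalizedModule P.primeCompl Γ(H, U))
    (fun P _ => LocalizedModule.mkLinearMap P.primeCompl Γ(H, U)) (fun P _ => ?_)
  obtain ⟨x, hx, rfl⟩ := exists_point_of_prime hU P
  exact (isFlatOverAt_iff_flat_localized f H hU hV hUV x hx).1 (hflat x)

/-- **EGA IV 11.3.9.1.** `f` locally of finite presentation, `G`, `H` finitely presented, `H` flat over `Y`,
`p : G ⟶ H` an epimorphism: then `kernel p` is finitely presented. -/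
theorem isFinitePresentation_kernel_of_flat {X Y : Scheme.{u}} (f : X ⟶ Y)
    [LocallyOfFinitePresentation f] (G H : X.Modules)
    [SheafOfModules.IsFinitePresentation.{u} (R := X.ringCatSheaf) G]
    [SheafOfModules.IsFinitePresentation.{u} (R := X.ringCatSheaf) H]
    (hflat : FlatMod.IsFlatOver f H) (p : G ⟶ H) [Epi p] :
    SheafOfModules.IsFinitePresentation.{u} (R := X.ringCatSheaf) (kernel p) := by
  haveI : G.IsQuasicoherent := isQuasicoherent_of_isFinitePresentation G
  haveI : H.IsQuasicoherent := isQuasicoherent_of_isFinitePresentation H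
  haveI hK : (kernel p).IsQuasicoherent := isQuasicoherent_kernel p
  let ι : Type u := {U : X.affineOpens // ∃ V : Y.affineOpens, U.1 ≤ f ⁻¹ᵁ V.1}
  refine isFinitePresentation_of_fp_cover (kernel p) (fun i : ι => i.1.1) (IsOpenCover.mk ?_)
    (fun i => i.1.2) ?_
  · rw [eq_top_iff]
    intro x _
    obtain ⟨_, ⟨V, hV : IsAffineOpen V, rfl⟩, hfxV, -⟩ :=
      Y.isBasis_affineOpens.exists_subset_of_mem_open (Set.mem_univ (f x)) isOpen_univ
    obtain ⟨_, ⟨U, hU : IsAffineOpen U, rfl⟩, hxU, hUV⟩ :=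
      X.isBasis_affineOpens.exists_subset_of_mem_open (show x ∈ (f ⁻¹ᵁ V : Set X) from hfxV)
        (f ⁻¹ᵁ V).isOpen
    exact Opens.mem_iSup.2 ⟨⟨⟨U, hU⟩, ⟨⟨V, hV⟩, hUV⟩⟩, hxU⟩
  · rintro ⟨⟨U, hU⟩, ⟨⟨V, hV⟩, hUV⟩⟩
    change Module.FinitePresentation Γ(X, U) Γ(kernel p, U)
    letI algCB : Algebra Γ(Y, V) Γ(X, U) := (f.appLE V U hUV).hom.toAlgebra
    letI mC : Module Γ(Y, V) Γ(H, U) := Module.compHom Γ(H, U) (algebraMap Γ(Y, V) Γ(X, U))
    haveI : IsScalarTower Γ(Y, V) Γ(X, U) Γ(H, U) := IsScalarTower.of_compHom _ _ _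
    haveI : Algebra.FinitePresentation Γ(Y, V) Γ(X, U) :=
      (HasRingHomProperty.appLE @LocallyOfFinitePresentation f inferInstance ⟨V, hV⟩ ⟨U, hU⟩ hUV :
        RingHom.FinitePresentation _)
    haveI : Module.FinitePresentation Γ(X, U) Γ(G, U) := fp_of_isAffineOpen G hU
    haveI : Module.FinitePresentation Γ(X, U) Γ(H, U) := fp_of_isAffineOpen H hU
    haveI : Module.Flat Γ(Y, V) Γ(H, U) := flat_sections_of_isFlatOver f H hflat hU hV hUV
    haveI := fp_ker_of_flat Γ(Y, V) Γ(X, U) Γ(H, U) (appLinear p U) (app_surjective_of_epi p hU)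
    exact Module.FinitePresentation.of_equiv (kernelSectionsEquiv p U).symm

end Groth.Agent.Lib.Helper7.FPKer
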