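import Mathlib
import Groth.Agent.Lib.Helper21.FlatDescI
import Groth.Agent.Lib.Helper21.FlatDescM
import Groth.Agent.Lib.Helper21.FlatLocal6
import Groth.Agent.Lib.Helper29.FlatExt

/-!
# Helper7 — FlatLocalGlobal: a finite flat module over a polynomial ring which is locally (on the
base) finitely presented is finitely presented, when the base embeds into a finite product of its
local rings (Stacks 053F-type local-to-global principle)
-/

set_option autoImplicit false

namespace Groth.Agent.Lib.Helper7.FlatLocalGlobal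

open TensorProduct Function
open Groth.Agent.Lib.Helper21.FlatDesc

universe u

section Spread

variable {R S M : Type u} [CommRing R] [CommRing S] [Algebra R S] [Algebra.FinitePresentation R S]
  [AddCommGroup M] [Module S M] [Module R M] [IsScalarTower R S M] [Module.FinitePresentation S M]

/-- **spreading out flatness from a prime of the base** (EGA IV 11.2.6.1 via openness of the flat
locus). -/
theorem exists_notMem_flat_powers (p : Ideal R) [p.IsPrime]
    (H : ∀ (Q : Ideal S) [Q.IsPrime], Q.comap (algebraMap R S) ≤ p →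
      Module.Flat R (LocalizedModule Q.primeCompl M)) :
    ∃ f : R, f ∉ p ∧ Module.Flat R (LocalizedModule (Submonoid.powers (algebraMap R S f)) M) := by
  have hopen := isOpen_flatLocus_of_finitePresentation (R := R) (S := S) (M := M)
  obtain ⟨J, hJ⟩ := (PrimeSpectrum.isClosed_iff_zeroLocus_ideal _).1 hopen.isClosed_compl
  have hex : ∃ f : R, f ∉ p ∧ algebraMap R S f ∈ J := by
    by_contra hcon
    push Not at hcon
    have hdisj : Disjoint (J : Set S) (Algebra.algebraMapSubmonoid S p.primeCompl) := by
      rw [Set.disjoint_left]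
      rintro x hxJ ⟨f, hf, rfl⟩
      exact hcon f hf hxJ
    obtain ⟨Q, hQ, hJQ, hQd⟩ := Ideal.exists_le_prime_disjoint J _ hdisj
    haveI := hQ
    have hQp : Q.comap (algebraMap R S) ≤ p := by
      intro r hr
      by_contra hrp
      exact Set.disjoint_left.1 hQd hr ⟨r, hrp, rfl⟩
    have h1 : (⟨Q, hQ⟩ : PrimeSpectrum S) ∈ PrimeSpectrum.zeroLocus (J : Set S) := hJQ
    rw [← hJ] at h1
    exact h1 (H Q hQp)
  obtain ⟨f, hfp, hfJ⟩ := hex
  refine ⟨f, hfp, ?_⟩
  refine flat_localizedModule_of_forall_prime M _ (fun Q _ hQ => ?_)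
  have hfQ : algebraMap R S f ∉ Q := fun h =>
    Set.disjoint_left.1 hQ h (Submonoid.mem_powers _)
  have h2 : (⟨Q, inferInstance⟩ : PrimeSpectrum S) ∉ PrimeSpectrum.zeroLocus (J : Set S) :=
    fun h => hfQ (h hfJ)
  rw [← hJ] at h2
  exact not_not.1 h2

end Spread

section Vanish

variable {R : Type u} [CommRing R] (s : Finset (PrimeSpectrum R))
  (hs : Injective fun r : R => fun p : s => algebraMap R (Localization.AtPrime p.1.asIdeal) r)

include hs in
/-- an element of a flat module which dies in finitely many localizations into whose product `R`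
embeds is zero. -/
theorem eq_zero_of_flat_of_forall_smul_eq_zero {F : Type u} [AddCommGroup F] [Module R F]
    [Module.Flat R F] (x : F) (hx : ∀ p : s, ∃ t : R, t ∉ p.1.asIdeal ∧ t • x = 0) : x = 0 := by
  classical
  let ι : R →ₗ[R] ((p : s) → Localization.AtPrime p.1.asIdeal) :=
    LinearMap.pi fun p => Algebra.linearMap R (Localization.AtPrime p.1.asIdeal)
  have hι : Injective ι := hs
  have hinj : Injective (ι.rTensor F) :=
    Module.Flat.rTensor_preserves_injective_linearMap ι hι
  have h1 : ι.rTensor F ((1 : R) ⊗ₜ[R] x) = 0 := by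
    rw [LinearMap.rTensor_tmul]
    have h2 : ι 1 = ∑ p : s, Pi.single p (1 : Localization.AtPrime p.1.asIdeal) := by
      ext p
      simp [ι, Finset.sum_apply]
    rw [h2, TensorProduct.sum_tmul]
    refine Finset.sum_eq_zero fun p _ => ?_
    obtain ⟨t, htp, htx⟩ := hx p
    have h3 : (Pi.single p (1 : Localization.AtPrime p.1.asIdeal) :
        (p : s) → Localization.AtPrime p.1.asIdeal) =
        t • Pi.single p (IsLocalization.mk' (Localization.AtPrime p.1.asIdeal) (1 : R)
          (⟨t, htp⟩ : p.1.asIdeal.primeCompl)) := by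
      rw [← Pi.single_smul]
      congr 1
      rw [Algebra.smul_def, IsLocalization.mul_mk'_eq_mk'_of_mul, mul_one]
      exact (IsLocalization.mk'_self' (M := p.1.asIdeal.primeCompl)
        (Localization.AtPrime p.1.asIdeal) (x := ⟨t, htp⟩)).symm
    rw [h3, TensorProduct.smul_tmul, htx, TensorProduct.tmul_zero]
  have h4 : (1 : R) ⊗ₜ[R] x = 0 := hinj (h1.trans (map_zero _).symm)
  have h5 := congrArg (TensorProduct.lid R F) h4
  simpa using h5

end Vanish

section GenAt

variable {R S M : Type u} [CommRing R] [CommRing S] [Algebra R S]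
  [AddCommGroup M] [Module S M]

set_option maxHeartbeats 800000 in
/-- if the localization of `M` at a prime `p` of the base is finitely presented, then finitely many
elements of the kernel of a finite free cover generate it at `p`. -/
theorem exists_finset_generating_at {r : ℕ} (π : (Fin r → S) →ₗ[S] M) (hπ : Surjective π)
    (p : Ideal R) [p.IsPrime]
    (hloc : Module.FinitePresentation (Localization (Algebra.algebraMapSubmonoid S p.primeCompl))
      (LocalizedModule (Algebra.algebraMapSubmonoid S p.primeCompl) M)) :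
    ∃ F : Finset (Fin r → S), (∀ k ∈ F, k ∈ LinearMap.ker π) ∧
      ∀ k ∈ LinearMap.ker π, ∃ t : R, t ∉ p ∧
        algebraMap R S t • k ∈ Submodule.span S (F : Set (Fin r → S)) := by
  classical
  let T := Algebra.algebraMapSubmonoid S p.primeCompl
  let πT : LocalizedModule T (Fin r → S) →ₗ[Localization T] LocalizedModule T M :=
    (IsLocalizedModule.map T (LocalizedModule.mkLinearMap T (Fin r → S))
      (LocalizedModule.mkLinearMap T M) π).extendScalarsOfIsLocalization T (Localization T)
  have hπT : ∀ (v : Fin r → S) (s : T), πT (LocalizedModule.mk v s) = LocalizedModule.mk (π v) s :=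
    fun v s => IsLocalizedModule.map_LocalizedModules T π v s
  have hsurj : Surjective πT := IsLocalizedModule.map_surjective T _ _ π hπ
  have hkerfg : (LinearMap.ker πT).FG := Module.FinitePresentation.fg_ker πT hsurj
  have hker : LinearMap.ker πT = Submodule.span (Localization T)
      (LocalizedModule.mkLinearMap T (Fin r → S) '' (LinearMap.ker π : Set (Fin r → S))) := by
    apply le_antisymm
    · intro x hx
      induction x using LocalizedModule.induction_on with
      | h v s =>
        have h0 : LocalizedModule.mk (π v) s = (0 : LocalizedModule T M) := by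
          rw [← hπT]
          exact hx
        rw [← LocalizedModule.zero_mk (1 : T), LocalizedModule.mk_eq] at h0
        obtain ⟨u, hu⟩ := h0
        rw [smul_zero, smul_zero, one_smul] at hu
        have hk : (u : S) • v ∈ LinearMap.ker π := by
          rw [LinearMap.mem_ker, map_smul]
          exact hu
        have h1 : LocalizedModule.mk v s = Localization.mk (1 : S) (u * s) •
            LocalizedModule.mkLinearMap T (Fin r → S) ((u : S) • v) := by
          rw [LocalizedModule.mkLinearMap_apply, LocalizedModule.mk_smul_mk, one_smul, mul_one]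
          exact (LocalizedModule.mk_cancel_common_left u s v).symm
        rw [h1]
        exact Submodule.smul_mem _ _ (Submodule.subset_span ⟨_, hk, rfl⟩)
    · refine Submodule.span_le.2 ?_
      rintro _ ⟨k, hk, rfl⟩
      rw [SetLike.mem_coe, LinearMap.mem_ker, LocalizedModule.mkLinearMap_apply, hπT,
        LinearMap.mem_ker.1 hk, LocalizedModule.zero_mk]
  rw [hker] at hkerfg
  obtain ⟨G, hGsub, hG⟩ := (Submodule.fg_span_iff_fg_span_finset_subset _).1 hkerfg
  have hex : ∀ g, g ∈ G → ∃ k, k ∈ LinearMap.ker π ∧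
      LocalizedModule.mkLinearMap T (Fin r → S) k = g := fun g hg => hGsub hg
  choose! lift hlift1 hlift2 using hex
  refine ⟨G.image lift, ?_, ?_⟩
  · intro k hk
    obtain ⟨g, hg, rfl⟩ := Finset.mem_image.1 hk
    exact hlift1 g hg
  · intro k hk
    have h1 : LocalizedModule.mkLinearMap T (Fin r → S) k ∈ Submodule.span (Localization T)
        (G : Set (LocalizedModule T (Fin r → S))) := by
      rw [← hG]
      exact Submodule.subset_span ⟨k, hk, rfl⟩
    obtain ⟨t, ht⟩ := multiple_mem_span_of_mem_localization_span T (Localization T) _ _ h1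
    have hGimg : (G : Set (LocalizedModule T (Fin r → S))) =
        LocalizedModule.mkLinearMap T (Fin r → S) '' ((G.image lift : Finset (Fin r → S)) :
          Set (Fin r → S)) := by
      ext g
      simp only [Finset.coe_image, Set.mem_image, Finset.mem_coe]
      constructor
      · intro hg
        exact ⟨lift g, ⟨g, hg, rfl⟩, hlift2 g hg⟩
      · rintro ⟨_, ⟨g', hg', rfl⟩, rfl⟩
        rw [hlift2 g' hg']
        exact hg'
    rw [hGimg, ← Submodule.map_span] at ht
    obtain ⟨k', hk', hk'eq⟩ := ht
    have h2 : LocalizedModule.mkLinearMap T (Fin r → S) (k' - (t : S) • k) = 0 := by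
      rw [map_sub, hk'eq, map_smul, Submonoid.smul_def, sub_self]
    obtain ⟨u, hu⟩ := (IsLocalizedModule.eq_zero_iff T (LocalizedModule.mkLinearMap T _)).1 h2
    obtain ⟨a, ha, hau⟩ := u.2
    obtain ⟨b, hb, hbt⟩ := t.2
    refine ⟨a * b, (p.primeCompl).mul_mem ha hb, ?_⟩
    have h3 : algebraMap R S (a * b) • k = (u : S) • k' := by
      rw [map_mul, hau, hbt, mul_smul]
      rw [Submonoid.smul_def, smul_sub, sub_eq_zero] at hu
      exact hu.symm
    rw [h3]
    exact Submodule.smul_mem _ _ hk'

end GenAt

section LemmaX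

variable {R S M : Type u} [CommRing R] [CommRing S] [Algebra R S] [Algebra.FinitePresentation R S]
  [AddCommGroup M] [Module S M] [Module R M] [IsScalarTower R S M] [Module.Flat R M]

set_option maxHeartbeats 1600000 in
set_option synthInstance.maxHeartbeats 200000 in
/-- the quotient of a finite free module by a submodule of the kernel which generates the kernel at
`p` is flat at all primes lying over generizations of `p`. -/
theorem flat_localized_quotient {r : ℕ} (π : (Fin r → S) →ₗ[S] M) (hπ : Surjective π)
    (K₁ : Submodule S (Fin r → S)) (hK₁ : K₁ ≤ LinearMap.ker π) (p : Ideal R) [p.IsPrime]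
    (hp : ∀ k ∈ LinearMap.ker π, ∃ t : R, t ∉ p ∧ algebraMap R S t • k ∈ K₁)
    (Q : Ideal S) [Q.IsPrime] (hQ : Q.comap (algebraMap R S) ≤ p) :
    Module.Flat R (LocalizedModule Q.primeCompl ((Fin r → S) ⧸ K₁)) := by
  let φ : ((Fin r → S) ⧸ K₁) →ₗ[S] M := K₁.liftQ π hK₁
  have hφ : ∀ v, φ (Submodule.Quotient.mk v) = π v := fun v => rfl
  let g : ((Fin r → S) ⧸ K₁) →ₗ[S] LocalizedModule Q.primeCompl M :=
    LocalizedModule.mkLinearMap Q.primeCompl M ∘ₗ φ
  haveI hloc : IsLocalizedModule Q.primeCompl g :=
    { map_units := IsLocalizedModule.map_units (LocalizedModule.mkLinearMap Q.primeCompl M)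
      surj := by
        intro y
        induction y using LocalizedModule.induction_on with
        | h m c =>
          obtain ⟨v, rfl⟩ := hπ m
          refine ⟨(Submodule.Quotient.mk v, c), ?_⟩
          show c • LocalizedModule.mk (π v) c = LocalizedModule.mk (π v) 1
          rw [Submonoid.smul_def, LocalizedModule.smul'_mk, LocalizedModule.mk_eq]
          exact ⟨1, by simp [Submonoid.smul_def]⟩
      exists_of_eq := by
        intro x y hxy
        obtain ⟨v, hv⟩ := Submodule.Quotient.mk_surjective K₁ (x - y)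
        have h1 : LocalizedModule.mkLinearMap Q.primeCompl M (π v) = 0 := by
          have h0 : g (x - y) = 0 := by
            rw [map_sub, sub_eq_zero]
            exact hxy
          rw [← hv] at h0
          exact h0
        obtain ⟨c1, hc1⟩ := (IsLocalizedModule.eq_zero_iff Q.primeCompl
          (LocalizedModule.mkLinearMap Q.primeCompl M)).1 h1
        have h2 : (c1 : S) • v ∈ LinearMap.ker π := by
          rw [LinearMap.mem_ker, map_smul]
          exact hc1
        obtain ⟨t, htp, ht⟩ := hp _ h2
        have htQ : algebraMap R S t ∈ Q.primeCompl := fun h => htp (hQ h)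
        refine ⟨⟨algebraMap R S t, htQ⟩ * c1, ?_⟩
        rw [← sub_eq_zero, ← smul_sub, ← hv, Submonoid.smul_def, Submonoid.coe_mul,
          ← Submodule.Quotient.mk_smul, Submodule.Quotient.mk_eq_zero, mul_smul]
        exact ht }
  let e : LocalizedModule Q.primeCompl ((Fin r → S) ⧸ K₁) ≃ₗ[S] LocalizedModule Q.primeCompl M :=
    IsLocalizedModule.iso Q.primeCompl g
  haveI hflM : Module.Flat R (LocalizedModule Q.primeCompl M) :=
    Groth.Agent.Lib.Helper21.FlatLocal.flat_of_isLocalizedModule (A := R) (B := S) (F := M)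
      Q.primeCompl (LocalizedModule.mkLinearMap Q.primeCompl M)
  have hlin : ∀ (a : R) (x : LocalizedModule Q.primeCompl ((Fin r → S) ⧸ K₁)),
      e (a • x) = a • e x := by
    intro a x
    rw [← algebraMap_smul S a x, map_smul, algebraMap_smul]
  let eR : LocalizedModule Q.primeCompl ((Fin r → S) ⧸ K₁) ≃ₗ[R]
      LocalizedModule Q.primeCompl M := { e.toAddEquiv with map_smul' := hlin }
  exact Module.Flat.of_linearEquiv eR

set_option maxHeartbeats 1600000 in
set_option synthInstance.maxHeartbeats 200000 in
/-- **Lemma X.** -/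
theorem exists_notMem_forall_pow_smul_mem (s : Finset (PrimeSpectrum R))
    (hs : Injective fun a : R => fun p : s => algebraMap R (Localization.AtPrime p.1.asIdeal) a)
    {r : ℕ} (π : (Fin r → S) →ₗ[S] M) (hπ : Surjective π)
    (K₁ : Submodule S (Fin r → S)) (hK₁fg : K₁.FG) (hK₁ : K₁ ≤ LinearMap.ker π)
    (p : Ideal R) [p.IsPrime]
    (hp : ∀ k ∈ LinearMap.ker π, ∃ t : R, t ∉ p ∧ algebraMap R S t • k ∈ K₁) :
    ∃ f : R, f ∉ p ∧ ∀ k : Fin r → S,
      (∀ j : s, ∃ t : R, t ∉ j.1.asIdeal ∧ algebraMap R S t • k ∈ K₁) →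
      ∃ N : ℕ, algebraMap R S (f ^ N) • k ∈ K₁ := by
  haveI hfp : Module.FinitePresentation S ((Fin r → S) ⧸ K₁) :=
    Module.finitePresentation_of_surjective K₁.mkQ K₁.mkQ_surjective (by
      rw [Submodule.ker_mkQ]
      exact hK₁fg)
  obtain ⟨f, hfp', hflat⟩ := exists_notMem_flat_powers (R := R) (S := S)
    (M := (Fin r → S) ⧸ K₁) p (fun Q _ hQ => flat_localized_quotient π hπ K₁ hK₁ p hp Q hQ)
  refine ⟨f, hfp', fun k hk => ?_⟩
  haveI := hflat
  have hx := eq_zero_of_flat_of_forall_smul_eq_zero s hs
    (F := LocalizedModule (Submonoid.powers (algebraMap R S f)) ((Fin r → S) ⧸ K₁))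
    (LocalizedModule.mkLinearMap _ _ (Submodule.Quotient.mk k)) (by
      intro j
      obtain ⟨t, htj, ht⟩ := hk j
      refine ⟨t, htj, ?_⟩
      rw [← LinearMap.map_smul_of_tower, ← algebraMap_smul S t (Submodule.Quotient.mk k : (Fin r → S) ⧸ K₁),
        ← Submodule.Quotient.mk_smul, (Submodule.Quotient.mk_eq_zero K₁).2 ht, map_zero])
  obtain ⟨u, hu⟩ := (IsLocalizedModule.eq_zero_iff (Submonoid.powers (algebraMap R S f))
    (LocalizedModule.mkLinearMap _ ((Fin r → S) ⧸ K₁))).1 hx
  obtain ⟨N, hN⟩ := u.2
  have hN' : algebraMap R S f ^ N = (u : S) := hN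
  refine ⟨N, ?_⟩
  rw [map_pow, hN', ← Submodule.Quotient.mk_eq_zero K₁, Submodule.Quotient.mk_smul]
  exact hu

end LemmaX

section Main

variable {R S M : Type u} [CommRing R] [CommRing S] [Algebra R S] [Algebra.FinitePresentation R S]
  [AddCommGroup M] [Module S M] [Module R M] [IsScalarTower R S M] [Module.Flat R M]
  [Module.Finite S M]

set_option maxHeartbeats 1600000 in
set_option synthInstance.maxHeartbeats 200000 in
/-- **local-to-global principle for finite presentation of flat modules.** -/
theorem finitePresentation_of_locally (s : Finset (PrimeSpectrum R))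
    (hs : Injective fun a : R => fun p : s => algebraMap R (Localization.AtPrime p.1.asIdeal) a)
    (hloc : ∀ (p : Ideal R) [p.IsPrime],
      Module.FinitePresentation (Localization (Algebra.algebraMapSubmonoid S p.primeCompl))
        (LocalizedModule (Algebra.algebraMapSubmonoid S p.primeCompl) M)) :
    Module.FinitePresentation S M := by
  classical
  obtain ⟨r, π, hπ⟩ := Module.Finite.exists_fin' S M
  have hF : ∀ p : PrimeSpectrum R, ∃ F : Finset (Fin r → S), (∀ k ∈ F, k ∈ LinearMap.ker π) ∧
      ∀ k ∈ LinearMap.ker π, ∃ t : R, t ∉ p.asIdeal ∧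
        algebraMap R S t • k ∈ Submodule.span S (F : Set (Fin r → S)) := fun p =>
    exists_finset_generating_at π hπ p.asIdeal (hloc p.asIdeal)
  choose F hF1 hF2 using hF
  let G₀ : Finset (Fin r → S) := s.biUnion F
  have hG₀ : ∀ k ∈ G₀, k ∈ LinearMap.ker π := by
    intro k hk
    obtain ⟨j, -, hkj⟩ := Finset.mem_biUnion.1 hk
    exact hF1 j k hkj
  -- the local statement
  have hX : ∀ p : PrimeSpectrum R, ∃ f : R, f ∉ p.asIdeal ∧ ∀ k ∈ LinearMap.ker π,
      ∃ N : ℕ, algebraMap R S (f ^ N) • k ∈
        Submodule.span S ((G₀ ∪ F p : Finset (Fin r → S)) : Set (Fin r → S)) := by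
    intro p
    have hK₁ : Submodule.span S ((G₀ ∪ F p : Finset (Fin r → S)) : Set (Fin r → S)) ≤
        LinearMap.ker π := by
      refine Submodule.span_le.2 fun k hk => ?_
      rcases Finset.mem_union.1 (Finset.mem_coe.1 hk) with h | h
      · exact hG₀ k h
      · exact hF1 p k h
    obtain ⟨f, hfp, hf⟩ := exists_notMem_forall_pow_smul_mem s hs π hπ
      (Submodule.span S ((G₀ ∪ F p : Finset (Fin r → S)) : Set (Fin r → S)))
      (Submodule.fg_span (Finset.finite_toSet _)) hK₁ p.asIdeal (by
        intro k hk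
        obtain ⟨t, ht, htk⟩ := hF2 p k hk
        refine ⟨t, ht, Submodule.span_mono ?_ htk⟩
        intro x hx
        exact Finset.mem_coe.2 (Finset.mem_union_right _ (Finset.mem_coe.1 hx)))
    refine ⟨f, hfp, fun k hk => hf k (fun j => ?_)⟩
    obtain ⟨t, ht, htk⟩ := hF2 j.1 k hk
    refine ⟨t, ht, Submodule.span_mono ?_ htk⟩
    intro x hx
    exact Finset.mem_coe.2 (Finset.mem_union_left _
      (Finset.mem_biUnion.2 ⟨j.1, j.2, Finset.mem_coe.1 hx⟩))
  choose f hf1 hf2 using hX
  have htop : Ideal.span (Set.range f) = ⊤ := by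
    by_contra hne
    obtain ⟨m, hm, hle⟩ := Ideal.exists_le_maximal _ hne
    exact hf1 ⟨m, hm.isPrime⟩ (hle (Ideal.subset_span ⟨⟨m, hm.isPrime⟩, rfl⟩))
  obtain ⟨c, hc⟩ := (Finsupp.mem_span_range_iff_exists_finsupp (R := R) (v := f) (x := 1)).1
    (by rw [show Submodule.span R (Set.range f) = Ideal.span (Set.range f) from rfl, htop]
        exact Submodule.mem_top)
  let G₂ : Finset (Fin r → S) := G₀ ∪ c.support.biUnion F
  have hG₂ : ∀ k ∈ G₂, k ∈ LinearMap.ker π := by
    intro k hk
    rcases Finset.mem_union.1 hk with h | h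
    · exact hG₀ k h
    · obtain ⟨p, -, hkp⟩ := Finset.mem_biUnion.1 h
      exact hF1 p k hkp
  have hle : LinearMap.ker π ≤ Submodule.span S (G₂ : Set (Fin r → S)) := by
    intro k hk
    let I : Ideal R := Submodule.comap (LinearMap.toSpanSingleton R (Fin r → S) k)
      ((Submodule.span S (G₂ : Set (Fin r → S))).restrictScalars R)
    have hI : ∀ a : R, a ∈ I ↔ algebraMap R S a • k ∈ Submodule.span S (G₂ : Set (Fin r → S)) := by
      intro a
      show a • k ∈ Submodule.span S (G₂ : Set (Fin r → S)) ↔ _
      rw [algebraMap_smul]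
    have hfI : ∀ p ∈ c.support, f p ∈ I.radical := by
      intro p hp
      obtain ⟨N, hN⟩ := hf2 p k hk
      refine ⟨N, (hI _).2 (Submodule.span_mono ?_ hN)⟩
      intro x hx
      rcases Finset.mem_union.1 (Finset.mem_coe.1 hx) with h | h
      · exact Finset.mem_coe.2 (Finset.mem_union_left _ h)
      · exact Finset.mem_coe.2 (Finset.mem_union_right _ (Finset.mem_biUnion.2 ⟨p, hp, h⟩))
    have h1 : (1 : R) ∈ I.radical := by
      rw [← hc, Finsupp.sum]
      exact Ideal.sum_mem _ fun p hp => Ideal.mul_mem_left _ _ (hfI p hp)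
    have h2 : I = ⊤ := Ideal.radical_eq_top.1 ((Ideal.eq_top_iff_one _).2 h1)
    have h3 : (1 : R) ∈ I := h2 ▸ Submodule.mem_top
    have h4 := (hI 1).1 h3
    rwa [map_one, one_smul] at h4
  have hKfg : (LinearMap.ker π).FG := by
    have : LinearMap.ker π = Submodule.span S (G₂ : Set (Fin r → S)) :=
      le_antisymm hle (Submodule.span_le.2 fun k hk => hG₂ k (Finset.mem_coe.1 hk))
    rw [this]
    exact Submodule.fg_span (Finset.finite_toSet _)
  exact Module.finitePresentation_of_surjective π hπ hKfg

end Main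

end Groth.Agent.Lib.Helper7.FlatLocalGlobal
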