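import Mathlib

/-!
# Helper7 — ValFP: finite torsion-free modules over polynomial rings over a valuation ring are
finitely presented (Stacks 053E, via homogenization and Nakayama on the graded pieces)
-/

set_option autoImplicit false

namespace Groth.Agent.Lib.Helper7.ValFP

open MvPolynomial Function

section HC

variable {τ : Type*} {k : Type*} [CommRing k]

attribute [local instance] MvPolynomial.gradedAlgebra

theorem hc_mul_of_isHomogeneous (q g : MvPolynomial τ k) {e d : ℕ} (hg : g.IsHomogeneous e)
    (hed : e ≤ d) :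
    homogeneousComponent d (q * g) = homogeneousComponent (d - e) q * g := by
  classical
  have h := DirectSum.coe_decompose_mul_of_right_mem_of_le (homogeneousSubmodule τ k) (a := q)
    (b := g) (i := e) (n := d) hg hed
  have h1 : ∀ (φ : MvPolynomial τ k) (i : ℕ),
      (DirectSum.decompose (homogeneousSubmodule τ k) φ i : MvPolynomial τ k) =
        homogeneousComponent i φ := fun φ i => decomposition.decompose'_apply φ i
  rw [h1, h1] at h
  exact h

variable {r : ℕ}

theorem exists_homogeneous_coeffs (G : Finset (Fin r → MvPolynomial τ k))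
    (e : (Fin r → MvPolynomial τ k) → ℕ)
    (hG : ∀ g ∈ G, ∀ c, (g c).IsHomogeneous (e g)) (d : ℕ) (hd : ∀ g ∈ G, e g ≤ d)
    (v : Fin r → MvPolynomial τ k) (hv : ∀ c, (v c).IsHomogeneous d)
    (hvG : v ∈ Submodule.span (MvPolynomial τ k) (G : Set (Fin r → MvPolynomial τ k))) :
    ∃ q : (Fin r → MvPolynomial τ k) → MvPolynomial τ k,
      (∀ g ∈ G, (q g).IsHomogeneous (d - e g)) ∧ v = ∑ g ∈ G, q g • g := by
  obtain ⟨f, -, hf⟩ := Submodule.mem_span_finset.1 hvG
  refine ⟨fun g => homogeneousComponent (d - e g) (f g),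
    fun g _ => homogeneousComponent_isHomogeneous _ _, ?_⟩
  ext1 c
  rw [← homogeneousComponent_eq_self (hv c), ← hf]
  simp only [Finset.sum_apply, Pi.smul_apply, smul_eq_mul, map_sum]
  refine Finset.sum_congr rfl fun g hg => ?_
  exact hc_mul_of_isHomogeneous (f g) (g c) (hG g hg c) (hd g hg)

theorem exists_homogeneous_lift {A κ : Type*} [CommRing A] [CommRing κ] (f : A →+* κ)
    (hf : Surjective f) (q : MvPolynomial τ κ) {s : ℕ} (hq : q.IsHomogeneous s) :
    ∃ q' : MvPolynomial τ A, q'.IsHomogeneous s ∧ map f q' = q := by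
  classical
  obtain ⟨q₀, rfl⟩ := MvPolynomial.map_surjective f hf q
  refine ⟨homogeneousComponent s q₀, homogeneousComponent_isHomogeneous _ _, ?_⟩
  rw [← homogeneousComponent_eq_self hq]
  ext m
  rw [coeff_map, coeff_homogeneousComponent, coeff_homogeneousComponent, coeff_map]
  split_ifs <;> simp

end HC

section Dehom

variable {σ : Type*} {A : Type*} [CommRing A]

/-- dehomogenization: `X none ↦ 1`. -/
noncomputable def dehom : MvPolynomial (Option σ) A →ₐ[A] MvPolynomial σ A :=
  aeval (fun o : Option σ => o.elim 1 X)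

@[simp] theorem dehom_X_none : dehom (σ := σ) (A := A) (X none) = 1 := by
  simp [dehom]

@[simp] theorem dehom_rename_some (p : MvPolynomial σ A) : dehom (rename some p) = p := by
  rw [dehom, aeval_rename]
  have : ((fun o : Option σ => o.elim (1 : MvPolynomial σ A) X) ∘ some) = X := rfl
  rw [this, aeval_X_left, AlgHom.id_apply]

theorem exists_homogeneous_dehom (p : MvPolynomial σ A) (d : ℕ) (hd : p.totalDegree ≤ d) :
    ∃ h : MvPolynomial (Option σ) A, h.IsHomogeneous d ∧ dehom h = p := by
  classical
  refine ⟨∑ m ∈ p.support, X none ^ (d - m.degree) * rename some (monomial m (coeff m p)), ?_, ?_⟩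
  · refine IsHomogeneous.sum _ _ _ fun m hm => ?_
    have hmd : m.degree ≤ d := by
      refine le_trans ?_ hd
      have := le_totalDegree hm
      rw [Finsupp.degree_apply]
      simpa [Finsupp.sum] using this
    have h1 : (X (R := A) (none : Option σ) ^ (d - m.degree)).IsHomogeneous (d - m.degree) :=
      isHomogeneous_X_pow _ _
    have h2 : (rename (some : σ → Option σ) (monomial m (coeff m p))).IsHomogeneous m.degree :=
      (isHomogeneous_monomial _ rfl).rename_isHomogeneous
    have := h1.mul h2
    rwa [Nat.sub_add_cancel hmd] at this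
  · rw [map_sum]
    conv_rhs => rw [← support_sum_monomial_coeff p]
    refine Finset.sum_congr rfl fun m _ => ?_
    rw [map_mul, map_pow, dehom_X_none, one_pow, one_mul, dehom_rename_some]

theorem exists_homogeneous_dehom_vec {r : ℕ} (v : Fin r → MvPolynomial σ A) (D : ℕ) :
    ∃ (d : ℕ) (h : Fin r → MvPolynomial (Option σ) A), D ≤ d ∧ (∀ c, (h c).IsHomogeneous d) ∧
      ∀ c, dehom (h c) = v c := by
  classical
  let d := max D (Finset.univ.sup fun c => (v c).totalDegree)
  have hd : ∀ c, (v c).totalDegree ≤ d := fun c =>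
    le_trans (Finset.le_sup (f := fun c => (v c).totalDegree) (Finset.mem_univ c))
      (le_max_right _ _)
  choose h h1 h2 using fun c => exists_homogeneous_dehom (v c) d (hd c)
  exact ⟨d, h, le_max_left _ _, h1, h2⟩

end Dehom

section Val

open IsLocalRing

variable {A : Type*} [CommRing A] [IsDomain A] [ValuationRing A]

/-- a saturated submodule of a finitely generated module over a valuation ring is finitely
generated. -/
theorem fg_of_saturated {E : Type*} [AddCommGroup E] [Module A E] (H N : Submodule A E)
    (hH : H.FG) (hNH : N ≤ H)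
    (hsat : ∀ (a : A) (v : E), a ≠ 0 → v ∈ H → a • v ∈ N → v ∈ N) : N.FG := by
  haveI : Module.Finite A H := Module.Finite.iff_fg.2 hH
  let N' : Submodule A H := N.comap H.subtype
  have htors : Submodule.torsion A (H ⧸ N') = ⊥ := by
    rw [eq_bot_iff]
    rintro x ⟨⟨a, ha⟩, hax⟩
    obtain ⟨h, rfl⟩ := N'.mkQ_surjective x
    have ha0 : a ≠ 0 := nonZeroDivisors.ne_zero ha
    have h1 : a • h ∈ N' := by
      rw [← Submodule.Quotient.mk_eq_zero, Submodule.Quotient.mk_smul]
      exact hax
    have h2 : (h : E) ∈ N := hsat a h ha0 h.2 h1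
    show N'.mkQ h ∈ (⊥ : Submodule A (H ⧸ N'))
    rw [Submodule.mem_bot, Submodule.mkQ_apply, Submodule.Quotient.mk_eq_zero]
    exact h2
  haveI : Module.Flat A (H ⧸ N') := Module.Flat.flat_iff_torsion_eq_bot_of_isBezout.2 htors
  haveI : Module.Free A (H ⧸ N') := Module.free_of_flat_of_isLocalRing
  haveI : Module.FinitePresentation A (H ⧸ N') := Module.finitePresentation_of_projective A _
  have hfg : (LinearMap.ker N'.mkQ).FG :=
    Module.FinitePresentation.fg_ker N'.mkQ N'.mkQ_surjective
  rw [Submodule.ker_mkQ] at hfg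
  have := hfg.map H.subtype
  rwa [Submodule.map_comap_subtype, inf_eq_right.2 hNH] at this

variable {τ : Type*} {r : ℕ}

theorem isHomogeneous_of_smul {t : A} (ht : t ≠ 0) {p : MvPolynomial τ A} {d : ℕ}
    (h : (t • p).IsHomogeneous d) : p.IsHomogeneous d := by
  intro m hm
  apply h
  rw [coeff_smul, smul_eq_mul]
  exact mul_ne_zero ht hm

theorem exists_smul_of_map_residue_eq_zero (v : Fin r → MvPolynomial τ A)
    (hv : ∀ c, map (residue A) (v c) = 0) :
    ∃ (t : A) (v' : Fin r → MvPolynomial τ A), t ∈ maximalIdeal A ∧ v = t • v' := by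
  classical
  let S : Finset A := Finset.univ.biUnion fun c => (v c).support.image fun m => coeff m (v c)
  have hSm : ∀ a ∈ S, a ∈ maximalIdeal A := by
    intro a ha
    simp only [S, Finset.mem_biUnion, Finset.mem_image, Finset.mem_univ, true_and] at ha
    obtain ⟨c, m, -, rfl⟩ := ha
    have := congrArg (coeff m) (hv c)
    rw [coeff_map, coeff_zero] at this
    exact (residue_eq_zero_iff _).1 this
  have hfg : (Ideal.span (S : Set A)).FG := ⟨S, rfl⟩
  obtain ⟨t, ht⟩ := (IsBezout.isPrincipal_of_FG _ hfg).principal
  have htm : t ∈ maximalIdeal A := by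
    have h1 : Ideal.span (S : Set A) ≤ maximalIdeal A := Ideal.span_le.2 hSm
    apply h1
    rw [ht]
    exact Submodule.mem_span_singleton_self t
  have hmem : ∀ c, v c ∈ Ideal.span {(C t : MvPolynomial τ A)} := by
    intro c
    have h1 : v c ∈ Ideal.map (C : A →+* MvPolynomial τ A) (Ideal.span (S : Set A)) := by
      rw [mem_map_C_iff]
      intro m
      by_cases hm : m ∈ (v c).support
      · apply Ideal.subset_span
        simp only [S, Finset.coe_biUnion, Finset.coe_univ, Set.mem_univ, Set.iUnion_true,
          Finset.coe_image, Set.mem_iUnion, Set.mem_image, Finset.mem_coe]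
        exact ⟨c, m, hm, rfl⟩
      · rw [notMem_support_iff.1 hm]
        exact zero_mem _
    have h2 : Ideal.span (S : Set A) = Ideal.span {t} := ht
    rwa [h2, Ideal.map_span, Set.image_singleton] at h1
  choose v' hv' using fun c => Ideal.mem_span_singleton'.1 (hmem c)
  refine ⟨t, v', htm, ?_⟩
  ext1 c
  rw [Pi.smul_apply, smul_eq_C_mul, ← hv' c, mul_comm]

end Val

section Main

open IsLocalRing

variable {A : Type*} [CommRing A] [IsDomain A] [ValuationRing A] {σ : Type*} {r : ℕ}

/-- componentwise dehomogenization. -/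
noncomputable def dehomV :
    (Fin r → MvPolynomial (Option σ) A) →ₗ[A] (Fin r → MvPolynomial σ A) :=
  (dehom (σ := σ) (A := A)).toLinearMap.compLeft (Fin r)

theorem dehomV_apply (v : Fin r → MvPolynomial (Option σ) A) (c : Fin r) :
    dehomV v c = dehom (v c) := rfl

theorem dehomV_smul (q : MvPolynomial (Option σ) A) (v : Fin r → MvPolynomial (Option σ) A) :
    dehomV (q • v) = dehom q • dehomV v := by
  ext1 c
  simp [dehomV_apply]

/-- the graded pieces of the homogenization of `K`. -/
noncomputable def piece (K : Submodule (MvPolynomial σ A) (Fin r → MvPolynomial σ A)) (d : ℕ) :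
    Submodule A (Fin r → MvPolynomial (Option σ) A) :=
  Submodule.pi Set.univ (fun _ => homogeneousSubmodule (Option σ) A d) ⊓
    (K.restrictScalars A).comap dehomV

theorem mem_piece {K : Submodule (MvPolynomial σ A) (Fin r → MvPolynomial σ A)} {d : ℕ}
    {v : Fin r → MvPolynomial (Option σ) A} :
    v ∈ piece K d ↔ (∀ c, (v c).IsHomogeneous d) ∧ dehomV v ∈ K := by
  simp [piece, Submodule.mem_pi]

theorem piece_fg [Finite σ] (K : Submodule (MvPolynomial σ A) (Fin r → MvPolynomial σ A))
    (hK : ∀ (a : A) (v : Fin r → MvPolynomial σ A), a ≠ 0 → a • v ∈ K → v ∈ K) (d : ℕ) :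
    (piece K d).FG := by
  refine fg_of_saturated (Submodule.pi Set.univ fun _ => homogeneousSubmodule (Option σ) A d)
    (piece K d) (Submodule.fg_pi fun _ => homogeneousSubmodule_fg (Option σ) A d) inf_le_left ?_
  intro a v ha hvH hav
  refine mem_piece.2 ⟨fun c => (Submodule.mem_pi.1 hvH) c trivial, hK a _ ha ?_⟩
  have := (mem_piece.1 hav).2
  rwa [map_smul] at this

theorem smul_mem_piece {K : Submodule (MvPolynomial σ A) (Fin r → MvPolynomial σ A)} {d s : ℕ}
    {q : MvPolynomial (Option σ) A} {v : Fin r → MvPolynomial (Option σ) A}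
    (hq : q.IsHomogeneous s) (hv : v ∈ piece K d) : q • v ∈ piece K (s + d) := by
  rw [mem_piece] at hv ⊢
  refine ⟨fun c => hq.mul (hv.1 c), ?_⟩
  rw [dehomV_smul]
  exact K.smul_mem _ hv.2

set_option maxHeartbeats 800000 in
/-- **Stacks 053E (module part, polynomial case).**  A saturated submodule of a finite free module
over a polynomial ring over a valuation ring is finitely generated. -/
theorem fg_of_saturated_mvPolynomial [Finite σ]
    (K : Submodule (MvPolynomial σ A) (Fin r → MvPolynomial σ A))
    (hK : ∀ (a : A) (v : Fin r → MvPolynomial σ A), a ≠ 0 → a • v ∈ K → v ∈ K) : K.FG := by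
  classical
  let ρV : (Fin r → MvPolynomial (Option σ) A) →
      (Fin r → MvPolynomial (Option σ) (ResidueField A)) := fun v c => map (residue A) (v c)
  let S : Set (Fin r → MvPolynomial (Option σ) (ResidueField A)) :=
    ⋃ d, ρV '' (piece K d : Set (Fin r → MvPolynomial (Option σ) A))
  haveI : IsNoetherian (MvPolynomial (Option σ) (ResidueField A))
      (Fin r → MvPolynomial (Option σ) (ResidueField A)) := inferInstance
  have hfg : (Submodule.span (MvPolynomial (Option σ) (ResidueField A)) S).FG :=
    IsNoetherian.noetherian _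
  obtain ⟨G, hGS, hG⟩ := (Submodule.fg_span_iff_fg_span_finset_subset S).1 hfg
  have hex : ∀ g, g ∈ G → ∃ (d : ℕ) (w : Fin r → MvPolynomial (Option σ) A),
      w ∈ piece K d ∧ ρV w = g := by
    intro g hg
    obtain ⟨d, hd⟩ := Set.mem_iUnion.1 (hGS hg)
    obtain ⟨w, hw, hwg⟩ := hd
    exact ⟨d, w, hw, hwg⟩
  choose! dG lift hlift1 hlift2 using hex
  have hGhom : ∀ g ∈ G, ∀ c, (g c).IsHomogeneous (dG g) := by
    intro g hg c
    have h2 : map (residue A) (lift g c) = g c := congrFun (hlift2 g hg) c
    rw [← h2]
    exact ((mem_piece.1 (hlift1 g hg)).1 c).map (residue A)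
  let D := G.sup dG
  have hDle : ∀ g ∈ G, ∀ d, D ≤ d → dG g ≤ d := fun g hg d hd =>
    le_trans (Finset.le_sup (f := dG) hg) hd
  -- Nakayama on the graded pieces
  have hN : ∀ d, D ≤ d → piece K d ≤ Submodule.span A {w | ∃ g ∈ G,
      ∃ q : MvPolynomial (Option σ) A, q.IsHomogeneous (d - dG g) ∧ w = q • lift g} := by
    intro d hDd
    refine Submodule.le_of_le_smul_of_le_jacobson_bot (I := maximalIdeal A) (piece_fg K hK d)
      (maximalIdeal_le_jacobson _) ?_
    intro w hw
    have hρw : ρV w ∈ Submodule.span (MvPolynomial (Option σ) (ResidueField A))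
        (G : Set (Fin r → MvPolynomial (Option σ) (ResidueField A))) := by
      rw [← hG]
      exact Submodule.subset_span (Set.mem_iUnion.2 ⟨d, w, hw, rfl⟩)
    obtain ⟨q, hq1, hq2⟩ := exists_homogeneous_coeffs G dG hGhom d (fun g hg => hDle g hg d hDd)
      (ρV w) (fun c => ((mem_piece.1 hw).1 c).map _) hρw
    have hex' : ∀ g, g ∈ G → ∃ q' : MvPolynomial (Option σ) A,
        q'.IsHomogeneous (d - dG g) ∧ map (residue A) q' = q g := fun g hg =>
      exists_homogeneous_lift (residue A) residue_surjective (q g) (hq1 g hg)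
    choose! q' hq'1 hq'2 using hex'
    have hw'N : (∑ g ∈ G, q' g • lift g) ∈ Submodule.span A {w | ∃ g ∈ G,
        ∃ q : MvPolynomial (Option σ) A, q.IsHomogeneous (d - dG g) ∧ w = q • lift g} :=
      Submodule.sum_mem _ fun g hg => Submodule.subset_span ⟨g, hg, q' g, hq'1 g hg, rfl⟩
    have hw'K : (∑ g ∈ G, q' g • lift g) ∈ piece K d :=
      Submodule.sum_mem _ fun g hg => by
        have := smul_mem_piece (hq'1 g hg) (hlift1 g hg)
        rwa [Nat.sub_add_cancel (hDle g hg d hDd)] at this
    have hdiff : ∀ c, map (residue A) ((w - ∑ g ∈ G, q' g • lift g) c) = 0 := by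
      intro c
      have h1 : map (residue A) (w c) = (∑ g ∈ G, q g • g) c := by
        rw [← hq2]
      rw [Pi.sub_apply, map_sub, h1, Finset.sum_apply, Finset.sum_apply, map_sum, sub_eq_zero]
      refine Finset.sum_congr rfl fun g hg => ?_
      have h2 : map (residue A) (lift g c) = g c := congrFun (hlift2 g hg) c
      rw [Pi.smul_apply, Pi.smul_apply, smul_eq_mul, smul_eq_mul, map_mul, hq'2 g hg, h2]
    obtain ⟨t, u, htm, htu⟩ := exists_smul_of_map_residue_eq_zero _ hdiff
    have hmem : w - ∑ g ∈ G, q' g • lift g ∈ maximalIdeal A • piece K d := by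
      by_cases ht0 : t = 0
      · rw [htu, ht0, zero_smul]
        exact zero_mem _
      · have hu : u ∈ piece K d := by
          have hwd : t • u ∈ piece K d := htu ▸ Submodule.sub_mem _ hw hw'K
          rw [mem_piece] at hwd ⊢
          refine ⟨fun c => isHomogeneous_of_smul ht0 (hwd.1 c), hK t _ ht0 ?_⟩
          have := hwd.2
          rwa [map_smul] at this
        rw [htu]
        exact Submodule.smul_mem_smul htm hu
    have hsplit : w = (∑ g ∈ G, q' g • lift g) + (w - ∑ g ∈ G, q' g • lift g) := by abel
    rw [hsplit]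
    exact Submodule.add_mem_sup hw'N hmem
  -- the finite generating set
  refine ⟨G.image (fun g => dehomV (lift g)), ?_⟩
  apply le_antisymm
  · refine Submodule.span_le.2 ?_
    intro x hx
    obtain ⟨g, hg, rfl⟩ := Finset.mem_image.1 (Finset.mem_coe.1 hx)
    exact (mem_piece.1 (hlift1 g hg)).2
  · intro k hk
    obtain ⟨d, h, hDd, hh, hdeh⟩ := exists_homogeneous_dehom_vec k D
    have hkh : dehomV h = k := by
      ext1 c
      exact hdeh c
    have hhK : h ∈ piece K d := mem_piece.2 ⟨hh, hkh ▸ hk⟩
    have h1 := hN d hDd hhK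
    have h2 : Submodule.span A {w | ∃ g ∈ G,
        ∃ q : MvPolynomial (Option σ) A, q.IsHomogeneous (d - dG g) ∧ w = q • lift g} ≤
        ((Submodule.span (MvPolynomial σ A)
          ((G.image (fun g => dehomV (lift g)) : Finset (Fin r → MvPolynomial σ A)) :
            Set (Fin r → MvPolynomial σ A))).restrictScalars A).comap dehomV := by
      refine Submodule.span_le.2 ?_
      rintro w ⟨g, hg, q, -, rfl⟩
      show dehomV (q • lift g) ∈ Submodule.span _ _
      rw [dehomV_smul]
      exact Submodule.smul_mem _ _
        (Submodule.subset_span (Finset.mem_coe.2 (Finset.mem_image.2 ⟨g, hg, rfl⟩)))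
    have h3 := h2 h1
    rw [← hkh]
    exact h3

end Main

section EssFT

variable {A : Type*} [CommRing A] [IsDomain A] [ValuationRing A]
  {B : Type*} [CommRing B] [Algebra A B]

theorem exists_common_denominator (T : Subalgebra A B)
    (hT : ∀ s : B, ∃ t ∈ T, IsUnit t ∧ s * t ∈ T) {ι : Type*} (I : Finset ι) (b : ι → B) :
    ∃ t ∈ T, IsUnit t ∧ ∀ i ∈ I, b i * t ∈ T := by
  classical
  induction I using Finset.induction_on with
  | empty => exact ⟨1, T.one_mem, isUnit_one, fun i hi => absurd hi (Finset.notMem_empty i)⟩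
  | insert j I hj ih =>
    obtain ⟨t, htT, htu, ht⟩ := ih
    obtain ⟨t', ht'T, ht'u, ht'⟩ := hT (b j)
    refine ⟨t * t', T.mul_mem htT ht'T, htu.mul ht'u, fun i hi => ?_⟩
    rcases Finset.mem_insert.1 hi with rfl | hi
    · have : b i * (t * t') = (b i * t') * t := by ring
      rw [this]
      exact T.mul_mem ht' htT
    · rw [← mul_assoc]
      exact T.mul_mem (ht i hi) ht'T

set_option maxHeartbeats 800000 in
/-- **Stacks 053E, essentially finite type form.**  A finite module over an algebra essentially of
finite type over a valuation ring which is torsion-free over the valuation ring is finitely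
presented. -/
theorem finitePresentation_of_torsionFree [Algebra.EssFiniteType A B]
    (M : Type*) [AddCommGroup M] [Module B M] [Module A M] [IsScalarTower A B M]
    [Module.Finite B M] (htf : ∀ (a : A) (m : M), a ≠ 0 → a • m = 0 → m = 0) :
    Module.FinitePresentation B M := by
  classical
  obtain ⟨σ, hσ⟩ := (Algebra.essFiniteType_iff A B).1 inferInstance
  obtain ⟨r, π, hπ⟩ := Module.Finite.exists_fin' B M
  let g : MvPolynomial ↥(σ : Set B) A →ₐ[A] B := aeval (Subtype.val : ↥(σ : Set B) → B)
  have hrange : Algebra.adjoin A (σ : Set B) = g.range := Algebra.adjoin_eq_range A _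
  have hgsmul : ∀ (p : MvPolynomial ↥(σ : Set B) A) (v : Fin r → MvPolynomial ↥(σ : Set B) A),
      (fun c => g ((p • v) c)) = g p • fun c => g (v c) := by
    intro p v
    ext1 c
    simp
  let K : Submodule (MvPolynomial ↥(σ : Set B) A) (Fin r → MvPolynomial ↥(σ : Set B) A) :=
    { carrier := {v | π (fun c => g (v c)) = 0}
      add_mem' := by
        intro v w hv hw
        have : (fun c => g ((v + w) c)) = (fun c => g (v c)) + fun c => g (w c) := by
          ext1 c
          simp
        show π _ = 0
        rw [this, map_add, hv, hw, add_zero]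
      zero_mem' := by
        have : (fun c => g ((0 : Fin r → MvPolynomial ↥(σ : Set B) A) c)) = 0 := by
          ext1 c
          simp
        show π _ = 0
        rw [this, map_zero]
      smul_mem' := by
        intro p v hv
        show π _ = 0
        rw [hgsmul, map_smul, hv, smul_zero] }
  have hKsat : ∀ (a : A) (v : Fin r → MvPolynomial ↥(σ : Set B) A), a ≠ 0 → a • v ∈ K → v ∈ K := by
    intro a v ha hav
    have h1 : (fun c => g ((a • v) c)) = (algebraMap A B a) • fun c => g (v c) := by
      ext1 c
      simp [Algebra.smul_def]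
    have h2 : π (fun c => g ((a • v) c)) = 0 := hav
    rw [h1, map_smul, algebraMap_smul] at h2
    exact htf a _ ha h2
  obtain ⟨Gs, hGs⟩ := fg_of_saturated_mvPolynomial K hKsat
  have hmap : ∀ v ∈ Submodule.span (MvPolynomial ↥(σ : Set B) A)
      (Gs : Set (Fin r → MvPolynomial ↥(σ : Set B) A)), (fun c => g (v c)) ∈ Submodule.span B
      ((fun v : Fin r → MvPolynomial ↥(σ : Set B) A => fun c => g (v c)) '' (Gs : Set _)) := by
    intro v hv
    induction hv using Submodule.span_induction with
    | mem x hx => exact Submodule.subset_span ⟨x, hx, rfl⟩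
    | zero =>
      have : (fun c => g ((0 : Fin r → MvPolynomial ↥(σ : Set B) A) c)) = 0 := by
        ext1 c
        simp
      rw [this]
      exact zero_mem _
    | add x y _ _ hx hy =>
      have : (fun c => g ((x + y) c)) = (fun c => g (x c)) + fun c => g (y c) := by
        ext1 c
        simp
      rw [this]
      exact add_mem hx hy
    | smul p x _ hx =>
      rw [hgsmul]
      exact Submodule.smul_mem _ _ hx
  have hker : LinearMap.ker π = Submodule.span B
      ((fun v : Fin r → MvPolynomial ↥(σ : Set B) A => fun c => g (v c)) '' (Gs : Set _)) := by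
    apply le_antisymm
    · intro w hw
      obtain ⟨t, htT, htu, ht⟩ := exists_common_denominator (Algebra.adjoin A (σ : Set B)) hσ
        Finset.univ w
      have hv : ∀ c, ∃ p, g p = w c * t := fun c => by
        have := ht c (Finset.mem_univ c)
        rw [hrange] at this
        exact this
      choose v hv using hv
      have hvw : (fun c => g (v c)) = t • w := by
        ext1 c
        rw [hv c, Pi.smul_apply, smul_eq_mul, mul_comm]
      have hvK : v ∈ K := by
        show π _ = 0
        rw [hvw, map_smul, LinearMap.mem_ker.1 hw, smul_zero]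
      have hvspan : (fun c => g (v c)) ∈ Submodule.span B
          ((fun v : Fin r → MvPolynomial ↥(σ : Set B) A => fun c => g (v c)) '' (Gs : Set _)) :=
        hmap v (hGs ▸ hvK)
      obtain ⟨u, rfl⟩ := htu
      have : w = (↑u⁻¹ : B) • ((u : B) • w) := by
        rw [smul_smul, Units.inv_mul, one_smul]
      rw [this, ← hvw]
      exact Submodule.smul_mem _ _ hvspan
    · refine Submodule.span_le.2 ?_
      rintro _ ⟨v, hv, rfl⟩
      have : v ∈ K := hGs ▸ Submodule.subset_span hv
      exact this
  have hkerfg : (LinearMap.ker π).FG := by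
    rw [hker]
    exact Submodule.fg_span ((Finset.finite_toSet Gs).image _)
  exact Module.finitePresentation_of_surjective π hπ hkerfg

end EssFT

end Groth.Agent.Lib.Helper7.ValFP
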