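import Mathlib
import Groth.Agent.Lib.Helper7.ValFP

/-!
# Helper7 — ValRefl: reflexive finitely presented modules over torsion-free essentially finite type
algebras over a valuation ring are second syzygies with torsion-free cokernel
-/

set_option autoImplicit false

namespace Groth.Agent.Lib.Helper7.ValRefl

open Function Module

variable {A : Type*} [CommRing A] [IsDomain A] [ValuationRing A]
  {B : Type*} [CommRing B] [Algebra A B] [Algebra.EssFiniteType A B]

/-- variant of `ValFP.finitePresentation_of_torsionFree` with torsion-freeness stated through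
`algebraMap`. -/
theorem finitePresentation_of_torsionFree' (M : Type*) [AddCommGroup M] [Module B M]
    [Module.Finite B M] (htf : ∀ (a : A) (m : M), a ≠ 0 → algebraMap A B a • m = 0 → m = 0) :
    Module.FinitePresentation B M := by
  letI : Module A M := Module.compHom M (algebraMap A B)
  haveI : IsScalarTower A B M := IsScalarTower.of_algebraMap_smul fun _ _ => rfl
  exact Groth.Agent.Lib.Helper7.ValFP.finitePresentation_of_torsionFree (A := A) (B := B) M
    (fun a m ha h => htf a m ha h)

variable (hB : ∀ (a : A) (b : B), a ≠ 0 → algebraMap A B a * b = 0 → b = 0)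

include hB in
theorem dual_torsionFree {N : Type*} [AddCommGroup N] [Module B N] (a : A) (f : Dual B N)
    (ha : a ≠ 0) (h : algebraMap A B a • f = 0) : f = 0 := by
  ext x
  have := LinearMap.congr_fun h x
  rw [LinearMap.smul_apply, smul_eq_mul] at this
  exact hB a _ ha this

include hB in
/-- the dual of a finitely presented module is finitely generated. -/
theorem dual_finite (M : Type*) [AddCommGroup M] [Module B M] [Module.FinitePresentation B M] :
    Module.Finite B (Dual B M) := by
  obtain ⟨k, π, hπ⟩ := Module.Finite.exists_fin' B M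
  have hK : (LinearMap.ker π).FG := Module.FinitePresentation.fg_ker π hπ
  haveI : Module.Finite B (LinearMap.ker π) := Module.Finite.iff_fg.2 hK
  obtain ⟨l, α, hα⟩ := Module.Finite.exists_fin' B (LinearMap.ker π)
  let A' : (Fin l → B) →ₗ[B] (Fin k → B) := (LinearMap.ker π).subtype ∘ₗ α
  let Ψ : Dual B (Fin k → B) →ₗ[B] Dual B (Fin l → B) := A'.dualMap
  haveI : Module.Finite B (LinearMap.range Ψ) := Module.Finite.range Ψ
  haveI : Module.FinitePresentation B (LinearMap.range Ψ) :=
    finitePresentation_of_torsionFree' (A := A) (LinearMap.range Ψ) (by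
      rintro a ⟨f, hf⟩ ha h
      apply Subtype.ext
      have h1 : algebraMap A B a • f = 0 := congrArg Subtype.val h
      exact dual_torsionFree hB a f ha h1)
  have hker : (LinearMap.ker Ψ).FG := by
    have := Module.FinitePresentation.fg_ker (R := B) (M := Dual B (Fin k → B))
      (N := LinearMap.range Ψ) Ψ.rangeRestrict Ψ.surjective_rangeRestrict
    rwa [LinearMap.ker_rangeRestrict] at this
  have hrange : LinearMap.range π.dualMap = LinearMap.ker Ψ := by
    ext ψ
    constructor
    · rintro ⟨φ, rfl⟩
      rw [LinearMap.mem_ker]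
      ext x
      have : π ((α (Pi.single x 1) : Fin k → B)) = 0 := (α (Pi.single x 1)).2
      simp [Ψ, A', this]
    · intro hψ
      have hk : LinearMap.ker π ≤ LinearMap.ker ψ := by
        intro x hx
        obtain ⟨y, hy⟩ := hα ⟨x, hx⟩
        have h1 := LinearMap.congr_fun (LinearMap.mem_ker.1 hψ) y
        have h2 : Ψ ψ y = ψ ((α y : Fin k → B)) := rfl
        rw [h2, hy] at h1
        exact h1
      refine ⟨(LinearMap.ker π).liftQ ψ hk ∘ₗ (π.quotKerEquivOfSurjective hπ).symm.toLinearMap, ?_⟩
      apply LinearMap.ext
      intro x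
      have h3 : (π.quotKerEquivOfSurjective hπ).symm (π x) = Submodule.Quotient.mk x := by
        rw [LinearEquiv.symm_apply_eq]
        rfl
      simp [LinearMap.dualMap_apply, h3]
  have e : Dual B M ≃ₗ[B] LinearMap.ker Ψ :=
    (LinearEquiv.ofInjective π.dualMap (LinearMap.dualMap_injective_of_surjective hπ)).trans
      (LinearEquiv.ofEq _ _ hrange)
  haveI : Module.Finite B (LinearMap.ker Ψ) := Module.Finite.iff_fg.2 hker
  exact Module.Finite.equiv e.symm

include hB in
/-- a reflexive finitely presented module embeds into a finite free module with saturated image. -/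
theorem exists_saturated_embedding (M : Type*) [AddCommGroup M] [Module B M]
    [Module.FinitePresentation B M] [IsReflexive B M] :
    ∃ (b : ℕ) (j : M →ₗ[B] Dual B (Fin b → B)), Injective j ∧
      ∀ (a : A) (f : Dual B (Fin b → B)), a ≠ 0 →
        algebraMap A B a • f ∈ LinearMap.range j → f ∈ LinearMap.range j := by
  haveI := dual_finite hB M
  obtain ⟨b, ρ, hρ⟩ := Module.Finite.exists_fin' B (Dual B M)
  let j : M →ₗ[B] Dual B (Fin b → B) := ρ.dualMap ∘ₗ Dual.eval B M
  have hj : ∀ m x, j m x = ρ x m := fun m x => rfl
  refine ⟨b, j, ?_, ?_⟩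
  · exact (LinearMap.dualMap_injective_of_surjective hρ).comp (bijective_dual_eval B M).injective
  · rintro a f ha ⟨m, hm⟩
    have hk : LinearMap.ker ρ ≤ LinearMap.ker f := by
      intro x hx
      have h1 : algebraMap A B a * f x = 0 := by
        have := LinearMap.congr_fun hm x
        rw [hj, LinearMap.mem_ker.1 hx, LinearMap.zero_apply, LinearMap.smul_apply,
          smul_eq_mul] at this
        exact this.symm
      exact LinearMap.mem_ker.2 (hB a _ ha h1)
    let θ : Dual B (Dual B M) :=
      (LinearMap.ker ρ).liftQ f hk ∘ₗ (ρ.quotKerEquivOfSurjective hρ).symm.toLinearMap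
    have hθ : ∀ x, θ (ρ x) = f x := by
      intro x
      have h3 : (ρ.quotKerEquivOfSurjective hρ).symm (ρ x) = Submodule.Quotient.mk x := by
        rw [LinearEquiv.symm_apply_eq]
        rfl
      simp [θ, h3]
    obtain ⟨m', hm'⟩ := (bijective_dual_eval B M).surjective θ
    refine ⟨m', ?_⟩
    apply LinearMap.ext
    intro x
    rw [hj, ← hθ, ← hm']
    rfl

end Groth.Agent.Lib.Helper7.ValRefl
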