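import Mathlib
import Groth.Agent.Lib.Helper7.ValRefl
import Groth.Agent.Lib.Helper7.FlatLocalGlobal

/-!
# Helper7 — PruferCoherent: finitely presented algebras over Prüfer domains are coherent
-/

set_option autoImplicit false

namespace Groth.Agent.Lib.Helper7.PruferCoherent

open Function

universe u

section Z

/-- a module over a quotient ring which is finitely presented over the ring is finitely presented
over the quotient. -/
theorem finitePresentation_of_surjective_algebraMap {P A N : Type*} [CommRing P] [CommRing A]
    [Algebra P A] (hsurj : Surjective (algebraMap P A)) [AddCommGroup N] [Module P N] [Module A N]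
    [IsScalarTower P A N] [Module.FinitePresentation P N] : Module.FinitePresentation A N := by
  refine _root_.FinitePresentation.of_isBaseChange (LinearMap.id : N →ₗ[P] N) ?_
  apply IsBaseChange.of_lift_unique
  intro Q _ _ _ _ g
  refine ⟨{ toFun := g, map_add' := g.map_add, map_smul' := ?_ }, ?_, ?_⟩
  · intro a n
    obtain ⟨p, rfl⟩ := hsurj a
    rw [RingHom.id_apply, algebraMap_smul, algebraMap_smul, map_smul]
  · ext n
    rfl
  · intro g' hg'
    ext n
    exact LinearMap.congr_fun hg' n

end Z

section Aux

theorem algebraMap_eq_mul_mk' {R V T : Type*} [CommRing R] [CommRing V] [CommRing T] [Algebra R V]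
    [Algebra V T] [Algebra R T] [IsScalarTower R V T] (M : Submonoid R) [IsLocalization M V]
    (r : R) (t : M) :
    algebraMap R T r = algebraMap R T (t : R) * algebraMap V T (IsLocalization.mk' V r t) := by
  rw [IsScalarTower.algebraMap_apply R V T r, IsScalarTower.algebraMap_apply R V T (t : R),
    ← map_mul, mul_comm, IsLocalization.mk'_spec]

end Aux

section Poly

variable (R : Type u) [CommRing R] [IsDomain R]
  (hR : ∀ (p : Ideal R) [p.IsPrime], ValuationRing (Localization.AtPrime p))

include hR in
set_option maxHeartbeats 1600000 in
set_option synthInstance.maxHeartbeats 200000 in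
/-- finitely generated ideals of polynomial rings over a Prüfer domain are finitely presented. -/
theorem finitePresentation_ideal_mvPolynomial (n : ℕ) (I : Ideal (MvPolynomial (Fin n) R))
    (hI : I.FG) : Module.FinitePresentation (MvPolynomial (Fin n) R) I := by
  classical
  haveI : Module.Finite (MvPolynomial (Fin n) R) I := Module.Finite.iff_fg.2 hI
  have hCinj : Injective (algebraMap R (MvPolynomial (Fin n) R)) := MvPolynomial.C_injective _ _
  have htf : ∀ (a : R) (x : I), a ≠ 0 → a • x = 0 → x = 0 := by
    intro a x ha hax
    apply Subtype.ext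
    have h1 : a • (x : MvPolynomial (Fin n) R) = 0 := congrArg Subtype.val hax
    rw [Algebra.smul_def] at h1
    rcases mul_eq_zero.1 h1 with h | h
    · exact absurd (hCinj (h.trans (map_zero _).symm)) ha
    · exact h
  haveI hflat : Module.Flat R I := by
    rw [Module.Flat.flat_iff_torsion_eq_bot_of_valuationRing_localization_isMaximal
      (fun P _ => hR P), eq_bot_iff]
    rintro x ⟨⟨a, ha⟩, hax⟩
    exact (Submodule.mem_bot _).2 (htf a x (nonZeroDivisors.ne_zero ha) hax)
  let s : Finset (PrimeSpectrum R) := {⟨⊥, Ideal.isPrime_bot⟩}
  have hs : Injective fun a : R => fun p : s =>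
      algebraMap R (Localization.AtPrime p.1.asIdeal) a := by
    intro a b hab
    have h1 := congrFun hab ⟨⟨⊥, Ideal.isPrime_bot⟩, Finset.mem_singleton_self _⟩
    exact IsLocalization.injective (M := (⊥ : Ideal R).primeCompl)
      (Localization.AtPrime (⊥ : Ideal R))
      (by
        intro x hx
        have hx' : x ∉ (⊥ : Ideal R) := hx
        exact mem_nonZeroDivisors_of_ne_zero (fun h => hx' (by rw [h]; exact zero_mem _))) h1
  refine Groth.Agent.Lib.Helper7.FlatLocalGlobal.finitePresentation_of_locally s hs ?_
  intro p _
  haveI := hR p
  haveI hess : Algebra.EssFiniteType (Localization.AtPrime p)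
      (Localization (Algebra.algebraMapSubmonoid (MvPolynomial (Fin n) R) p.primeCompl)) := by
    haveI : Algebra.EssFiniteType (MvPolynomial (Fin n) R)
        (Localization (Algebra.algebraMapSubmonoid (MvPolynomial (Fin n) R) p.primeCompl)) :=
      Algebra.EssFiniteType.of_isLocalization _
        (Algebra.algebraMapSubmonoid (MvPolynomial (Fin n) R) p.primeCompl)
    haveI : Algebra.EssFiniteType R
        (Localization (Algebra.algebraMapSubmonoid (MvPolynomial (Fin n) R) p.primeCompl)) :=
      Algebra.EssFiniteType.comp R (MvPolynomial (Fin n) R) _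
    exact Algebra.EssFiniteType.of_comp R (Localization.AtPrime p) _
  refine Groth.Agent.Lib.Helper7.ValRefl.finitePresentation_of_torsionFree'
    (A := Localization.AtPrime p) _ ?_
  intro a m ha ham
  obtain ⟨⟨r, t⟩, rfl⟩ := IsLocalization.mk'_surjective p.primeCompl a
  have hr : r ≠ 0 := by
    rintro rfl
    exact ha (IsLocalization.mk'_zero _)
  -- multiply by `t`
  have h1 : algebraMap R (Localization (Algebra.algebraMapSubmonoid (MvPolynomial (Fin n) R)
      p.primeCompl)) r • m = 0 := by
    have h2 : algebraMap R (Localization (Algebra.algebraMapSubmonoid (MvPolynomial (Fin n) R)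
        p.primeCompl)) r = algebraMap R _ (t : R) *
        algebraMap (Localization.AtPrime p) _ (IsLocalization.mk' (Localization.AtPrime p) r t) := by
      exact algebraMap_eq_mul_mk' p.primeCompl r t
    rw [h2, mul_smul, ham, smul_zero]
  induction m using LocalizedModule.induction_on with
  | h i c =>
    rw [algebraMap_smul, LocalizedModule.smul'_mk, ← LocalizedModule.zero_mk (1 : _),
      LocalizedModule.mk_eq] at h1
    obtain ⟨u, hu⟩ := h1
    rw [smul_zero, smul_zero, one_smul] at hu
    have hu0 : (u : MvPolynomial (Fin n) R) ≠ 0 := by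
      obtain ⟨b, hb, hbu⟩ := u.2
      rw [← hbu]
      intro h
      have : b = 0 := hCinj (h.trans (map_zero _).symm)
      exact hb (this ▸ zero_mem _)
    have h3 : r • i = 0 := by
      apply Subtype.ext
      have h4 : (u : MvPolynomial (Fin n) R) * ((r • i : I) : MvPolynomial (Fin n) R) = 0 := by
        have := congrArg Subtype.val hu
        simpa [Submonoid.smul_def] using this
      rcases mul_eq_zero.1 h4 with h | h
      · exact absurd h hu0
      · exact h
    rw [htf r i hr h3, LocalizedModule.zero_mk]

end Poly

section Main

variable (R : Type u) [CommRing R] [IsDomain R]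
  (hR : ∀ (p : Ideal R) [p.IsPrime], ValuationRing (Localization.AtPrime p))

include hR in
set_option maxHeartbeats 1600000 in
set_option synthInstance.maxHeartbeats 200000 in
/-- **finitely presented algebras over a Prüfer domain are coherent.** -/
theorem finitePresentation_ideal (A : Type u) [CommRing A] [Algebra R A]
    [Algebra.FinitePresentation R A] (I : Ideal A) (hI : I.FG) : Module.FinitePresentation A I := by
  obtain ⟨n, f, hf, hker⟩ := Algebra.FinitePresentation.out (R := R) (A := A)
  letI aPA : Algebra (MvPolynomial (Fin n) R) A := f.toRingHom.toAlgebra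
  have hsurj : Surjective (algebraMap (MvPolynomial (Fin n) R) A) := hf
  have hI'fg : (I.comap f.toRingHom).FG := by
    have h1 : I.comap f.toRingHom = RingHom.ker ((Ideal.Quotient.mk I).comp f.toRingHom) := by
      rw [← RingHom.comap_ker, Ideal.mk_ker]
    rw [h1]
    exact Ideal.fg_ker_comp f.toRingHom (Ideal.Quotient.mk I) hker
      (by rw [Ideal.mk_ker]; exact hI) hf
  haveI := finitePresentation_ideal_mvPolynomial R hR n (I.comap f.toRingHom) hI'fg
  letI mPI : Module (MvPolynomial (Fin n) R) I :=
    Module.compHom I (algebraMap (MvPolynomial (Fin n) R) A)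
  haveI : IsScalarTower (MvPolynomial (Fin n) R) A I :=
    IsScalarTower.of_algebraMap_smul fun _ _ => rfl
  let g : (I.comap f.toRingHom) →ₗ[MvPolynomial (Fin n) R] I :=
    { toFun := fun x => ⟨f x, x.2⟩
      map_add' := fun x y => Subtype.ext (map_add f _ _)
      map_smul' := fun c x => Subtype.ext (map_mul f c x) }
  have hg : Surjective g := by
    rintro ⟨y, hy⟩
    obtain ⟨x, rfl⟩ := hf y
    exact ⟨⟨x, hy⟩, rfl⟩
  have hle : RingHom.ker f.toRingHom ≤ I.comap f.toRingHom := by
    intro x hx
    have h0 : f x = 0 := (RingHom.mem_ker).1 hx
    show f x ∈ I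
    rw [h0]
    exact zero_mem _
  have hkerg : (LinearMap.ker g).FG := by
    have h1 : LinearMap.ker g =
        Submodule.comap (I.comap f.toRingHom).subtype (RingHom.ker f.toRingHom) := by
      ext x
      rw [LinearMap.mem_ker, Submodule.mem_comap]
      constructor
      · intro h
        exact congrArg Subtype.val h
      · intro h
        exact Subtype.ext h
    rw [h1]
    haveI : Module.Finite (MvPolynomial (Fin n) R) (RingHom.ker f.toRingHom) :=
      Module.Finite.iff_fg.2 hker
    have e := Submodule.comapSubtypeEquivOfLe hle
    exact Module.Finite.iff_fg.1 (Module.Finite.equiv e.symm)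
  haveI : Module.FinitePresentation (MvPolynomial (Fin n) R) I :=
    Module.finitePresentation_of_surjective g hg hkerg
  exact finitePresentation_of_surjective_algebraMap hsurj

end Main

end Groth.Agent.Lib.Helper7.PruferCoherent
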