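import Mathlib
import Groth.Agent.Lib.Helper7.IntegralModule
import Groth.Agent.Lib.helper11.CMLocus
import Groth.Agent.Lib.Helper21.DepthKit12
import Groth.Agent.Lib.Helper7.FibreCM

/-!
# Existence of Cohen–Macaulay closed points (helper7)

A nontrivial Noetherian Jacobson ring of finite Krull dimension has a maximal ideal at which the
localization is Cohen–Macaulay.
-/

set_option autoImplicit false
set_option linter.style.haveILetI false
set_option linter.unusedSectionVars false
universe u

namespace Groth.Agent.Lib.Helper7.CMClosedPoint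
open IsLocalRing Pointwise Groth.Agent.Lib.helper11.CMLocus Groth.Agent.Lib.helper11
open Groth.Agent.Lib.Helper21.DepthKit Groth.Agent.Lib.Helper2.R0S1

section Local

variable {A : Type u} [CommRing A] [IsLocalRing A] [IsNoetherianRing A]
variable {M : Type u} [AddCommGroup M] [Module A M] [Module.Finite A M]

/-- if `M/xM` is Cohen–Macaulay for an `M`-regular `x ∈ m` then so is `M` -/
theorem isCM_of_quotSMulTop [Nontrivial M] (x : A) (hx : x ∈ maximalIdeal A)
    (hreg : IsSMulRegular M x) (h : LocCoh.IsCohenMacaulayModule A (QuotSMulTop x M)) :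
    LocCoh.IsCohenMacaulayModule A M := by
  have hnt' := nontrivial_quotSMulTop (M := M) x hx
  obtain ⟨n, hn⟩ := exists_nat_supportDim (A := A) (M := M)
  obtain ⟨k, hk⟩ := exists_nat_depth (A := A) (M := M)
  obtain ⟨hn1, h1⟩ := supportDim_quotSMulTop_nat hn x hx hreg
  obtain ⟨hk1, h2⟩ := depth_quotSMulTop_nat hk x hx hreg
  have := (isCM_iff_nat h1 h2).1 h
  rw [isCM_iff_nat hn hk]; omega

/-- a Noetherian local ring of dimension `≤ 0` is Cohen–Macaulay -/
theorem isCM_of_ringKrullDim_le_zero (h : ringKrullDim A ≤ 0) :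
    LocCoh.IsCohenMacaulayLocalRing A := by
  refine ⟨?_⟩
  have h1 := depth_le_supportDim (A := A) (M := A)
  have h2 : Module.supportDim A A = 0 := by
    rw [Module.supportDim_self_eq_ringKrullDim]
    exact le_antisymm h ringKrullDim_nonneg_of_nontrivial
  rw [h2] at h1 ⊢
  have h3 : (LocCoh.depth A A : ℕ∞) ≤ 0 := by exact_mod_cast h1
  rw [nonpos_iff_eq_zero.1 h3]; rfl

end Local

section Transfer

variable {B : Type u} [CommRing B] [IsNoetherianRing B]

/-- if `(B/b)_q` is Cohen–Macaulay for a non-zero-divisor `b`, then so is `B_p`, `p` the preimage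
of `q` -/
theorem isCM_localization_of_quotient (b : B) (hb : IsSMulRegular B b)
    (q : Ideal (B ⧸ Ideal.span {b})) [q.IsPrime]
    (h : LocCoh.IsCohenMacaulayLocalRing (Localization.AtPrime q)) :
    LocCoh.IsCohenMacaulayLocalRing
      (Localization.AtPrime (q.comap (algebraMap B (B ⧸ Ideal.span {b})))) := by
  have hs : Function.Surjective (algebraMap B (B ⧸ Ideal.span {b})) :=
    Ideal.Quotient.mk_surjective
  rw [isCMLocalRing_iff_module (B ⧸ Ideal.span {b}) q] at h
  unfold LocCoh.IsCohenMacaulayModule at h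
  rw [← depth_localization_of_surjective (N := B ⧸ Ideal.span {b}) hs q,
    ← supportDim_localization_of_surjective (N := B ⧸ Ideal.span {b}) hs q] at h
  have h' : LocCoh.IsCohenMacaulayModule
      (Localization.AtPrime (q.comap (algebraMap B (B ⧸ Ideal.span {b}))))
      (LocalizedModule (q.comap (algebraMap B (B ⧸ Ideal.span {b}))).primeCompl
        (B ⧸ Ideal.span {b})) := h
  have hbp : b ∈ q.comap (algebraMap B (B ⧸ Ideal.span {b})) := by
    rw [Ideal.mem_comap]
    have : algebraMap B (B ⧸ Ideal.span {b}) b = 0 :=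
      Ideal.Quotient.eq_zero_iff_mem.2 (Ideal.mem_span_singleton_self b)
    rw [this]; exact q.zero_mem
  have e1 : (Ideal.span {b} : Submodule B B) = b • (⊤ : Submodule B B) := by
    rw [← Submodule.ideal_span_singleton_smul, smul_eq_mul, Ideal.mul_top]
  let E1 : (B ⧸ Ideal.span {b}) ≃ₗ[B] QuotSMulTop b B := Submodule.quotEquivOfEq _ _ e1
  let E2 := IsLocalizedModule.mapEquiv (q.comap (algebraMap B (B ⧸ Ideal.span {b}))).primeCompl
    (LocalizedModule.mkLinearMap (q.comap (algebraMap B (B ⧸ Ideal.span {b}))).primeCompl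
      (B ⧸ Ideal.span {b}))
    (LocalizedModule.mkLinearMap (q.comap (algebraMap B (B ⧸ Ideal.span {b}))).primeCompl
      (QuotSMulTop b B))
    (Localization.AtPrime (q.comap (algebraMap B (B ⧸ Ideal.span {b})))) E1
  let E3 := Groth.Agent.Lib.Helper7.IntegralModule.quotSMulTopLocEquiv (M := B)
    (q.comap (algebraMap B (B ⧸ Ideal.span {b}))) b
  have h'' := isCM_congr (E2 ≪≫ₗ E3.symm) h'
  haveI : Nontrivial (LocalizedModule (q.comap (algebraMap B (B ⧸ Ideal.span {b}))).primeCompl B) :=
    (locEquiv (q.comap (algebraMap B (B ⧸ Ideal.span {b})))).toEquiv.nontrivial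
  have hreg : IsSMulRegular
      (LocalizedModule (q.comap (algebraMap B (B ⧸ Ideal.span {b}))).primeCompl B)
      (algebraMap B (Localization.AtPrime (q.comap (algebraMap B (B ⧸ Ideal.span {b})))) b) := by
    haveI : Module.Flat B (Localization.AtPrime (q.comap (algebraMap B (B ⧸ Ideal.span {b})))) :=
      IsLocalization.flat _ (q.comap (algebraMap B (B ⧸ Ideal.span {b}))).primeCompl
    exact hb.of_flat_of_isBaseChange (IsLocalizedModule.isBaseChange
      (q.comap (algebraMap B (B ⧸ Ideal.span {b}))).primeCompl _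
      (LocalizedModule.mkLinearMap (q.comap (algebraMap B (B ⧸ Ideal.span {b}))).primeCompl B))
  have h3 := isCM_of_quotSMulTop
    (algebraMap B (Localization.AtPrime (q.comap (algebraMap B (B ⧸ Ideal.span {b})))) b)
    ((IsLocalization.AtPrime.to_map_mem_maximal_iff _
      (q.comap (algebraMap B (B ⧸ Ideal.span {b}))) b).2 hbp) hreg h''
  rw [isCMLocalRing_iff_module B (q.comap (algebraMap B (B ⧸ Ideal.span {b})))]
  exact h3

end Transfer

section Main

/-- in a Noetherian Jacobson ring with a non-maximal prime, some maximal ideal is not an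
associated prime of the ring -/
theorem exists_maximal_notMem_associatedPrimes {B : Type u} [CommRing B] [IsNoetherianRing B]
    [IsJacobsonRing B] (p0 : Ideal B) [hp : p0.IsPrime] (hp0 : ¬ p0.IsMaximal) :
    ∃ m : Ideal B, m.IsMaximal ∧ m ∉ associatedPrimes B B := by
  by_contra hcon
  push Not at hcon
  have hJ : p0.jacobson = p0 := IsJacobsonRing.out' _ hp.isRadical
  have hfin : (associatedPrimes B B).Finite := associatedPrimes.finite B B
  have hS : {J : Ideal B | p0 ≤ J ∧ J.IsMaximal}.Finite :=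
    hfin.subset (fun J hJ => hcon J hJ.2)
  have h1 : sInf {J : Ideal B | p0 ≤ J ∧ J.IsMaximal} ≤ p0 := hJ.le
  rw [← hS.coe_toFinset, ← Finset.inf_id_eq_sInf] at h1
  obtain ⟨J, hJS, hJp⟩ := (Ideal.IsPrime.inf_le' hp).1 h1
  have hJ' : p0 ≤ J ∧ J.IsMaximal := by simpa using hJS
  have : p0 = J := le_antisymm hJ'.1 hJp
  exact hp0 (this ▸ hJ'.2)

theorem exists_maximal_CM_of_dim_le_zero (B : Type u) [CommRing B] [IsNoetherianRing B]
    [Nontrivial B] (h : ringKrullDim B ≤ 0) :
    ∃ m : Ideal B, ∃ _ : m.IsMaximal,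
      LocCoh.IsCohenMacaulayLocalRing (Localization.AtPrime m) := by
  obtain ⟨m, hm⟩ := Ideal.exists_maximal B
  refine ⟨m, hm, ?_⟩
  apply isCM_of_ringKrullDim_le_zero
  rw [IsLocalization.AtPrime.ringKrullDim_eq_height m (Localization.AtPrime m)]
  exact (Ideal.height_le_ringKrullDim_of_ne_top hm.ne_top).trans h

/-- a nontrivial Noetherian Jacobson ring of finite Krull dimension has a maximal ideal with
Cohen–Macaulay localization -/
theorem exists_maximal_CM (n : ℕ) : ∀ (B : Type u) [CommRing B] [IsNoetherianRing B]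
    [IsJacobsonRing B] [Nontrivial B], ringKrullDim B ≤ n →
    ∃ m : Ideal B, ∃ _ : m.IsMaximal,
      LocCoh.IsCohenMacaulayLocalRing (Localization.AtPrime m) := by
  induction n with
  | zero =>
    intro B _ _ _ _ h
    exact exists_maximal_CM_of_dim_le_zero B (by exact_mod_cast h)
  | succ n ih =>
    intro B _ _ _ _ h
    by_cases h0 : ringKrullDim B ≤ 0
    · exact exists_maximal_CM_of_dim_le_zero B h0
    · have h1 : ¬ Ring.KrullDimLE 0 B := fun h' => h0 (by exact_mod_cast Ring.krullDimLE_iff.1 h')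
      rw [Ring.krullDimLE_zero_iff] at h1
      push Not at h1
      obtain ⟨p0, hp0, hp0m⟩ := h1
      obtain ⟨m, hm, hmass⟩ := exists_maximal_notMem_associatedPrimes p0 hp0m
      have hex : ∃ b ∈ m, IsSMulRegular B b := by
        by_contra hcon
        push Not at hcon
        obtain ⟨q, hq, hmq⟩ :=
          exists_le_associatedPrime_of_forall_not_isSMulRegular (M := B) m hcon
        have := hm.eq_of_le hq.isPrime.ne_top hmq
        exact hmass (this ▸ hq)
      obtain ⟨b, hbm, hb⟩ := hex
      have hne : Ideal.span {b} ≠ ⊤ := fun h =>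
        hm.ne_top (top_le_iff.1 (h ▸ (Ideal.span_singleton_le_iff_mem _).2 hbm))
      haveI : Nontrivial (B ⧸ Ideal.span {b}) := Ideal.Quotient.nontrivial_iff.2 hne
      have hb0 : b ∈ nonZeroDivisors B := by
        rw [← isRegular_iff_mem_nonZeroDivisors]
        exact isLeftRegular_iff_isRegular.1 hb.isLeftRegular
      have hdim : ringKrullDim (B ⧸ Ideal.span {b}) ≤ n := by
        have h2 := (ringKrullDim_quotient_succ_le_of_nonZeroDivisor hb0).trans h
        rw [ENat.WithBot.add_one_le_natCast_iff, Nat.cast_add, Nat.cast_one,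
          ENat.WithBot.lt_add_one_iff] at h2
        exact h2
      obtain ⟨m', hm', hCM⟩ := ih (B ⧸ Ideal.span {b}) hdim
      exact ⟨m'.comap (algebraMap B (B ⧸ Ideal.span {b})),
        Ideal.comap_isMaximal_of_surjective _ Ideal.Quotient.mk_surjective,
        isCM_localization_of_quotient b hb m' hCM⟩

end Main

section Scheme

open AlgebraicGeometry CategoryTheory

/-- Cohen–Macaulay stalk ↔ Cohen–Macaulay localization on an affine open -/
theorem isCM_stalk_iff {Y : Scheme.{u}} {V : Y.Opens} (hV : IsAffineOpen V) (y : Y)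
    (hy : y ∈ V) :
    LocCoh.IsCohenMacaulayLocalRing (Y.presheaf.stalk y) ↔
      LocCoh.IsCohenMacaulayLocalRing
        (Localization.AtPrime (hV.primeIdealOf ⟨y, hy⟩).asIdeal) := by
  letI : Algebra Γ(Y, V) (Y.presheaf.stalk y) :=
    TopCat.Presheaf.algebra_section_stalk Y.presheaf (⟨y, hy⟩ : V)
  haveI : IsLocalization.AtPrime (Y.presheaf.stalk y) (hV.primeIdealOf ⟨y, hy⟩).asIdeal :=
    hV.isLocalization_stalk ⟨y, hy⟩
  let e : Localization.AtPrime (hV.primeIdealOf ⟨y, hy⟩).asIdeal ≃ₐ[Γ(Y, V)]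
      Y.presheaf.stalk y :=
    IsLocalization.algEquiv (hV.primeIdealOf ⟨y, hy⟩).asIdeal.primeCompl _ _
  exact ⟨fun h => Groth.Agent.Lib.Helper7.FibreCM.isCM_of_ringEquiv e.symm.toRingEquiv,
    fun h => Groth.Agent.Lib.Helper7.FibreCM.isCM_of_ringEquiv e.toRingEquiv⟩

theorem isCM_localization_congr' {R : Type u} [CommRing R] {p q : PrimeSpectrum R} (h : p = q) :
    LocCoh.IsCohenMacaulayLocalRing (Localization.AtPrime p.asIdeal) ↔
      LocCoh.IsCohenMacaulayLocalRing (Localization.AtPrime q.asIdeal) := by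
  subst h
  exact Iff.rfl

/-- a nonempty scheme locally of finite type over an Artinian ring has a closed point with
Cohen–Macaulay local ring -/
theorem exists_closedPoint_CM (A : Type u) [CommRing A] [IsArtinianRing A] (X : Scheme.{u})
    (f : X ⟶ Spec (CommRingCat.of A)) [hf : LocallyOfFiniteType f] [Nonempty X] :
    ∃ x : X, IsClosed ({x} : Set X) ∧ LocCoh.IsCohenMacaulayLocalRing (X.presheaf.stalk x) := by
  obtain ⟨x0⟩ := ‹Nonempty X›
  obtain ⟨V, hV, hxV, -⟩ := exists_isAffineOpen_mem_and_subset (x := x0) (U := (⊤ : X.Opens))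
    (by trivial)
  haveI : JacobsonSpace X := LocallyOfFiniteType.jacobsonSpace f
  have hft : RingHom.FiniteType (f.appLE ⊤ V le_top).hom :=
    HasRingHomProperty.appLE (P := @LocallyOfFiniteType) f hf ⟨⊤, isAffineOpen_top _⟩ ⟨V, hV⟩
      le_top
  let φ : A →+* Γ(X, V) :=
    (f.appLE ⊤ V le_top).hom.comp (Scheme.ΓSpecIso (CommRingCat.of A)).inv.hom
  have hφ : φ.FiniteType := hft.comp (RingHom.FiniteType.of_surjective _
    (ConcreteCategory.bijective_of_isIso (Scheme.ΓSpecIso (CommRingCat.of A)).inv).2)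
  letI : Algebra A Γ(X, V) := φ.toAlgebra
  haveI hAft : Algebra.FiniteType A Γ(X, V) := (RingHom.finiteType_algebraMap).mp hφ
  haveI : IsNoetherianRing Γ(X, V) := Algebra.FiniteType.isNoetherianRing A _
  haveI : IsJacobsonRing Γ(X, V) := isJacobsonRing_of_finiteType (A := A)
  haveI : Nontrivial Γ(X, V) := by
    have : Nonempty (Spec Γ(X, V)) := ⟨hV.primeIdealOf ⟨x0, hxV⟩⟩
    exact (PrimeSpectrum.nonempty_iff_nontrivial).1 this
  obtain ⟨n, g, hg⟩ := Algebra.FiniteType.iff_quotient_mvPolynomial''.mp hAft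
  have hdim : ringKrullDim Γ(X, V) ≤ n := by
    refine (ringKrullDim_le_of_surjective g.toRingHom hg).trans ?_
    rw [MvPolynomial.ringKrullDim_of_isNoetherianRing, Nat.card_fin]
    have h0 : ringKrullDim A ≤ 0 := by
      have : Ring.KrullDimLE 0 A := inferInstance
      exact_mod_cast Ring.krullDimLE_iff.1 this
    calc ringKrullDim A + (n : WithBot ℕ∞) ≤ 0 + n := by gcongr
      _ = n := zero_add _
  obtain ⟨m, hm, hCM⟩ := exists_maximal_CM n Γ(X, V) hdim
  let q : Spec Γ(X, V) := ⟨m, hm.isPrime⟩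
  have hz : hV.fromSpec q ∈ V := by
    have := hV.range_fromSpec
    rw [← SetLike.mem_coe, ← this]
    exact ⟨q, rfl⟩
  refine ⟨hV.fromSpec q, ?_, ?_⟩
  · have hq : q ∈ closedPoints (Spec Γ(X, V)) :=
      (PrimeSpectrum.isClosed_singleton_iff_isMaximal q).2 hm
    rw [← hV.fromSpec.isOpenEmbedding.preimage_closedPoints] at hq
    exact hq
  · rw [isCM_stalk_iff hV _ hz]
    have e : hV.primeIdealOf ⟨hV.fromSpec q, hz⟩ = q :=
      hV.fromSpec.isOpenEmbedding.injective (hV.fromSpec_primeIdealOf ⟨hV.fromSpec q, hz⟩)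
    exact (isCM_localization_congr' e).mpr hCM

end Scheme

end Groth.Agent.Lib.Helper7.CMClosedPoint
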