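import Mathlib.RingTheory.MvPolynomial.Homogeneous
import Mathlib.RingTheory.GradedAlgebra.Homogeneous.Ideal
import Mathlib.LinearAlgebra.FiniteDimensional.Lemmas
import Mathlib.LinearAlgebra.Dimension.Finite
import Mathlib.Algebra.Polynomial.Taylor
import Mathlib.Algebra.Polynomial.Roots

/-!
# Hilbert function of a hypersurface section
-/

set_option autoImplicit false
set_option linter.unusedVariables false

namespace Groth.Agent.Lib.Helper7.HilbSec

open MvPolynomial

attribute [local instance] MvPolynomial.gradedAlgebra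

variable {σ : Type*} {k : Type*} [Field k]

theorem piece_sup {I : Ideal (MvPolynomial σ k)}
    (hI : I.IsHomogeneous (homogeneousSubmodule σ k)) {f : MvPolynomial σ k} {d m : ℕ}
    (hf : f ∈ homogeneousSubmodule σ k d) (hdm : d ≤ m) :
    Submodule.restrictScalars k (I ⊔ Ideal.span {f}) ⊓ homogeneousSubmodule σ k m =
      (Submodule.restrictScalars k I ⊓ homogeneousSubmodule σ k m) ⊔
        Submodule.map (LinearMap.mulLeft k f) (homogeneousSubmodule σ k (m - d)) := by
  apply le_antisymm
  · rintro x ⟨hx1, hx2⟩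
    rw [SetLike.mem_coe, Submodule.restrictScalars_mem] at hx1
    obtain ⟨a, ha, b, hb, rfl⟩ := Submodule.mem_sup.1 hx1
    obtain ⟨g, rfl⟩ := Ideal.mem_span_singleton'.1 hb
    have hxm : (DirectSum.decompose (homogeneousSubmodule σ k) (a + g * f) m :
        MvPolynomial σ k) = a + g * f := DirectSum.decompose_of_mem_same _ hx2
    rw [DirectSum.decompose_add, DirectSum.add_apply, Submodule.coe_add,
      DirectSum.coe_decompose_mul_of_right_mem_of_le _ hf hdm] at hxm
    rw [← hxm]
    refine Submodule.add_mem_sup ⟨?_, ?_⟩ ?_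
    · exact hI m ha
    · exact SetLike.coe_mem _
    · refine ⟨(DirectSum.decompose (homogeneousSubmodule σ k) g (m - d) : MvPolynomial σ k),
        SetLike.coe_mem _, ?_⟩
      simp [mul_comm]
  · refine sup_le (inf_le_inf ?_ le_rfl) ?_
    · intro x hx
      exact Ideal.mem_sup_left hx
    · rintro _ ⟨g, hg, rfl⟩
      refine ⟨?_, ?_⟩
      · exact Ideal.mem_sup_right (Ideal.mul_mem_right _ _ (Ideal.mem_span_singleton_self f))
      · have := SetLike.GradedMul.mul_mem hf hg
        rwa [Nat.add_sub_cancel' hdm] at this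

theorem piece_inf {I : Ideal (MvPolynomial σ k)} [I.IsPrime] {f : MvPolynomial σ k} {d m : ℕ}
    (hf : f ∈ homogeneousSubmodule σ k d) (hfI : f ∉ I) (hdm : d ≤ m) :
    (Submodule.restrictScalars k I ⊓ homogeneousSubmodule σ k m) ⊓
        Submodule.map (LinearMap.mulLeft k f) (homogeneousSubmodule σ k (m - d)) =
      Submodule.map (LinearMap.mulLeft k f)
        (Submodule.restrictScalars k I ⊓ homogeneousSubmodule σ k (m - d)) := by
  apply le_antisymm
  · rintro _ ⟨⟨hx1, hx2⟩, g, hg, rfl⟩
    refine ⟨g, ⟨?_, hg⟩, rfl⟩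
    have : f * g ∈ I := hx1
    exact (Ideal.IsPrime.mem_or_mem ‹I.IsPrime› this).resolve_left hfI
  · rintro _ ⟨g, ⟨hg1, hg2⟩, rfl⟩
    refine ⟨⟨?_, ?_⟩, g, hg2, rfl⟩
    · exact Ideal.mul_mem_left _ _ hg1
    · have := SetLike.GradedMul.mul_mem hf hg2
      rwa [Nat.add_sub_cancel' hdm] at this

variable [Finite σ]

instance finiteDimensional_homogeneousSubmodule (m : ℕ) :
    FiniteDimensional k ↥(homogeneousSubmodule σ k m) :=
  Module.Finite.iff_fg.2 (homogeneousSubmodule_fg σ k m)

instance finiteDimensional_piece (I : Ideal (MvPolynomial σ k)) (m : ℕ) :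
    FiniteDimensional k ↥(Submodule.restrictScalars k I ⊓ homogeneousSubmodule σ k m) :=
  Submodule.finiteDimensional_of_le inf_le_right

theorem finrank_piece_sup {I : Ideal (MvPolynomial σ k)} [I.IsPrime]
    (hI : I.IsHomogeneous (homogeneousSubmodule σ k)) {f : MvPolynomial σ k} {d m : ℕ}
    (hf : f ∈ homogeneousSubmodule σ k d) (hfI : f ∉ I) (hdm : d ≤ m) :
    Module.finrank k ↥(Submodule.restrictScalars k (I ⊔ Ideal.span {f}) ⊓
        homogeneousSubmodule σ k m) +
      Module.finrank k ↥(Submodule.restrictScalars k I ⊓ homogeneousSubmodule σ k (m - d)) =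
    Module.finrank k ↥(Submodule.restrictScalars k I ⊓ homogeneousSubmodule σ k m) +
      Module.finrank k ↥(homogeneousSubmodule σ k (m - d)) := by
  have hf0 : f ≠ 0 := fun h => hfI (h ▸ I.zero_mem)
  have hinj : Function.Injective (LinearMap.mulLeft k f) := by
    intro x y hxy
    exact mul_left_cancel₀ hf0 hxy
  have e1 : ∀ W : Submodule k (MvPolynomial σ k),
      Module.finrank k ↥(Submodule.map (LinearMap.mulLeft k f) W) = Module.finrank k ↥W :=
    fun W => (LinearEquiv.finrank_eq (Submodule.equivMapOfInjective _ hinj W)).symm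
  rw [piece_sup hI hf hdm, ← e1 (Submodule.restrictScalars k I ⊓ homogeneousSubmodule σ k (m - d)),
    ← piece_inf hf hfI hdm, ← e1 (homogeneousSubmodule σ k (m - d))]
  exact Submodule.finrank_sup_add_finrank_inf_eq _ _

open Polynomial in
/-- Degree and leading coefficient of the backward difference `P - P(X - d)`. -/
theorem natDegree_sub_taylor {P : ℚ[X]} {d : ℕ} (hd : 0 < d) (ht : 1 ≤ P.natDegree) :
    (P - Polynomial.taylor (-(d : ℚ)) P).natDegree + 1 = P.natDegree ∧
      (P - Polynomial.taylor (-(d : ℚ)) P).leadingCoeff = d * P.natDegree * P.leadingCoeff := by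
  set t := P.natDegree with htdef
  set r : ℚ := -(d : ℚ) with hr
  set D := P - Polynomial.taylor r P with hD
  have hP0 : P ≠ 0 := by
    intro h
    rw [h] at htdef
    simp at htdef
    omega
  have hlc : P.leadingCoeff ≠ 0 := Polynomial.leadingCoeff_ne_zero.2 hP0
  have hdeg : D.natDegree ≤ t := by
    refine (Polynomial.natDegree_sub_le _ _).trans ?_
    rw [Polynomial.natDegree_taylor, max_self]
  have hct : D.coeff t = 0 := by
    rw [hD, Polynomial.coeff_sub, htdef, Polynomial.coeff_taylor_natDegree,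
      Polynomial.coeff_natDegree, sub_self]
  have hh : (Polynomial.hasseDeriv (t - 1) P).natDegree ≤ 1 := by
    refine (Polynomial.natDegree_hasseDeriv_le P (t - 1)).trans ?_
    omega
  have hc0 : (Polynomial.hasseDeriv (t - 1) P).coeff 0 = P.coeff (t - 1) := by
    rw [Polynomial.hasseDeriv_coeff, zero_add, Nat.choose_self, Nat.cast_one, one_mul]
  have hc1 : (Polynomial.hasseDeriv (t - 1) P).coeff 1 = t * P.leadingCoeff := by
    rw [Polynomial.hasseDeriv_coeff, show 1 + (t - 1) = t by omega, Polynomial.leadingCoeff]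
    congr 2
    obtain ⟨u, hu⟩ : ∃ u, t = u + 1 := ⟨t - 1, by omega⟩
    rw [hu, Nat.add_sub_cancel, Nat.choose_succ_self_right]
  have hct1 : D.coeff (t - 1) = d * t * P.leadingCoeff := by
    rw [hD, Polynomial.coeff_sub, Polynomial.taylor_coeff,
      Polynomial.eq_X_add_C_of_natDegree_le_one hh, hc0, hc1]
    simp only [Polynomial.eval_add, Polynomial.eval_mul, Polynomial.eval_C, Polynomial.eval_X]
    rw [hr]
    ring
  have hne : D.coeff (t - 1) ≠ 0 := by
    rw [hct1]
    have : (d : ℚ) ≠ 0 := by exact_mod_cast hd.ne'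
    have : (t : ℚ) ≠ 0 := by
      have : t ≠ 0 := by omega
      exact_mod_cast this
    positivity
  have hle : D.natDegree ≤ t - 1 := by
    rw [Polynomial.natDegree_le_iff_coeff_eq_zero]
    intro N hN
    rcases Nat.lt_or_ge t N with h | h
    · exact Polynomial.coeff_eq_zero_of_natDegree_lt (lt_of_le_of_lt hdeg h)
    · have : N = t := by omega
      rw [this, hct]
  have hge : t - 1 ≤ D.natDegree := Polynomial.le_natDegree_of_ne_zero hne
  have heq : D.natDegree = t - 1 := le_antisymm hle hge
  refine ⟨by omega, ?_⟩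
  rw [Polynomial.leadingCoeff, heq, hct1]

open Polynomial in
theorem hilbert_section {I : Ideal (MvPolynomial σ k)} [I.IsPrime]
    (hI : I.IsHomogeneous (homogeneousSubmodule σ k)) {f : MvPolynomial σ k} {d : ℕ} (hd : 0 < d)
    (hf : f.IsHomogeneous d) (hfI : f ∉ I) (P Q : ℚ[X])
    (hP : ∃ m₀ : ℕ, ∀ m : ℕ, m₀ ≤ m → P.eval (m : ℚ) =
      (Module.finrank k ↥(homogeneousSubmodule σ k m) : ℚ) -
        Module.finrank k ↥(Submodule.restrictScalars k I ⊓ homogeneousSubmodule σ k m))
    (hQ : ∃ m₀ : ℕ, ∀ m : ℕ, m₀ ≤ m → Q.eval (m : ℚ) =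
      (Module.finrank k ↥(homogeneousSubmodule σ k m) : ℚ) -
        Module.finrank k ↥(Submodule.restrictScalars k (I ⊔ Ideal.span {f}) ⊓
          homogeneousSubmodule σ k m))
    (hdim : 1 ≤ P.natDegree) :
    Q.natDegree + 1 = P.natDegree ∧
      (Q.natDegree.factorial : ℚ) * Q.leadingCoeff =
        d * ((P.natDegree.factorial : ℚ) * P.leadingCoeff) := by
  obtain ⟨m₁, hP⟩ := hP
  obtain ⟨m₂, hQ⟩ := hQ
  have hfm : f ∈ homogeneousSubmodule σ k d := (mem_homogeneousSubmodule _ _).2 hf
  have hQD : Q = P - Polynomial.taylor (-(d : ℚ)) P := by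
    apply Polynomial.eq_of_infinite_eval_eq
    refine Set.infinite_of_injective_forall_mem (f := fun j : ℕ => ((j + (m₁ + m₂ + d) : ℕ) : ℚ))
      ?_ ?_
    · intro a b hab
      simp only [Nat.cast_inj] at hab
      omega
    · intro j
      set m := j + (m₁ + m₂ + d) with hm
      have hdm : d ≤ m := by omega
      simp only [Set.mem_setOf_eq]
      rw [Polynomial.eval_sub, Polynomial.taylor_eval, hQ m (by omega), hP m (by omega)]
      have hcast : ((m : ℚ) + -(d : ℚ)) = ((m - d : ℕ) : ℚ) := by
        rw [Nat.cast_sub hdm]; ring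
      rw [hcast, hP (m - d) (by omega)]
      have key := finrank_piece_sup hI hfm hfI hdm
      have key' : (Module.finrank k ↥(Submodule.restrictScalars k (I ⊔ Ideal.span {f}) ⊓
          homogeneousSubmodule σ k m) : ℚ) +
          Module.finrank k ↥(Submodule.restrictScalars k I ⊓ homogeneousSubmodule σ k (m - d)) =
          Module.finrank k ↥(Submodule.restrictScalars k I ⊓ homogeneousSubmodule σ k m) +
          Module.finrank k ↥(homogeneousSubmodule σ k (m - d)) := by exact_mod_cast key
      linarith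
  obtain ⟨h1, h2⟩ := natDegree_sub_taylor hd hdim
  rw [← hQD] at h1 h2
  refine ⟨h1, ?_⟩
  rw [h2, ← h1, Nat.factorial_succ]
  push_cast
  ring

end Groth.Agent.Lib.Helper7.HilbSec
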