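import Groth.Agent.Lib.Helper7.CMEquidim
import Groth.Agent.Lib.Helper21.GrSyzIrrel
import Groth.Agent.Lib.Helper24.GrSyzLemmas
import Mathlib.RingTheory.GradedAlgebra.Radical

/-!
# Homogeneous ideals with Cohen–Macaulay quotient in a standard graded polynomial ring are
equidimensional: all minimal primes have the same height.
-/

set_option autoImplicit false
set_option linter.unusedVariables false
set_option linter.style.haveILetI false

namespace Groth.Agent.Lib.Helper7.StdGrUnmixed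

open GrSyz MvPolynomial DirectSum

universe u v

section general

variable {ι : Type*} [AddCommMonoid ι] [LinearOrder ι] [IsOrderedCancelAddMonoid ι]
  {A : Type*} [CommRing A] {σ : Type*} [SetLike σ A] [AddSubmonoidClass σ A]
  (𝒜 : ι → σ) [GradedRing 𝒜]

/-- Minimal primes of a homogeneous ideal are homogeneous. -/
theorem isHomogeneous_of_mem_minimalPrimes {J P : Ideal A}
    (hJ : J.IsHomogeneous 𝒜) (hP : P ∈ J.minimalPrimes) : P.IsHomogeneous 𝒜 := by
  have hprime : (P.homogeneousCore 𝒜).toIdeal.IsPrime := Ideal.IsPrime.homogeneousCore hP.1.1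
  have hle : (P.homogeneousCore 𝒜).toIdeal ≤ P := Ideal.toIdeal_homogeneousCore_le _ P
  have hJle : J ≤ (P.homogeneousCore 𝒜).toIdeal := by
    rw [← hJ.toIdeal_homogeneousCore_eq_self]
    exact Ideal.homogeneousCore_mono _ hP.1.2
  have := hP.2 ⟨hprime, hJle⟩ hle
  have heq : (P.homogeneousCore 𝒜).toIdeal = P := le_antisymm hle this
  rw [← heq]
  exact (P.homogeneousCore 𝒜).isHomogeneous

end general

variable (K : Type u) [Field K] (σ : Type v)

/-- a proper homogeneous ideal of the standard graded polynomial ring lies in the irrelevant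
ideal -/
theorem le_irrel {I : Ideal (MvPolynomial σ K)} (hI : I.IsHomogeneous (stdGr K σ)) (hne : I ≠ ⊤) :
    I ≤ (irrel (stdGr K σ)).toIdeal := by
  classical
  intro a ha
  by_contra hnot
  have hsum := DirectSum.sum_support_decompose (stdGr K σ) a
  have hex : ∃ i, ((decompose (stdGr K σ) a i : MvPolynomial σ K)) ∉ (irrel (stdGr K σ)).toIdeal := by
    by_contra hall
    push_neg at hall
    apply hnot
    rw [← hsum]
    exact Ideal.sum_mem _ (fun i _ => hall i)
  obtain ⟨i, hi⟩ := hex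
  have hunit := Groth.Agent.Lib.Helper24.GrSyzL.isUnit_of_mem_stdGr_of_notMem_irrel K σ
    (SetLike.coe_mem (decompose (stdGr K σ) a i)) hi
  exact hne (Ideal.eq_top_of_isUnit_mem _ (hI i ha) hunit)

variable (m : ℕ)

/-- For a homogeneous ideal `𝔠` with Cohen–Macaulay quotient, every minimal prime `p` of `𝔠` has
`dim R/p = dim R/𝔠`. -/
theorem dim_quotient_eq_of_mem_minimalPrimes {𝔠 p : Ideal (MvPolynomial (Fin m) K)}
    (h𝔠 : 𝔠.IsHomogeneous (stdGr K (Fin m)))
    [LocCoh.IsCohenMacaulayRing (MvPolynomial (Fin m) K ⧸ 𝔠)]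
    (hp : p ∈ 𝔠.minimalPrimes) :
    ringKrullDim (MvPolynomial (Fin m) K ⧸ p) = ringKrullDim (MvPolynomial (Fin m) K ⧸ 𝔠) := by
  have hne : 𝔠 ≠ ⊤ := by
    rintro rfl
    exact hp.1.1.ne_top (top_le_iff.1 hp.1.2)
  haveI h𝔫max : (irrel (stdGr K (Fin m))).toIdeal.IsMaximal :=
    Groth.Agent.Lib.Helper21.GrSyzIrrel.irrel_isMaximal K (Fin m)
  have h𝔠𝔫 : 𝔠 ≤ (irrel (stdGr K (Fin m))).toIdeal := le_irrel K _ h𝔠 hne
  haveI hmax : ((irrel (stdGr K (Fin m))).toIdeal.map (Ideal.Quotient.mk 𝔠)).IsMaximal := by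
    rcases Ideal.map_eq_top_or_isMaximal_of_surjective (Ideal.Quotient.mk 𝔠)
      Ideal.Quotient.mk_surjective h𝔫max with h | h
    · exfalso
      have := congrArg (Ideal.comap (Ideal.Quotient.mk 𝔠)) h
      rw [Ideal.comap_map_of_surjective _ Ideal.Quotient.mk_surjective, ← RingHom.ker_eq_comap_bot,
        Ideal.mk_ker, Ideal.comap_top, sup_eq_left.2 h𝔠𝔫] at this
      exact h𝔫max.ne_top this
    · exact h
  have hmin : ∀ P ∈ minimalPrimes (MvPolynomial (Fin m) K ⧸ 𝔠),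
      P ≤ (irrel (stdGr K (Fin m))).toIdeal.map (Ideal.Quotient.mk 𝔠) := by
    intro P hP
    have hcomap : P.comap (Ideal.Quotient.mk 𝔠) ∈ 𝔠.minimalPrimes := by
      rw [Ideal.minimalPrimes_eq_comap]; exact ⟨P, hP, rfl⟩
    have hhom := isHomogeneous_of_mem_minimalPrimes (stdGr K (Fin m)) h𝔠 hcomap
    have hle := le_irrel K _ hhom hcomap.1.1.ne_top
    rw [← Ideal.map_comap_of_surjective _ Ideal.Quotient.mk_surjective P]
    exact Ideal.map_mono hle
  rw [Ideal.minimalPrimes_eq_comap] at hp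
  obtain ⟨P, hP, rfl⟩ := hp
  haveI : Algebra.FiniteType K (MvPolynomial (Fin m) K ⧸ 𝔠) :=
    Algebra.FiniteType.of_surjective (Ideal.Quotient.mkₐ K 𝔠) (Ideal.Quotient.mkₐ_surjective K 𝔠)
  have h1 := CMEquidim.dim_quotient_minimalPrime (k := K) (MvPolynomial (Fin m) K ⧸ 𝔠)
    ((irrel (stdGr K (Fin m))).toIdeal.map (Ideal.Quotient.mk 𝔠)) hmin P hP
  rw [← h1]
  have hle : 𝔠 ≤ P.comap (Ideal.Quotient.mk 𝔠) := by
    intro x hx
    rw [Ideal.mem_comap, Ideal.Quotient.eq_zero_iff_mem.2 hx]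
    exact P.zero_mem
  have hmap : (P.comap (Ideal.Quotient.mk 𝔠)).map (Ideal.Quotient.mk 𝔠) = P :=
    Ideal.map_comap_of_surjective _ Ideal.Quotient.mk_surjective P
  exact (ringKrullDim_eq_of_ringEquiv
    ((Ideal.quotEquivOfEq hmap.symm).trans (DoubleQuot.quotQuotEquivQuotOfLE hle))).symm

/-- For a homogeneous ideal `𝔠` with Cohen–Macaulay quotient, all minimal primes of `𝔠` have
height `ht 𝔠`. -/
theorem height_eq_of_mem_minimalPrimes {𝔠 p : Ideal (MvPolynomial (Fin m) K)}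
    (h𝔠 : 𝔠.IsHomogeneous (stdGr K (Fin m)))
    [LocCoh.IsCohenMacaulayRing (MvPolynomial (Fin m) K ⧸ 𝔠)]
    (hp : p ∈ 𝔠.minimalPrimes) : p.height = 𝔠.height := by
  have hne : 𝔠 ≠ ⊤ := by
    rintro rfl
    exact hp.1.1.ne_top (top_le_iff.1 hp.1.2)
  haveI : Nontrivial (MvPolynomial (Fin m) K ⧸ 𝔠) := Ideal.Quotient.nontrivial_iff.2 hne
  have hd0 : (0 : WithBot ℕ∞) ≤ ringKrullDim (MvPolynomial (Fin m) K ⧸ 𝔠) :=
    ringKrullDim_nonneg_of_nontrivial
  have hdm : ringKrullDim (MvPolynomial (Fin m) K ⧸ 𝔠) ≤ (m : WithBot ℕ∞) := by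
    refine (ringKrullDim_quotient_le 𝔠).trans ?_
    rw [MvPolynomial.ringKrullDim_of_isNoetherianRing, ringKrullDim_eq_zero_of_field]
    simp
  obtain ⟨d₁, hd₁⟩ : ∃ d₁ : ℕ∞, (d₁ : WithBot ℕ∞) = ringKrullDim (MvPolynomial (Fin m) K ⧸ 𝔠) := by
    apply WithBot.ne_bot_iff_exists.1
    intro h
    rw [h] at hd0
    exact absurd hd0 (by simp)
  have hd₁top : d₁ ≠ ⊤ := by
    rintro rfl
    rw [← hd₁] at hdm
    have : ((⊤ : ℕ∞) : WithBot ℕ∞) ≤ ((m : ℕ∞) : WithBot ℕ∞) := hdm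
    rw [WithBot.coe_le_coe] at this
    exact absurd this (by simp)
  have key : ∀ q ∈ 𝔠.minimalPrimes, q.height + d₁ = (m : ℕ∞) := by
    intro q hq
    haveI : q.IsPrime := hq.1.1
    have h1 := AffDim.mvPolynomial_height_add K m q
    rw [dim_quotient_eq_of_mem_minimalPrimes K m h𝔠 hq, ← hd₁] at h1
    exact_mod_cast h1
  have hall : ∀ q ∈ 𝔠.minimalPrimes, q.height = p.height := by
    intro q hq
    have h1 := key q hq
    rw [← key p hp] at h1
    exact ENat.add_left_injective_of_ne_top hd₁top h1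
  rw [Ideal.height_eq_inf_minimalPrimes 𝔠]
  apply le_antisymm
  · apply le_iInf₂
    intro q hq
    rw [hall q hq]
  · exact iInf₂_le p hp

end Groth.Agent.Lib.Helper7.StdGrUnmixed
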