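import Groth.Agent.Lib.Helper7.FibreCM

/-!
# Cohen–Macaulay closed fibres along a composite of flat local homomorphisms
-/

universe u

open IsLocalRing TensorProduct

namespace Groth.Agent.Lib.Helper7.FibreCMComp

open Groth.Agent.Lib.Helper7.FibreCM

variable (A B C : Type u) [CommRing A] [CommRing B] [CommRing C]
  [IsLocalRing A] [IsLocalRing B] [IsLocalRing C]
  [Algebra A B] [Algebra B C] [Algebra A C] [IsScalarTower A B C]
  [IsLocalHom (algebraMap A B)] [IsLocalHom (algebraMap B C)]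

/-- `m_A B` -/
abbrev IB : Ideal B := (maximalIdeal A).map (algebraMap A B)

/-- `m_A C`, as the extension of `m_A B` -/
abbrev IC : Ideal C := (IB A B).map (algebraMap B C)

/-- `m_B C` -/
abbrev JC : Ideal C := (maximalIdeal B).map (algebraMap B C)

theorem IC_eq : IC A B C = (maximalIdeal A).map (algebraMap A C) := by
  unfold IC IB
  rw [Ideal.map_map, ← IsScalarTower.algebraMap_eq]

theorem IB_le : IB A B ≤ maximalIdeal B := IsLocalRing.map_maximalIdeal_le (algebraMap A B)

theorem IC_le_JC : IC A B C ≤ JC B C := Ideal.map_mono (IB_le A B)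

theorem JC_le : JC B C ≤ maximalIdeal C := IsLocalRing.map_maximalIdeal_le (algebraMap B C)

instance nontrivial_Bbar : Nontrivial (B ⧸ IB A B) :=
  Ideal.Quotient.nontrivial_iff.2 (fun h => (maximalIdeal.isMaximal B).ne_top
    (top_le_iff.mp (h ▸ IB_le A B)))

instance isLocalRing_Bbar : IsLocalRing (B ⧸ IB A B) :=
  IsLocalRing.of_surjective' (Ideal.Quotient.mk (IB A B)) Ideal.Quotient.mk_surjective

instance nontrivial_Cbar : Nontrivial (C ⧸ IC A B C) :=
  Ideal.Quotient.nontrivial_iff.2 (fun h => (maximalIdeal.isMaximal C).ne_top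
    (top_le_iff.mp (h ▸ (IC_le_JC A B C).trans (JC_le B C))))

instance isLocalRing_Cbar : IsLocalRing (C ⧸ IC A B C) :=
  IsLocalRing.of_surjective' (Ideal.Quotient.mk (IC A B C)) Ideal.Quotient.mk_surjective

instance isLocalHom_bar : IsLocalHom (algebraMap (B ⧸ IB A B) (C ⧸ IC A B C)) := by
  refine ⟨fun a ha => ?_⟩
  obtain ⟨b, rfl⟩ := Ideal.Quotient.mk_surjective a
  rw [Ideal.Quotient.algebraMap_quotient_map_quotient] at ha
  haveI : IsLocalHom (Ideal.Quotient.mk (IC A B C)) :=
    IsLocalHom.of_surjective _ Ideal.Quotient.mk_surjective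
  have h1 : IsUnit (algebraMap B C b) := isUnit_of_map_unit (Ideal.Quotient.mk (IC A B C)) _ ha
  have h2 : IsUnit b := isUnit_of_map_unit (algebraMap B C) _ h1
  exact h2.map _

instance flat_bar [Module.Flat B C] : Module.Flat (B ⧸ IB A B) (C ⧸ IC A B C) :=
  Module.Flat.of_linearEquiv
    (Algebra.TensorProduct.quotIdealMapEquivQuotTensor C (IB A B)).toLinearEquiv

/-- the closed fibre of `B̄ → C̄` is `C / m_B C` -/
noncomputable def fibreEquiv :
    ((C ⧸ IC A B C) ⧸ (maximalIdeal (B ⧸ IB A B)).map (algebraMap (B ⧸ IB A B) (C ⧸ IC A B C)))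
      ≃+* (C ⧸ JC B C) := by
  have h1 : (maximalIdeal (B ⧸ IB A B)).map (algebraMap (B ⧸ IB A B) (C ⧸ IC A B C)) =
      (JC B C).map (Ideal.Quotient.mk (IC A B C)) := by
    rw [← IsLocalRing.map_maximalIdeal_of_surjective (Ideal.Quotient.mk (IB A B))
      Ideal.Quotient.mk_surjective]
    have e1 := Ideal.map_map (I := maximalIdeal B) (Ideal.Quotient.mk (IB A B))
      (algebraMap (B ⧸ IB A B) (C ⧸ IC A B C))
    have e2 := Ideal.map_map (I := maximalIdeal B) (algebraMap B C)
      (Ideal.Quotient.mk (IC A B C))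
    rw [e1]
    exact e2.symm
  have h2 : IC A B C ⊔ JC B C = JC B C := sup_eq_right.2 (IC_le_JC A B C)
  exact (Ideal.quotEquivOfEq h1).trans
    ((DoubleQuot.quotQuotEquivQuotSup (IC A B C) (JC B C)).trans (Ideal.quotEquivOfEq h2))

/-- **closed fibres of a composite** -/
theorem isCM_fibre_iff [Module.Flat B C] [IsNoetherianRing (B ⧸ IB A B)]
    [IsNoetherianRing (C ⧸ IC A B C)] :
    LocCoh.IsCohenMacaulayLocalRing (C ⧸ IC A B C) ↔
      (LocCoh.IsCohenMacaulayLocalRing (B ⧸ IB A B) ∧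
        LocCoh.IsCohenMacaulayLocalRing (C ⧸ JC B C)) := by
  rw [isCM_iff_of_flat (B ⧸ IB A B) (C ⧸ IC A B C), isCM_iff_of_ringEquiv (fibreEquiv A B C)]

end Groth.Agent.Lib.Helper7.FibreCMComp
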