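import Groth.Agent.Lib.Helper29.QCohStalk
import Groth.Agent.Lib.Helper12.IndEtSk
import Groth.Agent.S5756

/-!
# The stalk of a quasi-coherent module is the localization of its sections over an affine open

and the resulting depth dictionary.
-/

set_option autoImplicit false
set_option linter.unusedVariables false
set_option linter.style.haveILetI false

universe u

namespace Groth.Agent.Lib.Helper7.StalkLoc

open CategoryTheory AlgebraicGeometry Opposite TopologicalSpace
open Groth.Agent.Lib.Helper28.QCohLoc Groth.Agent.Lib.Helper29.QCohStalk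

variable {X : Scheme.{u}} (F : X.Modules) {U : X.Opens} (hU : IsAffineOpen U)
  (hloc : IsLocOn F U) (x : X) (hx : x ∈ U)

/-- the `Γ(X,U)`-module structure on the stalk `F_x` -/
@[reducible] noncomputable def stalkModule : Module Γ(X, U) (F.presheaf.stalk x) :=
  Module.compHom (F.presheaf.stalk x) (X.presheaf.germ U x hx).hom

/-- the germ map as a `Γ(X,U)`-linear map -/
noncomputable def gmLin :
    letI := stalkModule F x hx
    Γ(F, U) →ₗ[Γ(X, U)] F.presheaf.stalk x :=
  letI := stalkModule F x hx
  { toFun := gm F U x hx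
    map_add' := fun a b => map_add _ a b
    map_smul' := fun r m => gm_smul F U x hx r m }

include hU hloc in
theorem isLocalizedModule_gmLin :
    letI := stalkModule F x hx
    IsLocalizedModule (hU.primeIdealOf ⟨x, hx⟩).asIdeal.primeCompl (gmLin F x hx) := by
  letI := stalkModule F x hx
  have hprime : ∀ s : Γ(X, U), s ∈ (hU.primeIdealOf ⟨x, hx⟩).asIdeal.primeCompl ↔
      IsUnit (X.presheaf.germ U x hx s) := by
    intro s
    letI := X.presheaf.algebra_section_stalk ⟨x, hx⟩
    haveI := hU.isLocalization_stalk ⟨x, hx⟩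
    have h1 := IsLocalization.AtPrime.isUnit_to_map_iff (X.presheaf.stalk x)
      (hU.primeIdealOf ⟨x, hx⟩).asIdeal s
    exact h1.symm
  refine ⟨?_, ?_, ?_⟩
  · rintro ⟨s, hs⟩
    have hu := (hprime s).1 hs
    rw [Module.End.isUnit_iff]
    obtain ⟨v, hv⟩ := hu
    constructor
    · intro a b hab
      have h1 : (X.presheaf.germ U x hx s) • a = (X.presheaf.germ U x hx s) • b := hab
      have := congrArg (fun t => (↑v⁻¹ : X.presheaf.stalk x) • t) h1
      simpa [smul_smul, ← hv] using this
    · intro b
      refine ⟨(↑v⁻¹ : X.presheaf.stalk x) • b, ?_⟩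
      show (X.presheaf.germ U x hx s) • ((↑v⁻¹ : X.presheaf.stalk x) • b) = b
      rw [smul_smul, ← hv]
      simp
  · intro μ
    obtain ⟨s, m, hs, hsm⟩ := exists_germ_smul_eq F hU hloc x hx μ
    exact ⟨⟨m, ⟨s, (hprime s).2 hs⟩⟩, hsm⟩
  · intro m₁ m₂ h
    have h0 : gm F U x hx (m₁ - m₂) = 0 := by
      have : gm F U x hx m₁ = gm F U x hx m₂ := h
      show (F.presheaf.germ U x hx).hom (m₁ - m₂) = 0
      rw [map_sub]
      exact sub_eq_zero.2 this
    obtain ⟨s, hs, hsm⟩ := (gm_eq_zero_iff hU hloc x hx (m₁ - m₂)).1 h0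
    refine ⟨⟨s, ?_⟩, ?_⟩
    · rw [hprime]
      exact (notMem_germPrime_iff U x hx s).1 hs
    · show s • m₁ = s • m₂
      rw [← sub_eq_zero, ← smul_sub]
      exact hsm

include hloc in
/-- **Depth dictionary**: the depth of the stalk `F_x` over `O_{X,x}` is the depth of the
localization of `Γ(F,U)` at the prime of `x`. -/
theorem depth_stalk_eq [IsLocallyNoetherian X] [Module.Finite Γ(X, U) Γ(F, U)] :
    LocCoh.depth (X.presheaf.stalk x) (F.presheaf.stalk x) =
      LocCoh.depth (Localization.AtPrime (hU.primeIdealOf ⟨x, hx⟩).asIdeal)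
        (LocalizedModule (hU.primeIdealOf ⟨x, hx⟩).asIdeal.primeCompl Γ(F, U)) := by
  haveI : IsNoetherianRing Γ(X, U) := IsLocallyNoetherian.component_noetherian ⟨U, hU⟩
  set p := (hU.primeIdealOf ⟨x, hx⟩).asIdeal with hp
  letI algA : Algebra Γ(X, U) (X.presheaf.stalk x) := X.presheaf.algebra_section_stalk ⟨x, hx⟩
  haveI hlocR : IsLocalization.AtPrime (X.presheaf.stalk x) p := hU.isLocalization_stalk ⟨x, hx⟩
  let e : Localization.AtPrime p ≃ₐ[Γ(X, U)] X.presheaf.stalk x :=
    IsLocalization.algEquiv p.primeCompl _ _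
  letI algAp : Algebra (Localization.AtPrime p) (X.presheaf.stalk x) :=
    e.toRingEquiv.toRingHom.toAlgebra
  haveI st1 : IsScalarTower Γ(X, U) (Localization.AtPrime p) (X.presheaf.stalk x) :=
    IsScalarTower.of_algebraMap_eq (fun a => (e.commutes a).symm)
  letI modA : Module Γ(X, U) (F.presheaf.stalk x) := stalkModule F x hx
  letI modAp : Module (Localization.AtPrime p) (F.presheaf.stalk x) :=
    Module.compHom (F.presheaf.stalk x) (algebraMap (Localization.AtPrime p) (X.presheaf.stalk x))
  haveI st2 : IsScalarTower (Localization.AtPrime p) (X.presheaf.stalk x) (F.presheaf.stalk x) :=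
    ⟨fun a b m => by
      show (algebraMap _ (X.presheaf.stalk x) a * b) • m = algebraMap _ (X.presheaf.stalk x) a • (b • m)
      rw [mul_smul]⟩
  haveI st3 : IsScalarTower Γ(X, U) (Localization.AtPrime p) (F.presheaf.stalk x) :=
    ⟨fun a b m => by
      show algebraMap _ (X.presheaf.stalk x) (a • b) • m =
        (X.presheaf.germ U x hx).hom a • (algebraMap _ (X.presheaf.stalk x) b • m)
      rw [Algebra.smul_def, map_mul, mul_smul, ← IsScalarTower.algebraMap_apply]
      rfl⟩
  haveI hL := isLocalizedModule_gmLin F hU hloc x hx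
  let ε₀ : LocalizedModule p.primeCompl Γ(F, U) ≃ₗ[Γ(X, U)] F.presheaf.stalk x :=
    IsLocalizedModule.iso p.primeCompl (gmLin F x hx)
  let ε : LocalizedModule p.primeCompl Γ(F, U) ≃ₗ[Localization.AtPrime p] F.presheaf.stalk x :=
    LinearEquiv.extendScalarsOfIsLocalization p.primeCompl (Localization.AtPrime p) ε₀
  haveI : Module.Finite (Localization.AtPrime p) (F.presheaf.stalk x) := Module.Finite.equiv ε
  haveI : IsLocalHom (algebraMap (Localization.AtPrime p) (X.presheaf.stalk x)) := by
    have h1 : IsLocalHom e.toRingEquiv := isLocalHom_equiv _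
    exact ⟨fun a ha => h1.map_nonunit a ha⟩
  rw [Groth.Agent.Lib.Helper12.IndEtLocal.depth_congr ε]
  exact (Groth.Agent.S5756.result (Localization.AtPrime p) (X.presheaf.stalk x)
    (F.presheaf.stalk x)).symm

end Groth.Agent.Lib.Helper7.StalkLoc
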