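import Groth.Agent.Lib.Helper7.FibreCMScheme
import Groth.Agent.Lib.Helper21.FlatLocal5

/-!
# Depth and dimension formulas for a flat local homomorphism, in ring form

`depth B = depth A + depth (B/m_A B)` and `dim B = dim A + dim (B/m_A B)`.
-/

universe u

open IsLocalRing TensorProduct

namespace Groth.Agent.Lib.Helper7.FibreDepthDim

open Groth.Agent.Lib.Helper21 Groth.Agent.Lib.Helper7.FibreCMComp

variable (A B : Type u) [CommRing A] [CommRing B] [IsNoetherianRing A] [IsNoetherianRing B]
  [IsLocalRing A] [IsLocalRing B] [Algebra A B] [IsLocalHom (algebraMap A B)]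

/-- the closed fibre module of `B` is the closed fibre ring -/
noncomputable def fibreEquivQuot : FlatLocal.fibre A B B ≃ₗ[B] (B ⧸ IB A B) :=
  Submodule.quotEquivOfEq _ _ (by rw [smul_eq_mul, Ideal.mul_top])

theorem depth_fibre : LocCoh.depth B (FlatLocal.fibre A B B) =
    LocCoh.depth (B ⧸ IB A B) (B ⧸ IB A B) := by
  rw [DepthKit.depth_congr (fibreEquivQuot A B)]
  exact DepthKit.depth_eq_of_surjective (R := B) (S := B ⧸ IB A B) (B ⧸ IB A B)
    Ideal.Quotient.mk_surjective

theorem supportDim_fibre : Module.supportDim B (FlatLocal.fibre A B B) =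
    ringKrullDim (B ⧸ IB A B) := by
  rw [Module.supportDim_eq_of_equiv (fibreEquivQuot A B),
    DepthKit.supportDim_eq_of_surjective (R := B) (S := B ⧸ IB A B) (B ⧸ IB A B)
      Ideal.Quotient.mk_surjective, Module.supportDim_self_eq_ringKrullDim]

/-- **depth formula** for a flat local homomorphism of Noetherian local rings -/
theorem depth_eq_add [Module.Flat A B] :
    LocCoh.depth B B = LocCoh.depth A A + LocCoh.depth (B ⧸ IB A B) (B ⧸ IB A B) := by
  have h := FlatLocal.depth_tensor (R := A) (S := B) B A
  rw [DepthKit.depth_congr (TensorProduct.AlgebraTensorModule.rid A B B), depth_fibre] at h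
  exact h

/-- **dimension formula** for a flat local homomorphism of Noetherian local rings -/
theorem dim_eq_add [Module.Flat A B] :
    ringKrullDim B = ringKrullDim A + ringKrullDim (B ⧸ IB A B) := by
  have h := FlatLocal.supportDim_tensor (R := A) (S := B) (N := B) A
  rw [Module.supportDim_eq_of_equiv (TensorProduct.AlgebraTensorModule.rid A B B),
    supportDim_fibre, Module.supportDim_self_eq_ringKrullDim,
    Module.supportDim_self_eq_ringKrullDim] at h
  exact h

theorem depth_fibre_le [Module.Flat A B] :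
    LocCoh.depth (B ⧸ IB A B) (B ⧸ IB A B) ≤ LocCoh.depth B B := by
  rw [depth_eq_add A B]
  exact le_add_self

theorem dim_fibre_le [Module.Flat A B] :
    ringKrullDim (B ⧸ IB A B) ≤ ringKrullDim B := by
  rw [dim_eq_add A B]
  have h0 : (0 : WithBot ℕ∞) ≤ ringKrullDim A := ringKrullDim_nonneg_of_nontrivial
  calc ringKrullDim (B ⧸ IB A B) = 0 + ringKrullDim (B ⧸ IB A B) := (zero_add _).symm
    _ ≤ ringKrullDim A + ringKrullDim (B ⧸ IB A B) := add_le_add_left h0 _

theorem dim_base_le [Module.Flat A B] : ringKrullDim A ≤ ringKrullDim B := by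
  rw [dim_eq_add A B]
  have h0 : (0 : WithBot ℕ∞) ≤ ringKrullDim (B ⧸ IB A B) := ringKrullDim_nonneg_of_nontrivial
  calc ringKrullDim A = ringKrullDim A + 0 := (add_zero _).symm
    _ ≤ ringKrullDim A + ringKrullDim (B ⧸ IB A B) := add_le_add_right h0 _

theorem depth_base_le [Module.Flat A B] : LocCoh.depth A A ≤ LocCoh.depth B B := by
  rw [depth_eq_add A B]
  exact le_self_add

end Groth.Agent.Lib.Helper7.FibreDepthDim
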