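import Groth.Agent.Lib.Helper21.FlatLocal3
import Groth.Prelude.Def_FlatCA
import Groth.Prelude.Def_EGA4b

/-!
# Flatness from depth of the closed fibre (Kollár-type criterion)

`A → B` local homomorphism of Noetherian local rings, `M` a finite `B`-module flat over `A` off
`V(J)`, and `depth_J (M/mM) ≥ 1`. Then `M` is flat over `A`.
-/

set_option autoImplicit false

universe u

open TensorProduct IsLocalRing

namespace Groth.Agent.Lib.Helper7.FlatFibreDepth

open Groth.Agent.Lib.Helper21.FlatLocal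

section LemmaA

variable {A : Type u} [CommRing A] [IsLocalRing A]
variable {M : Type u} [AddCommGroup M] [Module A M]
variable {V : Type u} [AddCommGroup V] [Module A V]

/-- tensors with a factor in `m M` vanish when `V` is killed by `m` -/
theorem rTensor_subtype_eq_zero (hV : ∀ a ∈ maximalIdeal A, ∀ v : V, a • v = 0) :
    ((maximalIdeal A • (⊤ : Submodule A M)).subtype.rTensor V) = 0 := by
  apply TensorProduct.ext'
  rintro ⟨u, hu⟩ v
  rw [LinearMap.rTensor_tmul, LinearMap.zero_apply]
  change u ⊗ₜ[A] v = 0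
  refine Submodule.smul_induction_on hu (fun a ha m' _ => ?_) (fun u₁ u₂ h₁ h₂ => ?_)
  · rw [TensorProduct.smul_tmul, hV a ha v, tmul_zero]
  · rw [add_tmul, h₁, h₂, add_zero]

/-- an endomorphism injective modulo `m` stays injective after `⊗ V` for `V` killed by `m`
(no flatness needed) -/
theorem rTensor_injective_of_mapQ_injective (φ : M →ₗ[A] M)
    (h0 : Function.Injective ((maximalIdeal A • (⊤ : Submodule A M)).mapQ _ φ
      (Submodule.smul_top_le_comap_smul_top _ φ)))
    (hV : ∀ a ∈ maximalIdeal A, ∀ v : V, a • v = 0) :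
    Function.Injective (φ.rTensor V) := by
  set m := maximalIdeal A with hm
  letI : Field (A ⧸ m) := Ideal.Quotient.field m
  set N : Submodule A M := m • (⊤ : Submodule A M) with hN
  set φ₀ : (M ⧸ N) →ₗ[A] (M ⧸ N) := N.mapQ N φ (Submodule.smul_top_le_comap_smul_top _ φ) with hφ₀
  -- a retraction of `φ₀`
  let φ₁ : (M ⧸ N) →ₗ[A ⧸ m] (M ⧸ N) :=
    φ₀.extendScalarsOfSurjective Ideal.Quotient.mk_surjective
  have hker : LinearMap.ker φ₁ = ⊥ := by
    rw [LinearMap.ker_eq_bot]
    exact h0
  obtain ⟨g₁, hg₁⟩ := LinearMap.exists_leftInverse_of_injective φ₁ hker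
  let g : (M ⧸ N) →ₗ[A] (M ⧸ N) := g₁.restrictScalars A
  have hg : g ∘ₗ φ₀ = LinearMap.id := by
    ext y
    have := LinearMap.congr_fun hg₁ (Submodule.Quotient.mk y)
    exact this
  have hcomm : N.mkQ ∘ₗ φ = φ₀ ∘ₗ N.mkQ := by
    ext y
    rfl
  rw [injective_iff_map_eq_zero]
  intro t ht
  have h1 : (N.mkQ.rTensor V) t = 0 := by
    have e1 : (N.mkQ.rTensor V) t = ((g ∘ₗ φ₀).rTensor V) ((N.mkQ.rTensor V) t) := by
      rw [hg, LinearMap.rTensor_id, LinearMap.id_apply]
    rw [e1, LinearMap.rTensor_comp, LinearMap.comp_apply, ← LinearMap.comp_apply (φ₀.rTensor V),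
      ← LinearMap.rTensor_comp, ← hcomm, LinearMap.rTensor_comp, LinearMap.comp_apply, ht,
      map_zero, map_zero]
  have hex : Function.Exact (N.subtype.rTensor V) (N.mkQ.rTensor V) :=
    rTensor_exact V (LinearMap.exact_subtype_mkQ N) (Submodule.mkQ_surjective N)
  obtain ⟨t', rfl⟩ := (hex t).1 h1
  rw [rTensor_subtype_eq_zero hV, LinearMap.zero_apply]

end LemmaA

section LemmaB

variable {A B : Type u} [CommRing A] [CommRing B] [Algebra A B]
variable {M : Type u} [AddCommGroup M] [Module B M] [Module A M] [IsScalarTower A B M]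
variable {V W : Type u} [AddCommGroup V] [Module A V] [AddCommGroup W] [Module A W]

/-- an element of the kernel of `M ⊗ V → M ⊗ W` dies in the localization at every prime `q` of `B`
where `M_q` is `A`-flat -/
theorem exists_smul_eq_zero (ι : V →ₗ[A] W) (hι : Function.Injective ι) (q : Ideal B) [q.IsPrime]
    (hq : Module.Flat A (LocalizedModule q.primeCompl M)) (t : M ⊗[A] V)
    (ht : (ι.lTensor M) t = 0) : ∃ s : q.primeCompl, s • t = 0 := by
  let g := LocalizedModule.mkLinearMap q.primeCompl M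
  let GV := AlgebraTensorModule.rTensor A V g
  let GW := AlgebraTensorModule.rTensor A W g
  have hcomm : ∀ z, (ι.lTensor (LocalizedModule q.primeCompl M)) (GV z) =
      GW ((ι.lTensor M) z) := by
    intro z
    induction z using TensorProduct.induction_on with
    | zero => simp
    | tmul a b => rfl
    | add a b ha hb => rw [map_add, map_add, map_add, map_add, ha, hb]
  have h1 : GV t = 0 := by
    apply Module.Flat.lTensor_preserves_injective_linearMap ι hι
    rw [hcomm, ht, map_zero, map_zero]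
  exact (IsLocalizedModule.eq_zero_iff q.primeCompl GV).1 h1

variable [IsLocalRing A]

/-- **key injectivity**: for `V` killed by `m_A` and `M` flat over `A` off `V(J)`, with an element of
`J` regular on `M/mM`, the functor `M ⊗ -` keeps `V → W` injective -/
theorem lTensor_injective_of_regular (J : Ideal B)
    (hU : ∀ q : PrimeSpectrum B, ¬ J ≤ q.asIdeal →
      Module.Flat A (LocalizedModule q.asIdeal.primeCompl M))
    (x : B) (hxJ : x ∈ J)
    (hx : Function.Injective ((maximalIdeal A • (⊤ : Submodule A M)).mapQ _ (mulR (R := A) x)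
      (Submodule.smul_top_le_comap_smul_top _ _)))
    (hV : ∀ a ∈ maximalIdeal A, ∀ v : V, a • v = 0)
    (ι : V →ₗ[A] W) (hι : Function.Injective ι) : Function.Injective (ι.lTensor M) := by
  rw [injective_iff_map_eq_zero]
  intro t ht
  let I : Ideal B := LinearMap.ker (LinearMap.toSpanSingleton B (M ⊗[A] V) t)
  have hI : ∀ b : B, b ∈ I ↔ b • t = 0 := fun b => by
    rw [LinearMap.mem_ker, LinearMap.toSpanSingleton_apply]
  have hrad : x ∈ I.radical := by
    rw [Ideal.radical_eq_sInf, Submodule.mem_sInf]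
    rintro q ⟨hIq, hqp⟩
    by_contra hxq
    have hJq : ¬ J ≤ q := fun h => hxq (h hxJ)
    haveI := hqp
    obtain ⟨s, hs⟩ := exists_smul_eq_zero ι hι q (hU ⟨q, hqp⟩ hJq) t ht
    have hsI : (s : B) ∈ I := (hI _).2 hs
    exact s.2 (hIq hsI)
  obtain ⟨n, hn⟩ := hrad
  have hreg : Function.Injective ((mulR (R := A) (N := M) x).rTensor V) :=
    rTensor_injective_of_mapQ_injective _ hx hV
  have hpow : ∀ n : ℕ, x ^ n • t = 0 → t = 0 := by
    intro n
    induction n with
    | zero => intro h; rwa [pow_zero, one_smul] at h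
    | succ n ih =>
      intro h
      apply ih
      apply hreg
      rw [map_zero, rTensor_mulR V x, ← mul_smul, ← pow_succ']
      exact h
  exact hpow n ((hI _).1 hn)

end LemmaB

section LemmaD

variable {A B : Type u} [CommRing A] [CommRing B] [IsLocalRing A] [IsLocalRing B]
  [IsNoetherianRing A] [IsNoetherianRing B] [Algebra A B] [IsLocalHom (algebraMap A B)]
variable {M : Type u} [AddCommGroup M] [Module B M] [Module A M] [IsScalarTower A B M]

/-- the graded piece `m^n/m^(n+1)` as the image of `m^n` in `A/m^(n+1)` -/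
noncomputable abbrev grMap (n : ℕ) : ↥(maximalIdeal A ^ n) →ₗ[A] A ⧸ maximalIdeal A ^ (n + 1) :=
  (Submodule.mkQ (maximalIdeal A ^ (n + 1))) ∘ₗ (maximalIdeal A ^ n).subtype

/-- the inclusion `m^(n+1) → m^n` -/
noncomputable abbrev powIncl (n : ℕ) : ↥(maximalIdeal A ^ (n + 1)) →ₗ[A] ↥(maximalIdeal A ^ n) :=
  Submodule.inclusion (Ideal.pow_le_pow_right n.le_succ)

omit [IsNoetherianRing A] in
theorem exact_powIncl (n : ℕ) :
    Function.Exact (powIncl (A := A) n) (grMap (A := A) n).rangeRestrict := by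
  intro b
  constructor
  · intro hb
    have h1 : (grMap (A := A) n) b = 0 := congrArg Subtype.val hb
    have h2 : (b : A) ∈ maximalIdeal A ^ (n + 1) := (Submodule.Quotient.mk_eq_zero _).1 h1
    exact ⟨⟨b.1, h2⟩, Subtype.ext rfl⟩
  · rintro ⟨c, rfl⟩
    apply Subtype.ext
    exact (Submodule.Quotient.mk_eq_zero _).2 c.2

omit [IsNoetherianRing A] in
theorem range_grMap_killed (n : ℕ) (a : A) (ha : a ∈ maximalIdeal A)
    (v : LinearMap.range (grMap (A := A) n)) : a • v = 0 := by
  obtain ⟨v, b, rfl⟩ := v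
  apply Subtype.ext
  change a • (grMap (A := A) n) b = 0
  rw [← map_smul]
  refine (Submodule.Quotient.mk_eq_zero _).2 ?_
  change a * (b : A) ∈ maximalIdeal A ^ (n + 1)
  rw [pow_succ']
  exact Ideal.mul_mem_mul ha b.2

variable (J : Ideal B)
  (hU : ∀ q : PrimeSpectrum B, ¬ J ≤ q.asIdeal →
    Module.Flat A (LocalizedModule q.asIdeal.primeCompl M))
  (x : B) (hxJ : x ∈ J)
  (hx : Function.Injective ((maximalIdeal A • (⊤ : Submodule A M)).mapQ _ (mulR (R := A) x)
    (Submodule.smul_top_le_comap_smul_top _ _)))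

include hU hxJ hx in
omit [IsLocalRing B] [IsNoetherianRing A] [IsNoetherianRing B] [IsLocalHom (algebraMap A B)] in
/-- one step of the filtration argument -/
theorem exists_lift (n : ℕ) (τ : M ⊗[A] ↥(maximalIdeal A ^ n))
    (hτ : ((maximalIdeal A ^ n).subtype.lTensor M) τ = 0) :
    ∃ τ' : M ⊗[A] ↥(maximalIdeal A ^ (n + 1)), ((powIncl (A := A) n).lTensor M) τ' = τ := by
  have hinj := lTensor_injective_of_regular (M := M) J hU x hxJ hx
    (range_grMap_killed (A := A) n) (LinearMap.range (grMap (A := A) n)).subtype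
    (Submodule.subtype_injective _)
  have h1 : ((grMap (A := A) n).rangeRestrict.lTensor M) τ = 0 := by
    apply hinj
    rw [map_zero, ← LinearMap.comp_apply, ← LinearMap.lTensor_comp]
    have e : (LinearMap.range (grMap (A := A) n)).subtype ∘ₗ (grMap (A := A) n).rangeRestrict =
        (Submodule.mkQ (maximalIdeal A ^ (n + 1))) ∘ₗ (maximalIdeal A ^ n).subtype := by
      ext b
      rfl
    rw [e, LinearMap.lTensor_comp, LinearMap.comp_apply, hτ, map_zero]
  have hex := lTensor_exact M (exact_powIncl (A := A) n)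
    (LinearMap.surjective_rangeRestrict (grMap (A := A) n))
  exact (hex τ).1 h1

omit [IsLocalRing B] [IsNoetherianRing A] [IsNoetherianRing B] [IsLocalHom (algebraMap A B)] in
/-- the image of `M ⊗ m^(n+1)` in `M ⊗ m` lies in `m^n (M ⊗ m)` -/
theorem lTensor_inclusion_mem (n : ℕ) (h : maximalIdeal A ^ (n + 1) ≤ maximalIdeal A)
    (τ : M ⊗[A] ↥(maximalIdeal A ^ (n + 1))) :
    ((Submodule.inclusion h).lTensor M) τ ∈
      (maximalIdeal A ^ n) • (⊤ : Submodule A (M ⊗[A] ↥(maximalIdeal A))) := by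
  induction τ using TensorProduct.induction_on with
  | zero => rw [map_zero]; exact Submodule.zero_mem _
  | add a b ha hb => rw [map_add]; exact Submodule.add_mem _ ha hb
  | tmul m' c =>
    rw [LinearMap.lTensor_tmul]
    have hc : (Submodule.inclusion h c) ∈
        (maximalIdeal A ^ n) • (⊤ : Submodule A ↥(maximalIdeal A)) := by
      rw [Submodule.mem_smul_top_iff]
      change (c : A) ∈ (maximalIdeal A ^ n) • (maximalIdeal A)
      rw [smul_eq_mul, ← pow_succ]
      exact c.2
    refine Submodule.smul_induction_on hc (fun a ha w _ => ?_) (fun w₁ w₂ h₁ h₂ => ?_)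
    · rw [TensorProduct.tmul_smul]
      exact Submodule.smul_mem_smul ha Submodule.mem_top
    · rw [TensorProduct.tmul_add]
      exact Submodule.add_mem _ h₁ h₂

include hU hxJ hx in
/-- **Tor-vanishing**: `m ⊗ M → M` is injective -/
theorem lTensor_subtype_injective [Module.Finite B M] :
    Function.Injective ((maximalIdeal A).subtype.lTensor M) := by
  set m := maximalIdeal A with hm
  rw [injective_iff_map_eq_zero]
  intro t ht
  have hle : ∀ n : ℕ, m ^ (n + 1) ≤ m := fun n => Ideal.pow_le_self (Nat.succ_ne_zero n)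
  have key : ∀ n : ℕ, ∃ τ : M ⊗[A] ↥(m ^ (n + 1)),
      ((Submodule.inclusion (hle n)).lTensor M) τ = t ∧ ((m ^ (n + 1)).subtype.lTensor M) τ = 0 := by
    intro n
    induction n with
    | zero =>
      have e0 : m = m ^ (0 + 1) := by rw [zero_add, pow_one]
      refine ⟨((LinearEquiv.ofEq m (m ^ (0 + 1)) e0).toLinearMap.lTensor M) t, ?_, ?_⟩
      · rw [← LinearMap.comp_apply, ← LinearMap.lTensor_comp]
        have : Submodule.inclusion (hle 0) ∘ₗ (LinearEquiv.ofEq m (m ^ (0 + 1)) e0).toLinearMap =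
            LinearMap.id := by
          ext b
          rfl
        rw [this, LinearMap.lTensor_id, LinearMap.id_apply]
      · rw [← LinearMap.comp_apply, ← LinearMap.lTensor_comp]
        have : (m ^ (0 + 1)).subtype ∘ₗ (LinearEquiv.ofEq m (m ^ (0 + 1)) e0).toLinearMap =
            m.subtype := by
          ext b
          rfl
        rw [this, ht]
    | succ n ih =>
      obtain ⟨τ, hτ1, hτ2⟩ := ih
      obtain ⟨τ', hτ'⟩ := exists_lift (M := M) J hU x hxJ hx (n + 1) τ hτ2
      refine ⟨τ', ?_, ?_⟩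
      · rw [← hτ1, ← hτ', ← LinearMap.comp_apply, ← LinearMap.lTensor_comp]
        rfl
      · rw [← hτ2, ← hτ', ← LinearMap.comp_apply, ← LinearMap.lTensor_comp]
        rfl
  haveI : Module.Finite A ↥m := Module.Finite.of_fg (IsNoetherian.noetherian m)
  haveI : Module.Finite B (M ⊗[A] ↥m) :=
    Groth.Agent.Lib.Helper2.LocalCrit.finite_tensor_left (S := B) (M := M) ↥m
  apply eq_zero_of_forall_mem_pow_smul (R := A) (S := B) (N := M ⊗[A] ↥m) t
  intro n
  obtain ⟨τ, hτ1, -⟩ := key n
  rw [← hτ1]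
  exact lTensor_inclusion_mem n (hle n) τ

include hU hxJ hx in
/-- **Flatness from a regular element on the closed fibre** -/
theorem flat_of_regular [Module.Finite B M] : Module.Flat A M := by
  have hJ : (maximalIdeal A).map (algebraMap A B) ≤ Ideal.jacobson ⊥ := by
    rw [IsLocalRing.jacobson_eq_maximalIdeal ⊥ bot_ne_top]
    exact IsLocalRing.map_maximalIdeal_le (algebraMap A B)
  letI : Field (A ⧸ maximalIdeal A) := Ideal.Quotient.field _
  exact Groth.Agent.Lib.Helper2.LocalCrit.flat_of_injective_of_flat_quotient (S := B)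
    (M := M) (maximalIdeal A) hJ (lTensor_subtype_injective J hU x hxJ hx)

end LemmaD

section Main

variable (A B : Type u) [CommRing A] [CommRing B] [IsLocalRing A] [IsLocalRing B]
  [IsNoetherianRing A] [IsNoetherianRing B] [Algebra A B] [IsLocalHom (algebraMap A B)]
variable (M : Type u) [AddCommGroup M] [Module B M] [Module A M] [IsScalarTower A B M]

omit [IsLocalRing B] [IsNoetherianRing A] [IsNoetherianRing B] [IsLocalHom (algebraMap A B)] in
/-- regularity on `EGA4.FibMod` in the `mapQ` form over the `A`-submodule `m • ⊤` -/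
theorem mapQ_injective_of_isSMulRegular (x : B) (hx : IsSMulRegular (EGA4.FibMod A B M) x) :
    Function.Injective ((maximalIdeal A • (⊤ : Submodule A M)).mapQ _ (mulR (R := A) (N := M) x)
      (Submodule.smul_top_le_comap_smul_top _ _)) := by
  rw [injective_iff_map_eq_zero]
  intro z hz
  obtain ⟨v, rfl⟩ := Submodule.Quotient.mk_surjective _ z
  rw [Submodule.mapQ_apply, mulR_apply, Submodule.Quotient.mk_eq_zero,
    ← mem_map_smul_top_iff (S := B)] at hz
  have h2 : x • (Submodule.Quotient.mk v : EGA4.FibMod A B M) = 0 := by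
    rw [← Submodule.Quotient.mk_smul, Submodule.Quotient.mk_eq_zero]
    exact hz
  have h3 : (Submodule.Quotient.mk v : EGA4.FibMod A B M) = 0 := by
    apply hx
    show x • _ = x • (0 : EGA4.FibMod A B M)
    rw [h2, smul_zero]
  rw [Submodule.Quotient.mk_eq_zero, mem_map_smul_top_iff] at h3
  exact (Submodule.Quotient.mk_eq_zero _).2 h3

/-- an element of `J` regular on the closed fibre exists as soon as `depth_J (M/mM) ≥ 1` -/
theorem exists_regular_of_one_le_idealDepth [Module.Finite B M] (J : Ideal B)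
    (h1 : 1 ≤ LocCoh.idealDepth J (EGA4.FibMod A B M)) :
    ∃ x ∈ J, IsSMulRegular (EGA4.FibMod A B M) x := by
  classical
  unfold LocCoh.idealDepth at h1
  split_ifs at h1 with htop
  · by_cases hJ : J = ⊤
    · exact ⟨1, hJ ▸ Submodule.mem_top, fun a b hab => by simpa using hab⟩
    · have hJm : J ≤ maximalIdeal B := IsLocalRing.le_maximalIdeal hJ
      have hbot : (⊤ : Submodule B (EGA4.FibMod A B M)) = ⊥ :=
        Submodule.eq_bot_of_le_smul_of_le_jacobson_bot J ⊤ Module.Finite.fg_top
          (by rw [htop]) (hJm.trans (IsLocalRing.maximalIdeal_le_jacobson _))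
      have hsub : Subsingleton (EGA4.FibMod A B M) := by
        refine ⟨fun a b => ?_⟩
        have ha : a ∈ (⊤ : Submodule B (EGA4.FibMod A B M)) := Submodule.mem_top
        have hb : b ∈ (⊤ : Submodule B (EGA4.FibMod A B M)) := Submodule.mem_top
        rw [hbot, Submodule.mem_bot] at ha hb
        rw [ha, hb]
      exact ⟨0, J.zero_mem, fun a b _ => Subsingleton.elim _ _⟩
  · have h0 : (0 : ℕ∞) < ⨆ (rs : List B)
        (_ : RingTheory.Sequence.IsWeaklyRegular (EGA4.FibMod A B M) rs ∧ ∀ r ∈ rs, r ∈ J),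
        (rs.length : ℕ∞) := lt_of_lt_of_le zero_lt_one h1
    obtain ⟨rs, hrs⟩ := lt_iSup_iff.1 h0
    obtain ⟨⟨hreg, hmem⟩, hlen⟩ := lt_iSup_iff.1 hrs
    cases rs with
    | nil => simp at hlen
    | cons x rs' =>
      refine ⟨x, hmem x List.mem_cons_self, ?_⟩
      exact ((RingTheory.Sequence.isWeaklyRegular_cons_iff _ _ _).1 hreg).1

/-- **S18705**: flatness from flatness off `V(J)` and `depth_J (M/mM) ≥ 1` -/
theorem flat_of_one_le_idealDepth [Module.Finite B M] (J : Ideal B)
    (hU : ∀ q : PrimeSpectrum B, ¬ J ≤ q.asIdeal → FlatCA.FlatAt A q.asIdeal M)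
    (h1 : 1 ≤ LocCoh.idealDepth J (EGA4.FibMod A B M)) : Module.Flat A M := by
  obtain ⟨x, hxJ, hx⟩ := exists_regular_of_one_le_idealDepth A B M J h1
  exact flat_of_regular J hU x hxJ (mapQ_injective_of_isSMulRegular A B M x hx)

/-- for `M` flat over `A`, an element regular on the closed fibre is regular on every
infinitesimal neighbourhood `M/m^k M` -/
theorem isSMulRegular_quot_pow [Module.Flat A M] (x : B)
    (hx : IsSMulRegular (EGA4.FibMod A B M) x) (k : ℕ) :
    IsSMulRegular (M ⧸ ((EGA4.mB A B) ^ k • (⊤ : Submodule B M))) x := by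
  set m := maximalIdeal A with hm
  have hinj := rTensor_injective_of_isFiniteLength (mulR (R := A) (N := M) x)
    (rTensor_mulR_injective x hx) (A ⧸ m ^ k)
    (Groth.Agent.Lib.Helper26.Matlis.isFiniteLength_quotient_pow k)
  intro a b hab
  obtain ⟨v, rfl⟩ := Submodule.Quotient.mk_surjective _ a
  obtain ⟨w, rfl⟩ := Submodule.Quotient.mk_surjective _ b
  change x • (Submodule.Quotient.mk v : M ⧸ ((EGA4.mB A B) ^ k • (⊤ : Submodule B M))) =
    x • Submodule.Quotient.mk w at hab
  rw [← sub_eq_zero, ← smul_sub, ← Submodule.Quotient.mk_sub, ← Submodule.Quotient.mk_smul,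
    Submodule.Quotient.mk_eq_zero] at hab
  rw [← sub_eq_zero, ← Submodule.Quotient.mk_sub, Submodule.Quotient.mk_eq_zero]
  generalize v - w = u at hab ⊢
  have hmap : EGA4.mB A B ^ k = (m ^ k).map (algebraMap A B) := (Ideal.map_pow _ _ _).symm
  rw [hmap, mem_map_smul_top_iff] at hab ⊢
  have h1 : ((mulR (R := A) (N := M) x).rTensor (A ⧸ m ^ k)) (u ⊗ₜ 1) = 0 := by
    rw [LinearMap.rTensor_tmul, mulR_apply]
    have h0 : (Submodule.Quotient.mk (x • u) : M ⧸ (m ^ k • (⊤ : Submodule A M))) = 0 :=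
      (Submodule.Quotient.mk_eq_zero _).2 hab
    rw [← TensorProduct.tensorQuotEquivQuotSMul_symm_mk, h0, map_zero]
  have h2 : u ⊗ₜ[A] (1 : A ⧸ m ^ k) = 0 := hinj (by rw [h1, map_zero])
  have h3 := congrArg (TensorProduct.tensorQuotEquivQuotSMul M (m ^ k)) h2
  rw [← map_one (Ideal.Quotient.mk (m ^ k)), TensorProduct.tensorQuotEquivQuotSMul_tmul_mk,
    map_zero, one_smul, Submodule.Quotient.mk_eq_zero] at h3
  exact h3

/-- a regular pair in `J` on the closed fibre exists as soon as `depth_J (M/mM) ≥ 2` -/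
theorem exists_regular_pair_of_two_le_idealDepth [Module.Finite B M] (J : Ideal B)
    (h2 : 2 ≤ LocCoh.idealDepth J (EGA4.FibMod A B M)) :
    ∃ x ∈ J, ∃ y ∈ J, IsSMulRegular (EGA4.FibMod A B M) x ∧
      IsSMulRegular (QuotSMulTop x (EGA4.FibMod A B M)) y := by
  classical
  unfold LocCoh.idealDepth at h2
  split_ifs at h2 with htop
  · by_cases hJ : J = ⊤
    · exact ⟨1, hJ ▸ Submodule.mem_top, 1, hJ ▸ Submodule.mem_top,
        fun a b hab => by simpa using hab, fun a b hab => by simpa using hab⟩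
    · have hJm : J ≤ maximalIdeal B := IsLocalRing.le_maximalIdeal hJ
      have hbot : (⊤ : Submodule B (EGA4.FibMod A B M)) = ⊥ :=
        Submodule.eq_bot_of_le_smul_of_le_jacobson_bot J ⊤ Module.Finite.fg_top
          (by rw [htop]) (hJm.trans (IsLocalRing.maximalIdeal_le_jacobson _))
      have hsub : Subsingleton (EGA4.FibMod A B M) := by
        refine ⟨fun a b => ?_⟩
        have ha : a ∈ (⊤ : Submodule B (EGA4.FibMod A B M)) := Submodule.mem_top
        have hb : b ∈ (⊤ : Submodule B (EGA4.FibMod A B M)) := Submodule.mem_top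
        rw [hbot, Submodule.mem_bot] at ha hb
        rw [ha, hb]
      refine ⟨0, J.zero_mem, 0, J.zero_mem, fun a b _ => Subsingleton.elim _ _, fun a b _ => ?_⟩
      obtain ⟨a', rfl⟩ := Submodule.Quotient.mk_surjective _ a
      obtain ⟨b', rfl⟩ := Submodule.Quotient.mk_surjective _ b
      rw [Subsingleton.elim a' b']
  · have h0 : (1 : ℕ∞) < ⨆ (rs : List B)
        (_ : RingTheory.Sequence.IsWeaklyRegular (EGA4.FibMod A B M) rs ∧ ∀ r ∈ rs, r ∈ J),
        (rs.length : ℕ∞) := lt_of_lt_of_le (by norm_num) h2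
    obtain ⟨rs, hrs⟩ := lt_iSup_iff.1 h0
    obtain ⟨⟨hreg, hmem⟩, hlen⟩ := lt_iSup_iff.1 hrs
    match rs, hreg, hmem, hlen with
    | [], _, _, hlen => simp at hlen
    | [x], _, _, hlen => simp at hlen
    | x :: y :: rs', hreg, hmem, _ =>
      have h1 := (RingTheory.Sequence.isWeaklyRegular_cons_iff _ _ _).1 hreg
      have h2' := (RingTheory.Sequence.isWeaklyRegular_cons_iff _ _ _).1 h1.2
      exact ⟨x, hmem x List.mem_cons_self, y,
        hmem y (List.mem_cons_of_mem _ List.mem_cons_self), h1.1, h2'.1⟩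

/-- **S18706**: depth ≥ 2 along `J` on every infinitesimal neighbourhood of the closed fibre -/
theorem two_le_idealDepth_quot_pow [Module.Finite B M] (J : Ideal B)
    (hU : ∀ q : PrimeSpectrum B, ¬ J ≤ q.asIdeal → FlatCA.FlatAt A q.asIdeal M)
    (h2 : 2 ≤ LocCoh.idealDepth J (EGA4.FibMod A B M)) (n : ℕ) :
    2 ≤ LocCoh.idealDepth J (M ⧸ ((EGA4.mB A B) ^ (n + 1) • (⊤ : Submodule B M))) := by
  classical
  haveI : Module.Flat A M :=
    flat_of_one_le_idealDepth A B M J hU (le_trans (by norm_num) h2)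
  obtain ⟨x, hxJ, y, hyJ, hx, hy⟩ := exists_regular_pair_of_two_le_idealDepth A B M J h2
  -- `x` is regular on `P = M/m^(n+1)M`
  have hxP := isSMulRegular_quot_pow A B M x hx (n + 1)
  -- `M' = M/xM` is flat, with `y` regular on its closed fibre
  haveI : Module.Flat A (QuotSMulTop x M) := flat_quotSMulTop_of_fibre x hx
  have hy' : IsSMulRegular (EGA4.FibMod A B (QuotSMulTop x M)) y :=
    ((quotSMulTopQuotEquiv' (N := M) x (EGA4.mB A B)).isSMulRegular_congr y).1 hy
  have hyP' := isSMulRegular_quot_pow A B (QuotSMulTop x M) y hy' (n + 1)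
  have hyP : IsSMulRegular
      (QuotSMulTop x (M ⧸ ((EGA4.mB A B) ^ (n + 1) • (⊤ : Submodule B M)))) y :=
    ((quotSMulTopQuotEquiv' (N := M) x ((EGA4.mB A B) ^ (n + 1))).isSMulRegular_congr y).2 hyP'
  have hreg : RingTheory.Sequence.IsWeaklyRegular
      (M ⧸ ((EGA4.mB A B) ^ (n + 1) • (⊤ : Submodule B M))) [x, y] := by
    rw [RingTheory.Sequence.isWeaklyRegular_cons_iff]
    refine ⟨hxP, ?_⟩
    rw [RingTheory.Sequence.isWeaklyRegular_cons_iff]
    exact ⟨hyP, RingTheory.Sequence.IsWeaklyRegular.nil _ _⟩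
  unfold LocCoh.idealDepth
  split_ifs with htop
  · exact le_top
  · refine le_trans ?_ (le_iSup₂ (f := fun (rs : List B)
      (_ : RingTheory.Sequence.IsWeaklyRegular
        (M ⧸ ((EGA4.mB A B) ^ (n + 1) • (⊤ : Submodule B M))) rs ∧ ∀ r ∈ rs, r ∈ J) =>
      (rs.length : ℕ∞)) [x, y] ⟨hreg, ?_⟩)
    · simp
    · intro r hr
      rcases List.mem_cons.1 hr with rfl | hr
      · exact hxJ
      · rcases List.mem_cons.1 hr with rfl | hr
        · exact hyJ
        · simp at hr

end Main

end Groth.Agent.Lib.Helper7.FlatFibreDepth
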