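import Mathlib
import Groth.Agent.Lib.Helper2.NilpFree2
import Groth.Agent.Lib.Helper2.PowCrit

/-!
# The smallest flattening ideal over a complete Noetherian local ring (helper7)

`exists_ideal_artinian`: flatness modulo ideals containing `𝔪^n` is governed by one ideal;
`flat_quotient_of_forall_pow`: relative local criterion by powers;
`eq_iInf_sup_pow`: a compatible system of ideals in a complete Noetherian local ring.
-/

set_option autoImplicit false
universe u
open TensorProduct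

namespace Groth.Agent.Lib.Helper7.FlatIdealComplete


section Art

variable {R : Type u} [CommRing R] [IsLocalRing R]

/-- flatness of `(R/J) ⊗ N` over `R/J`, for `J ⊇ 𝔪^n`, is governed by an ideal. -/
theorem exists_ideal_artinian (N : Type u) [AddCommGroup N] [Module R N] (n : ℕ) (hn : 0 < n) :
    ∃ I : Ideal R, IsLocalRing.maximalIdeal R ^ n ≤ I ∧ ∀ J : Ideal R, IsLocalRing.maximalIdeal R ^ n ≤ J →
      (Module.Flat (R ⧸ J) ((R ⧸ J) ⊗[R] N) ↔ I ≤ J) := by
  set 𝔪 := IsLocalRing.maximalIdeal R with h𝔪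
  set A := R ⧸ 𝔪 ^ n with hA
  set J₀ : Ideal A := 𝔪.map (Ideal.Quotient.mk (𝔪 ^ n)) with hJ₀
  have hJ₀nil : IsNilpotent J₀ := ⟨n, by rw [hJ₀, ← Ideal.map_pow, Ideal.map_quotient_self]; rfl⟩
  haveI hJ₀max : J₀.IsMaximal := by
    refine Ideal.IsMaximal.map_of_surjective_of_ker_le Ideal.Quotient.mk_surjective ?_
    rw [Ideal.mk_ker]
    exact Ideal.pow_le_self hn.ne'
  letI : Field (A ⧸ J₀) := Ideal.Quotient.field J₀
  have hfree : Module.Free (A ⧸ J₀) ((A ⧸ J₀) ⊗[A] (A ⊗[R] N)) := Module.Free.of_divisionRing _ _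
  obtain ⟨R₀, hR₀⟩ := Groth.Agent.Lib.Helper2.NilpFree2.exists_ideal_forall_free_iff (A ⊗[R] N) J₀ hJ₀nil hfree
  refine ⟨R₀.comap (Ideal.Quotient.mk (𝔪 ^ n)), ?_, ?_⟩
  · intro x hx
    rw [Ideal.mem_comap, Ideal.Quotient.eq_zero_iff_mem.mpr hx]
    exact R₀.zero_mem
  · intro J hJ
    letI : Algebra A (R ⧸ J) := (Ideal.Quotient.factor hJ).toAlgebra
    haveI : IsScalarTower R A (R ⧸ J) := IsScalarTower.of_algebraMap_eq (fun x => rfl)
    have h1 := (hR₀ (R ⧸ J)).2
    let e : (R ⧸ J) ⊗[A] (A ⊗[R] N) ≃ₗ[R ⧸ J] (R ⧸ J) ⊗[R] N :=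
      AlgebraTensorModule.cancelBaseChange R A (R ⧸ J) (R ⧸ J) N
    rw [← Module.Flat.equiv_iff e, h1]
    constructor
    · intro h x hx
      have h2 : algebraMap A (R ⧸ J) (Ideal.Quotient.mk (𝔪 ^ n) x) ∈ R₀.map (algebraMap A (R ⧸ J)) :=
        Ideal.mem_map_of_mem _ hx
      rw [h, Ideal.mem_bot] at h2
      exact Ideal.Quotient.eq_zero_iff_mem.mp h2
    · intro h
      rw [eq_bot_iff, Ideal.map_le_iff_le_comap]
      intro x hx
      obtain ⟨r, rfl⟩ := Ideal.Quotient.mk_surjective x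
      rw [Ideal.mem_comap, Ideal.mem_bot]
      exact Ideal.Quotient.eq_zero_iff_mem.mpr (h hx)

end Art



section LocalCrit

variable {R B : Type u} [CommRing R] [CommRing B] [Algebra R B] [IsNoetherianRing R]
  [IsNoetherianRing B] {N : Type u} [AddCommGroup N] [Module R N] [Module B N]
  [IsScalarTower R B N] [Module.Finite B N]

/-- relative form of the local criterion by powers: flatness of `N/JN` over `R/J` from flatness
modulo `J + 𝔪^n` for all `n`. -/
theorem flat_quotient_of_forall_pow (𝔪 J : Ideal R)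
    (h𝔪 : 𝔪.map (algebraMap R B) ≤ Ideal.jacobson ⊥)
    (h : ∀ n : ℕ, 0 < n → Module.Flat (R ⧸ (J ⊔ 𝔪 ^ n)) ((R ⧸ (J ⊔ 𝔪 ^ n)) ⊗[R] N)) :
    Module.Flat (R ⧸ J) ((R ⧸ J) ⊗[R] N) := by
  set JB : Ideal B := J.map (algebraMap R B) with hJB
  letI algRB : Algebra (R ⧸ J) (B ⧸ JB) := Ideal.Quotient.algebraQuotientOfLEComap Ideal.le_comap_map
  set Nbar := N ⧸ (JB • (⊤ : Submodule B N)) with hNbar
  letI modR : Module (R ⧸ J) Nbar := Module.compHom Nbar (algebraMap (R ⧸ J) (B ⧸ JB))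
  haveI : IsScalarTower (R ⧸ J) (B ⧸ JB) Nbar := IsScalarTower.of_compHom _ _ _
  have hsm : ∀ (x : R) (y : Nbar), (Ideal.Quotient.mk J x) • y = x • y := by
    intro x y
    obtain ⟨y, rfl⟩ := Submodule.Quotient.mk_surjective _ y
    change (algebraMap (R ⧸ J) (B ⧸ JB) (Ideal.Quotient.mk J x)) • (Submodule.Quotient.mk y : Nbar) = _
    have h1 : algebraMap (R ⧸ J) (B ⧸ JB) (Ideal.Quotient.mk J x) =
        Ideal.Quotient.mk JB (algebraMap R B x) := rfl
    rw [h1]
    change (Submodule.Quotient.mk ((algebraMap R B x) • y) : Nbar) = _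
    rw [algebraMap_smul]
    rfl
  haveI : IsScalarTower R (R ⧸ J) Nbar := by
    refine ⟨fun r x y => ?_⟩
    obtain ⟨x, rfl⟩ := Ideal.Quotient.mk_surjective x
    have : r • (Ideal.Quotient.mk J x) = Ideal.Quotient.mk J (r * x) := by
      rw [Algebra.smul_def]; rfl
    rw [this, hsm, hsm, mul_smul]
  haveI : Module.Finite (B ⧸ JB) Nbar := Module.Finite.of_restrictScalars_finite B (B ⧸ JB) Nbar
  -- the comparison isomorphism
  let e0 : (R ⧸ J) ⊗[R] N ≃ₗ[R] N ⧸ (J • ⊤ : Submodule R N) := quotTensorEquivQuotSMul N J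
  have hrs : (JB • (⊤ : Submodule B N)).restrictScalars R = J • (⊤ : Submodule R N) := by
    rw [hJB, Ideal.smul_restrictScalars, Submodule.restrictScalars_top]
  let e1 : (N ⧸ (J • ⊤ : Submodule R N)) ≃ₗ[R] N ⧸ (JB • (⊤ : Submodule B N)).restrictScalars R :=
    Submodule.quotEquivOfEq _ _ hrs.symm
  let e2 : (N ⧸ (JB • (⊤ : Submodule B N)).restrictScalars R) ≃ₗ[R] Nbar :=
    Submodule.Quotient.restrictScalarsEquiv R _
  let eR : (R ⧸ J) ⊗[R] N ≃ₗ[R] Nbar := e0 ≪≫ₗ e1 ≪≫ₗ e2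
  let e : (R ⧸ J) ⊗[R] N ≃ₗ[R ⧸ J] Nbar :=
    { eR with
      map_smul' := by
        intro c x
        obtain ⟨c, rfl⟩ := Ideal.Quotient.mk_surjective c
        have h1 : (Ideal.Quotient.mk J c) • x = c • x := by
          rw [← Ideal.Quotient.algebraMap_eq, algebraMap_smul]
        simp only [AddHom.toFun_eq_coe, LinearMap.coe_toAddHom, LinearEquiv.coe_coe, RingHom.id_apply]
        rw [h1, hsm, map_smul] }
  -- reduce to flatness of `Nbar`
  suffices hflat : Module.Flat (R ⧸ J) Nbar from Module.Flat.of_linearEquiv e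
  have hJ' : (𝔪.map (Ideal.Quotient.mk J)).map (algebraMap (R ⧸ J) (B ⧸ JB)) ≤ Ideal.jacobson ⊥ := by
    rw [Ideal.map_map]
    have hcomp : (algebraMap (R ⧸ J) (B ⧸ JB)).comp (Ideal.Quotient.mk J) =
        (Ideal.Quotient.mk JB).comp (algebraMap R B) := rfl
    rw [hcomp, ← Ideal.map_map]
    refine (Ideal.map_mono h𝔪).trans ?_
    have h1 : (⊥ : Ideal B).jacobson ≤ JB.jacobson := Ideal.jacobson_mono bot_le
    refine (Ideal.map_mono h1).trans ?_
    rw [Ideal.map_jacobson_of_surjective Ideal.Quotient.mk_surjective (by rw [Ideal.mk_ker]),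
      Ideal.map_quotient_self]
  refine Groth.Agent.Lib.Helper2.PowCrit.flat_of_forall_exists_flat_quotient (S := B ⧸ JB)
    (M := Nbar) (𝔪.map (Ideal.Quotient.mk J)) hJ' ?_
  intro n hn
  refine ⟨(𝔪 ^ n).map (Ideal.Quotient.mk J), by rw [Ideal.map_pow], ?_⟩
  set 𝔟 : Ideal (R ⧸ J) := (𝔪 ^ n).map (Ideal.Quotient.mk J) with h𝔟
  set Q := (R ⧸ J) ⧸ 𝔟 with hQ
  set R' := R ⧸ (J ⊔ 𝔪 ^ n) with hR'
  have hkill : ∀ a ∈ J ⊔ 𝔪 ^ n, algebraMap R Q a = 0 := by
    intro a ha
    obtain ⟨j, hj, m, hm, rfl⟩ := Submodule.mem_sup.mp ha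
    rw [map_add]
    have h1 : algebraMap R Q j = 0 := by
      change Ideal.Quotient.mk 𝔟 (Ideal.Quotient.mk J j) = 0
      rw [Ideal.Quotient.eq_zero_iff_mem.mpr hj, map_zero]
    have h2 : algebraMap R Q m = 0 := by
      change Ideal.Quotient.mk 𝔟 (Ideal.Quotient.mk J m) = 0
      exact Ideal.Quotient.eq_zero_iff_mem.mpr (Ideal.mem_map_of_mem _ hm)
    rw [h1, h2, add_zero]
  letI algR'Q : Algebra R' Q := (Ideal.Quotient.lift (J ⊔ 𝔪 ^ n) (algebraMap R Q) hkill).toAlgebra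
  haveI : IsScalarTower R R' Q := IsScalarTower.of_algebraMap_eq (fun x => rfl)
  haveI := h n hn
  have hfl1 : Module.Flat Q (Q ⊗[R'] (R' ⊗[R] N)) := inferInstance
  let c1 : Q ⊗[R'] (R' ⊗[R] N) ≃ₗ[Q] Q ⊗[R] N := AlgebraTensorModule.cancelBaseChange R R' Q Q N
  let c2 : Q ⊗[R ⧸ J] ((R ⧸ J) ⊗[R] N) ≃ₗ[Q] Q ⊗[R] N := AlgebraTensorModule.cancelBaseChange R (R ⧸ J) Q Q N
  let c3 : Q ⊗[R ⧸ J] ((R ⧸ J) ⊗[R] N) ≃ₗ[Q] Q ⊗[R ⧸ J] Nbar :=
    TensorProduct.AlgebraTensorModule.congr (LinearEquiv.refl Q Q) e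
  exact Module.Flat.of_linearEquiv (c3.symm ≪≫ₗ c2 ≪≫ₗ c1.symm)

end LocalCrit



section Complete

variable {R : Type u} [CommRing R] [IsLocalRing R] [IsNoetherianRing R]

/-- ideals are closed for the adic topology of a Noetherian local ring -/
theorem iInf_sup_pow_le (J : Ideal R) :
    (⨅ n : ℕ, J ⊔ IsLocalRing.maximalIdeal R ^ n) ≤ J := by
  intro x hx
  have hbot : (⨅ i : ℕ, IsLocalRing.maximalIdeal R ^ i • (⊤ : Submodule R (R ⧸ J))) = ⊥ :=
    Ideal.iInf_pow_smul_eq_bot_of_le_jacobson _ (IsLocalRing.maximalIdeal_le_jacobson _)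
  have hmem : (Ideal.Quotient.mk J x) ∈ (⨅ i : ℕ, IsLocalRing.maximalIdeal R ^ i • (⊤ : Submodule R (R ⧸ J))) := by
    rw [Submodule.mem_iInf]
    intro n
    have hxn := (Ideal.mem_iInf.mp hx) n
    obtain ⟨j, hj, m, hm, rfl⟩ := Submodule.mem_sup.mp hxn
    rw [map_add, Ideal.Quotient.eq_zero_iff_mem.mpr hj, zero_add]
    have : Ideal.Quotient.mk J m = m • (1 : R ⧸ J) := by
      rw [Algebra.smul_def, mul_one]; rfl
    rw [this]
    exact Submodule.smul_mem_smul hm Submodule.mem_top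
  rw [hbot, Submodule.mem_bot] at hmem
  exact Ideal.Quotient.eq_zero_iff_mem.mp hmem

variable [IsAdicComplete (IsLocalRing.maximalIdeal R) R]

/-- a compatible decreasing system of ideals in a complete Noetherian local ring is recovered from
its intersection. -/
theorem eq_iInf_sup_pow (I : ℕ → Ideal R)
    (hstep : ∀ n, I n = I (n + 1) ⊔ IsLocalRing.maximalIdeal R ^ n) (n : ℕ) :
    I n = (⨅ k, I k) ⊔ IsLocalRing.maximalIdeal R ^ n := by
  set 𝔪 := IsLocalRing.maximalIdeal R with h𝔪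
  have hanti : Antitone I := antitone_nat_of_succ_le fun k => by
    rw [hstep k]; exact le_sup_left
  have hpow : ∀ k, 𝔪 ^ k ≤ I k := fun k => by rw [hstep k]; exact le_sup_right
  refine le_antisymm ?_ (sup_le (iInf_le _ _) (hpow n))
  intro x hx
  -- build the Cauchy sequence
  have hdec : ∀ (k : ℕ) (y : R), y ∈ I (n + k) → ∃ y' ∈ I (n + k + 1), y - y' ∈ 𝔪 ^ (n + k) := by
    intro k y hy
    rw [hstep (n + k)] at hy
    obtain ⟨y', hy', m, hm, rfl⟩ := Submodule.mem_sup.mp hy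
    exact ⟨y', hy', by simpa using hm⟩
  choose! φ hφ1 hφ2 using hdec
  let g : ℕ → R := fun k => Nat.rec x (fun k y => φ k y) k
  have hg0 : g 0 = x := rfl
  have hgs : ∀ k, g (k + 1) = φ k (g k) := fun k => rfl
  have hg : ∀ k, g k ∈ I (n + k) := by
    intro k
    induction k with
    | zero => exact hx
    | succ k ih => rw [hgs]; exact hφ1 k (g k) ih
  have hgstep : ∀ k, g k - g (k + 1) ∈ 𝔪 ^ (n + k) := fun k => by
    rw [hgs]; exact hφ2 k (g k) (hg k)
  have hgdiff : ∀ k l, k ≤ l → g k - g l ∈ 𝔪 ^ (n + k) := by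
    intro k l hkl
    induction l, hkl using Nat.le_induction with
    | base => simp
    | succ l hkl ih =>
      have : g k - g (l + 1) = (g k - g l) + (g l - g (l + 1)) := by ring
      rw [this]
      exact Ideal.add_mem _ ih (Ideal.pow_le_pow_right (by omega) (hgstep l))
  -- the limit
  have hprec : IsPrecomplete 𝔪 R := inferInstance
  obtain ⟨L, hL⟩ := hprec.prec (f := g) (by
    intro a b hab
    rw [SModEq.sub_mem, smul_eq_mul, Ideal.mul_top]
    exact Ideal.pow_le_pow_right (by omega) (hgdiff a b hab))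
  have hL' : ∀ k, g k - L ∈ 𝔪 ^ k := by
    intro k
    have := hL k
    rwa [SModEq.sub_mem, smul_eq_mul, Ideal.mul_top] at this
  have hLmem : L ∈ ⨅ k, I k := by
    rw [Ideal.mem_iInf]
    intro j
    apply iInf_sup_pow_le (I j)
    rw [Ideal.mem_iInf]
    intro l
    have h1 : g (j + l) ∈ I j := hanti (by omega) (hg (j + l))
    have h2 : g (j + l) - L ∈ 𝔪 ^ l := Ideal.pow_le_pow_right (by omega) (hL' (j + l))
    have : L = g (j + l) - (g (j + l) - L) := by ring
    rw [this]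
    exact Ideal.sub_mem _ (Ideal.mem_sup_left h1) (Ideal.mem_sup_right h2)
  have hxL : x - L ∈ 𝔪 ^ n := by
    have h1 : g 0 - g n ∈ 𝔪 ^ n := by simpa using hgdiff 0 n (Nat.zero_le n)
    have : x - L = (g 0 - g n) + (g n - L) := by rw [hg0]; ring
    rw [this]
    exact Ideal.add_mem _ h1 (hL' n)
  have : x = L + (x - L) := by ring
  rw [this]
  exact Ideal.add_mem _ (Ideal.mem_sup_left hLmem) (Ideal.mem_sup_right hxL)

end Complete


section Main

variable (R S : Type u) [CommRing R] [IsLocalRing R]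
    [IsNoetherianRing R] [CommRing S] [Algebra R S] [IsNoetherianRing S]
    (M : Type u) [AddCommGroup M] [Module S M] [Module R M] [IsScalarTower R S M] [Module.Finite S M]

/-- the flatness property along the closed fibre -/
def FlatProp (J : Ideal R) : Prop :=
  ∀ (q : Ideal S) [q.IsPrime], q.comap (algebraMap R S) = IsLocalRing.maximalIdeal R →
    Module.Flat (R ⧸ J) ((R ⧸ J) ⊗[R] LocalizedModule q.primeCompl M)

omit [IsNoetherianRing R] [IsNoetherianRing S] [Module.Finite S M] in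
theorem flatProp_mono {J J' : Ideal R} (h : J ≤ J') (hJ : FlatProp R S M J) : FlatProp R S M J' := by
  intro q _ hq
  haveI := hJ q hq
  exact Groth.Agent.Lib.Helper2.PowCrit.flat_quotient_of_le h

omit [IsNoetherianRing R] [IsNoetherianRing S] [Module.Finite S M] in
/-- level `n` flattening ideal -/
theorem exists_level (n : ℕ) (hn : 0 < n) :
    ∃ I : Ideal R, IsLocalRing.maximalIdeal R ^ n ≤ I ∧ ∀ J : Ideal R, IsLocalRing.maximalIdeal R ^ n ≤ J →
      (FlatProp R S M J ↔ I ≤ J) := by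
  classical
  let Q := {q : Ideal S // q.IsPrime ∧ q.comap (algebraMap R S) = IsLocalRing.maximalIdeal R}
  haveI hQp : ∀ q : Q, q.1.IsPrime := fun q => q.2.1
  have hex : ∀ q : Q, ∃ I : Ideal R, IsLocalRing.maximalIdeal R ^ n ≤ I ∧ ∀ J : Ideal R,
      IsLocalRing.maximalIdeal R ^ n ≤ J →
      (Module.Flat (R ⧸ J) ((R ⧸ J) ⊗[R] LocalizedModule q.1.primeCompl M) ↔ I ≤ J) := by
    intro q
    haveI := q.2.1
    exact exists_ideal_artinian (LocalizedModule q.1.primeCompl M) n hn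
  choose I hI1 hI2 using hex
  refine ⟨IsLocalRing.maximalIdeal R ^ n ⊔ ⨆ q : Q, I q, le_sup_left, ?_⟩
  intro J hJ
  constructor
  · intro h
    refine sup_le hJ (iSup_le fun q => ?_)
    haveI := q.2.1
    exact (hI2 q J hJ).mp (h q.1 q.2.2)
  · intro h q hqp hq
    exact (hI2 ⟨q, hqp, hq⟩ J hJ).mpr ((le_iSup I ⟨q, hqp, hq⟩).trans (le_sup_right.trans h))

variable [IsAdicComplete (IsLocalRing.maximalIdeal R) R]

theorem main :
    ∃ I : Ideal R, I ≤ IsLocalRing.maximalIdeal R ∧ FlatProp R S M I ∧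
      ∀ J : Ideal R, FlatProp R S M J → I ≤ J := by
  classical
  set 𝔪 := IsLocalRing.maximalIdeal R with h𝔪
  have hlev := exists_level R S M
  choose I₀ hI₀1 hI₀2 using hlev
  let I : ℕ → Ideal R := fun n => if h : 0 < n then I₀ n h else ⊤
  have hIpos : ∀ n (h : 0 < n), I n = I₀ n h := fun n h => dif_pos h
  have hI0 : I 0 = ⊤ := dif_neg (lt_irrefl 0)
  have hchar : ∀ n, 0 < n → ∀ J : Ideal R, 𝔪 ^ n ≤ J → (FlatProp R S M J ↔ I n ≤ J) := by
    intro n hn J hJ
    rw [hIpos n hn]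
    exact hI₀2 n hn J hJ
  have hpow : ∀ n, 𝔪 ^ n ≤ I n := by
    intro n
    rcases Nat.eq_zero_or_pos n with rfl | hn
    · rw [hI0]; exact le_top
    · rw [hIpos n hn]; exact hI₀1 n hn
  have hself : ∀ n, 0 < n → FlatProp R S M (I n) := fun n hn =>
    (hchar n hn (I n) (hpow n)).mpr le_rfl
  have hstep : ∀ n, I n = I (n + 1) ⊔ 𝔪 ^ n := by
    intro n
    rcases Nat.eq_zero_or_pos n with rfl | hn
    · rw [hI0, pow_zero, Ideal.one_eq_top, sup_top_eq]
    · apply le_antisymm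
      · have hJ : 𝔪 ^ n ≤ I (n + 1) ⊔ 𝔪 ^ n := le_sup_right
        refine (hchar n hn _ hJ).mp ?_
        have hJ' : 𝔪 ^ (n + 1) ≤ I (n + 1) ⊔ 𝔪 ^ n :=
          (Ideal.pow_le_pow_right (Nat.le_succ n)).trans hJ
        exact (hchar (n + 1) (Nat.succ_pos n) _ hJ').mpr le_sup_left
      · refine sup_le ?_ (hpow n)
        have hJ' : 𝔪 ^ (n + 1) ≤ I n := (Ideal.pow_le_pow_right (Nat.le_succ n)).trans (hpow n)
        exact (hchar (n + 1) (Nat.succ_pos n) _ hJ').mp (hself n hn)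
  have hlim := eq_iInf_sup_pow I hstep
  refine ⟨⨅ k, I k, ?_, ?_, ?_⟩
  · -- contained in the maximal ideal
    refine (iInf_le I 1).trans ?_
    refine (hchar 1 Nat.one_pos 𝔪 (by rw [pow_one])).mp ?_
    intro q _ hq
    haveI : 𝔪.IsMaximal := IsLocalRing.maximalIdeal.isMaximal R
    letI : Field (R ⧸ 𝔪) := Ideal.Quotient.field 𝔪
    infer_instance
  · -- the property holds
    intro q _ hq
    refine flat_quotient_of_forall_pow (B := Localization.AtPrime q)
      (N := LocalizedModule q.primeCompl M) 𝔪 (⨅ k, I k) ?_ ?_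
    · rw [IsLocalRing.jacobson_eq_maximalIdeal ⊥ bot_ne_top, Ideal.map_le_iff_le_comap]
      intro r hr
      rw [Ideal.mem_comap, IsScalarTower.algebraMap_apply R S (Localization.AtPrime q),
        IsLocalization.AtPrime.to_map_mem_maximal_iff (Localization.AtPrime q) q]
      have : r ∈ q.comap (algebraMap R S) := by rw [hq]; exact hr
      exact this
    · intro n hn
      rw [← hlim n]
      exact hself n hn q hq
  · -- minimality
    intro J hJ
    refine le_trans ?_ (iInf_sup_pow_le J)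
    refine le_iInf fun n => ?_
    rcases Nat.eq_zero_or_pos n with rfl | hn
    · rw [pow_zero, Ideal.one_eq_top, sup_top_eq]; exact le_top
    · refine (iInf_le I n).trans ?_
      exact (hchar n hn _ le_sup_right).mp (flatProp_mono R S M le_sup_left hJ)


end Main

end Groth.Agent.Lib.Helper7.FlatIdealComplete
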