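import Groth.Agent.Lib.Helper7.MiracleFlat
import Groth.Agent.Lib.helper11.RegularSop
import Groth.Agent.Lib.Helper21.DepthKit1
import Groth.Agent.S6876

/-!
# Freeness criteria over a regular local ring

* `free_of_depth`: a finite module over a regular local ring `A` of dimension `d` with
  `depth M ≥ d` is free (Auslander–Buchsbaum for maximal depth, via miracle flatness).
* `depth_eq_dim`: `depth A = dim A` for a regular local ring.
* `free_of_isReflexive`: a finite reflexive module over a regular local ring of dimension `≤ 2`
  is free.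
-/

set_option autoImplicit false
set_option linter.unusedVariables false
set_option linter.style.haveILetI false

universe u

namespace Groth.Agent.Lib.Helper7.RegularFree

open IsLocalRing RingTheory.Sequence
open Groth.Agent.Lib.Helper21.DepthKit

variable {A : Type u} [CommRing A] [IsRegularLocalRing A]

theorem exists_dim : ∃ d : ℕ, ringKrullDim A = d :=
  ⟨(maximalIdeal A).spanFinrank, (IsRegularLocalRing.spanFinrank_maximalIdeal (R := A)).symm⟩

/-- `dim A ≤ depth A` for a regular local ring. -/
theorem dim_le_depth (d : ℕ) (hd : ringKrullDim A = d) : (d : ℕ∞) ≤ LocCoh.depth A A := by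
  obtain ⟨rs, h1, -, h3, h4⟩ := Groth.Agent.Lib.helper11.RegularSop.exists_regular_sop (A := A) d hd
  exact (natCast_le_depth_iff (A := A) (M := A) d).2 ⟨rs, h1, h3, h4.toIsWeaklyRegular⟩

variable (M : Type u) [AddCommGroup M] [Module A M] [Module.Finite A M]

/-- A finite module of depth `≥ dim A` over a regular local ring `A` is free. -/
theorem free_of_depth (d : ℕ) (hd : ringKrullDim A = d) (h : (d : ℕ∞) ≤ LocCoh.depth A M) :
    Module.Free A M := by
  by_cases hM : Subsingleton M
  · exact Module.Free.of_subsingleton A M
  · haveI : Nontrivial M := not_subsingleton_iff_nontrivial.1 hM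
    obtain ⟨rs, h1, h2, h3⟩ := (natCast_le_depth_iff (A := A) (M := M) d).1 h
    haveI : IsLocalHom (algebraMap A A) := by
      rw [Algebra.algebraMap_self]
      infer_instance
    haveI : Module.Flat A M :=
      Groth.Agent.Lib.Helper7.MiracleFlat.flat_of_isWeaklyRegular (A := A) (B := A) M rs h2 d hd h1 h3
    exact Module.free_of_flat_of_isLocalRing

/-- A finite reflexive module over a regular local ring of dimension `≤ 2` is free. -/
theorem free_of_isReflexive [Module.IsReflexive A M] (h2 : ringKrullDim A ≤ 2) : Module.Free A M := by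
  obtain ⟨d, hd⟩ := exists_dim (A := A)
  have hd2 : d ≤ 2 := by
    rw [hd] at h2
    exact_mod_cast h2
  have hA := dim_le_depth d hd
  refine free_of_depth M d hd ?_
  rw [depth_congr (Module.evalEquiv A M)]
  have key := Groth.Agent.S6876.result A (Module.Dual A M) A
  interval_cases d
  · exact zero_le
  · exact key.1 hA
  · exact key.2 hA

/-- A nonzero finite free module over a regular local ring is Cohen–Macaulay. -/
theorem isCM_of_free [Module.Free A M] [Nontrivial M] : LocCoh.IsCohenMacaulayModule A M := by
  obtain ⟨d, hd⟩ := exists_dim (A := A)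
  obtain ⟨rs, h1, -, h3, h4⟩ := Groth.Agent.Lib.helper11.RegularSop.exists_regular_sop (A := A) d hd
  have hreg : IsWeaklyRegular M rs :=
    ((TensorProduct.rid A M).isWeaklyRegular_congr rs).1 h4.toIsWeaklyRegular.isWeaklyRegular_lTensor
  have hdep : (d : ℕ∞) ≤ LocCoh.depth A M :=
    (natCast_le_depth_iff (A := A) (M := M) d).2 ⟨rs, h1, h3, hreg⟩
  unfold LocCoh.IsCohenMacaulayModule
  refine le_antisymm ?_ (depth_le_supportDim (A := A) (M := M))
  refine (Module.supportDim_le_ringKrullDim A M).trans ?_
  rw [hd]
  exact_mod_cast hdep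

/-- A Cohen–Macaulay finite module with zero annihilator over a regular local ring is free. -/
theorem free_of_isCM (hann : Module.annihilator A M = ⊥) (h : LocCoh.IsCohenMacaulayModule A M) :
    Module.Free A M := by
  obtain ⟨d, hd⟩ := exists_dim (A := A)
  refine free_of_depth M d hd ?_
  unfold LocCoh.IsCohenMacaulayModule at h
  rw [Module.supportDim_eq_ringKrullDim_quotient_annihilator, hann,
    ringKrullDim_eq_of_ringEquiv (RingEquiv.quotientBot A), hd] at h
  have h' : ((d : ℕ∞) : WithBot ℕ∞) = ((LocCoh.depth A M : ℕ∞) : WithBot ℕ∞) := by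
    exact_mod_cast h
  exact le_of_eq (WithBot.coe_injective h')

end Groth.Agent.Lib.Helper7.RegularFree
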