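import Groth.Prelude.Def_IntMult
import Groth.Agent.Lib.Helper7.AffinePoints
import Mathlib.AlgebraicGeometry.IdealSheaf.Subscheme
import Mathlib.RingTheory.Localization.Ideal

/-!
# Bridge between ideal sheaves and ideals of local rings (for `IntMult`)
-/

set_option autoImplicit false
set_option linter.unusedVariables false
set_option linter.style.haveILetI false

universe u

namespace Groth.Agent.Lib.Helper7.IMBridge

open AlgebraicGeometry CategoryTheory TopologicalSpace Topology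
open Groth.Agent.Lib.Helper7.AffPts

variable {X : Scheme.{u}} (I : X.IdealSheafData)

theorem map_germ_eq_of_le {W V : X.affineOpens} (h : W ≤ V) (x : X) (hx : x ∈ W.1) :
    (I.ideal V).map (X.presheaf.germ V.1 x (h hx)).hom =
      (I.ideal W).map (X.presheaf.germ W.1 x hx).hom := by
  rw [← I.map_ideal h, Ideal.map_map, ← CommRingCat.hom_comp]
  have := X.presheaf.germ_res (homOfLE (show W.1 ≤ V.1 from h)) x hx
  exact congrArg (fun φ => Ideal.map (CommRingCat.Hom.hom φ) (I.ideal V)) this.symm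

/-- The stalk ideal can be computed on any affine open neighbourhood. -/
theorem stalkIdeal_eq (U : X.affineOpens) (x : X) (hx : x ∈ U.1) :
    IntMult.stalkIdeal I x = (I.ideal U).map (X.presheaf.germ U.1 x hx).hom := by
  apply le_antisymm
  · unfold IntMult.stalkIdeal
    refine iSup_le fun V => iSup_le fun hxV => ?_
    obtain ⟨f, g, hfg, hxf⟩ := exists_basicOpen_le_affine_inter U.2 V.2 x ⟨hx, hxV⟩
    have hWU : X.affineBasicOpen f ≤ U := X.affineBasicOpen_le f
    have hWV : X.affineBasicOpen f ≤ V := by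
      show X.basicOpen f ≤ V.1
      rw [hfg]; exact X.basicOpen_le g
    rw [map_germ_eq_of_le I hWV x hxf, ← map_germ_eq_of_le I hWU x hxf]
  · unfold IntMult.stalkIdeal
    exact le_iSup₂ (f := fun (V : X.affineOpens) (hxV : x ∈ (V : X.Opens)) =>
      (I.ideal V).map (X.presheaf.germ V x hxV).hom) U hx

/-- Membership in the support in terms of the prime ideal of the point. -/
theorem mem_support_iff_le (U : X.affineOpens) (x : X) (hx : x ∈ U.1) :
    x ∈ I.support ↔ I.ideal U ≤ (U.2.primeIdealOf ⟨x, hx⟩).asIdeal := by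
  rw [Scheme.IdealSheafData.mem_support_iff_of_mem hx, Scheme.mem_zeroLocus_iff]
  constructor
  · intro h f hf
    exact (mem_primeIdealOf_iff U.2 ⟨x, hx⟩ f).2 (h f hf)
  · intro h f hf
    exact (mem_primeIdealOf_iff U.2 ⟨x, hx⟩ f).1 (h hf)

theorem stalkIdeal_ne_top_iff (x : X) : IntMult.stalkIdeal I x ≠ ⊤ ↔ x ∈ I.support := by
  obtain ⟨U, hU, hxU, -⟩ := exists_isAffineOpen_mem_and_subset (x := x) (U := ⊤) trivial
  rw [stalkIdeal_eq I ⟨U, hU⟩ x hxU, mem_support_iff_le I ⟨U, hU⟩ x hxU]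
  letI : Algebra Γ(X, U) (X.presheaf.stalk x) :=
    TopCat.Presheaf.algebra_section_stalk X.presheaf (⟨x, hxU⟩ : U)
  haveI := hU.isLocalization_stalk ⟨x, hxU⟩
  have h := IsLocalization.map_algebraMap_ne_top_iff_disjoint
    (hU.primeIdealOf ⟨x, hxU⟩).asIdeal.primeCompl (X.presheaf.stalk x) (I.ideal ⟨U, hU⟩)
  rw [show (X.presheaf.germ U x hxU).hom = algebraMap Γ(X, U) (X.presheaf.stalk x) from rfl, h]
  rw [Set.disjoint_left]
  constructor
  · intro h1 f hf
    by_contra hcon
    exact h1 hcon hf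
  · intro h1 f hf hfI
    exact hf (h1 hfI)

/-- Components of the ideal sheaf of an integral closed subscheme are prime on affine opens meeting
the support. -/
theorem isPrime_ideal [IsIntegral I.subscheme] (U : X.affineOpens) (x : X) (hxU : x ∈ U.1)
    (hx : x ∈ I.support) : (I.ideal U).IsPrime := by
  rw [← I.ker_subschemeι_app U]
  have hx' : x ∈ Set.range I.subschemeι := by rw [I.range_subschemeι]; exact hx
  obtain ⟨z, hz⟩ := hx'
  haveI hne : Nonempty ↥(I.subschemeι ⁻¹ᵁ U.1) :=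
    ⟨⟨z, by show I.subschemeι z ∈ U.1; rw [hz]; exact hxU⟩⟩
  haveI : IsDomain Γ(I.subscheme, I.subschemeι ⁻¹ᵁ U.1) :=
    @IsIntegral.component_integral _ _ (I.subschemeι ⁻¹ᵁ U.1) hne
  exact RingHom.ker_isPrime _

theorem isPrime_stalkIdeal [IsIntegral I.subscheme] (x : X) (hx : x ∈ I.support) :
    (IntMult.stalkIdeal I x).IsPrime := by
  obtain ⟨U, hU, hxU, -⟩ := exists_isAffineOpen_mem_and_subset (x := x) (U := ⊤) trivial
  rw [stalkIdeal_eq I ⟨U, hU⟩ x hxU]
  letI : Algebra Γ(X, U) (X.presheaf.stalk x) :=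
    TopCat.Presheaf.algebra_section_stalk X.presheaf (⟨x, hxU⟩ : U)
  haveI := hU.isLocalization_stalk ⟨x, hxU⟩
  haveI := isPrime_ideal I ⟨U, hU⟩ x hxU hx
  have hle := (mem_support_iff_le I ⟨U, hU⟩ x hxU).1 hx
  apply IsLocalization.isPrime_of_isPrime_disjoint
    (hU.primeIdealOf ⟨x, hxU⟩).asIdeal.primeCompl (X.presheaf.stalk x) (I.ideal ⟨U, hU⟩) inferInstance
  rw [Set.disjoint_left]
  intro f hf hfI
  exact hf (hle hfI)

theorem isIrreducible_support [IsIntegral I.subscheme] : IsIrreducible (I.support : Set X) := by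
  have h : IsIrreducible (Set.range I.subschemeι) := by
    rw [← Set.image_univ]
    exact (IrreducibleSpace.isIrreducible_univ _).image _ I.subschemeι.continuous.continuousOn
  rwa [I.range_subschemeι] at h

/-- If `ξ` is a maximal point of `V ∩ W` (for generization), the only prime of `O_{X,ξ}` containing
both stalk ideals is the maximal ideal. -/
theorem eq_maximalIdeal_of_le (IV IW : X.IdealSheafData) (ξ : X)
    (hmax : ∀ ξ' : X, ξ' ∈ IV.support → ξ' ∈ IW.support → ξ' ⤳ ξ → ξ' = ξ)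
    (q : Ideal (X.presheaf.stalk ξ)) [hq : q.IsPrime] (hV : IntMult.stalkIdeal IV ξ ≤ q)
    (hW : IntMult.stalkIdeal IW ξ ≤ q) : q = IsLocalRing.maximalIdeal (X.presheaf.stalk ξ) := by
  obtain ⟨U, hU, hxU, -⟩ := exists_isAffineOpen_mem_and_subset (x := ξ) (U := ⊤) trivial
  letI : Algebra Γ(X, U) (X.presheaf.stalk ξ) :=
    TopCat.Presheaf.algebra_section_stalk X.presheaf (⟨ξ, hxU⟩ : U)
  haveI hloc := hU.isLocalization_stalk ⟨ξ, hxU⟩
  set p := (hU.primeIdealOf ⟨ξ, hxU⟩).asIdeal with hp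
  haveI : p.IsPrime := (hU.primeIdealOf ⟨ξ, hxU⟩).isPrime
  set q' : Ideal Γ(X, U) := q.comap (algebraMap Γ(X, U) (X.presheaf.stalk ξ)) with hq'
  haveI hq'prime : q'.IsPrime := Ideal.comap_isPrime _ q
  obtain ⟨y, hy⟩ := primeIdealOf_surjective hU ⟨q', hq'prime⟩
  have hyq : (hU.primeIdealOf y).asIdeal = q' := by rw [hy]
  have hpcomap : p = (IsLocalRing.maximalIdeal (X.presheaf.stalk ξ)).comap
      (algebraMap Γ(X, U) (X.presheaf.stalk ξ)) := by
    rw [hp, hU.primeIdealOf_eq_map_closedPoint ⟨ξ, hxU⟩]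
    rfl
  have hq'p : q' ≤ p := by
    rw [hpcomap]
    exact Ideal.comap_mono (IsLocalRing.le_maximalIdeal hq.ne_top)
  have hsp : (y : X) ⤳ ξ := by
    have := (primeIdealOf_le_iff hU y ⟨ξ, hxU⟩).1 (by
      show (hU.primeIdealOf y).asIdeal ≤ p
      rw [hyq]; exact hq'p)
    exact this
  have hle : ∀ J : X.IdealSheafData, IntMult.stalkIdeal J ξ ≤ q → (y : X) ∈ J.support := by
    intro J hJ
    rw [mem_support_iff_le J ⟨U, hU⟩ y y.2]
    show J.ideal ⟨U, hU⟩ ≤ (hU.primeIdealOf y).asIdeal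
    rw [hyq]
    intro f hf
    show algebraMap Γ(X, U) (X.presheaf.stalk ξ) f ∈ q
    apply hJ
    rw [stalkIdeal_eq J ⟨U, hU⟩ ξ hxU]
    exact Ideal.mem_map_of_mem _ hf
  have hyξ : (y : X) = ξ := hmax y (hle IV hV) (hle IW hW) hsp
  have hq'eq : q' = p := by
    rw [← hyq, hp]
    congr 2
    exact Subtype.ext hyξ
  have h1 : q = q'.map (algebraMap Γ(X, U) (X.presheaf.stalk ξ)) :=
    (IsLocalization.map_comap p.primeCompl (X.presheaf.stalk ξ) q).symm
  rw [h1, hq'eq]
  exact IsLocalization.AtPrime.map_eq_maximalIdeal p (X.presheaf.stalk ξ)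

/-- If the stalk ideal of an integral closed subscheme at `ξ` is the maximal ideal then `ξ` is its
generic point. -/
theorem support_subset_closure [IsIntegral I.subscheme] (ξ : X) (hξ : ξ ∈ I.support)
    (h : IntMult.stalkIdeal I ξ = IsLocalRing.maximalIdeal (X.presheaf.stalk ξ)) :
    (I.support : Set X) ⊆ closure {ξ} := by
  obtain ⟨U, hU, hxU, -⟩ := exists_isAffineOpen_mem_and_subset (x := ξ) (U := ⊤) trivial
  letI : Algebra Γ(X, U) (X.presheaf.stalk ξ) :=
    TopCat.Presheaf.algebra_section_stalk X.presheaf (⟨ξ, hxU⟩ : U)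
  haveI hloc := hU.isLocalization_stalk ⟨ξ, hxU⟩
  set p := (hU.primeIdealOf ⟨ξ, hxU⟩).asIdeal with hp
  haveI : p.IsPrime := (hU.primeIdealOf ⟨ξ, hxU⟩).isPrime
  haveI hJ : (I.ideal ⟨U, hU⟩).IsPrime := isPrime_ideal I ⟨U, hU⟩ ξ hxU hξ
  have hJp : I.ideal ⟨U, hU⟩ ≤ p := (mem_support_iff_le I ⟨U, hU⟩ ξ hxU).1 hξ
  have hdisj : Disjoint (p.primeCompl : Set Γ(X, U)) (I.ideal ⟨U, hU⟩ : Set Γ(X, U)) := by
    rw [Set.disjoint_left]
    intro f hf hfI
    exact hf (hJp hfI)
  have hdisjp : Disjoint (p.primeCompl : Set Γ(X, U)) (p : Set Γ(X, U)) := by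
    rw [Set.disjoint_left]
    intro f hf hfI
    exact hf hfI
  have hJeq : I.ideal ⟨U, hU⟩ = p := by
    have h1 := IsLocalization.under_map_of_isPrime_disjoint p.primeCompl (X.presheaf.stalk ξ)
      hJ hdisj
    have h2 := IsLocalization.under_map_of_isPrime_disjoint p.primeCompl (X.presheaf.stalk ξ)
      (inferInstance : p.IsPrime) hdisjp
    rw [← h1, ← h2]
    congr 1
    have h3 : (I.ideal ⟨U, hU⟩).map (algebraMap Γ(X, U) (X.presheaf.stalk ξ)) =
        IntMult.stalkIdeal I ξ := (stalkIdeal_eq I ⟨U, hU⟩ ξ hxU).symm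
    rw [h3, h, IsLocalization.AtPrime.map_eq_maximalIdeal p (X.presheaf.stalk ξ)]
  have hsubU : (I.support : Set X) ∩ U ⊆ closure {ξ} := by
    rintro x ⟨hxI, hxU'⟩
    have h1 : I.ideal ⟨U, hU⟩ ≤ (hU.primeIdealOf ⟨x, hxU'⟩).asIdeal :=
      (mem_support_iff_le I ⟨U, hU⟩ x hxU').1 hxI
    rw [hJeq] at h1
    have h2 : ξ ⤳ x := (primeIdealOf_le_iff hU ⟨ξ, hxU⟩ ⟨x, hxU'⟩).1 h1
    exact specializes_iff_mem_closure.1 h2
  have hirr := isIrreducible_support I
  calc (I.support : Set X) ⊆ closure ((I.support : Set X) ∩ U) :=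
        subset_closure_inter_of_isPreirreducible_of_isOpen hirr.isPreirreducible U.isOpen
          ⟨ξ, hξ, hxU⟩
    _ ⊆ closure {ξ} := closure_minimal hsubU isClosed_closure

/-- A closed irreducible subset of a finite-dimensional irreducible space having the same dimension
is the whole space. -/
theorem eq_univ_of_topologicalKrullDim_eq {T : Type*} [TopologicalSpace T] [IrreducibleSpace T]
    (n : ℕ) (hT : topologicalKrullDim T = n) (V : Set T) (hVc : IsClosed V)
    (hV : topologicalKrullDim ↥V = n) : V = Set.univ := by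
  by_contra hne
  have h1 : (n : WithBot ℕ∞) ≤ Order.krullDim (IrreducibleCloseds ↥V) := by
    rw [← hV]; rfl
  obtain ⟨l, hl⟩ := (Order.le_krullDim_iff).1 h1
  have hind : IsInducing (Subtype.val : ↥V → T) := IsInducing.subtypeVal
  let l' : LTSeries (IrreducibleCloseds T) :=
    l.map (IrreducibleCloseds.map Subtype.val continuous_subtype_val)
      (IrreducibleCloseds.map_strictMono_of_isInducing hind)
  let top : IrreducibleCloseds T :=
    ⟨Set.univ, IrreducibleSpace.isIrreducible_univ T, isClosed_univ⟩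
  have hlast : l'.last < top := by
    rw [lt_iff_le_and_ne]
    refine ⟨fun x _ => trivial, fun heq => hne ?_⟩
    have h2 : ((l'.last : IrreducibleCloseds T) : Set T) ⊆ V := by
      show closure (Subtype.val '' _) ⊆ V
      apply closure_minimal _ hVc
      rintro _ ⟨v, -, rfl⟩
      exact v.2
    have h3 : ((l'.last : IrreducibleCloseds T) : Set T) = Set.univ := by rw [heq]; rfl
    rw [h3] at h2
    exact Set.eq_univ_of_univ_subset h2
  have h4 := Order.LTSeries.length_le_krullDim (l'.snoc top hlast)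
  have h5 : (l'.snoc top hlast).length = n + 1 := by
    simp [l', hl]
  rw [h5] at h4
  have h6 : Order.krullDim (IrreducibleCloseds T) = n := hT
  rw [h6] at h4
  have : (n + 1 : ℕ) ≤ n := by exact_mod_cast h4
  omega

end Groth.Agent.Lib.Helper7.IMBridge
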