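import Mathlib.AlgebraicGeometry.AffineScheme
import Mathlib.RingTheory.Regular.RegularSequence
import Mathlib.Topology.Sheaves.SheafCondition.UniqueGluing

/-!
# Hartogs' lemma on an affine open of a scheme

If `W` is an affine open of a scheme `X`, `I` an ideal of `R = Γ(X, W)` containing `a, b` with `a`
a nonzerodivisor and `b` a nonzerodivisor modulo `a`, and `U = ⋃_{c ∈ I} D(c)`, then restriction
`Γ(X, W) → Γ(X, U)` is bijective.
-/

set_option autoImplicit false
set_option linter.unusedVariables false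
set_option linter.style.haveILetI false

universe u

namespace Groth.Agent.Lib.Helper7.Hartogs

open AlgebraicGeometry CategoryTheory Opposite TopologicalSpace

section alg

variable {R : Type*} [CommRing R] {a b : R}

theorem mem_span_pow_of_mul_mem (ha : IsSMulRegular R a)
    (hb : ∀ u, b * u ∈ Ideal.span {a} → u ∈ Ideal.span {a}) :
    ∀ n : ℕ, ∀ u, b * u ∈ Ideal.span {a ^ n} → u ∈ Ideal.span {a ^ n} := by
  intro n
  induction n with
  | zero =>
    intro u _
    rw [pow_zero, Ideal.span_singleton_one]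
    exact Submodule.mem_top
  | succ n ih =>
    intro u hu
    have h1 : b * u ∈ Ideal.span {a ^ n} := by
      rw [Ideal.mem_span_singleton'] at hu ⊢
      obtain ⟨w, hw⟩ := hu
      exact ⟨w * a, by rw [← hw, pow_succ]; ring⟩
    obtain ⟨v, hv⟩ := Ideal.mem_span_singleton'.1 (ih u h1)
    obtain ⟨w, hw⟩ := Ideal.mem_span_singleton'.1 hu
    -- b * (v * a^n) = w * a^(n+1)
    have h2 : a ^ n • (b * v) = a ^ n • (w * a) := by
      rw [smul_eq_mul, smul_eq_mul]
      calc a ^ n * (b * v) = b * (v * a ^ n) := by ring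
        _ = b * u := by rw [hv]
        _ = w * a ^ (n + 1) := hw.symm
        _ = a ^ n * (w * a) := by rw [pow_succ]; ring
    have h3 : b * v = w * a := (ha.pow n) h2
    have h4 : v ∈ Ideal.span {a} := hb v (by rw [h3]; exact Ideal.mem_span_singleton'.2 ⟨w, rfl⟩)
    obtain ⟨v', hv'⟩ := Ideal.mem_span_singleton'.1 h4
    rw [Ideal.mem_span_singleton']
    exact ⟨v', by rw [← hv, ← hv', pow_succ]; ring⟩

theorem mem_span_pow_of_pow_mul_mem (ha : IsSMulRegular R a)
    (hb : ∀ u, b * u ∈ Ideal.span {a} → u ∈ Ideal.span {a}) (n m : ℕ) :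
    ∀ u, b ^ m * u ∈ Ideal.span {a ^ n} → u ∈ Ideal.span {a ^ n} := by
  induction m with
  | zero =>
    intro u hu
    rwa [pow_zero, one_mul] at hu
  | succ m ih =>
    intro u hu
    apply ih
    apply mem_span_pow_of_mul_mem ha hb n
    rwa [← mul_assoc, ← pow_succ']

end alg

section sheaf

variable {X : Scheme.{u}}

/-- restriction of sections -/
noncomputable def res {V V' : X.Opens} (h : V ≤ V') : Γ(X, V') →+* Γ(X, V) :=
  (X.presheaf.map (homOfLE h).op).hom

theorem res_res {V₁ V₂ V₃ : X.Opens} (h₁₂ : V₁ ≤ V₂) (h₂₃ : V₂ ≤ V₃) (s : Γ(X, V₃)) :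
    res h₁₂ (res h₂₃ s) = res (h₁₂.trans h₂₃) s := by
  unfold res
  rw [← CommRingCat.comp_apply, ← Functor.map_comp]
  rfl

theorem algebraMap_eq_res {W : X.Opens} (c : Γ(X, W)) (r : Γ(X, W)) :
    algebraMap Γ(X, W) Γ(X, X.basicOpen c) r = res (X.basicOpen_le c) r := rfl

variable {W : X.Opens} (hW : IsAffineOpen W)

include hW in
theorem eq_zero_of_res_eq_zero {a : Γ(X, W)} (ha : IsSMulRegular Γ(X, W) a) (r : Γ(X, W))
    (h : res (X.basicOpen_le a) r = 0) : r = 0 := by
  haveI := hW.isLocalization_basicOpen a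
  rw [← algebraMap_eq_res, IsLocalization.map_eq_zero_iff (Submonoid.powers a)] at h
  obtain ⟨⟨_, n, rfl⟩, hn⟩ := h
  have hn' : a ^ n * r = 0 := hn
  apply (ha.pow n)
  show a ^ n • r = a ^ n • 0
  rw [smul_eq_mul, hn', smul_zero]

include hW in
/-- if `r` vanishes on `D(a c)` with `a` regular then `r` vanishes on `D(c)` -/
theorem res_eq_zero_of_res_mul_eq_zero {a : Γ(X, W)} (ha : IsSMulRegular Γ(X, W) a)
    (c : Γ(X, W)) (r : Γ(X, W))
    (h : res (X.basicOpen_le (a * c)) r = 0) : res (X.basicOpen_le c) r = 0 := by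
  haveI := hW.isLocalization_basicOpen (a * c)
  haveI := hW.isLocalization_basicOpen c
  rw [← algebraMap_eq_res, IsLocalization.map_eq_zero_iff (Submonoid.powers (a * c))] at h
  obtain ⟨⟨_, n, rfl⟩, hn⟩ := h
  have hn' : (a * c) ^ n * r = 0 := hn
  have h1 : c ^ n * r = 0 := by
    apply (ha.pow n)
    show a ^ n • (c ^ n * r) = a ^ n • 0
    rw [smul_eq_mul, smul_zero, ← mul_assoc, ← mul_pow]
    exact hn'
  rw [← algebraMap_eq_res, IsLocalization.map_eq_zero_iff (Submonoid.powers c)]
  exact ⟨⟨c ^ n, n, rfl⟩, h1⟩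

include hW in
theorem bijective_res (I : Ideal Γ(X, W)) (U : X.Opens) (hUW : U ≤ W)
    (hsub : ∀ c ∈ I, X.basicOpen c ≤ U) (hcov : ∀ x ∈ U, ∃ c ∈ I, x ∈ X.basicOpen c)
    (a b : Γ(X, W)) (ha : a ∈ I) (hb : b ∈ I) (hareg : IsSMulRegular Γ(X, W) a)
    (hbreg : ∀ u, b * u ∈ Ideal.span {a} → u ∈ Ideal.span {a}) :
    Function.Bijective (res hUW) := by
  constructor
  · rw [injective_iff_map_eq_zero]
    intro r hr
    apply eq_zero_of_res_eq_zero hW hareg
    rw [← res_res (hsub a ha) hUW, hr, map_zero]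
  · intro s
    haveI := hW.isLocalization_basicOpen a
    haveI := hW.isLocalization_basicOpen b
    haveI := hW.isLocalization_basicOpen (a * b)
    obtain ⟨⟨x, ⟨_, n, rfl⟩⟩, hx⟩ := IsLocalization.surj (Submonoid.powers a) (res (hsub a ha) s)
    obtain ⟨⟨y, ⟨_, m, rfl⟩⟩, hy⟩ := IsLocalization.surj (Submonoid.powers b) (res (hsub b hb) s)
    simp only [algebraMap_eq_res] at hx hy
    -- restrict to `D(a b)`
    have hab_a : X.basicOpen (a * b) ≤ X.basicOpen a := by
      rw [Scheme.basicOpen_mul]; exact inf_le_left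
    have hab_b : X.basicOpen (a * b) ≤ X.basicOpen b := by
      rw [Scheme.basicOpen_mul]; exact inf_le_right
    have hx' := congrArg (res hab_a) hx
    have hy' := congrArg (res hab_b) hy
    rw [map_mul, res_res, res_res, res_res] at hx' hy'
    have hzero : res (X.basicOpen_le (a * b)) (x * b ^ m - y * a ^ n) = 0 := by
      rw [map_sub, map_mul, map_mul, ← hx', ← hy']
      ring
    rw [← algebraMap_eq_res, IsLocalization.map_eq_zero_iff (Submonoid.powers (a * b))] at hzero
    obtain ⟨⟨_, N, rfl⟩, hN⟩ := hzero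
    -- b^N (x b^m - y a^n) = 0
    have hN' : (a * b) ^ N * (x * b ^ m - y * a ^ n) = 0 := hN
    have h1 : b ^ N * (x * b ^ m - y * a ^ n) = 0 := by
      apply (hareg.pow N)
      show a ^ N • (b ^ N * (x * b ^ m - y * a ^ n)) = a ^ N • 0
      rw [smul_eq_mul, smul_zero, ← mul_assoc, ← mul_pow]
      exact hN'
    have h2 : b ^ (N + m) * x ∈ Ideal.span {a ^ n} := by
      rw [Ideal.mem_span_singleton']
      refine ⟨b ^ N * y, ?_⟩
      have : b ^ (N + m) * x = b ^ N * y * a ^ n + b ^ N * (x * b ^ m - y * a ^ n) := by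
        rw [pow_add]; ring
      rw [this, h1, add_zero]
    obtain ⟨t, ht⟩ := Ideal.mem_span_singleton'.1
      (mem_span_pow_of_pow_mul_mem hareg hbreg n (N + m) x h2)
    refine ⟨t, ?_⟩
    -- compare on the cover by `D(c)`, `c ∈ I`
    apply TopCat.Sheaf.eq_of_locally_eq' X.sheaf (fun c : I => X.basicOpen (c : Γ(X, W))) U
      (fun c => homOfLE (hsub c c.2))
    · intro x hxU
      obtain ⟨c, hc, hxc⟩ := hcov x hxU
      exact Opens.mem_iSup.2 ⟨⟨c, hc⟩, hxc⟩
    · rintro ⟨c, hc⟩
      show res (hsub c hc) (res hUW t) = res (hsub c hc) s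
      rw [res_res]
      haveI := hW.isLocalization_basicOpen c
      haveI := hW.isLocalization_basicOpen (a * c)
      obtain ⟨⟨z, ⟨_, l, rfl⟩⟩, hz⟩ := IsLocalization.surj (Submonoid.powers c) (res (hsub c hc) s)
      simp only [algebraMap_eq_res] at hz
      have hac_a : X.basicOpen (a * c) ≤ X.basicOpen a := by
        rw [Scheme.basicOpen_mul]; exact inf_le_left
      have hac_c : X.basicOpen (a * c) ≤ X.basicOpen c := by
        rw [Scheme.basicOpen_mul]; exact inf_le_right
      have hacU : X.basicOpen (a * c) ≤ U := hac_a.trans (hsub a ha)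
      have hx'' := congrArg (res hac_a) hx
      have hz'' := congrArg (res hac_c) hz
      rw [map_mul, res_res, res_res, res_res] at hx'' hz''
      -- on `D(a c)`: `s = t`
      have hunit : IsUnit (res (X.basicOpen_le (a * c)) (a ^ n)) := by
        rw [← algebraMap_eq_res, map_pow]
        refine IsUnit.pow n ?_
        have h := IsLocalization.map_units Γ(X, X.basicOpen (a * c))
          (⟨a * c, 1, pow_one _⟩ : Submonoid.powers (a * c))
        rw [map_mul] at h
        exact isUnit_of_mul_isUnit_left h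
      have hst : res hacU s = res (X.basicOpen_le (a * c)) t := by
        apply hunit.mul_right_cancel
        rw [hx'', ← map_mul, ht]
      have hzero2 : res (X.basicOpen_le (a * c)) (t * c ^ l - z) = 0 := by
        rw [map_sub, map_mul, ← hst, hz'', sub_self]
      have hzero3 := res_eq_zero_of_res_mul_eq_zero hW hareg c _ hzero2
      rw [map_sub, map_mul, sub_eq_zero] at hzero3
      have hunitc : IsUnit (res (X.basicOpen_le c) (c ^ l)) := by
        rw [← algebraMap_eq_res, map_pow]
        refine IsUnit.pow l ?_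
        have h := IsLocalization.map_units Γ(X, X.basicOpen c)
          (⟨c, 1, pow_one _⟩ : Submonoid.powers c)
        exact h
      apply hunitc.mul_right_cancel
      rw [hzero3, hz]

end sheaf

end Groth.Agent.Lib.Helper7.Hartogs
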