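import Mathlib
import Groth.Agent.Lib.Helper21.FlatOpen
import Groth.Agent.Lib.Helper21.FlatLocal3
import Groth.Agent.Lib.Helper7.RegSeqSpread

/-!
# Helper7 — FibreRegSpread

For a Noetherian ring `A`, an `A`-algebra `B` of finite type, a finite `B`-module `M` and elements
`g₁, …, gₙ ∈ B`: if `M_q` is `A`-flat and the `gᵢ` form a weakly regular sequence on the fibre module
`M_q / p M_q` (`p = q ∩ A`), the same holds at every prime of a basic open neighbourhood of `q`
(EGA IV 11.1.? / 11.3.8, Noetherian case).
-/

set_option autoImplicit false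
set_option linter.unusedVariables false
set_option linter.style.haveILetI false

namespace Groth.Agent.Lib.Helper7.FibreRegSpread

open Groth.Agent.Lib.Helper21 Groth.Agent.Lib.Helper21.FlatLocal RingTheory.Sequence Pointwise
  IsLocalRing TensorProduct

universe u

attribute [local instance] Localization.AtPrime.algebraOfLiesOver

section defs

variable {A B : Type u} [CommRing A] [CommRing B] [Algebra A B]
variable (M : Type u) [AddCommGroup M] [Module B M] [Module A M] [IsScalarTower A B M]
variable (q : Ideal B) [q.IsPrime]

/-- `M_q` as a module over `A_p`, `p = q ∩ A`. -/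
@[reducible] noncomputable def modR :
    Module (Localization.AtPrime (q.under A)) (LocalizedModule q.primeCompl M) :=
  Module.compHom _ (algebraMap (Localization.AtPrime (q.under A)) (Localization.AtPrime q))

attribute [local instance] modR

instance towerRS : IsScalarTower (Localization.AtPrime (q.under A)) (Localization.AtPrime q)
    (LocalizedModule q.primeCompl M) :=
  IsScalarTower.of_algebraMap_smul fun _ _ => rfl

instance towerAR : IsScalarTower A (Localization.AtPrime (q.under A))
    (LocalizedModule q.primeCompl M) :=
  ⟨fun a r n => by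
    show algebraMap (Localization.AtPrime (q.under A)) (Localization.AtPrime q) (a • r) • n =
      a • (algebraMap (Localization.AtPrime (q.under A)) (Localization.AtPrime q) r • n)
    rw [Algebra.smul_def, map_mul, ← IsScalarTower.algebraMap_apply, mul_smul, algebraMap_smul]⟩

/-- The fibre module `M_q / p M_q` as a module over `B_q`. -/
abbrev Fib : Type u :=
  LocalizedModule q.primeCompl M ⧸
    ((maximalIdeal (Localization.AtPrime (q.under A))).map
      (algebraMap (Localization.AtPrime (q.under A)) (Localization.AtPrime q)) •
        (⊤ : Submodule (Localization.AtPrime q) (LocalizedModule q.primeCompl M)))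

end defs

section alpha

variable {B : Type u} [CommRing B]
variable (M : Type u) [AddCommGroup M] [Module B M]
variable (q : Ideal B) [q.IsPrime]

theorem localized_smul_top (g : B) :
    Submodule.localized q.primeCompl (g • (⊤ : Submodule B M)) =
      (algebraMap B (Localization.AtPrime q) g) •
        (⊤ : Submodule (Localization.AtPrime q) (LocalizedModule q.primeCompl M)) := by
  rw [Submodule.localized, Submodule.localized'_eq_span]
  apply le_antisymm
  · rw [Submodule.span_le]
    rintro _ ⟨m, hm, rfl⟩
    obtain ⟨m', -, rfl⟩ := (Submodule.mem_smul_pointwise_iff_exists _ _ _).1 hm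
    rw [SetLike.mem_coe, Submodule.mem_smul_pointwise_iff_exists]
    refine ⟨LocalizedModule.mkLinearMap q.primeCompl M m', Submodule.mem_top, ?_⟩
    rw [map_smul, algebraMap_smul]
  · intro n hn
    obtain ⟨n', -, rfl⟩ := (Submodule.mem_smul_pointwise_iff_exists _ _ _).1 hn
    induction n' using LocalizedModule.induction_on with
    | h m s =>
      have h1 : LocalizedModule.mk m s =
          (IsLocalization.mk' (Localization.AtPrime q) (1 : B) s) •
            LocalizedModule.mkLinearMap q.primeCompl M m := by
        rw [LocalizedModule.mkLinearMap_apply, ← Localization.mk_eq_mk', LocalizedModule.mk_smul_mk,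
          one_smul, mul_one]
      rw [h1, smul_comm]
      apply Submodule.smul_mem
      apply Submodule.subset_span
      refine ⟨g • m, Submodule.smul_mem_pointwise_smul m g ⊤ Submodule.mem_top, ?_⟩
      rw [map_smul, algebraMap_smul]

/-- Localization commutes with `M ↦ M / gM`. -/
noncomputable def alpha (g : B) :
    LocalizedModule q.primeCompl (QuotSMulTop g M) ≃ₗ[Localization.AtPrime q]
      QuotSMulTop (algebraMap B (Localization.AtPrime q) g) (LocalizedModule q.primeCompl M) :=
  (localizedQuotientEquiv q.primeCompl (g • (⊤ : Submodule B M))).symm ≪≫ₗ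
    Submodule.quotEquivOfEq _ _ (localized_smul_top M q g)

end alpha

section crit

variable {A B : Type u} [CommRing A] [CommRing B] [Algebra A B] [IsNoetherianRing A]
  [IsNoetherianRing B]
variable (M : Type u) [AddCommGroup M] [Module B M] [Module A M] [IsScalarTower A B M]
  [Module.Finite B M]
variable (q : Ideal B) [q.IsPrime]

attribute [local instance] modR

theorem flat_R_of_flat_A (N : Type u) [AddCommGroup N] [Module A N]
    [Module (Localization.AtPrime (q.under A)) N]
    [IsScalarTower A (Localization.AtPrime (q.under A)) N] :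
    Module.Flat (Localization.AtPrime (q.under A)) N ↔ Module.Flat A N :=
  Module.flat_iff_of_isLocalization (Localization.AtPrime (q.under A)) (q.under A).primeCompl N

/-- local criterion: a fibrewise regular element is regular with flat cokernel. -/
theorem regular_and_flat_of_fibre (hfl : Module.Flat A (LocalizedModule q.primeCompl M)) (g : B)
    (hreg : IsSMulRegular (Fib (A := A) M q) (algebraMap B (Localization.AtPrime q) g)) :
    IsSMulRegular (LocalizedModule q.primeCompl M) (algebraMap B (Localization.AtPrime q) g) ∧
      Module.Flat A (LocalizedModule q.primeCompl (QuotSMulTop g M)) := by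
  haveI : Module.Flat (Localization.AtPrime (q.under A)) (LocalizedModule q.primeCompl M) :=
    (flat_R_of_flat_A q _).2 hfl
  refine ⟨isSMulRegular_of_fibre (R := Localization.AtPrime (q.under A)) _ hreg, ?_⟩
  have h1 := flat_quotSMulTop_of_fibre (R := Localization.AtPrime (q.under A)) _ hreg
  have h2 : Module.Flat A (QuotSMulTop (algebraMap B (Localization.AtPrime q) g)
      (LocalizedModule q.primeCompl M)) := (flat_R_of_flat_A q _).1 h1
  exact Module.Flat.of_linearEquiv ((alpha M q g).restrictScalars A)

/-- converse: a regular element with flat cokernel is fibrewise regular. -/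
theorem regular_fibre_of_regular_of_flat (g : B)
    (hreg : IsSMulRegular (LocalizedModule q.primeCompl M)
      (algebraMap B (Localization.AtPrime q) g))
    (hfl' : Module.Flat A (LocalizedModule q.primeCompl (QuotSMulTop g M))) :
    IsSMulRegular (Fib (A := A) M q) (algebraMap B (Localization.AtPrime q) g) := by
  set y := algebraMap B (Localization.AtPrime q) g with hy
  have h2 : Module.Flat A (QuotSMulTop y (LocalizedModule q.primeCompl M)) :=
    Module.Flat.of_linearEquiv ((alpha M q g).symm.restrictScalars A)
  haveI h1 : Module.Flat (Localization.AtPrime (q.under A))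
      (QuotSMulTop y (LocalizedModule q.primeCompl M)) := (flat_R_of_flat_A q _).2 h2
  set m := maximalIdeal (Localization.AtPrime (q.under A)) with hm
  have h3 := isSMulRegular_tensor_of_flat_quot (R := Localization.AtPrime (q.under A))
    (S := Localization.AtPrime q) (N := LocalizedModule q.primeCompl M)
    (Localization.AtPrime (q.under A) ⧸ m) y hreg
  rw [isSMulRegular_quotient_iff_mem_of_smul_mem]
  intro n hn
  rw [mem_map_smul_top_iff] at hn ⊢
  have h4 : y • (n ⊗ₜ[Localization.AtPrime (q.under A)]
      (1 : Localization.AtPrime (q.under A) ⧸ m)) = 0 := by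
    rw [TensorProduct.smul_tmul', ← tensorQuotEquivQuotSMul_symm_mk,
      (Submodule.Quotient.mk_eq_zero _).2 hn, map_zero]
  have h5 : n ⊗ₜ[Localization.AtPrime (q.under A)]
      (1 : Localization.AtPrime (q.under A) ⧸ m) = 0 :=
    h3 (by show y • _ = y • 0; rw [h4, smul_zero])
  rw [← tensorQuotEquivQuotSMul_symm_mk, LinearEquiv.map_eq_zero_iff,
    Submodule.Quotient.mk_eq_zero] at h5
  exact h5

end crit

section beta

variable {A B : Type u} [CommRing A] [CommRing B] [Algebra A B]
variable (M : Type u) [AddCommGroup M] [Module B M] [Module A M] [IsScalarTower A B M]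
variable (q : Ideal B) [q.IsPrime]

/-- `(M_q/pM_q)/g ≃ (M/gM)_q / p (M/gM)_q`. -/
noncomputable def beta (g : B) :
    QuotSMulTop (algebraMap B (Localization.AtPrime q) g) (Fib (A := A) M q) ≃ₗ[Localization.AtPrime q]
      Fib (A := A) (QuotSMulTop g M) q :=
  (quotSMulTopQuotEquiv' (algebraMap B (Localization.AtPrime q) g) _) ≪≫ₗ
    Submodule.Quotient.equiv _ _ (alpha M q g).symm (by
      rw [Submodule.map_smul'', Submodule.map_top, LinearEquiv.range])

end beta

section main

variable {A B : Type u} [CommRing A] [CommRing B] [Algebra A B] [IsNoetherianRing A]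
  [Algebra.FiniteType A B]

/-- **Spreading out**: flatness at `q` together with weak regularity of `gs` on the fibre module at
`q` holds on a basic open neighbourhood of `q`. -/
theorem spread (gs : List B) :
    ∀ (M : Type u) [AddCommGroup M] [Module B M] [Module A M] [IsScalarTower A B M]
      [Module.Finite B M] (q : Ideal B) [q.IsPrime],
      Module.Flat A (LocalizedModule q.primeCompl M) →
      IsWeaklyRegular (Fib (A := A) M q) (gs.map (algebraMap B (Localization.AtPrime q))) →
      ∃ h : B, h ∉ q ∧ ∀ (q' : Ideal B) [q'.IsPrime], h ∉ q' →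
        Module.Flat A (LocalizedModule q'.primeCompl M) ∧
        IsWeaklyRegular (Fib (A := A) M q')
          (gs.map (algebraMap B (Localization.AtPrime q'))) := by
  haveI : IsNoetherianRing B := Algebra.FiniteType.isNoetherianRing A B
  induction gs with
  | nil =>
    intro M _ _ _ _ _ q _ hfl _
    haveI := hfl
    obtain ⟨s, hs, hs'⟩ := FlatOpen.exists_basicOpen_flat (A := A) M q
    exact ⟨s, hs, fun q' _ hq' => ⟨hs' q' hq', IsWeaklyRegular.nil _ _⟩⟩
  | cons g gs ih =>
    intro M _ _ _ _ _ q _ hfl hreg
    rw [List.map_cons, isWeaklyRegular_cons_iff] at hreg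
    obtain ⟨hg, hgs⟩ := hreg
    obtain ⟨hgN, hflM'⟩ := regular_and_flat_of_fibre M q hfl g hg
    have hgs' : IsWeaklyRegular (Fib (A := A) (QuotSMulTop g M) q)
        (gs.map (algebraMap B (Localization.AtPrime q))) :=
      ((beta (A := A) M q g).isWeaklyRegular_congr _).1 hgs
    obtain ⟨h', hh', H'⟩ := ih (QuotSMulTop g M) q hflM' hgs'
    haveI := hfl
    obtain ⟨h0, hh0, H0⟩ := FlatOpen.exists_basicOpen_flat (A := A) M q
    obtain ⟨h1, hh1, H1⟩ := RegSpread.exists_isSMulRegular_localization g M q hgN
    refine ⟨h0 * h1 * h', ?_, fun q' _ hq' => ?_⟩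
    · intro hmem
      rcases Ideal.IsPrime.mem_or_mem ‹q.IsPrime› hmem with h | h
      · rcases Ideal.IsPrime.mem_or_mem ‹q.IsPrime› h with h | h
        exacts [hh0 h, hh1 h]
      · exact hh' h
    · have hq0 : h0 ∉ q' := fun h => hq' (Ideal.mul_mem_right _ _ (Ideal.mul_mem_right _ _ h))
      have hq1 : h1 ∉ q' := fun h => hq' (Ideal.mul_mem_right _ _ (Ideal.mul_mem_left _ _ h))
      have hq2 : h' ∉ q' := fun h => hq' (Ideal.mul_mem_left _ _ h)
      obtain ⟨hfl2, hreg2⟩ := H' q' hq2
      refine ⟨H0 q' hq0, ?_⟩
      rw [List.map_cons, isWeaklyRegular_cons_iff]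
      exact ⟨regular_fibre_of_regular_of_flat M q' g (H1 q' hq1) hfl2,
        ((beta (A := A) M q' g).isWeaklyRegular_congr _).2 hreg2⟩

end main

end Groth.Agent.Lib.Helper7.FibreRegSpread
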