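import Mathlib
import Groth.Agent.Lib.Helper29.FPModel

/-!
# Helper7 — ZeroMEDatum: explicit finite presentations of a linear map, and their base change

A `Datum B a b c d` is a presentation of a linear map `u : M → N` between finitely presented
`B`-modules: `M = B^a / ⟨l⟩`, `N = B^b / ⟨k, U·l⟩`, `u` induced by the matrix `U`.  Data over `B₁`
map to data over a `B₁`-algebra `B`, the comparison maps `qM`, `qN` are base changes and commute with
the presented maps.  `exists_datum`: every linear map between finitely presented modules is presented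
by a datum.
-/

set_option autoImplicit false

namespace Groth.Agent.Lib.Helper7.ZeroME

open Groth.Agent.Lib.Helper29.FPModel

universe u

section QuotMap'

variable {B₁ B : Type u} [CommRing B₁] [CommRing B] [Algebra B₁ B]

theorem mapVec_smul' (n : ℕ) (r : B₁) (w : Fin n → B₁) :
    mapVec (B := B) n (r • w) = algebraMap B₁ B r • mapVec (B := B) n w := by
  ext i
  simp [mapVec_apply]

/-- flexible comparison map `B₁ⁿ/⟨v₁⟩ → Bⁿ/⟨v⟩` when `v` is the image of `v₁`. -/
def quotMap' (n : ℕ) {κ : Type*} (v₁ : κ → (Fin n → B₁)) (v : κ → (Fin n → B))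
    (h : ∀ j, mapVec (B := B) n (v₁ j) = v j) :
    ((Fin n → B₁) ⧸ Submodule.span B₁ (Set.range v₁)) →ₗ[B₁]
      ((Fin n → B) ⧸ Submodule.span B (Set.range v)) :=
  Submodule.liftQ _ (((Submodule.span B (Set.range v)).mkQ.restrictScalars B₁).comp (mapVec n)) (by
    rw [Submodule.span_le]
    rintro _ ⟨j, rfl⟩
    change (Submodule.span B (Set.range v)).mkQ (mapVec n (v₁ j)) = 0
    rw [Submodule.mkQ_apply, Submodule.Quotient.mk_eq_zero, h j]
    exact Submodule.subset_span ⟨j, rfl⟩)

theorem quotMap'_mk (n : ℕ) {κ : Type*} (v₁ : κ → (Fin n → B₁)) (v : κ → (Fin n → B))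
    (h : ∀ j, mapVec (B := B) n (v₁ j) = v j) (w : Fin n → B₁) :
    quotMap' n v₁ v h (Submodule.Quotient.mk w) = Submodule.Quotient.mk (mapVec n w) := rfl

theorem isBaseChange_quotMap' (n : ℕ) {κ : Type*} (v₁ : κ → (Fin n → B₁)) (v : κ → (Fin n → B))
    (h : ∀ j, mapVec (B := B) n (v₁ j) = v j) : IsBaseChange B (quotMap' n v₁ v h) := by
  obtain rfl : v = fun j => mapVec (B := B) n (v₁ j) := funext fun j => (h j).symm
  exact isBaseChange_quotMap n v₁

end QuotMap'

/-- a finite presentation of a linear map between finitely presented modules. -/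
structure Datum (B : Type u) [CommRing B] (a b c d : ℕ) where
  /-- relations of the source -/
  l : Fin c → (Fin a → B)
  /-- relations of the target -/
  k : Fin d → (Fin b → B)
  /-- the matrix -/
  U : Fin a → (Fin b → B)

namespace Datum

variable {B : Type u} [CommRing B] {a b c d : ℕ} (D : Datum B a b c d)

/-- all relations of the target: the given ones and the images of the relations of the source. -/
def relN : Fin d ⊕ Fin c → (Fin b → B) :=
  Sum.elim D.k (fun j => ∑ i, D.l j i • D.U i)

/-- the source module. -/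
abbrev M : Type u := (Fin a → B) ⧸ Submodule.span B (Set.range D.l)

/-- the target module. -/
abbrev N : Type u := (Fin b → B) ⧸ Submodule.span B (Set.range D.relN)

/-- the matrix as a linear map. -/
def lin : (Fin a → B) →ₗ[B] (Fin b → B) := Fintype.linearCombination B D.U

theorem lin_apply (w : Fin a → B) : D.lin w = ∑ i, w i • D.U i :=
  Fintype.linearCombination_apply B D.U w

/-- the presented map. -/
def u : D.M →ₗ[B] D.N :=
  Submodule.mapQ _ _ D.lin (by
    rw [Submodule.span_le]
    rintro _ ⟨j, rfl⟩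
    show D.lin (D.l j) ∈ Submodule.span B (Set.range D.relN)
    rw [lin_apply]
    exact Submodule.subset_span ⟨Sum.inr j, rfl⟩)

theorem u_mk (w : Fin a → B) :
    D.u (Submodule.Quotient.mk w) = Submodule.Quotient.mk (D.lin w) := rfl

/-- base change of a datum. -/
def map {B₁ : Type u} [CommRing B₁] (B : Type u) [CommRing B] [Algebra B₁ B] {a b c d : ℕ}
    (D : Datum B₁ a b c d) : Datum B a b c d where
  l j := mapVec (B := B) a (D.l j)
  k j := mapVec (B := B) b (D.k j)
  U i := mapVec (B := B) b (D.U i)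

end Datum

/-- `D` is the image of `D₁`. -/
structure IsMap {B₁ B : Type u} [CommRing B₁] [CommRing B] [Algebra B₁ B] {a b c d : ℕ}
    (D₁ : Datum B₁ a b c d) (D : Datum B a b c d) : Prop where
  l : ∀ j, mapVec (B := B) a (D₁.l j) = D.l j
  k : ∀ j, mapVec (B := B) b (D₁.k j) = D.k j
  U : ∀ i, mapVec (B := B) b (D₁.U i) = D.U i

namespace IsMap

variable {B₁ B : Type u} [CommRing B₁] [CommRing B] [Algebra B₁ B] {a b c d : ℕ}
  {D₁ : Datum B₁ a b c d} {D : Datum B a b c d}

theorem isMap_map (D₁ : Datum B₁ a b c d) : IsMap D₁ (D₁.map B) := ⟨fun _ => rfl, fun _ => rfl, fun _ => rfl⟩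

theorem lin (h : IsMap D₁ D) (w : Fin a → B₁) :
    mapVec (B := B) b (D₁.lin w) = D.lin (mapVec (B := B) a w) := by
  rw [Datum.lin_apply, Datum.lin_apply, map_sum]
  refine Finset.sum_congr rfl fun i _ => ?_
  rw [mapVec_smul', h.U i, mapVec_apply]

theorem relN (h : IsMap D₁ D) (x : Fin d ⊕ Fin c) :
    mapVec (B := B) b (D₁.relN x) = D.relN x := by
  rcases x with j | j
  · exact h.k j
  · show mapVec (B := B) b (∑ i, D₁.l j i • D₁.U i) = ∑ i, D.l j i • D.U i
    rw [map_sum]
    refine Finset.sum_congr rfl fun i _ => ?_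
    rw [mapVec_smul', h.U i, ← h.l j, mapVec_apply]

/-- the comparison map of the sources. -/
def qM (h : IsMap D₁ D) : D₁.M →ₗ[B₁] D.M := quotMap' a D₁.l D.l h.l

/-- the comparison map of the targets. -/
def qN (h : IsMap D₁ D) : D₁.N →ₗ[B₁] D.N := quotMap' b D₁.relN D.relN h.relN

theorem isBaseChange_qM (h : IsMap D₁ D) : IsBaseChange B h.qM := isBaseChange_quotMap' _ _ _ _

theorem isBaseChange_qN (h : IsMap D₁ D) : IsBaseChange B h.qN := isBaseChange_quotMap' _ _ _ _

theorem comm (h : IsMap D₁ D) (x : D₁.M) : D.u (h.qM x) = h.qN (D₁.u x) := by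
  obtain ⟨w, rfl⟩ := Submodule.Quotient.mk_surjective _ x
  show D.u (Submodule.Quotient.mk (mapVec a w)) = quotMap' b D₁.relN D.relN h.relN
    (Submodule.Quotient.mk (D₁.lin w))
  rw [Datum.u_mk, quotMap'_mk, h.lin]

section Trans

variable {B₂ : Type u} [CommRing B₂] [Algebra B₁ B₂] [Algebra B₂ B] [IsScalarTower B₁ B₂ B]

theorem mapVec_mapVec (n : ℕ) (w : Fin n → B₁) :
    mapVec (B := B) n (mapVec (B := B₂) n w) = mapVec (B := B) n w := by
  ext i
  simp only [mapVec_apply]
  exact (IsScalarTower.algebraMap_apply B₁ B₂ B _).symm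

theorem trans {D₂ : Datum B₂ a b c d} (h₁ : IsMap D₁ D₂) (h₂ : IsMap D₂ D) : IsMap D₁ D :=
  ⟨fun j => by rw [← h₂.l, ← h₁.l, mapVec_mapVec], fun j => by rw [← h₂.k, ← h₁.k, mapVec_mapVec],
    fun i => by rw [← h₂.U, ← h₁.U, mapVec_mapVec]⟩

theorem of_map (h : IsMap D₁ D) : IsMap (D₁.map B₂) D :=
  ⟨fun j => by rw [← h.l]; exact mapVec_mapVec a _, fun j => by rw [← h.k]; exact mapVec_mapVec b _,
    fun i => by rw [← h.U]; exact mapVec_mapVec b _⟩

end Trans

end IsMap

section Present

/-- **Every linear map between finitely presented modules is presented by a datum.** -/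
theorem exists_datum {B : Type u} [CommRing B] (M N : Type u) [AddCommGroup M] [Module B M]
    [AddCommGroup N] [Module B N] [Module.FinitePresentation B M] [Module.FinitePresentation B N]
    (u : M →ₗ[B] N) :
    ∃ (a b c d : ℕ) (D : Datum B a b c d) (eM : D.M ≃ₗ[B] M) (eN : D.N ≃ₗ[B] N),
      ∀ x, u (eM x) = eN (D.u x) := by
  classical
  obtain ⟨a, KM, eM, ⟨sM, hsM⟩⟩ := Module.FinitePresentation.exists_fin B M
  obtain ⟨b, KN, eN, ⟨sN, hsN⟩⟩ := Module.FinitePresentation.exists_fin B N
  let l : Fin sM.card → (Fin a → B) := fun j => ((sM.equivFin.symm j : sM) : Fin a → B)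
  let k : Fin sN.card → (Fin b → B) := fun j => ((sN.equivFin.symm j : sN) : Fin b → B)
  have hl : Set.range l = (sM : Set (Fin a → B)) := by
    ext w
    constructor
    · rintro ⟨j, rfl⟩
      exact (sM.equivFin.symm j).2
    · intro hw
      exact ⟨sM.equivFin ⟨w, hw⟩, by simp [l]⟩
  have hk : Set.range k = (sN : Set (Fin b → B)) := by
    ext w
    constructor
    · rintro ⟨j, rfl⟩
      exact (sN.equivFin.symm j).2
    · intro hw
      exact ⟨sN.equivFin ⟨w, hw⟩, by simp [k]⟩
  let Φ : (Fin a → B) →ₗ[B] (Fin b → B) ⧸ KN :=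
    eN.toLinearMap ∘ₗ u ∘ₗ eM.symm.toLinearMap ∘ₗ KM.mkQ
  choose U hU using fun i : Fin a => Submodule.Quotient.mk_surjective KN (Φ (Pi.single i 1))
  let D : Datum B a b sM.card sN.card := ⟨l, k, U⟩
  have hΦ : ∀ w, (Submodule.Quotient.mk (D.lin w) : (Fin b → B) ⧸ KN) = Φ w := by
    intro w
    have : KN.mkQ ∘ₗ D.lin = Φ := by
      refine LinearMap.pi_ext fun i x => ?_
      have hx : (Pi.single i x : Fin a → B) = x • Pi.single i 1 := by
        ext j
        by_cases hij : j = i
        · subst hij; simp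
        · simp [hij]
      rw [hx, map_smul, map_smul]
      congr 1
      show (Submodule.Quotient.mk (D.lin (Pi.single i 1)) : (Fin b → B) ⧸ KN) = _
      rw [Datum.lin_apply, ← hU i]
      congr 1
      rw [Finset.sum_eq_single i]
      · simp [D]
      · intro j _ hji
        simp [hji]
      · intro h
        exact absurd (Finset.mem_univ i) h
    exact congrArg (fun f => f w) this
  have hspanM : Submodule.span B (Set.range D.l) = KM := by
    show Submodule.span B (Set.range l) = KM
    rw [hl, hsM]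
  have hrelN : Submodule.span B (Set.range D.relN) = KN := by
    apply le_antisymm
    · rw [Submodule.span_le]
      rintro _ ⟨x, rfl⟩
      rcases x with j | j
      · show k j ∈ KN
        rw [← hsN]
        exact Submodule.subset_span (sN.equivFin.symm j).2
      · have h1 : D.relN (Sum.inr j) = D.lin (l j) := (D.lin_apply (l j)).symm
        rw [h1]
        show D.lin (l j) ∈ KN
        rw [← Submodule.Quotient.mk_eq_zero, hΦ]
        have h2 : KM.mkQ (l j) = 0 := by
          rw [Submodule.mkQ_apply, Submodule.Quotient.mk_eq_zero, ← hsM]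
          exact Submodule.subset_span (sM.equivFin.symm j).2
        show eN (u (eM.symm (KM.mkQ (l j)))) = 0
        rw [h2, map_zero, map_zero, map_zero]
    · rw [← hsN, ← hk]
      apply Submodule.span_mono
      rintro _ ⟨j, rfl⟩
      exact ⟨Sum.inl j, rfl⟩
  refine ⟨a, b, sM.card, sN.card, D, Submodule.quotEquivOfEq _ _ hspanM ≪≫ₗ eM.symm,
    Submodule.quotEquivOfEq _ _ hrelN ≪≫ₗ eN.symm, fun x => ?_⟩
  obtain ⟨w, rfl⟩ := Submodule.Quotient.mk_surjective _ x
  rw [Datum.u_mk]
  simp only [LinearEquiv.trans_apply, Submodule.quotEquivOfEq_mk]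
  rw [hΦ]
  show u (eM.symm (Submodule.Quotient.mk w)) = eN.symm (eN (u (eM.symm (KM.mkQ w))))
  rw [LinearEquiv.symm_apply_apply]
  rfl

end Present

end Groth.Agent.Lib.Helper7.ZeroME
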