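import Mathlib
import Groth.Agent.Lib.Helper7.ZeroMEDatum
import Groth.Agent.Lib.Helper21.FlatDescP

/-!
# Helper7 — ZeroMEModel: a Noetherian flat stage for a presented map

`S₀` a finitely presented `R`-algebra, `D₀` a datum over `S₀` with `N(D₀)` flat over `R`.  Then there
are a finite type `ℤ`-algebra `A' → R`, a finite type `A'`-algebra `S₂` with `S₀ = R ⊗_{A'} S₂`, and a
datum `D₂` over `S₂` mapping to `D₀` with `N(D₂)` flat over `A'`.
-/

set_option autoImplicit false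

namespace Groth.Agent.Lib.Helper7.ZeroME

open TensorProduct Function MvPolynomial
open Groth.Agent.Lib.Helper21.FlatDesc
open Groth.Agent.Lib.Helper29.FPModel

universe u

attribute [local instance] MvPolynomial.algebraMvPolynomial

section Lift

attribute [local instance] modelAlgebra

variable {R S₀ : Type u} [CommRing R] [CommRing S₀] [Algebra R S₀] {ι σ : Type}
  (P : Algebra.Presentation R S₀ ι σ)

/-- a finite family of elements of `S₀` lifts to the model over a finitely generated enlargement of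
the core. -/
theorem exists_lift_family {κ : Type} [Finite κ] (x : κ → S₀) :
    ∃ T : Set R, T.Finite ∧ ∃ y : κ → P.ModelOfHasCoeffs (Algebra.adjoin P.Core T),
      ∀ k, modelHom P (Algebra.adjoin P.Core T) (y k) = x k := by
  classical
  have hsurj : Function.Surjective (MvPolynomial.aeval (R := R) P.val) :=
    P.toGenerators.aeval_val_surjective
  choose p hp using fun k => hsurj (x k)
  let T : Set R := ⋃ k, ((p k).coeffs : Set R)
  have hT : T.Finite := Set.finite_iUnion fun k => Finset.finite_toSet _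
  have hTsub : ∀ k, ((p k).coeffs : Set R) ⊆
      Set.range (algebraMap (Algebra.adjoin P.Core T) R) := by
    intro k c hc
    have hcT : c ∈ T := Set.mem_iUnion.2 ⟨k, hc⟩
    exact ⟨⟨c, Algebra.subset_adjoin hcT⟩, rfl⟩
  choose p₀ hp₀ using fun k =>
    (MvPolynomial.mem_range_map_iff_coeffs_subset
      (f := algebraMap (Algebra.adjoin P.Core T) R)).2 (hTsub k)
  refine ⟨T, hT, fun k => Ideal.Quotient.mk _ (p₀ k), fun k => ?_⟩
  rw [modelHom_mk, ← MvPolynomial.aeval_map_algebraMap R, hp₀ k, hp k]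

end Lift

section StageOfModel

attribute [local instance] Algebra.TensorProduct.rightAlgebra

set_option maxHeartbeats 1600000 in
set_option synthInstance.maxHeartbeats 200000 in
/-- from a model over a finite type `ℤ`-algebra to a flat stage. -/
theorem exists_flat_stage_of_model {R S₀ : Type u} [CommRing R] [CommRing S₀] [Algebra R S₀]
    (R₁ : Type u) [CommRing R₁] [Algebra R₁ R] [Algebra R₁ S₀] [IsScalarTower R₁ R S₀]
    (S₁ : Type u) [CommRing S₁] [Algebra R₁ S₁] [Algebra S₁ S₀] [IsScalarTower R₁ S₁ S₀]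
    [Algebra.FiniteType ℤ R₁] [Algebra.FiniteType R₁ S₁] [Algebra.IsPushout R₁ R S₁ S₀]
    {a b c d : ℕ} (D₁ : Datum S₁ a b c d) (D₀ : Datum S₀ a b c d) (hD₁ : IsMap D₁ D₀)
    [Module.Flat R D₀.N] :
    ∃ (A' : Type u) (_ : CommRing A') (_ : Algebra A' R) (S₂ : Type u) (_ : CommRing S₂)
      (_ : Algebra A' S₂) (_ : Algebra S₂ S₀) (_ : Algebra A' S₀) (_ : IsScalarTower A' R S₀)
      (_ : IsScalarTower A' S₂ S₀) (D₂ : Datum S₂ a b c d),
      IsNoetherianRing S₂ ∧ Algebra.IsPushout A' R S₂ S₀ ∧ IsMap D₂ D₀ ∧ Module.Flat A' D₂.N := by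
  haveI hN1 : IsNoetherianRing R₁ := Algebra.FiniteType.isNoetherianRing ℤ R₁
  -- flatness over `R` of `R ⊗ N(D₁)`
  let e₁ : S₀ ⊗[S₁] D₁.N ≃ₗ[R] R ⊗[R₁] D₁.N := Algebra.IsPushout.cancelBaseChange R₁ R S₁ S₀ D₁.N
  let e₂ : S₀ ⊗[S₁] D₁.N ≃ₗ[S₀] D₀.N := hD₁.isBaseChange_qN.equiv
  haveI : Module.Flat R (R ⊗[R₁] D₁.N) :=
    Module.Flat.of_linearEquiv (e₁.symm ≪≫ₗ e₂.restrictScalars R)
  obtain ⟨A', hfg, hflat⟩ := exists_fg_flat_baseChange (R₁ := R₁) (S₁ := S₁) D₁.N R
  haveI : Algebra.FiniteType R₁ A' := (Subalgebra.fg_iff_finiteType A').1 hfg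
  haveI hA'ft : Algebra.FiniteType ℤ A' :=
    Algebra.FiniteType.trans ‹Algebra.FiniteType ℤ R₁› inferInstance
  -- the stage ring
  let φ : A' ⊗[R₁] S₁ →ₐ[R₁] S₀ :=
    Algebra.TensorProduct.lift (IsScalarTower.toAlgHom R₁ A' S₀) (IsScalarTower.toAlgHom R₁ S₁ S₀)
      (fun _ _ => Commute.all _ _)
  letI algSf : Algebra (A' ⊗[R₁] S₁) S₀ := φ.toRingHom.toAlgebra
  have hφ : ∀ z, algebraMap (A' ⊗[R₁] S₁) S₀ z = φ z := fun _ => rfl
  haveI tA : IsScalarTower A' (A' ⊗[R₁] S₁) S₀ :=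
    IsScalarTower.of_algebraMap_eq (R := A') (S := A' ⊗[R₁] S₁) (A := S₀) fun r => by
      rw [hφ, Algebra.TensorProduct.algebraMap_apply]
      simp [φ]
  haveI tS : IsScalarTower S₁ (A' ⊗[R₁] S₁) S₀ :=
    IsScalarTower.of_algebraMap_eq (R := S₁) (S := A' ⊗[R₁] S₁) (A := S₀) fun s => by
      rw [hφ]
      show algebraMap S₁ S₀ s = φ ((1 : A') ⊗ₜ s)
      simp [φ]
  haveI tR : IsScalarTower R₁ (A' ⊗[R₁] S₁) S₀ :=
    IsScalarTower.of_algebraMap_eq (R := R₁) (S := A' ⊗[R₁] S₁) (A := S₀) fun r => by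
      rw [hφ, AlgHom.commutes]
  haveI hpo : Algebra.IsPushout A' R (A' ⊗[R₁] S₁) S₀ :=
    (Algebra.IsPushout.comp_iff R₁ A' S₁ (A' ⊗[R₁] S₁) (T := R) (T' := S₀)).1 inferInstance
  -- the datum over the stage
  let D₂ : Datum (A' ⊗[R₁] S₁) a b c d := D₁.map _
  have hD₂ : IsMap D₂ D₀ := hD₁.of_map
  have h12 : IsMap D₁ D₂ := IsMap.isMap_map D₁
  haveI hflat₂ : Module.Flat A' D₂.N :=
    Module.Flat.of_linearEquiv
      ((h12.isBaseChange_qN.equiv.symm.restrictScalars A') ≪≫ₗ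
        Algebra.IsPushout.cancelBaseChange R₁ A' S₁ (A' ⊗[R₁] S₁) D₁.N)
  haveI hft₂ : Algebra.FiniteType ℤ (A' ⊗[R₁] S₁) :=
    Algebra.FiniteType.trans hA'ft inferInstance
  have hN₂ : IsNoetherianRing (A' ⊗[R₁] S₁) := Algebra.FiniteType.isNoetherianRing ℤ _
  exact ⟨A', inferInstance, inferInstance, A' ⊗[R₁] S₁, inferInstance,
    inferInstance, algSf, inferInstance, inferInstance, inferInstance, D₂, hN₂, hpo, hD₂, hflat₂⟩

end StageOfModel

section Stage

attribute [local instance] modelAlgebra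

set_option maxHeartbeats 1600000 in
set_option synthInstance.maxHeartbeats 200000 in
/-- **A Noetherian flat stage for a presented map.** -/
theorem exists_flat_stage (R : Type u) [CommRing R] (S₀ : Type u) [CommRing S₀] [Algebra R S₀]
    [Algebra.FinitePresentation R S₀] {a b c d : ℕ} (D₀ : Datum S₀ a b c d)
    [Module.Flat R D₀.N] :
    ∃ (A' : Type u) (_ : CommRing A') (_ : Algebra A' R) (S₂ : Type u) (_ : CommRing S₂)
      (_ : Algebra A' S₂) (_ : Algebra S₂ S₀) (_ : Algebra A' S₀) (_ : IsScalarTower A' R S₀)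
      (_ : IsScalarTower A' S₂ S₀) (D₂ : Datum S₂ a b c d),
      IsNoetherianRing S₂ ∧ Algebra.IsPushout A' R S₂ S₀ ∧ IsMap D₂ D₀ ∧ Module.Flat A' D₂.N := by
  classical
  let P := Algebra.Presentation.ofFinitePresentation R S₀
  -- lift the entries
  let x : (Fin c × Fin a) ⊕ ((Fin d × Fin b) ⊕ (Fin a × Fin b)) → S₀ :=
    Sum.elim (fun p => D₀.l p.1 p.2) (Sum.elim (fun p => D₀.k p.1 p.2) (fun p => D₀.U p.1 p.2))
  obtain ⟨T, hT, y, hy⟩ := exists_lift_family P x
  haveI h1 : Algebra.FiniteType ℤ P.Core := inferInstance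
  haveI h2 : Algebra.FiniteType P.Core (Algebra.adjoin P.Core T) :=
    Algebra.FiniteType.adjoin_of_finite hT
  haveI h3 : Algebra.FiniteType ℤ (Algebra.adjoin P.Core T) := Algebra.FiniteType.trans h1 h2
  haveI := model_isScalarTower P (Algebra.adjoin P.Core T)
  haveI := model_isPushout P (Algebra.adjoin P.Core T)
  let D₁ : Datum (P.ModelOfHasCoeffs (Algebra.adjoin P.Core T)) a b c d :=
    ⟨fun j i => y (Sum.inl (j, i)), fun j i => y (Sum.inr (Sum.inl (j, i))),
      fun i i' => y (Sum.inr (Sum.inr (i, i')))⟩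
  have hD₁ : IsMap D₁ D₀ :=
    ⟨fun j => funext fun i => hy (Sum.inl (j, i)),
      fun j => funext fun i => hy (Sum.inr (Sum.inl (j, i))),
      fun i => funext fun i' => hy (Sum.inr (Sum.inr (i, i')))⟩
  exact exists_flat_stage_of_model (Algebra.adjoin P.Core T)
    (P.ModelOfHasCoeffs (Algebra.adjoin P.Core T)) D₁ D₀ hD₁

end Stage

end Groth.Agent.Lib.Helper7.ZeroME
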