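import Mathlib
import Groth.Agent.Lib.Helper21.FlatDescV
import Groth.Agent.Lib.Helper2.FlatCrit

/-!
# Helper7 — ZeroMEFibre: faithful flatness of the map of closed fibre rings for a localized pushout,
and descent of membership in `m M` along it.

Setting: `A' → R` a ring map, `m` a maximal ideal of `R`, `p' = m ∩ A'`; `C₂` an `A'`-algebra,
`C' = R ⊗_{A'} C₂` (pushout), `S` a flat `C'`-algebra.  Then `C₂ / p' C₂ → S / m S` is flat; if `C₂`, `S`
are local and `C₂ → S` is local, it is faithfully flat, and for a `C₂`-module `M₂` with base change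
`M = S ⊗ M₂`, an element of `M₂` whose image lies in `m M` lies in `p' M₂`.
-/

set_option autoImplicit false

namespace Groth.Agent.Lib.Helper7.ZeroME

open TensorProduct Function IsLocalRing
open Groth.Agent.Lib.Helper21.FlatDesc

universe u

section FibreFlat

variable {A' R C₂ C' : Type u} [CommRing A'] [CommRing R] [CommRing C₂] [CommRing C']
  [Algebra A' R] [Algebra A' C₂] [Algebra R C'] [Algebra C₂ C'] [Algebra A' C']
  [IsScalarTower A' R C'] [IsScalarTower A' C₂ C']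
  (m : Ideal R)

/-- a field containing a domain is flat over it. -/
theorem flat_field_of_injective (B K : Type u) [CommRing B] [IsDomain B] [Field K] [Algebra B K]
    (h : Injective (algebraMap B K)) : Module.Flat B K := by
  haveI : FaithfulSMul B K := (faithfulSMul_iff_algebraMap_injective B K).2 h
  letI := FractionRing.liftAlgebra B K
  haveI := FractionRing.isScalarTower_liftAlgebra B K
  haveI : Module.Flat B (FractionRing B) := IsLocalization.flat (FractionRing B) (nonZeroDivisors B)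
  exact Module.Flat.trans B (FractionRing B) K

/-- **The map of closed fibre rings induced by a pushout is flat** (`m₂ = m ∩ A'` with `m` maximal): it
is a base change of `A'/m₂ → R/m`, a domain inside a field. -/
theorem flat_fibre_of_isPushout [Algebra.IsPushout A' R C₂ C'] [m.IsMaximal] :
    letI := fibreAlgebra (C₂ := C₂) (C := C') (m.comap (algebraMap A' R)) m le_rfl
    Module.Flat (C₂ ⧸ (m.comap (algebraMap A' R)).map (algebraMap A' C₂))
      (C' ⧸ m.map (algebraMap R C')) := by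
  set m₂ : Ideal A' := m.comap (algebraMap A' R) with hm₂
  have hle : m₂ ≤ m.comap (algebraMap A' R) := le_rfl
  letI aF := fibreAlgebra (C₂ := C₂) (C := C') m₂ m hle
  letI : Field (R ⧸ m) := Ideal.Quotient.field m
  haveI : m₂.IsPrime := Ideal.comap_isPrime _ _
  letI aκ : Algebra (A' ⧸ m₂) (R ⧸ m) := (Ideal.quotientMap m (algebraMap A' R) hle).toAlgebra
  haveI : IsScalarTower A' (A' ⧸ m₂) (R ⧸ m) := IsScalarTower.of_algebraMap_eq fun x => rfl
  haveI : Module.Flat (A' ⧸ m₂) (R ⧸ m) := by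
    apply flat_field_of_injective
    exact Ideal.quotientMap_injective' (le_of_eq rfl)
  haveI tF : IsScalarTower C₂ (C₂ ⧸ m₂.map (algebraMap A' C₂)) (C' ⧸ m.map (algebraMap R C')) :=
    IsScalarTower.of_algebraMap_eq fun x => rfl
  letI aκF : Algebra (A' ⧸ m₂) (C' ⧸ m.map (algebraMap R C')) :=
    ((algebraMap (R ⧸ m) (C' ⧸ m.map (algebraMap R C'))).comp (algebraMap (A' ⧸ m₂) (R ⧸ m))).toAlgebra
  haveI : IsScalarTower (A' ⧸ m₂) (R ⧸ m) (C' ⧸ m.map (algebraMap R C')) :=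
    IsScalarTower.of_algebraMap_eq fun x => rfl
  haveI : IsScalarTower (A' ⧸ m₂) (C₂ ⧸ m₂.map (algebraMap A' C₂)) (C' ⧸ m.map (algebraMap R C')) :=
    IsScalarTower.of_algebraMap_eq fun x => by
      obtain ⟨r, rfl⟩ := Ideal.Quotient.mk_surjective x
      show Ideal.Quotient.mk _ (algebraMap R C' (algebraMap A' R r)) =
        Ideal.Quotient.mk _ (algebraMap C₂ C' (algebraMap A' C₂ r))
      rw [← IsScalarTower.algebraMap_apply, ← IsScalarTower.algebraMap_apply]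
  haveI : IsScalarTower A' (R ⧸ m) (C' ⧸ m.map (algebraMap R C')) :=
    IsScalarTower.of_algebraMap_eq fun x => by
      show Ideal.Quotient.mk _ (algebraMap A' C' x) =
        Ideal.Quotient.mk _ (algebraMap R C' (algebraMap A' R x))
      rw [← IsScalarTower.algebraMap_apply]
  haveI : IsScalarTower A' C₂ (C' ⧸ m.map (algebraMap R C')) :=
    IsScalarTower.of_algebraMap_eq fun x => by
      show Ideal.Quotient.mk _ (algebraMap A' C' x) =
        Ideal.Quotient.mk _ (algebraMap C₂ C' (algebraMap A' C₂ x))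
      rw [← IsScalarTower.algebraMap_apply]
  haveI : IsScalarTower A' (C₂ ⧸ m₂.map (algebraMap A' C₂)) (C' ⧸ m.map (algebraMap R C')) :=
    IsScalarTower.of_algebraMap_eq fun x => by
      show Ideal.Quotient.mk _ (algebraMap A' C' x) =
        Ideal.Quotient.mk _ (algebraMap C₂ C' (algebraMap A' C₂ x))
      rw [← IsScalarTower.algebraMap_apply]
  have P1 : Algebra.IsPushout A' (A' ⧸ m₂) C₂ (C₂ ⧸ m₂.map (algebraMap A' C₂)) :=
    isPushout_quotient C₂ m₂
  have P2 : Algebra.IsPushout R (R ⧸ m) C' (C' ⧸ m.map (algebraMap R C')) := isPushout_quotient C' m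
  have P3 : Algebra.IsPushout A' (R ⧸ m) C₂ (C' ⧸ m.map (algebraMap R C')) :=
    (Algebra.IsPushout.comp_iff A' R C₂ C' (T := R ⧸ m) (T' := C' ⧸ m.map (algebraMap R C'))).2 P2
  have P4 : Algebra.IsPushout (A' ⧸ m₂) (R ⧸ m) (C₂ ⧸ m₂.map (algebraMap A' C₂))
      (C' ⧸ m.map (algebraMap R C')) :=
    (Algebra.IsPushout.comp_iff A' (A' ⧸ m₂) C₂ (C₂ ⧸ m₂.map (algebraMap A' C₂)) (T := R ⧸ m)
      (T' := C' ⧸ m.map (algebraMap R C'))).1 P3
  have P5 := P4.symm
  have hbc := P5.out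
  exact Module.Flat.of_linearEquiv hbc.equiv.symm

end FibreFlat

section Local

variable {A' R C₂ C' S : Type u} [CommRing A'] [CommRing R] [CommRing C₂] [CommRing C'] [CommRing S]
  [Algebra A' R] [Algebra A' C₂] [Algebra R C'] [Algebra C₂ C'] [Algebra A' C']
  [IsScalarTower A' R C'] [IsScalarTower A' C₂ C'] [Algebra.IsPushout A' R C₂ C']
  [Algebra C' S] [Module.Flat C' S] [Algebra C₂ S] [IsScalarTower C₂ C' S]
  (m : Ideal R) [m.IsMaximal]

/-- the composite map of fibre rings `C₂ / m₂ C₂ → C' / m C' → S / m S`. -/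
noncomputable def fibreMapS :
    (C₂ ⧸ (m.comap (algebraMap A' R)).map (algebraMap A' C₂)) →+*
      (S ⧸ (m.map (algebraMap R C')).map (algebraMap C' S)) :=
  (algebraMap (C' ⧸ m.map (algebraMap R C')) (S ⧸ (m.map (algebraMap R C')).map (algebraMap C' S))).comp
    (fibreMap (C₂ := C₂) (C := C') (m.comap (algebraMap A' R)) m le_rfl)

theorem fibreMapS_mk (c : C₂) :
    fibreMapS (A' := A') (R := R) (C₂ := C₂) (C' := C') (S := S) m (Ideal.Quotient.mk _ c) =
      Ideal.Quotient.mk _ (algebraMap C₂ S c) := by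
  show Ideal.Quotient.mk _ (algebraMap C' S (algebraMap C₂ C' c)) = _
  rw [← IsScalarTower.algebraMap_apply]

/-- `S / m S` is flat over `C₂ / m₂ C₂`. -/
theorem flat_fibreMapS :
    letI := (fibreMapS (A' := A') (R := R) (C₂ := C₂) (C' := C') (S := S) m).toAlgebra
    Module.Flat (C₂ ⧸ (m.comap (algebraMap A' R)).map (algebraMap A' C₂))
      (S ⧸ (m.map (algebraMap R C')).map (algebraMap C' S)) := by
  letI a1 := fibreAlgebra (C₂ := C₂) (C := C') (m.comap (algebraMap A' R)) m le_rfl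
  letI a2 := (fibreMapS (A' := A') (R := R) (C₂ := C₂) (C' := C') (S := S) m).toAlgebra
  haveI : IsScalarTower (C₂ ⧸ (m.comap (algebraMap A' R)).map (algebraMap A' C₂))
      (C' ⧸ m.map (algebraMap R C')) (S ⧸ (m.map (algebraMap R C')).map (algebraMap C' S)) :=
    IsScalarTower.of_algebraMap_eq fun x => rfl
  haveI h1 : Module.Flat (C₂ ⧸ (m.comap (algebraMap A' R)).map (algebraMap A' C₂))
      (C' ⧸ m.map (algebraMap R C')) := flat_fibre_of_isPushout (A' := A') (C₂ := C₂) (C' := C') m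
  haveI hpo : Algebra.IsPushout C' (C' ⧸ m.map (algebraMap R C')) S
      (S ⧸ (m.map (algebraMap R C')).map (algebraMap C' S)) :=
    isPushout_quotient S (m.map (algebraMap R C'))
  haveI h2 : Module.Flat (C' ⧸ m.map (algebraMap R C'))
      (S ⧸ (m.map (algebraMap R C')).map (algebraMap C' S)) :=
    Module.Flat.of_linearEquiv (Algebra.IsPushout.equiv C' (C' ⧸ m.map (algebraMap R C')) S
      (S ⧸ (m.map (algebraMap R C')).map (algebraMap C' S))).symm.toLinearEquiv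
  exact Module.Flat.trans _ (C' ⧸ m.map (algebraMap R C')) _

set_option maxHeartbeats 800000 in
set_option synthInstance.maxHeartbeats 100000 in
/-- **Descent of membership in `m M`** along the faithfully flat map of closed fibre rings. -/
theorem mem_smul_top_of_map_mem [IsLocalRing C₂] [IsLocalRing S] [IsLocalHom (algebraMap C₂ S)]
    (hI₂ : (m.comap (algebraMap A' R)).map (algebraMap A' C₂) ≤ maximalIdeal C₂)
    (hIS : (m.map (algebraMap R C')).map (algebraMap C' S) ≤ maximalIdeal S)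
    {M₂ M : Type u} [AddCommGroup M₂] [Module C₂ M₂] [AddCommGroup M] [Module S M] [Module C₂ M]
    [IsScalarTower C₂ S M] (f : M₂ →ₗ[C₂] M) (hf : IsBaseChange S f) (x : M₂)
    (hx : f x ∈ (m.map (algebraMap R C')).map (algebraMap C' S) • (⊤ : Submodule S M)) :
    x ∈ (m.comap (algebraMap A' R)).map (algebraMap A' C₂) • (⊤ : Submodule C₂ M₂) := by
  set I₂ : Ideal C₂ := (m.comap (algebraMap A' R)).map (algebraMap A' C₂) with hI₂def
  set IS : Ideal S := (m.map (algebraMap R C')).map (algebraMap C' S) with hISdef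
  letI aD : Algebra (C₂ ⧸ I₂) (S ⧸ IS) :=
    (fibreMapS (A' := A') (R := R) (C₂ := C₂) (C' := C') (S := S) m).toAlgebra
  have hmk : ∀ c : C₂, algebraMap (C₂ ⧸ I₂) (S ⧸ IS) (Ideal.Quotient.mk I₂ c) =
      Ideal.Quotient.mk IS (algebraMap C₂ S c) := fun c => fibreMapS_mk m c
  haveI tD : IsScalarTower C₂ (C₂ ⧸ I₂) (S ⧸ IS) := IsScalarTower.of_algebraMap_eq fun c => by
    rw [Ideal.Quotient.algebraMap_eq, hmk]
    rfl
  haveI : Nontrivial (C₂ ⧸ I₂) :=
    Ideal.Quotient.nontrivial_iff.2 (fun h => (IsLocalRing.maximalIdeal.isMaximal C₂).ne_top (top_le_iff.1 (h ▸ hI₂)))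
  haveI : Nontrivial (S ⧸ IS) :=
    Ideal.Quotient.nontrivial_iff.2 (fun h => (IsLocalRing.maximalIdeal.isMaximal S).ne_top (top_le_iff.1 (h ▸ hIS)))
  haveI : IsLocalRing (C₂ ⧸ I₂) :=
    IsLocalRing.of_surjective' (Ideal.Quotient.mk I₂) Ideal.Quotient.mk_surjective
  haveI : IsLocalRing (S ⧸ IS) :=
    IsLocalRing.of_surjective' (Ideal.Quotient.mk IS) Ideal.Quotient.mk_surjective
  haveI : IsLocalHom (algebraMap (C₂ ⧸ I₂) (S ⧸ IS)) := by
    constructor
    intro a ha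
    obtain ⟨c, rfl⟩ := Ideal.Quotient.mk_surjective a
    rw [hmk] at ha
    obtain ⟨t', ht⟩ := ha.exists_right_inv
    obtain ⟨t, rfl⟩ := Ideal.Quotient.mk_surjective t'
    have h1 : algebraMap C₂ S c * t - 1 ∈ IS := by
      rw [← Ideal.Quotient.eq, map_mul, ht, map_one]
    have hs : IsUnit (algebraMap C₂ S c) := by
      by_contra hs
      have h2 : algebraMap C₂ S c ∈ maximalIdeal S := (IsLocalRing.mem_maximalIdeal _).2 hs
      have h3 : algebraMap C₂ S c * t ∈ maximalIdeal S := Ideal.mul_mem_right _ _ h2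
      have h4 : (1 : S) ∈ maximalIdeal S := by
        have := (maximalIdeal S).sub_mem h3 (hIS h1)
        simpa using this
      exact (IsLocalRing.maximalIdeal.isMaximal S).ne_top ((Ideal.eq_top_iff_one _).2 h4)
    exact (isUnit_of_map_unit (algebraMap C₂ S) c hs).map _
  haveI : Module.Flat (C₂ ⧸ I₂) (S ⧸ IS) :=
    flat_fibreMapS (A' := A') (R := R) (C₂ := C₂) (C' := C') (S := S) m
  haveI : Module.FaithfullyFlat (C₂ ⧸ I₂) (S ⧸ IS) := Module.FaithfullyFlat.of_flat_of_isLocalHom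
  -- the chain of identifications
  let e₁ : (S ⧸ IS) ⊗[C₂ ⧸ I₂] ((C₂ ⧸ I₂) ⊗[C₂] M₂) ≃ₗ[S ⧸ IS] (S ⧸ IS) ⊗[C₂] M₂ :=
    AlgebraTensorModule.cancelBaseChange C₂ (C₂ ⧸ I₂) (S ⧸ IS) (S ⧸ IS) M₂
  let e₂ : (S ⧸ IS) ⊗[S] (S ⊗[C₂] M₂) ≃ₗ[S ⧸ IS] (S ⧸ IS) ⊗[C₂] M₂ :=
    AlgebraTensorModule.cancelBaseChange C₂ S (S ⧸ IS) (S ⧸ IS) M₂
  let e₃ : (S ⧸ IS) ⊗[S] (S ⊗[C₂] M₂) ≃ₗ[S ⧸ IS] (S ⧸ IS) ⊗[S] M :=
    AlgebraTensorModule.congr (LinearEquiv.refl _ _) hf.equiv
  have hchain : e₃ (e₂.symm (e₁ ((1 : S ⧸ IS) ⊗ₜ[C₂ ⧸ I₂] ((1 : C₂ ⧸ I₂) ⊗ₜ[C₂] x)))) =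
      (1 : S ⧸ IS) ⊗ₜ[S] f x := by
    have h1 : e₁ ((1 : S ⧸ IS) ⊗ₜ[C₂ ⧸ I₂] ((1 : C₂ ⧸ I₂) ⊗ₜ[C₂] x)) =
        (1 : S ⧸ IS) ⊗ₜ[C₂] x := by
      simp [e₁]
    have h2 : e₂ ((1 : S ⧸ IS) ⊗ₜ[S] ((1 : S) ⊗ₜ[C₂] x)) = (1 : S ⧸ IS) ⊗ₜ[C₂] x := by
      simp [e₂]
    rw [h1, ← h2, LinearEquiv.symm_apply_apply]
    simp [e₃, IsBaseChange.equiv_tmul]
  have h0 : (1 : S ⧸ IS) ⊗ₜ[S] f x = 0 :=
    (Groth.Agent.Lib.Helper2.FlatCrit.one_tmul_eq_zero_iff IS (f x)).2 hx
  rw [← hchain] at h0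
  have h5 : (1 : S ⧸ IS) ⊗ₜ[C₂ ⧸ I₂] ((1 : C₂ ⧸ I₂) ⊗ₜ[C₂] x) = 0 := by
    have := e₃.injective (h0.trans (map_zero e₃).symm)
    have := e₂.symm.injective (this.trans (map_zero e₂.symm).symm)
    exact e₁.injective (this.trans (map_zero e₁).symm)
  have h6 : ((1 : C₂ ⧸ I₂) ⊗ₜ[C₂] x : (C₂ ⧸ I₂) ⊗[C₂] M₂) = 0 := by
    apply Module.FaithfullyFlat.tensorProduct_mk_injective (A := C₂ ⧸ I₂) (B := S ⧸ IS)
      ((C₂ ⧸ I₂) ⊗[C₂] M₂)
    rw [map_zero]
    exact h5
  exact (Groth.Agent.Lib.Helper2.FlatCrit.one_tmul_eq_zero_iff I₂ x).1 h6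

end Local

end Groth.Agent.Lib.Helper7.ZeroME
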