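import Mathlib
import Groth.Agent.Lib.Helper7.ZeroMEFibre
import Groth.Agent.Lib.Helper21.FlatDescW
import Groth.Agent.Lib.Helper21.FlatDescA
import Groth.Agent.Lib.Helper21.FlatLocal6
import Groth.Agent.Lib.Helper7.FPKer

/-!
# Helper7 — ZeroMEStage: the local descent step for the non-Noetherian form of Stacks 00ME

`A' → R` with `R` local; `C₂` a Noetherian local `A'`-algebra, `C' = R ⊗_{A'} C₂`, `S` a local ring
which is a localization of `C'`, with `R → S` and `C₂ → S` local.  Given a map `u₂ : M₂ → N₂` of
`C₂`-modules (`M₂` finite, `N₂` flat over `A'`) whose base change to `S` is `u : M → N`, if `u` is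
injective modulo `m_R` then `u` is injective with `R`-flat cokernel.
-/

set_option autoImplicit false

namespace Groth.Agent.Lib.Helper7.ZeroME

open TensorProduct Function IsLocalRing
open Groth.Agent.Lib.Helper21.FlatDesc
open Groth.Agent.Lib.Helper2.FlatCrit

universe u

section Stage

/-- the two composites `A' → S` agree. -/
theorem algebraMap_comm {A' R C₂ : Type u} (C' : Type u) {S : Type u} [CommRing A'] [CommRing R]
    [CommRing C₂] [CommRing C'] [CommRing S]
    [Algebra A' R] [Algebra A' C₂] [Algebra R C'] [Algebra C₂ C'] [Algebra A' C']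
    [IsScalarTower A' R C'] [IsScalarTower A' C₂ C']
    [Algebra C' S] [Algebra C₂ S] [IsScalarTower C₂ C' S] [Algebra R S] [IsScalarTower R C' S]
    (a : A') :
    algebraMap C₂ S (algebraMap A' C₂ a) = algebraMap R S (algebraMap A' R a) := by
  rw [IsScalarTower.algebraMap_apply C₂ C' S, ← IsScalarTower.algebraMap_apply A' C₂ C',
    IsScalarTower.algebraMap_apply A' R C', ← IsScalarTower.algebraMap_apply R C' S]

theorem isUnit_algebraMap_of_notMem {A' R C₂ : Type u} (C' S : Type u) [CommRing A'] [CommRing R]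
    [CommRing C₂] [CommRing C'] [CommRing S] [IsLocalRing R] [IsLocalRing C₂] [IsLocalRing S]
    [Algebra A' R] [Algebra A' C₂] [Algebra R C'] [Algebra C₂ C'] [Algebra A' C']
    [IsScalarTower A' R C'] [IsScalarTower A' C₂ C']
    [Algebra C' S] [Algebra C₂ S] [IsScalarTower C₂ C' S] [Algebra R S] [IsScalarTower R C' S]
    [IsLocalHom (algebraMap C₂ S)]
    (y : ((maximalIdeal R).comap (algebraMap A' R)).primeCompl) :
    IsUnit (algebraMap A' C₂ y) := by
  have h : (y : A') ∉ (maximalIdeal R).comap (algebraMap A' R) := y.2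
  rw [Ideal.mem_comap, IsLocalRing.mem_maximalIdeal, mem_nonunits_iff, not_not] at h
  apply isUnit_of_map_unit (algebraMap C₂ S)
  rw [algebraMap_comm (A' := A') (R := R) (C₂ := C₂) C' (S := S)]
  exact h.map _

set_option maxHeartbeats 1600000 in
set_option synthInstance.maxHeartbeats 200000 in
/-- **The Noetherian stage**: `u₂` is injective and its cokernel is flat over `A'`. -/
theorem stage_injective_and_flat {A' R C₂ C' S : Type u} [CommRing A'] [CommRing R] [CommRing C₂]
    [CommRing C'] [CommRing S]
    [IsLocalRing R] [IsLocalRing C₂] [IsNoetherianRing C₂] [IsLocalRing S]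
    [Algebra A' R] [Algebra A' C₂] [Algebra R C'] [Algebra C₂ C'] [Algebra A' C']
    [IsScalarTower A' R C'] [IsScalarTower A' C₂ C'] [Algebra.IsPushout A' R C₂ C']
    [Algebra C' S] [Algebra C₂ S] [IsScalarTower C₂ C' S] [Algebra R S] [IsScalarTower R C' S]
    [Module.Flat C' S] [IsLocalHom (algebraMap R S)] [IsLocalHom (algebraMap C₂ S)]
    {M₂ N₂ : Type u} [AddCommGroup M₂] [Module C₂ M₂] [Module.Finite C₂ M₂]
    [AddCommGroup N₂] [Module C₂ N₂] [Module A' N₂] [IsScalarTower A' C₂ N₂] [Module.Flat A' N₂]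
    (u₂ : M₂ →ₗ[C₂] N₂)
    {M N : Type u} [AddCommGroup M] [Module S M] [Module C₂ M] [IsScalarTower C₂ S M]
    [AddCommGroup N] [Module S N] [Module C₂ N] [IsScalarTower C₂ S N]
    (fM : M₂ →ₗ[C₂] M) (hM : IsBaseChange S fM) (fN : N₂ →ₗ[C₂] N)
    (u : M →ₗ[S] N) (hcomm : ∀ x, u (fM x) = fN (u₂ x))
    (hu : ∀ x : M, u x ∈ (maximalIdeal R).map (algebraMap R S) • (⊤ : Submodule S N) →
      x ∈ (maximalIdeal R).map (algebraMap R S) • (⊤ : Submodule S M)) :
    Injective u₂ ∧ Module.Flat A' (N₂ ⧸ LinearMap.range u₂) := by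
  set p' : Ideal A' := (maximalIdeal R).comap (algebraMap A' R) with hp'
  haveI : p'.IsPrime := Ideal.comap_isPrime _ _
  -- the local stage ring
  let φ : Localization.AtPrime p' →+* C₂ :=
    IsLocalization.lift (M := p'.primeCompl) (g := algebraMap A' C₂)
      (isUnit_algebraMap_of_notMem C' S)
  letI aA₂ : Algebra (Localization.AtPrime p') C₂ := φ.toAlgebra
  haveI t0 : IsScalarTower A' (Localization.AtPrime p') C₂ :=
    IsScalarTower.of_algebraMap_eq fun a => by
      show _ = φ (algebraMap A' _ a)
      rw [IsLocalization.lift_eq]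
  letI mM₂ : Module (Localization.AtPrime p') M₂ := Module.compHom M₂ φ
  haveI t1 : IsScalarTower (Localization.AtPrime p') C₂ M₂ :=
    IsScalarTower.of_algebraMap_smul fun _ _ => rfl
  letI mN₂ : Module (Localization.AtPrime p') N₂ := Module.compHom N₂ φ
  haveI t2 : IsScalarTower (Localization.AtPrime p') C₂ N₂ :=
    IsScalarTower.of_algebraMap_smul fun _ _ => rfl
  haveI t3 : IsScalarTower A' (Localization.AtPrime p') N₂ :=
    IsScalarTower.of_algebraMap_smul fun a n => by
      show φ (algebraMap A' _ a) • n = a • n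
      rw [IsLocalization.lift_eq, algebraMap_smul]
  haveI hfl : Module.Flat (Localization.AtPrime p') N₂ :=
    (Module.flat_iff_of_isLocalization (Localization.AtPrime p') p'.primeCompl N₂).2 inferInstance
  -- ideals
  have hmax : maximalIdeal (Localization.AtPrime p') = p'.map (algebraMap A' _) :=
    Localization.AtPrime.map_eq_maximalIdeal.symm
  have hI₂ : (maximalIdeal (Localization.AtPrime p')).map (algebraMap (Localization.AtPrime p') C₂) =
      p'.map (algebraMap A' C₂) := by
    rw [hmax, Ideal.map_map, ← IsScalarTower.algebraMap_eq]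
  have hIS : (maximalIdeal R).map (algebraMap R S) =
      ((maximalIdeal R).map (algebraMap R C')).map (algebraMap C' S) := by
    rw [Ideal.map_map, ← IsScalarTower.algebraMap_eq]
  have hISle : (maximalIdeal R).map (algebraMap R S) ≤ maximalIdeal S := by
    rw [Ideal.map_le_iff_le_comap]
    intro r hr
    rw [Ideal.mem_comap]
    exact (IsLocalRing.mem_maximalIdeal _).2 (fun h => (IsLocalRing.mem_maximalIdeal _).1 hr
      (isUnit_of_map_unit (algebraMap R S) r h))
  have hI₂S : (p'.map (algebraMap A' C₂)).map (algebraMap C₂ S) ≤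
      (maximalIdeal R).map (algebraMap R S) := by
    rw [Ideal.map_map, Ideal.map_le_iff_le_comap]
    intro a ha
    rw [Ideal.mem_comap, RingHom.comp_apply, algebraMap_comm (A' := A') (R := R) (C₂ := C₂) C' (S := S)]
    exact Ideal.mem_map_of_mem _ ha
  have hI₂le : p'.map (algebraMap A' C₂) ≤ maximalIdeal C₂ := by
    intro c hc
    have h1 : algebraMap C₂ S c ∈ maximalIdeal S := hISle (hI₂S (Ideal.mem_map_of_mem _ hc))
    exact (IsLocalRing.mem_maximalIdeal _).2 (fun h => (IsLocalRing.mem_maximalIdeal _).1 h1 (h.map _))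
  -- the fibre hypothesis at the stage
  have hfib : ∀ ν : M₂, u₂ ν ∈ p'.map (algebraMap A' C₂) • (⊤ : Submodule C₂ N₂) →
      ν ∈ p'.map (algebraMap A' C₂) • (⊤ : Submodule C₂ M₂) := by
    intro ν hν
    have h1 : fN (u₂ ν) ∈ p'.map (algebraMap A' C₂) • (⊤ : Submodule C₂ N) := by
      refine Submodule.smul_induction_on hν (fun r hr n _ => ?_) (fun a b ha hb => ?_)
      · rw [map_smul]
        exact Submodule.smul_mem_smul hr Submodule.mem_top
      · rw [map_add]
        exact add_mem ha hb
    have h2 : fN (u₂ ν) ∈ (maximalIdeal R).map (algebraMap R S) • (⊤ : Submodule S N) :=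
      Submodule.smul_mono_left hI₂S (mem_map_smul_top_of_mem_smul_top (S := S) _ h1)
    rw [← hcomm] at h2
    have h3 := hu _ h2
    rw [hIS] at h3
    exact mem_smul_top_of_map_mem (A' := A') (R := R) (C₂ := C₂) (C' := C') (S := S) (maximalIdeal R)
      hI₂le (hIS ▸ hISle) fM hM ν h3
  -- Helper2's 00ME
  have hJ : (maximalIdeal (Localization.AtPrime p')).map (algebraMap (Localization.AtPrime p') C₂) ≤
      Ideal.jacobson ⊥ := by
    rw [IsLocalRing.jacobson_eq_maximalIdeal ⊥ bot_ne_top, hI₂]
    exact hI₂le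
  have hinj : Injective ((u₂.restrictScalars (Localization.AtPrime p')).lTensor
      (Localization.AtPrime p' ⧸ maximalIdeal (Localization.AtPrime p'))) := by
    rw [injective_iff_map_eq_zero]
    intro z hz
    obtain ⟨ν, rfl⟩ := exists_eq_one_tmul (maximalIdeal (Localization.AtPrime p')) z
    rw [LinearMap.lTensor_tmul, one_tmul_eq_zero_iff] at hz
    rw [one_tmul_eq_zero_iff]
    have h1 : u₂ ν ∈ p'.map (algebraMap A' C₂) • (⊤ : Submodule C₂ N₂) := by
      rw [← hI₂]
      exact mem_map_smul_top_of_mem_smul_top (S := C₂) _ hz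
    have h2 := hfib ν h1
    rw [← hI₂] at h2
    exact mem_smul_top_of_mem_map_smul_top _ h2
  have key := injective_and_flat_coker (R := Localization.AtPrime p') (S := C₂)
    (maximalIdeal (Localization.AtPrime p')) (M := N₂) (N := M₂) hJ
    (u₂.restrictScalars (Localization.AtPrime p')) hinj
  refine ⟨key.1, ?_⟩
  -- flatness of the `C₂`-quotient
  have key2 := lTensor_quotient_injective (S := C₂) (maximalIdeal (Localization.AtPrime p')) hJ
    (u₂.restrictScalars (Localization.AtPrime p')) hinj
  haveI : Module.Flat (Localization.AtPrime p') (N₂ ⧸ LinearMap.range u₂) :=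
    flat_coker (u₂.restrictScalars (Localization.AtPrime p'))
      ((LinearMap.range u₂).mkQ.restrictScalars (Localization.AtPrime p'))
      (LinearMap.exact_map_mkQ_range u₂) (Submodule.mkQ_surjective _)
      (fun I _ => (LinearMap.lTensor_inj_iff_rTensor_inj _ _).mp (key2 I))
  exact Module.Flat.trans A' (Localization.AtPrime p') _

end Stage

section Transfer

/-- naturality of `AlgebraTensorModule.cancelBaseChange` in the module variable. -/
theorem cancelBaseChange_natural {C₂ C' S : Type u} [CommRing C₂] [CommRing C'] [CommRing S]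
    [Algebra C₂ C'] [Algebra C' S] [Algebra C₂ S] [IsScalarTower C₂ C' S]
    {X Y : Type u} [AddCommGroup X] [Module C₂ X] [AddCommGroup Y] [Module C₂ Y]
    (g : X →ₗ[C₂] Y) (z : S ⊗[C'] (C' ⊗[C₂] X)) :
    AlgebraTensorModule.cancelBaseChange C₂ C' S S Y ((g.baseChange C').lTensor S z) =
      g.baseChange S (AlgebraTensorModule.cancelBaseChange C₂ C' S S X z) := by
  induction z with
  | zero => simp
  | add a b ha hb => rw [map_add, map_add, ha, hb, map_add, map_add]
  | tmul s y =>
    induction y with
    | zero => simp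
    | add a b ha hb =>
      rw [tmul_add, map_add, map_add, ha, hb, map_add, map_add]
    | tmul c x =>
      rw [LinearMap.lTensor_tmul, LinearMap.baseChange_tmul,
        AlgebraTensorModule.cancelBaseChange_tmul, AlgebraTensorModule.cancelBaseChange_tmul,
        LinearMap.baseChange_tmul]

end Transfer

end Groth.Agent.Lib.Helper7.ZeroME
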