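import Mathlib
import Groth.Agent.Lib.Helper7.ZeroMEStage

/-!
# Helper7 — ZeroMEStep: the local descent step for the non-Noetherian form of Stacks 00ME

`A' → R` with `R` local; `C₂` a Noetherian local `A'`-algebra, `C' = R ⊗_{A'} C₂`, `S` a local ring
which is a localization of `C'`, with `R → S` and `C₂ → S` local.  Given a map `u₂ : M₂ → N₂` of
`C₂`-modules (`M₂` finite, `N₂` flat over `A'`) whose base change to `S` is `u : M → N`, if `u` is
injective modulo `m_R` then `u` is injective with `R`-flat cokernel.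
-/

set_option autoImplicit false

namespace Groth.Agent.Lib.Helper7.ZeroME

open TensorProduct Function IsLocalRing
open Groth.Agent.Lib.Helper21.FlatDesc
open Groth.Agent.Lib.Helper2.FlatCrit

universe u

section Step

set_option maxHeartbeats 1600000 in
set_option synthInstance.maxHeartbeats 200000 in
/-- **transfer of injectivity and flatness of the cokernel from the stage to `S`.** -/
theorem transfer {A' R C₂ C' S : Type u} [CommRing A'] [CommRing R] [CommRing C₂]
    [CommRing C'] [CommRing S]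
    [Algebra A' R] [Algebra A' C₂] [Algebra R C'] [Algebra C₂ C'] [Algebra A' C']
    [IsScalarTower A' R C'] [IsScalarTower A' C₂ C'] [Algebra.IsPushout A' R C₂ C']
    [Algebra C' S] [Algebra C₂ S] [IsScalarTower C₂ C' S] [Algebra R S] [IsScalarTower R C' S]
    (T : Submonoid C') [IsLocalization T S]
    {M₂ N₂ : Type u} [AddCommGroup M₂] [Module C₂ M₂] [Module A' M₂] [IsScalarTower A' C₂ M₂]
    [AddCommGroup N₂] [Module C₂ N₂] [Module A' N₂] [IsScalarTower A' C₂ N₂]
    (u₂ : M₂ →ₗ[C₂] N₂) (hinj₂ : Injective u₂) [Module.Flat A' (N₂ ⧸ LinearMap.range u₂)]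
    {M N : Type u} [AddCommGroup M] [Module S M] [Module C₂ M] [IsScalarTower C₂ S M]
    [AddCommGroup N] [Module S N] [Module C₂ N] [IsScalarTower C₂ S N] [Module R N]
    [IsScalarTower R S N]
    (fM : M₂ →ₗ[C₂] M) (hM : IsBaseChange S fM) (fN : N₂ →ₗ[C₂] N) (hN : IsBaseChange S fN)
    (u : M →ₗ[S] N) (hcomm : ∀ x, u (fM x) = fN (u₂ x)) :
    Injective u ∧ Module.Flat R (N ⧸ LinearMap.range u) := by
  haveI : Module.Flat C' S := IsLocalization.flat S T
  set π₂ : N₂ →ₗ[C₂] N₂ ⧸ LinearMap.range u₂ := (LinearMap.range u₂).mkQ with hπ₂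
  have hex₂ : Exact u₂ π₂ := LinearMap.exact_map_mkQ_range u₂
  have hπ₂s : Surjective π₂ := Submodule.mkQ_surjective _
  -- step 1: `R ⊗ u₂` injective
  have h1 : Injective ((u₂.restrictScalars A').lTensor R) :=
    lTensor_injective_of_flat_coker (u₂.restrictScalars A') (π₂.restrictScalars A') hinj₂ hex₂ hπ₂s R
  -- step 2: `C' ⊗ u₂` injective
  have h2 : Injective (u₂.baseChange C') := by
    intro a b hab
    obtain ⟨a', rfl⟩ := (Algebra.IsPushout.cancelBaseChange A' R C₂ C' M₂).symm.surjective a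
    obtain ⟨b', rfl⟩ := (Algebra.IsPushout.cancelBaseChange A' R C₂ C' M₂).symm.surjective b
    rw [Groth.Agent.Lib.Helper7.FPKer.baseChange_cancelBaseChange_symm,
      Groth.Agent.Lib.Helper7.FPKer.baseChange_cancelBaseChange_symm] at hab
    rw [h1 ((Algebra.IsPushout.cancelBaseChange A' R C₂ C' N₂).symm.injective hab)]
  -- step 3: `S ⊗ (C' ⊗ u₂)` injective
  have h3 : Injective ((u₂.baseChange C').lTensor S) :=
    Module.Flat.lTensor_preserves_injective_linearMap (M := S) (u₂.baseChange C') h2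
  -- step 4: `S ⊗ u₂` injective
  have h4 : Injective (u₂.baseChange S) := by
    intro a b hab
    obtain ⟨a', rfl⟩ := (AlgebraTensorModule.cancelBaseChange C₂ C' S S M₂).surjective a
    obtain ⟨b', rfl⟩ := (AlgebraTensorModule.cancelBaseChange C₂ C' S S M₂).surjective b
    rw [← cancelBaseChange_natural, ← cancelBaseChange_natural] at hab
    rw [h3 ((AlgebraTensorModule.cancelBaseChange C₂ C' S S N₂).injective hab)]
  -- the square with `u`
  have hsq : ∀ y : S ⊗[C₂] M₂, u (hM.equiv y) = hN.equiv (u₂.baseChange S y) := by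
    intro y
    induction y with
    | zero => simp
    | add a b ha hb => rw [map_add, map_add, ha, hb, map_add, map_add]
    | tmul s x =>
      rw [IsBaseChange.equiv_tmul, map_smul, hcomm, LinearMap.baseChange_tmul,
        IsBaseChange.equiv_tmul]
  have hu : Injective u := by
    intro a b hab
    obtain ⟨a', rfl⟩ := hM.equiv.surjective a
    obtain ⟨b', rfl⟩ := hM.equiv.surjective b
    rw [hsq, hsq] at hab
    rw [h4 (hN.equiv.injective hab)]
  refine ⟨hu, ?_⟩
  -- flatness of the cokernel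
  haveI hY : Module.Flat R (C' ⊗[C₂] (N₂ ⧸ LinearMap.range u₂)) :=
    Module.Flat.of_linearEquiv
      (Algebra.IsPushout.cancelBaseChange A' R C₂ C' (N₂ ⧸ LinearMap.range u₂))
  haveI hSY : Module.Flat R (S ⊗[C'] (C' ⊗[C₂] (N₂ ⧸ LinearMap.range u₂))) :=
    Groth.Agent.Lib.Helper21.FlatLocal.flat_of_isLocalizedModule (A := R) (B := C')
      (F := C' ⊗[C₂] (N₂ ⧸ LinearMap.range u₂)) T
      (TensorProduct.mk C' S (C' ⊗[C₂] (N₂ ⧸ LinearMap.range u₂)) 1)
  -- the two cokernels of `S ⊗ u₂`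
  have hex₁ : Exact (u₂.baseChange S) (π₂.baseChange S) := by
    have := lTensor_exact S hex₂ hπ₂s
    exact this
  have hs₁ : Surjective (π₂.baseChange S) := LinearMap.lTensor_surjective S hπ₂s
  let g₂ : S ⊗[C₂] N₂ →ₗ[S] N ⧸ LinearMap.range u := (LinearMap.range u).mkQ ∘ₗ hN.equiv.toLinearMap
  have hs₂ : Surjective g₂ := (Submodule.mkQ_surjective _).comp hN.equiv.surjective
  have hex₂' : Exact (u₂.baseChange S) g₂ := by
    intro y
    constructor
    · intro hy
      have hy' : hN.equiv y ∈ LinearMap.range u := by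
        rw [← Submodule.Quotient.mk_eq_zero]
        exact hy
      obtain ⟨x, hx⟩ := hy'
      obtain ⟨x', rfl⟩ := hM.equiv.surjective x
      rw [hsq] at hx
      exact ⟨x', hN.equiv.injective hx⟩
    · rintro ⟨x', rfl⟩
      show Submodule.Quotient.mk (hN.equiv (u₂.baseChange S x')) = 0
      rw [Submodule.Quotient.mk_eq_zero, ← hsq]
      exact ⟨_, rfl⟩
  let e₁ : (S ⊗[C₂] (N₂ ⧸ LinearMap.range u₂)) ≃ₗ[S] N ⧸ LinearMap.range u :=
    (hex₁.linearEquivOfSurjective hs₁).symm ≪≫ₗ (hex₂'.linearEquivOfSurjective hs₂)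
  let e₂ : S ⊗[C'] (C' ⊗[C₂] (N₂ ⧸ LinearMap.range u₂)) ≃ₗ[S]
      S ⊗[C₂] (N₂ ⧸ LinearMap.range u₂) :=
    AlgebraTensorModule.cancelBaseChange C₂ C' S S (N₂ ⧸ LinearMap.range u₂)
  exact Module.Flat.of_linearEquiv ((e₂ ≪≫ₗ e₁).symm.restrictScalars R)

set_option maxHeartbeats 1600000 in
set_option synthInstance.maxHeartbeats 200000 in
/-- **The local descent step for Stacks 00ME (non-Noetherian form).** -/
theorem local_step {A' R C₂ C' S : Type u} [CommRing A'] [CommRing R] [CommRing C₂]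
    [CommRing C'] [CommRing S]
    [IsLocalRing R] [IsLocalRing C₂] [IsNoetherianRing C₂] [IsLocalRing S]
    [Algebra A' R] [Algebra A' C₂] [Algebra R C'] [Algebra C₂ C'] [Algebra A' C']
    [IsScalarTower A' R C'] [IsScalarTower A' C₂ C'] [Algebra.IsPushout A' R C₂ C']
    [Algebra C' S] [Algebra C₂ S] [IsScalarTower C₂ C' S] [Algebra R S] [IsScalarTower R C' S]
    (T : Submonoid C') [IsLocalization T S]
    [IsLocalHom (algebraMap R S)] [IsLocalHom (algebraMap C₂ S)]
    {M₂ N₂ : Type u} [AddCommGroup M₂] [Module C₂ M₂] [Module A' M₂] [IsScalarTower A' C₂ M₂]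
    [Module.Finite C₂ M₂]
    [AddCommGroup N₂] [Module C₂ N₂] [Module A' N₂] [IsScalarTower A' C₂ N₂] [Module.Flat A' N₂]
    (u₂ : M₂ →ₗ[C₂] N₂)
    {M N : Type u} [AddCommGroup M] [Module S M] [Module C₂ M] [IsScalarTower C₂ S M]
    [AddCommGroup N] [Module S N] [Module C₂ N] [IsScalarTower C₂ S N] [Module R N]
    [IsScalarTower R S N]
    (fM : M₂ →ₗ[C₂] M) (hM : IsBaseChange S fM) (fN : N₂ →ₗ[C₂] N) (hN : IsBaseChange S fN)
    (u : M →ₗ[S] N) (hcomm : ∀ x, u (fM x) = fN (u₂ x))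
    (hu : ∀ x : M, u x ∈ (maximalIdeal R).map (algebraMap R S) • (⊤ : Submodule S N) →
      x ∈ (maximalIdeal R).map (algebraMap R S) • (⊤ : Submodule S M)) :
    Injective u ∧ Module.Flat R (N ⧸ LinearMap.range u) := by
  haveI : Module.Flat C' S := IsLocalization.flat S T
  obtain ⟨h1, h2⟩ := stage_injective_and_flat (A' := A') (R := R) (C₂ := C₂) (C' := C') (S := S)
    u₂ fM hM fN u hcomm hu
  haveI := h2
  exact transfer (A' := A') (R := R) (C₂ := C₂) (C' := C') (S := S) T u₂ h1 fM hM fN hN u hcomm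

end Step

end Groth.Agent.Lib.Helper7.ZeroME
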