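import Mathlib
import Groth.Agent.Lib.Helper7.ZeroMEDatum
import Groth.Agent.Lib.Helper7.ZeroMEStep
import Groth.Agent.Lib.Helper21.FlatDescX
import Groth.Agent.Lib.Helper21.FlatDescZ

/-!
# Helper7 — ZeroMEPlumb: from a Noetherian flat stage to the local descent step

`A' → R` with `R` local; `S₂` a Noetherian `A'`-algebra with `S₀ = R ⊗_{A'} S₂`; `S` a local ring which
is a localization of `S₀`, local over `R`.  A datum `D₂` over `S₂` with `N(D₂)` flat over `A'`, whose
image over `S` presents `u : M → N`.  If `u` is injective modulo `m_R` then `u` is injective with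
`R`-flat cokernel.
-/

set_option autoImplicit false

namespace Groth.Agent.Lib.Helper7.ZeroME

open TensorProduct Function IsLocalRing
open Groth.Agent.Lib.Helper21.FlatDesc

universe u

section Aux

set_option maxHeartbeats 1600000 in
set_option synthInstance.maxHeartbeats 200000 in
/-- the abstract form, with the local stage ring `C₂` and `C' = R ⊗ C₂` as variables. -/
theorem plumb_aux {A' R S₂ S₀ C₂ C' S : Type u} [CommRing A'] [CommRing R] [CommRing S₂]
    [CommRing S₀] [CommRing C₂] [CommRing C'] [CommRing S]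
    [IsLocalRing R] [IsLocalRing S] [IsLocalRing C₂] [IsNoetherianRing C₂]
    [Algebra A' R] [Algebra A' S₂] [Algebra R S₀] [Algebra S₂ S₀] [Algebra A' S₀]
    [IsScalarTower A' R S₀] [IsScalarTower A' S₂ S₀] [Algebra.IsPushout A' R S₂ S₀]
    [Algebra S₀ S] [Algebra R S] [IsScalarTower R S₀ S] [Algebra S₂ S] [IsScalarTower S₂ S₀ S]
    [IsLocalHom (algebraMap R S)]
    [Algebra S₂ C₂] (q₂ : Ideal S₂) [q₂.IsPrime] [IsLocalization.AtPrime C₂ q₂]
    [Algebra A' C₂] [IsScalarTower A' S₂ C₂]
    [Algebra S₀ C'] [IsLocalization (Algebra.algebraMapSubmonoid S₀ q₂.primeCompl) C']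
    [Algebra C₂ C'] [Algebra S₂ C'] [IsScalarTower S₂ C₂ C'] [IsScalarTower S₂ S₀ C']
    [Algebra R C'] [IsScalarTower R S₀ C'] [Algebra A' C'] [IsScalarTower A' S₀ C']
    [IsScalarTower A' R C'] [IsScalarTower A' C₂ C']
    [Algebra C' S] [Algebra C₂ S] [IsScalarTower C₂ C' S] [IsScalarTower S₂ C₂ S]
    [IsScalarTower R C' S] [IsLocalHom (algebraMap C₂ S)] (T : Submonoid C') [IsLocalization T S]
    {a b c d : ℕ} (D₂ : Datum S₂ a b c d) (D : Datum S a b c d) (hD : IsMap D₂ D)
    [Module.Flat A' D₂.N]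
    {M N : Type u} [AddCommGroup M] [Module S M] [AddCommGroup N] [Module S N] [Module R N]
    [IsScalarTower R S N]
    (eM : D.M ≃ₗ[S] M) (eN : D.N ≃ₗ[S] N) (u : M →ₗ[S] N) (hcomm : ∀ x, u (eM x) = eN (D.u x))
    (hu : ∀ x : M, u x ∈ (maximalIdeal R).map (algebraMap R S) • (⊤ : Submodule S N) →
      x ∈ (maximalIdeal R).map (algebraMap R S) • (⊤ : Submodule S M)) :
    Injective u ∧ Module.Flat R (N ⧸ LinearMap.range u) := by
  -- the pushout square
  haveI hp1 : Algebra.IsPushout S₂ S₀ C₂ C' :=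
    Algebra.isPushout_of_isLocalization q₂.primeCompl C₂ S₀ C'
  haveI hp2 : Algebra.IsPushout A' S₂ R S₀ := Algebra.IsPushout.symm inferInstance
  haveI hp3 : Algebra.IsPushout S₂ C₂ S₀ C' := Algebra.IsPushout.symm hp1
  haveI hp4 : Algebra.IsPushout A' C₂ R C' :=
    (Algebra.IsPushout.comp_iff A' S₂ R (S' := S₀) (T := C₂) (T' := C')).2 hp3
  haveI hp5 : Algebra.IsPushout A' R C₂ C' := Algebra.IsPushout.symm hp4
  -- the datum over `C₂`
  let DC : Datum C₂ a b c d := D₂.map C₂
  have hC : IsMap D₂ DC := IsMap.isMap_map D₂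
  have hCS : IsMap DC D := hD.of_map
  -- flatness
  haveI hloc : IsLocalizedModule q₂.primeCompl hC.qN :=
    (isLocalizedModule_iff_isBaseChange q₂.primeCompl C₂ hC.qN).2 hC.isBaseChange_qN
  haveI hflat : Module.Flat A' DC.N :=
    Groth.Agent.Lib.Helper21.FlatLocal.flat_of_isLocalizedModule (A := A') (B := S₂)
      (F := D₂.N) (F' := DC.N) q₂.primeCompl hC.qN
  -- module structures over `C₂`
  letI mM : Module C₂ M := Module.compHom M (algebraMap C₂ S)
  haveI tM : IsScalarTower C₂ S M := IsScalarTower.of_algebraMap_smul fun _ _ => rfl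
  letI mN : Module C₂ N := Module.compHom N (algebraMap C₂ S)
  haveI tN : IsScalarTower C₂ S N := IsScalarTower.of_algebraMap_smul fun _ _ => rfl
  have hbM : IsBaseChange S ((eM.toLinearMap.restrictScalars C₂) ∘ₗ hCS.qM) :=
    IsBaseChange.of_equiv (hCS.isBaseChange_qM.equiv ≪≫ₗ eM)
      (fun x => by simp [IsBaseChange.equiv_tmul])
  have hbN : IsBaseChange S ((eN.toLinearMap.restrictScalars C₂) ∘ₗ hCS.qN) :=
    IsBaseChange.of_equiv (hCS.isBaseChange_qN.equiv ≪≫ₗ eN)
      (fun x => by simp [IsBaseChange.equiv_tmul])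
  refine local_step (A' := A') (R := R) (C₂ := C₂) (C' := C') (S := S) T DC.u
    ((eM.toLinearMap.restrictScalars C₂) ∘ₗ hCS.qM) hbM
    ((eN.toLinearMap.restrictScalars C₂) ∘ₗ hCS.qN) hbN u (fun x => ?_) hu
  show u (eM (hCS.qM x)) = eN (hCS.qN (DC.u x))
  rw [hcomm, hCS.comm]

end Aux

section Main

attribute [local instance] stageAlgebra

set_option maxHeartbeats 1600000 in
set_option synthInstance.maxHeartbeats 200000 in
/-- **From a Noetherian flat stage to Stacks 00ME.** -/
theorem plumb {A' R S₂ S₀ S : Type u} [CommRing A'] [CommRing R] [CommRing S₂] [CommRing S₀]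
    [CommRing S] [IsLocalRing R] [IsLocalRing S] [IsNoetherianRing S₂]
    [Algebra A' R] [Algebra A' S₂] [Algebra R S₀] [Algebra S₂ S₀] [Algebra A' S₀]
    [IsScalarTower A' R S₀] [IsScalarTower A' S₂ S₀] [Algebra.IsPushout A' R S₂ S₀]
    [Algebra S₀ S] [Algebra R S] [IsScalarTower R S₀ S] [Algebra S₂ S] [IsScalarTower S₂ S₀ S]
    [IsLocalHom (algebraMap R S)] (T₀ : Submonoid S₀) [IsLocalization T₀ S]
    {a b c d : ℕ} (D₂ : Datum S₂ a b c d) (D : Datum S a b c d) (hD : IsMap D₂ D)
    [Module.Flat A' D₂.N]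
    {M N : Type u} [AddCommGroup M] [Module S M] [AddCommGroup N] [Module S N] [Module R N]
    [IsScalarTower R S N]
    (eM : D.M ≃ₗ[S] M) (eN : D.N ≃ₗ[S] N) (u : M →ₗ[S] N) (hcomm : ∀ x, u (eM x) = eN (D.u x))
    (hu : ∀ x : M, u x ∈ (maximalIdeal R).map (algebraMap R S) • (⊤ : Submodule S N) →
      x ∈ (maximalIdeal R).map (algebraMap R S) • (⊤ : Submodule S M)) :
    Injective u ∧ Module.Flat R (N ⧸ LinearMap.range u) := by
  -- units
  have hunits : ∀ y : Algebra.algebraMapSubmonoid S₀ (stagePrime S₂ S).primeCompl,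
      IsUnit (algebraMap S₀ S y) := by
    rintro ⟨_, s, hs, rfl⟩
    show IsUnit (algebraMap S₀ S (algebraMap S₂ S₀ s))
    rw [← IsScalarTower.algebraMap_apply]
    exact isUnit_algebraMap_of_mem_primeCompl S₂ S ⟨s, hs⟩
  letI aC'S : Algebra (Localization (Algebra.algebraMapSubmonoid S₀ (stagePrime S₂ S).primeCompl)) S :=
    (IsLocalization.lift (M := Algebra.algebraMapSubmonoid S₀ (stagePrime S₂ S).primeCompl)
      (g := algebraMap S₀ S) hunits).toAlgebra
  haveI t1 : IsScalarTower S₀
      (Localization (Algebra.algebraMapSubmonoid S₀ (stagePrime S₂ S).primeCompl)) S :=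
    IsScalarTower.of_algebraMap_eq fun x => by
      show _ = IsLocalization.lift (M := Algebra.algebraMapSubmonoid S₀ (stagePrime S₂ S).primeCompl)
        (g := algebraMap S₀ S) hunits (algebraMap S₀ _ x)
      rw [IsLocalization.lift_eq]
  haveI t2 : IsScalarTower A' (Localization.AtPrime (stagePrime S₂ S))
      (Localization (Algebra.algebraMapSubmonoid S₀ (stagePrime S₂ S).primeCompl)) :=
    IsScalarTower.of_algebraMap_eq fun x => by
      rw [IsScalarTower.algebraMap_apply A' S₂
          (Localization (Algebra.algebraMapSubmonoid S₀ (stagePrime S₂ S).primeCompl)),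
        IsScalarTower.algebraMap_apply A' S₂ (Localization.AtPrime (stagePrime S₂ S)),
        ← IsScalarTower.algebraMap_apply S₂ (Localization.AtPrime (stagePrime S₂ S))
          (Localization (Algebra.algebraMapSubmonoid S₀ (stagePrime S₂ S).primeCompl))]
  haveI t3 : IsScalarTower (Localization.AtPrime (stagePrime S₂ S))
      (Localization (Algebra.algebraMapSubmonoid S₀ (stagePrime S₂ S).primeCompl)) S := by
    refine IsScalarTower.of_algebraMap_eq' ?_
    refine IsLocalization.ringHom_ext (stagePrime S₂ S).primeCompl ?_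
    ext s
    simp only [RingHom.comp_apply]
    rw [← IsScalarTower.algebraMap_apply S₂ (Localization.AtPrime (stagePrime S₂ S)) S,
      ← IsScalarTower.algebraMap_apply S₂ (Localization.AtPrime (stagePrime S₂ S))
        (Localization (Algebra.algebraMapSubmonoid S₀ (stagePrime S₂ S).primeCompl)),
      IsScalarTower.algebraMap_apply S₂ S₀
        (Localization (Algebra.algebraMapSubmonoid S₀ (stagePrime S₂ S).primeCompl)),
      ← IsScalarTower.algebraMap_apply S₀
        (Localization (Algebra.algebraMapSubmonoid S₀ (stagePrime S₂ S).primeCompl)) S,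
      ← IsScalarTower.algebraMap_apply S₂ S₀ S]
  haveI t4 : IsScalarTower R
      (Localization (Algebra.algebraMapSubmonoid S₀ (stagePrime S₂ S).primeCompl)) S :=
    IsScalarTower.of_algebraMap_eq fun x => by
      rw [IsScalarTower.algebraMap_apply R S₀
          (Localization (Algebra.algebraMapSubmonoid S₀ (stagePrime S₂ S).primeCompl)),
        ← IsScalarTower.algebraMap_apply S₀
          (Localization (Algebra.algebraMapSubmonoid S₀ (stagePrime S₂ S).primeCompl)) S,
        ← IsScalarTower.algebraMap_apply R S₀ S]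
  -- `S` is a localization of `C'`
  haveI hAt : IsLocalization.AtPrime S ((maximalIdeal S).comap (algebraMap S₀ S)) :=
    isLocalization_atPrime_of_isLocalRing T₀
  have hle : Algebra.algebraMapSubmonoid S₀ (stagePrime S₂ S).primeCompl ≤
      ((maximalIdeal S).comap (algebraMap S₀ S)).primeCompl := by
    rintro _ ⟨s, hs, rfl⟩
    intro hmem
    apply hs
    show algebraMap S₂ S s ∈ maximalIdeal S
    rw [IsScalarTower.algebraMap_apply S₂ S₀ S]
    exact hmem
  haveI hlocS : IsLocalization
      (((maximalIdeal S).comap (algebraMap S₀ S)).primeCompl.map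
        (algebraMap S₀ (Localization (Algebra.algebraMapSubmonoid S₀ (stagePrime S₂ S).primeCompl))))
      S :=
    IsLocalization.isLocalization_of_submonoid_le
      (Localization (Algebra.algebraMapSubmonoid S₀ (stagePrime S₂ S).primeCompl)) S
      (Algebra.algebraMapSubmonoid S₀ (stagePrime S₂ S).primeCompl)
      ((maximalIdeal S).comap (algebraMap S₀ S)).primeCompl hle
  exact plumb_aux (A' := A') (R := R) (S₂ := S₂) (S₀ := S₀)
    (C₂ := Localization.AtPrime (stagePrime S₂ S))
    (C' := Localization (Algebra.algebraMapSubmonoid S₀ (stagePrime S₂ S).primeCompl)) (S := S)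
    (stagePrime S₂ S)
    (((maximalIdeal S).comap (algebraMap S₀ S)).primeCompl.map
      (algebraMap S₀ (Localization (Algebra.algebraMapSubmonoid S₀ (stagePrime S₂ S).primeCompl))))
    D₂ D hD eM eN u hcomm hu

end Main

end Groth.Agent.Lib.Helper7.ZeroME
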