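import Mathlib
import Groth.Agent.Lib.Helper7.ZeroMEDatum
import Groth.Agent.Lib.Helper21.FlatDescZ
import Groth.Agent.Lib.Helper21.FlatDescM

/-!
# Helper7 — ZeroMEReduce: spreading out a map of finitely presented modules over an essentially
finitely presented local algebra

* `exists_shrink`: `S` local, a localization of a finitely presented `R`-algebra `S₀`, `N` a finitely
  presented `S`-module flat over `R`: after replacing `S₀` by a principal localization, `N` is the
  base change of a finitely presented `S₀`-module flat over `R`.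
* `exists_datum_of_model`: a map `u : M → N` of finitely presented modules over a localization `S`
  of `B` is presented by the image of a datum over `B`, with prescribed model of `N`.
-/

set_option autoImplicit false

namespace Groth.Agent.Lib.Helper7.ZeroME

open TensorProduct Function IsLocalRing
open Groth.Agent.Lib.Helper21.FlatDesc

universe u

section Shrink

set_option maxHeartbeats 1600000 in
set_option synthInstance.maxHeartbeats 200000 in
/-- shrinking the finitely presented model so that the module becomes flat over the base. -/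
theorem exists_shrink (R S : Type u) [CommRing R] [CommRing S] [IsLocalRing S] [Algebra R S]
    (S₀ : Type u) [CommRing S₀] [Algebra R S₀] [Algebra.FinitePresentation R S₀] [Algebra S₀ S]
    [IsScalarTower R S₀ S] (T₀ : Submonoid S₀) [IsLocalization T₀ S]
    (N : Type u) [AddCommGroup N] [Module S N] [Module R N] [IsScalarTower R S N]
    [Module.FinitePresentation S N] [Module.Flat R N] :
    ∃ (S₀' : Type u) (_ : CommRing S₀') (_ : Algebra R S₀') (_ : Algebra S₀' S)
      (_ : IsScalarTower R S₀' S) (_ : Algebra.FinitePresentation R S₀') (T' : Submonoid S₀')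
      (_ : IsLocalization T' S) (N₀ : Type u) (_ : AddCommGroup N₀) (_ : Module S₀' N₀)
      (_ : Module R N₀) (_ : IsScalarTower R S₀' N₀) (_ : Module.FinitePresentation S₀' N₀)
      (_ : Module.Flat R N₀), Nonempty (S ⊗[S₀'] N₀ ≃ₗ[S] N) := by
  letI mS₀N : Module S₀ N := Module.compHom N (algebraMap S₀ S)
  haveI t1 : IsScalarTower S₀ S N := IsScalarTower.of_algebraMap_smul fun _ _ => rfl
  haveI t2 : IsScalarTower R S₀ N := ⟨fun r s n => by
    show algebraMap S₀ S (r • s) • n = r • (algebraMap S₀ S s • n)
    rw [Algebra.smul_def, map_mul, ← IsScalarTower.algebraMap_apply, mul_smul, algebraMap_smul]⟩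
  haveI hAt : IsLocalization.AtPrime S ((maximalIdeal S).comap (algebraMap S₀ S)) :=
    isLocalization_atPrime_of_isLocalRing T₀
  obtain ⟨N₁, _, _, g, hfp, hbc⟩ := exists_fp_module_model (B := S₀) (S' := S) T₀ N
  haveI := hfp
  haveI hloc : IsLocalizedModule ((maximalIdeal S).comap (algebraMap S₀ S)).primeCompl g :=
    (isLocalizedModule_iff_isBaseChange _ S g).2 hbc
  letI mR : Module R N₁ := Module.compHom N₁ (algebraMap R S₀)
  haveI t3 : IsScalarTower R S₀ N₁ := IsScalarTower.of_algebraMap_smul fun _ _ => rfl
  let e : LocalizedModule ((maximalIdeal S).comap (algebraMap S₀ S)).primeCompl N₁ ≃ₗ[S₀] N :=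
    IsLocalizedModule.iso ((maximalIdeal S).comap (algebraMap S₀ S)).primeCompl g
  haveI : Module.Flat R
      (LocalizedModule ((maximalIdeal S).comap (algebraMap S₀ S)).primeCompl N₁) :=
    Module.Flat.of_linearEquiv (e.restrictScalars R)
  obtain ⟨c, hc, hflat⟩ := exists_notMem_forall_flat (A := R) (B := S₀) (N := N₁)
    ((maximalIdeal S).comap (algebraMap S₀ S))
  haveI hflatc : Module.Flat R (LocalizedModule (Submonoid.powers c) N₁) :=
    flat_localizedModule_of_forall_prime N₁ (Submonoid.powers c) (fun Q _ hQ => hflat Q (by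
      intro hcQ
      exact Set.disjoint_left.1 hQ hcQ (Submonoid.mem_powers c)))
  -- the ring `S₀[1/c]`
  have hcu : IsUnit (algebraMap S₀ S c) := by
    have : algebraMap S₀ S c ∉ maximalIdeal S := hc
    rwa [IsLocalRing.mem_maximalIdeal, mem_nonunits_iff, not_not] at this
  letI aS : Algebra (Localization.Away c) S :=
    (IsLocalization.Away.lift (S := Localization.Away c) c (g := algebraMap S₀ S) hcu).toAlgebra
  haveI t4 : IsScalarTower S₀ (Localization.Away c) S :=
    IsScalarTower.of_algebraMap_eq fun x => by
      show _ = IsLocalization.Away.lift (S := Localization.Away c) c (g := algebraMap S₀ S) hcu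
        (algebraMap S₀ _ x)
      rw [IsLocalization.Away.lift_eq]
  haveI t5 : IsScalarTower R (Localization.Away c) S :=
    IsScalarTower.of_algebraMap_eq fun x => by
      rw [IsScalarTower.algebraMap_apply R S₀ (Localization.Away c),
        ← IsScalarTower.algebraMap_apply S₀ (Localization.Away c) S,
        ← IsScalarTower.algebraMap_apply R S₀ S]
  haveI : Algebra.FinitePresentation S₀ (Localization.Away c) :=
    IsLocalization.Away.finitePresentation c
  haveI hfpc : Algebra.FinitePresentation R (Localization.Away c) :=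
    Algebra.FinitePresentation.trans R S₀ (Localization.Away c)
  have hle : Submonoid.powers c ≤ ((maximalIdeal S).comap (algebraMap S₀ S)).primeCompl := by
    rintro _ ⟨k, rfl⟩
    exact fun h => hc (Ideal.IsPrime.mem_of_pow_mem inferInstance k h)
  haveI hloc' : IsLocalization
      (((maximalIdeal S).comap (algebraMap S₀ S)).primeCompl.map
        (algebraMap S₀ (Localization.Away c))) S :=
    IsLocalization.isLocalization_of_submonoid_le (Localization.Away c) S (Submonoid.powers c)
      ((maximalIdeal S).comap (algebraMap S₀ S)).primeCompl hle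
  -- the base change map
  letI mcN : Module (Localization.Away c) N := Module.compHom N (algebraMap (Localization.Away c) S)
  haveI t6 : IsScalarTower (Localization.Away c) S N :=
    IsScalarTower.of_algebraMap_smul fun _ _ => rfl
  haveI t7 : IsScalarTower S₀ (Localization.Away c) N := ⟨fun s x n => by
    show algebraMap (Localization.Away c) S (s • x) • n =
      algebraMap S₀ S s • (algebraMap (Localization.Away c) S x • n)
    rw [Algebra.smul_def, map_mul, ← IsScalarTower.algebraMap_apply, mul_smul]⟩
  let f₁ : N₁ →ₗ[S₀] LocalizedModule (Submonoid.powers c) N₁ :=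
    LocalizedModule.mkLinearMap (Submonoid.powers c) N₁
  have h1 : IsBaseChange (Localization.Away c) f₁ :=
    IsLocalizedModule.isBaseChange (Submonoid.powers c) (Localization.Away c) f₁
  have h2 : IsBaseChange S (h1.lift g) :=
    IsBaseChange.of_comp h1 (by rw [h1.lift_comp]; exact hbc)
  exact ⟨Localization.Away c, inferInstance, inferInstance, aS, t5, hfpc, _, hloc',
    LocalizedModule (Submonoid.powers c) N₁, inferInstance, inferInstance, inferInstance,
    inferInstance, inferInstance, hflatc, ⟨h2.equiv⟩⟩

end Shrink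

section Present

set_option maxHeartbeats 1600000 in
set_option synthInstance.maxHeartbeats 200000 in
/-- **A map of finitely presented modules over a localization `S` of `B` is presented by the image
of a datum over `B`**, whose target is a prescribed finitely presented model of `N`. -/
theorem exists_datum_of_model {B S : Type u} [CommRing B] [CommRing S] [Algebra B S]
    (T : Submonoid B) [IsLocalization T S]
    (M N : Type u) [AddCommGroup M] [Module S M] [AddCommGroup N] [Module S N]
    [Module.FinitePresentation S M] (u : M →ₗ[S] N)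
    (N₀ : Type u) [AddCommGroup N₀] [Module B N₀] [Module.FinitePresentation B N₀]
    (e : S ⊗[B] N₀ ≃ₗ[S] N) :
    ∃ (a b c d : ℕ) (D₀ : Datum B a b c d) (_ : D₀.N ≃ₗ[B] N₀)
      (eM : (D₀.map S).M ≃ₗ[S] M) (eN : (D₀.map S).N ≃ₗ[S] N),
      ∀ x, u (eM x) = eN ((D₀.map S).u x) := by
  letI mM : Module B M := Module.compHom M (algebraMap B S)
  haveI tM : IsScalarTower B S M := IsScalarTower.of_algebraMap_smul fun _ _ => rfl
  letI mN : Module B N := Module.compHom N (algebraMap B S)
  haveI tN : IsScalarTower B S N := IsScalarTower.of_algebraMap_smul fun _ _ => rfl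
  obtain ⟨M₀, _, _, gM, hfpM, hbcM⟩ := exists_fp_module_model (B := B) (S' := S) T M
  haveI := hfpM
  let gN : N₀ →ₗ[B] N := (e.toLinearMap.restrictScalars B) ∘ₗ (TensorProduct.mk B S N₀ 1)
  have hbcN : IsBaseChange S gN := IsBaseChange.of_equiv e (fun x => rfl)
  haveI hlocN : IsLocalizedModule T gN := (isLocalizedModule_iff_isBaseChange T S gN).2 hbcN
  obtain ⟨u₀, s, hs⟩ := Module.FinitePresentation.exists_lift_of_isLocalizedModule T gN
    ((u.restrictScalars B) ∘ₗ gM)
  obtain ⟨a, b, c, d, D₀, eM₀, eN₀, hcomm₀⟩ := exists_datum M₀ N₀ u₀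
  have h : IsMap D₀ (D₀.map S) := IsMap.isMap_map D₀
  -- the base change maps from the datum
  have hbM' : IsBaseChange S (gM ∘ₗ eM₀.toLinearMap) :=
    IsBaseChange.of_equiv
      (TensorProduct.AlgebraTensorModule.congr (LinearEquiv.refl S S) eM₀ ≪≫ₗ hbcM.equiv)
      (fun x => by simp [IsBaseChange.equiv_tmul])
  have hbN' : IsBaseChange S (gN ∘ₗ eN₀.toLinearMap) :=
    IsBaseChange.of_equiv
      (TensorProduct.AlgebraTensorModule.congr (LinearEquiv.refl S S) eN₀ ≪≫ₗ hbcN.equiv)
      (fun x => by simp [IsBaseChange.equiv_tmul])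
  let eM : (D₀.map S).M ≃ₗ[S] M := h.isBaseChange_qM.equiv.symm ≪≫ₗ hbM'.equiv
  let eN : (D₀.map S).N ≃ₗ[S] N := h.isBaseChange_qN.equiv.symm ≪≫ₗ hbN'.equiv
  have heM : ∀ x, eM (h.qM x) = gM (eM₀ x) := by
    intro x
    show hbM'.equiv (h.isBaseChange_qM.equiv.symm (h.qM x)) = _
    rw [IsBaseChange.equiv_symm_apply, IsBaseChange.equiv_tmul, one_smul]
    rfl
  have heN : ∀ x, eN (h.qN x) = gN (eN₀ x) := by
    intro x
    show hbN'.equiv (h.isBaseChange_qN.equiv.symm (h.qN x)) = _
    rw [IsBaseChange.equiv_symm_apply, IsBaseChange.equiv_tmul, one_smul]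
    rfl
  have hsu : IsUnit (algebraMap B S s) := IsLocalization.map_units S s
  -- the square up to the unit `s`
  have hsq : ∀ z : (D₀.map S).M, algebraMap B S s • u (eM z) = eN ((D₀.map S).u z) := by
    intro z
    refine h.isBaseChange_qM.inductionOn z _ ?_ ?_ ?_ ?_
    · simp
    · intro x
      rw [heM, h.comm, heN, ← hcomm₀]
      have := congrArg (fun f => f (eM₀ x)) hs
      simp only [LinearMap.comp_apply, LinearMap.smul_apply, LinearMap.restrictScalars_apply]
        at this
      rw [this]
      rfl
    · intro t n hn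
      rw [map_smul, map_smul, map_smul, map_smul, smul_comm, hn]
    · intro n₁ n₂ h₁ h₂
      rw [map_add, map_add, map_add, map_add, smul_add, h₁, h₂]
  refine ⟨a, b, c, d, D₀, eN₀, eM, eN ≪≫ₗ LinearEquiv.smulOfUnit hsu.unit⁻¹, fun x => ?_⟩
  show u (eM x) = (hsu.unit⁻¹ : Sˣ) • eN ((D₀.map S).u x)
  rw [← hsq, Units.smul_def, smul_smul, IsUnit.val_inv_mul, one_smul]

end Present

end Groth.Agent.Lib.Helper7.ZeroME
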