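import Mathlib
import Groth.Agent.Lib.Helper7.ZeroMEReduce
import Groth.Agent.Lib.Helper7.ZeroMEModel
import Groth.Agent.Lib.Helper7.ZeroMEPlumb

/-!
# Helper7 — ZeroMEMain: Stacks 00ME / EGA IV 11.3.7 in the non-Noetherian, essentially finitely
presented form

`R → S` a local homomorphism of local rings, `S` a localization of a finitely presented `R`-algebra,
`M`, `N` finitely presented `S`-modules, `N` flat over `R`, `u : M → N` injective modulo `m_R`.  Then
`u` is injective and `coker u` is flat over `R`.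
-/

set_option autoImplicit false

namespace Groth.Agent.Lib.Helper7.ZeroME

open TensorProduct Function IsLocalRing

universe u

set_option maxHeartbeats 1600000 in
set_option synthInstance.maxHeartbeats 200000 in
/-- **Stacks 00ME, essentially finitely presented form** (EGA IV 11.3.7 (b)). -/
theorem injective_and_flat_coker_essFP (R S : Type u) [CommRing R] [CommRing S] [IsLocalRing R]
    [IsLocalRing S] [Algebra R S] [IsLocalHom (algebraMap R S)]
    (S₀ : Type u) [CommRing S₀] [Algebra R S₀] [Algebra.FinitePresentation R S₀] [Algebra S₀ S]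
    [IsScalarTower R S₀ S] (T₀ : Submonoid S₀) [IsLocalization T₀ S]
    (M N : Type u) [AddCommGroup M] [Module S M] [Module.FinitePresentation S M]
    [AddCommGroup N] [Module S N] [Module R N] [IsScalarTower R S N]
    [Module.FinitePresentation S N] [Module.Flat R N]
    (u : M →ₗ[S] N)
    (hu : ∀ x : M, u x ∈ (maximalIdeal R).map (algebraMap R S) • (⊤ : Submodule S N) →
      x ∈ (maximalIdeal R).map (algebraMap R S) • (⊤ : Submodule S M)) :
    Injective u ∧ Module.Flat R (N ⧸ LinearMap.range u) := by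
  obtain ⟨S₀', _, _, _, _, hfp', T', _, N₀, _, _, _, _, hfpN, hflatN, ⟨e⟩⟩ :=
    exists_shrink R S S₀ T₀ N
  haveI := hfp'
  haveI := hfpN
  haveI := hflatN
  obtain ⟨a, b, c, d, D₀, eN₀, eM, eN, hcomm⟩ :=
    exists_datum_of_model (B := S₀') (S := S) T' M N u N₀ e
  haveI : Module.Flat R D₀.N := Module.Flat.of_linearEquiv (eN₀.restrictScalars R)
  obtain ⟨A', _, _, S₂, _, _, _, _, _, _, D₂, hN₂, hpo, hD₂, hflat₂⟩ := exists_flat_stage R S₀' D₀
  haveI := hN₂
  haveI := hpo
  haveI := hflat₂
  letI aS₂S : Algebra S₂ S := ((algebraMap S₀' S).comp (algebraMap S₂ S₀')).toAlgebra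
  haveI : IsScalarTower S₂ S₀' S := IsScalarTower.of_algebraMap_eq fun _ => rfl
  have hD : IsMap D₂ (D₀.map S) := hD₂.trans (IsMap.isMap_map D₀)
  exact plumb (A' := A') (R := R) (S₂ := S₂) (S₀ := S₀') (S := S) T' D₂ (D₀.map S) hD eM eN u
    hcomm hu

end Groth.Agent.Lib.Helper7.ZeroME
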