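import Mathlib
import Groth.Agent.Lib.Helper7.FPKerScheme
import Groth.Agent.Lib.Helper1.LocPerf2
import Groth.Agent.Lib.Helper17.StalkExact
import Groth.Agent.Lib.Helper29.QCohStalk

/-!
# Helper7 — InjFlatOpen: openness of the locus where `u_x` is injective and `Coker u` is flat
(EGA IV 11.3.7, openness part), for finitely presented modules along a morphism locally of finite
presentation.
-/

set_option backward.isDefEq.respectTransparency.types false
set_option autoImplicit false
set_option linter.unusedVariables false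
set_option linter.style.haveILetI false
universe u
open AlgebraicGeometry CategoryTheory Limits TensorProduct TopologicalSpace

namespace Groth.Agent.Lib.Helper7.FPKer

open Groth.Agent.Lib.Helper29.FPDict Groth.Agent.Lib.Helper17.CohKer
  Groth.Agent.Lib.Helper21.FlatDesc Groth.Agent.Lib.Helper7.FlatChart
  Groth.Agent.Lib.Helper29.QCohStalk Groth.Agent.Lib.Helper28.QCohLoc
  Groth.Agent.Lib.Helper17.StalkExact Groth.Agent.Lib.Helper17.FTExt

/-- sections of a quasi-coherent module, relatively flat at all points of an affine open lying over an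
affine open, are flat over the base ring. -/
theorem flat_sections_of_forall_isFlatOverAt {X Y : Scheme.{u}} (f : X ⟶ Y) (H : X.Modules)
    [H.IsQuasicoherent] {U : X.Opens} {V : Y.Opens} (hU : IsAffineOpen U)
    (hV : IsAffineOpen V) (hUV : U ≤ f ⁻¹ᵁ V) (hflat : ∀ x ∈ U, FlatMod.IsFlatOverAt f H x) :
    letI : Algebra Γ(Y, V) Γ(X, U) := (f.appLE V U hUV).hom.toAlgebra
    letI : Module Γ(Y, V) Γ(H, U) := Module.compHom Γ(H, U) (algebraMap Γ(Y, V) Γ(X, U))
    Module.Flat Γ(Y, V) Γ(H, U) := by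
  letI : Algebra Γ(Y, V) Γ(X, U) := (f.appLE V U hUV).hom.toAlgebra
  letI : Module Γ(Y, V) Γ(H, U) := Module.compHom Γ(H, U) (algebraMap Γ(Y, V) Γ(X, U))
  haveI : IsScalarTower Γ(Y, V) Γ(X, U) Γ(H, U) := IsScalarTower.of_compHom _ _ _
  refine Module.flat_of_isLocalized_maximal Γ(X, U) Γ(H, U)
    (fun P _ => LocalizedModule P.primeCompl Γ(H, U))
    (fun P _ => LocalizedModule.mkLinearMap P.primeCompl Γ(H, U)) (fun P _ => ?_)
  obtain ⟨x, hx, rfl⟩ := exists_point_of_prime hU P
  exact (isFlatOverAt_iff_flat_localized f H hU hV hUV x hx).1 (hflat x hx)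

/-- the vanishing locus of the germ of a section is open -/
theorem isOpen_setOf_gm_eq_zero {X : Scheme.{u}} (F : X.Modules) (U : X.Opens) (k : Γ(F, U)) :
    IsOpen {x : X | ∃ hx : x ∈ U, gm F U x hx k = 0} := by
  rw [isOpen_iff_forall_mem_open]
  rintro x ⟨hx, hk⟩
  have h0 : gm F U x hx k = gm F U x hx 0 := by rw [hk, gm_zero]
  obtain ⟨W, hxW, iU, iV, hres⟩ := TopCat.Presheaf.germ_eq F.presheaf x hx hx _ _ h0
  refine ⟨W, ?_, W.2, hxW⟩
  intro y hy
  refine ⟨iU.le hy, ?_⟩
  have h1 : gm F U y (iU.le hy) k = gm F W y hy (F.presheaf.map iU.op k) :=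
    (TopCat.Presheaf.germ_res_apply F.presheaf iU y hy k).symm
  have h2 : gm F U y (iU.le hy) (0 : Γ(F, U)) = gm F W y hy (F.presheaf.map iV.op 0) :=
    (TopCat.Presheaf.germ_res_apply F.presheaf iV y hy 0).symm
  rw [h1, hres, ← h2, gm_zero]

/-- **Openness of the locus where `u_x` is injective and `Coker u` is flat over the base.** -/
theorem isOpen_injective_and_flat_cokernel {X Y : Scheme.{u}} (f : X ⟶ Y)
    [LocallyOfFinitePresentation f] (F F' : X.Modules)
    [SheafOfModules.IsFinitePresentation.{u} (R := X.ringCatSheaf) F]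
    [SheafOfModules.IsFinitePresentation.{u} (R := X.ringCatSheaf) F'] (u : F' ⟶ F) :
    IsOpen {x : X | Function.Injective ((TopCat.Presheaf.stalkFunctor Ab x).map
        (Scheme.Modules.Hom.mapPresheaf u)) ∧ FlatMod.IsFlatOverAt f (cokernel u) x} := by
  haveI : F.IsQuasicoherent := isQuasicoherent_of_isFinitePresentation F
  haveI : F'.IsQuasicoherent := isQuasicoherent_of_isFinitePresentation F'
  haveI hCfp : SheafOfModules.IsFinitePresentation.{u} (R := X.ringCatSheaf) (cokernel u) :=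
    Groth.Agent.Lib.Helper1.LocPerf.isFinitePresentation_cokernel u
  haveI : (cokernel u).IsQuasicoherent :=
    @isQuasicoherent_of_isFinitePresentation X (cokernel u) hCfp
  have hW : IsOpen {x : X | FlatMod.IsFlatOverAt f (cokernel u) x} :=
    @isOpen_isFlatOverAt X Y f _ (cokernel u) hCfp
  rw [isOpen_iff_forall_mem_open]
  rintro x ⟨hinj, hfl⟩
  -- affine charts
  obtain ⟨_, ⟨V, hV : IsAffineOpen V, rfl⟩, hfxV, -⟩ :=
    Y.isBasis_affineOpens.exists_subset_of_mem_open (Set.mem_univ (f x)) isOpen_univ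
  obtain ⟨_, ⟨U, hU : IsAffineOpen U, rfl⟩, hxU, hUsub⟩ :=
    X.isBasis_affineOpens.exists_subset_of_mem_open
      (show x ∈ ((f ⁻¹ᵁ V : Set X) ∩ {x : X | FlatMod.IsFlatOverAt f (cokernel u) x}) from
        ⟨hfxV, hfl⟩) ((f ⁻¹ᵁ V).isOpen.inter hW)
  have hUV : U ≤ f ⁻¹ᵁ V := fun y hy => (hUsub hy).1
  have hUflat : ∀ y ∈ U, FlatMod.IsFlatOverAt f (cokernel u) y := fun y hy => (hUsub hy).2
  -- algebra
  letI algCB : Algebra Γ(Y, V) Γ(X, U) := (f.appLE V U hUV).hom.toAlgebra
  letI mC : Module Γ(Y, V) Γ(cokernel u, U) :=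
    Module.compHom Γ(cokernel u, U) (algebraMap Γ(Y, V) Γ(X, U))
  haveI : IsScalarTower Γ(Y, V) Γ(X, U) Γ(cokernel u, U) := IsScalarTower.of_compHom _ _ _
  haveI : Algebra.FinitePresentation Γ(Y, V) Γ(X, U) :=
    (HasRingHomProperty.appLE @LocallyOfFinitePresentation f inferInstance ⟨V, hV⟩ ⟨U, hU⟩ hUV :
      RingHom.FinitePresentation _)
  haveI : Module.FinitePresentation Γ(X, U) Γ(F, U) := fp_of_isAffineOpen F hU
  haveI : Module.FinitePresentation Γ(X, U) Γ(F', U) := fp_of_isAffineOpen F' hU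
  haveI : Module.FinitePresentation Γ(X, U) Γ(cokernel u, U) :=
    @fp_of_isAffineOpen X (cokernel u) hCfp U hU
  haveI : Module.Flat Γ(Y, V) Γ(cokernel u, U) :=
    flat_sections_of_forall_isFlatOverAt f (cokernel u) hU hV hUV hUflat
  let π := appLinear (cokernel.π u) U
  have hπ : Function.Surjective π := cokernel_π_app_surjective u hU
  haveI hkerfp : Module.FinitePresentation Γ(X, U) (LinearMap.ker π) :=
    fp_ker_of_flat Γ(Y, V) Γ(X, U) Γ(cokernel u, U) π hπ
  have hzero : ∀ a : Γ(F', U), π (appLinear u U a) = 0 := by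
    intro a
    have : (u ≫ cokernel.π u).app U a = 0 := by
      rw [cokernel.condition]
      rfl
    exact this
  let u' : Γ(F', U) →ₗ[Γ(X, U)] LinearMap.ker π :=
    LinearMap.codRestrict (LinearMap.ker π) (appLinear u U) hzero
  have hu' : Function.Surjective u' := by
    rintro ⟨b, hb⟩
    obtain ⟨a, ha⟩ := exists_app_eq_of_cokernel_π_app_eq_zero u hU b hb
    exact ⟨a, Subtype.ext ha⟩
  have hKfg : (LinearMap.ker u').FG := Module.FinitePresentation.fg_ker u' hu'
  have hKeq : ∀ a : Γ(F', U), a ∈ LinearMap.ker u' ↔ u.app U a = 0 := by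
    intro a
    rw [LinearMap.mem_ker]
    constructor
    · intro h
      exact congrArg Subtype.val h
    · intro h
      exact Subtype.ext h
  obtain ⟨t, ht⟩ := hKfg
  have hlocF' := isLocOn_of_isQuasicoherent F' hU
  have hlocF := isLocOn_of_isQuasicoherent F hU
  -- the open set
  let O : Set X := ⋂ k ∈ t, {y : X | ∃ hy : y ∈ U, gm F' U y hy k = 0}
  have hOopen : IsOpen O :=
    t.finite_toSet.isOpen_biInter fun k _ => isOpen_setOf_gm_eq_zero F' U k
  -- on `O ∩ U` every element of the kernel has zero germ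
  have hker_gm : ∀ y ∈ O, ∀ hy : y ∈ U, ∀ a : Γ(F', U), u.app U a = 0 → gm F' U y hy a = 0 := by
    intro y hyO hy a ha
    have haK : a ∈ Submodule.span Γ(X, U) (t : Set Γ(F', U)) := by
      rw [ht]; exact (hKeq a).2 ha
    refine Submodule.span_induction (p := fun a _ => gm F' U y hy a = 0) ?_ ?_ ?_ ?_ haK
    · intro k hk
      obtain ⟨_, h⟩ := Set.mem_iInter₂.1 hyO k hk
      exact h
    · exact gm_zero F' U y hy
    · intro a b _ _ ha hb
      have : gm F' U y hy (a + b) = gm F' U y hy a + gm F' U y hy b := map_add _ _ _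
      rw [this, ha, hb, add_zero]
    · intro r a _ ha
      rw [gm_smul, ha, smul_zero]
  refine ⟨O ∩ U, ?_, hOopen.inter U.2, ?_, hxU⟩
  · rintro y ⟨hyO, hyU⟩
    refine ⟨?_, hUflat y hyU⟩
    rw [injective_iff_map_eq_zero]
    intro (μ : F'.presheaf.stalk y) hμ
    show μ = 0
    obtain ⟨s, m, hs, hsm⟩ := exists_germ_smul_eq F' hU hlocF' y hyU μ
    have h1 : stalkHom u y (gm F' U y hyU m) = 0 := by
      rw [← hsm, stalkHom_smul]
      have : stalkHom u y μ = 0 := hμ
      rw [this, smul_zero]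
    rw [stalkHom_germ] at h1
    obtain ⟨r, hr, hrm⟩ := (gm_eq_zero_iff hU hlocF y hyU (u.app U m)).1 h1
    have h2 : u.app U (r • m) = 0 := by
      rw [Scheme.Modules.Hom.app_smul, hrm]
    have h3 := hker_gm y hyO hyU (r • m) h2
    rw [gm_smul] at h3
    have hru : IsUnit (X.presheaf.germ U y hyU r) := (notMem_germPrime_iff U y hyU r).1 hr
    have h4 : gm F' U y hyU m = 0 := eq_zero_of_isUnit_smul hru h3
    rw [h4] at hsm
    exact eq_zero_of_isUnit_smul (M := F'.presheaf.stalk y) hs hsm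
  · refine Set.mem_iInter₂.2 fun k hk => ⟨hxU, ?_⟩
    have hkK : k ∈ LinearMap.ker u' := by
      rw [← ht]; exact Submodule.subset_span hk
    have h1 : u.app U k = 0 := (hKeq k).1 hkK
    apply hinj
    have : stalkHom u x (gm F' U x hxU k) = 0 := by
      rw [stalkHom_germ, h1]
      exact map_zero _
    exact this.trans (map_zero _).symm

end Groth.Agent.Lib.Helper7.FPKer
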