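import Mathlib
import Groth.Agent.Lib.Helper2.NilpFree2
import Groth.Agent.Lib.Helper2.PowCrit
import Groth.Agent.Lib.Helper2.LocalCrit
import Groth.Agent.Lib.Helper21.FlatLocal6

/-!
# Universality of the flattening ideal over a complete local base (helper7)

* `flat_quotient_iff` : flatness of `(R/𝔞) ⊗ M` over `R/𝔞` tested on ideals of `R/𝔞`, as an
  injectivity statement for `R`-modules;
* `flat_quotient_localizedModule` : the property passes to localizations at a submonoid of an algebra;
* `flat_quotient_of_forall_maximal` : it can be tested at the maximal ideals (over `𝔞`) of an algebra;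
* `exists_ideal_artinian_univ` : universal form of the level `n` flattening ideal.
-/

set_option autoImplicit false
universe u
open TensorProduct

namespace Groth.Agent.Lib.Helper7.FlatIdealUniversal

open Groth.Agent.Lib.Helper2

section Nat

variable {R A : Type*} [CommRing R] [CommRing A] [Algebra R A]
  {M : Type*} [AddCommGroup M] [Module R M]

/-- naturality of `cancelBaseChange` in the first variable (no flatness needed) -/
lemma cancel_nat {Q' Q : Type*} [AddCommGroup Q'] [Module R Q'] [Module A Q']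
    [IsScalarTower R A Q'] [AddCommGroup Q] [Module R Q] [Module A Q] [IsScalarTower R A Q]
    (j : Q' →ₗ[A] Q) (x : Q' ⊗[A] (A ⊗[R] M)) :
    AlgebraTensorModule.cancelBaseChange R A A Q M (j.rTensor (A ⊗[R] M) x) =
      (j.restrictScalars R).rTensor M (AlgebraTensorModule.cancelBaseChange R A A Q' M x) := by
  induction x with
  | zero => simp
  | add x y hx hy => rw [map_add, map_add, hx, hy, map_add, map_add]
  | tmul q y =>
    induction y with
    | zero => simp
    | add y z hy hz =>
      rw [tmul_add, map_add, map_add, hy, hz, map_add, map_add]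
    | tmul a m =>
      rw [LinearMap.rTensor_tmul, AlgebraTensorModule.cancelBaseChange_tmul,
        AlgebraTensorModule.cancelBaseChange_tmul, LinearMap.rTensor_tmul]
      simp

end Nat

section Crit

variable {R : Type u} [CommRing R] {M : Type u} [AddCommGroup M] [Module R M]

/-- flatness of `(R/𝔞) ⊗ M` over `R/𝔞` as a family of injectivity statements over `R`. -/
theorem flat_quotient_iff (𝔞 : Ideal R) :
    Module.Flat (R ⧸ 𝔞) ((R ⧸ 𝔞) ⊗[R] M) ↔
      ∀ 𝔮 : Ideal (R ⧸ 𝔞), Function.Injective ((𝔮.subtype.restrictScalars R).lTensor M) := by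
  constructor
  · intro h 𝔮
    exact LocalCrit.lTensor_injective_of_flat_baseChange (A := R ⧸ 𝔞) 𝔮.subtype 𝔮.injective_subtype
  · intro H
    rw [Module.Flat.iff_rTensor_injective']
    intro 𝔮
    have h1 : Function.Injective ((𝔮.subtype.restrictScalars R).rTensor M) :=
      (LinearMap.lTensor_inj_iff_rTensor_inj _ _).mp (H 𝔮)
    intro a b hab
    have h2 := cancel_nat (R := R) (A := R ⧸ 𝔞) (M := M) 𝔮.subtype a
    have h3 := cancel_nat (R := R) (A := R ⧸ 𝔞) (M := M) 𝔮.subtype b
    rw [hab, h3] at h2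
    exact (AlgebraTensorModule.cancelBaseChange R (R ⧸ 𝔞) (R ⧸ 𝔞) 𝔮 M).injective (h1 h2.symm)

/-- injectivity over `R/𝔞` from injectivity of the restricted map over `R`. -/
theorem lTensor_injective_of_restrictScalars (𝔞 : Ideal R) (𝔮 : Ideal (R ⧸ 𝔞))
    (h : Function.Injective ((𝔮.subtype.restrictScalars R).lTensor M)) :
    Function.Injective (𝔮.subtype.lTensor ((R ⧸ 𝔞) ⊗[R] M)) := by
  rw [LinearMap.lTensor_inj_iff_rTensor_inj]
  have h1 : Function.Injective ((𝔮.subtype.restrictScalars R).rTensor M) :=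
    (LinearMap.lTensor_inj_iff_rTensor_inj _ _).mp h
  intro a b hab
  have h2 := cancel_nat (R := R) (A := R ⧸ 𝔞) (M := M) 𝔮.subtype a
  have h3 := cancel_nat (R := R) (A := R ⧸ 𝔞) (M := M) 𝔮.subtype b
  rw [hab, h3] at h2
  exact (AlgebraTensorModule.cancelBaseChange R (R ⧸ 𝔞) (R ⧸ 𝔞) 𝔮 M).injective (h1 h2.symm)

end Crit

section Loc

variable {R : Type u} [CommRing R] {S : Type u} [CommRing S] [Algebra R S]
  {M : Type u} [AddCommGroup M] [Module R M] [Module S M] [IsScalarTower R S M]
  {M' : Type u} [AddCommGroup M'] [Module R M'] [Module S M'] [IsScalarTower R S M']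

/-- injectivity of `M ⊗ j` passes to localizations of `M` over an algebra. -/
theorem lTensor_injective_of_isLocalizedModule (T : Submonoid S) (g : M →ₗ[S] M')
    [IsLocalizedModule T g] {Q' Q : Type u} [AddCommGroup Q'] [Module R Q'] [AddCommGroup Q]
    [Module R Q] (j : Q' →ₗ[R] Q) (h : Function.Injective (j.lTensor M)) :
    Function.Injective (j.lTensor M') := by
  rw [← AlgebraTensorModule.coe_lTensor (A := S)]
  have h1 := IsLocalizedModule.map_injective T (AlgebraTensorModule.rTensor R Q' g)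
    (AlgebraTensorModule.rTensor R Q g) (AlgebraTensorModule.lTensor S M j)
    (by rw [AlgebraTensorModule.coe_lTensor]; exact h)
  rwa [IsLocalizedModule.map_lTensor] at h1

/-- flatness of `(R/𝔞) ⊗ M` passes to localizations of `M` over an algebra. -/
theorem flat_quotient_localizedModule (𝔞 : Ideal R) (T : Submonoid S) (g : M →ₗ[S] M')
    [IsLocalizedModule T g] (h : Module.Flat (R ⧸ 𝔞) ((R ⧸ 𝔞) ⊗[R] M)) :
    Module.Flat (R ⧸ 𝔞) ((R ⧸ 𝔞) ⊗[R] M') := by
  rw [flat_quotient_iff] at h ⊢
  intro 𝔮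
  exact lTensor_injective_of_isLocalizedModule T g _ (h 𝔮)

/-- flatness of `(R/J) ⊗ M` can be tested at the maximal ideals of an algebra lying over `V(J)`. -/
theorem flat_quotient_of_forall_maximal (J : Ideal R)
    (H : ∀ (P : Ideal S) [P.IsMaximal], J ≤ P.comap (algebraMap R S) →
      Module.Flat R (LocalizedModule P.primeCompl M)) :
    Module.Flat (R ⧸ J) ((R ⧸ J) ⊗[R] M) := by
  rw [flat_quotient_iff]
  intro 𝔮
  rw [← AlgebraTensorModule.coe_lTensor (A := S)]
  refine injective_of_isLocalized_maximal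
    (fun P _ => LocalizedModule P.primeCompl M ⊗[R] 𝔮)
    (fun P _ => AlgebraTensorModule.rTensor R 𝔮 (LocalizedModule.mkLinearMap P.primeCompl M))
    (fun P _ => LocalizedModule P.primeCompl M ⊗[R] (R ⧸ J))
    (fun P _ => AlgebraTensorModule.rTensor R (R ⧸ J) (LocalizedModule.mkLinearMap P.primeCompl M))
    _ fun P hP => ?_
  rw [IsLocalizedModule.map_lTensor]
  by_cases hJP : J ≤ P.comap (algebraMap R S)
  · haveI := H P hJP
    rw [AlgebraTensorModule.coe_lTensor]
    exact Module.Flat.lTensor_preserves_injective_linearMap _ 𝔮.injective_subtype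
  · obtain ⟨r, hrJ, hrP⟩ := SetLike.not_le_iff_exists.mp hJP
    have hsub : ∀ x : LocalizedModule P.primeCompl M ⊗[R] 𝔮, x = 0 := by
      intro x
      induction x with
      | zero => rfl
      | add a b ha hb => rw [ha, hb, add_zero]
      | tmul m y =>
        have hrP' : algebraMap R S r ∈ P.primeCompl := hrP
        have hu := IsLocalizedModule.map_units (LocalizedModule.mkLinearMap P.primeCompl M)
          ⟨algebraMap R S r, hrP'⟩
        obtain ⟨m₀, hm₀⟩ := ((Module.End.isUnit_iff _).mp hu).2 m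
        have hm₁ : r • m₀ = m := by
          rw [← hm₀]
          simp [Module.algebraMap_end_apply]
        have hy : r • y = 0 := by
          apply Subtype.ext
          obtain ⟨z, hz⟩ := Ideal.Quotient.mk_surjective (y : R ⧸ J)
          show r • (y : R ⧸ J) = 0
          rw [← hz, ← Ideal.Quotient.mk_eq_mk, ← Submodule.Quotient.mk_smul]
          exact (Submodule.Quotient.mk_eq_zero _).mpr (J.mul_mem_right z hrJ)
        rw [← hm₁, TensorProduct.smul_tmul, hy, tmul_zero]
    intro a b _
    rw [hsub a, hsub b]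

end Loc

section Art

variable {R : Type u} [CommRing R] [IsLocalRing R]

/-- universal form of the level `n` flattening ideal: flatness of `T ⊗ N` over any `R`-algebra `T`
killed by `𝔪^n` is governed by one ideal. -/
theorem exists_ideal_artinian_univ (N : Type u) [AddCommGroup N] [Module R N] (n : ℕ) (hn : 0 < n) :
    ∃ I : Ideal R, IsLocalRing.maximalIdeal R ^ n ≤ I ∧
      ∀ (T : Type u) [CommRing T] [Algebra R T],
        IsLocalRing.maximalIdeal R ^ n ≤ RingHom.ker (algebraMap R T) →
        (Module.Flat T (T ⊗[R] N) ↔ I ≤ RingHom.ker (algebraMap R T)) := by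
  set 𝔪 := IsLocalRing.maximalIdeal R with h𝔪
  set A := R ⧸ 𝔪 ^ n with hA
  set J₀ : Ideal A := 𝔪.map (Ideal.Quotient.mk (𝔪 ^ n)) with hJ₀
  have hJ₀nil : IsNilpotent J₀ := ⟨n, by rw [hJ₀, ← Ideal.map_pow, Ideal.map_quotient_self]; rfl⟩
  haveI hJ₀max : J₀.IsMaximal := by
    refine Ideal.IsMaximal.map_of_surjective_of_ker_le Ideal.Quotient.mk_surjective ?_
    rw [Ideal.mk_ker]
    exact Ideal.pow_le_self hn.ne'
  letI : Field (A ⧸ J₀) := Ideal.Quotient.field J₀
  have hfree : Module.Free (A ⧸ J₀) ((A ⧸ J₀) ⊗[A] (A ⊗[R] N)) := Module.Free.of_divisionRing _ _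
  obtain ⟨R₀, hR₀⟩ := NilpFree2.exists_ideal_forall_free_iff (A ⊗[R] N) J₀ hJ₀nil hfree
  refine ⟨R₀.comap (Ideal.Quotient.mk (𝔪 ^ n)), ?_, ?_⟩
  · intro x hx
    rw [Ideal.mem_comap, Ideal.Quotient.eq_zero_iff_mem.mpr hx]
    exact R₀.zero_mem
  · intro T _ _ hT
    letI : Algebra A T :=
      (Ideal.Quotient.lift (𝔪 ^ n) (algebraMap R T) (fun a ha => hT ha)).toAlgebra
    haveI : IsScalarTower R A T := IsScalarTower.of_algebraMap_eq (fun x => rfl)
    have h1 := (hR₀ T).2
    let e : T ⊗[A] (A ⊗[R] N) ≃ₗ[T] T ⊗[R] N :=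
      AlgebraTensorModule.cancelBaseChange R A T T N
    rw [← Module.Flat.equiv_iff e, h1]
    constructor
    · intro h x hx
      have h2 : algebraMap A T (Ideal.Quotient.mk (𝔪 ^ n) x) ∈ R₀.map (algebraMap A T) :=
        Ideal.mem_map_of_mem _ hx
      rw [h, Ideal.mem_bot] at h2
      exact h2
    · intro h
      rw [eq_bot_iff, Ideal.map_le_iff_le_comap]
      intro x hx
      obtain ⟨r, rfl⟩ := Ideal.Quotient.mk_surjective x
      rw [Ideal.mem_comap, Ideal.mem_bot]
      exact h hx

end Art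

section Bridge

variable {R S R' S' : Type u} [CommRing R] [CommRing S] [CommRing R'] [CommRing S']
  [Algebra R S] [Algebra R R'] [Algebra S S'] [Algebra R' S'] [Algebra R S']
  [IsScalarTower R S S'] [IsScalarTower R R' S'] [Algebra.IsPushout R S R' S']
  {M M' : Type u} [AddCommGroup M] [Module S M] [Module R M] [IsScalarTower R S M]
  [AddCommGroup M'] [Module S' M'] [Module R' M'] [IsScalarTower R' S' M'] [Module S M']
  [IsScalarTower S S' M']

/-- common denominators in `S' ⊗ M_q`. -/
theorem exists_smul_eq_baseChange (q : Ideal S) [q.IsPrime]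
    (z : S' ⊗[S] LocalizedModule q.primeCompl M) :
    ∃ (t : q.primeCompl) (w : S' ⊗[S] M),
      (t : S) • z = (LocalizedModule.mkLinearMap q.primeCompl M).baseChange S' w := by
  induction z with
  | zero => exact ⟨1, 0, by simp⟩
  | tmul s' x =>
    induction x using LocalizedModule.induction_on with
    | h m t =>
      refine ⟨t, s' ⊗ₜ m, ?_⟩
      rw [LinearMap.baseChange_tmul, TensorProduct.smul_tmul', TensorProduct.smul_tmul,
        LocalizedModule.mkLinearMap_apply]
      congr 1
      rw [LocalizedModule.smul'_mk, ← Submonoid.smul_def, LocalizedModule.mk_cancel t]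
  | add z₁ z₂ h₁ h₂ =>
    obtain ⟨t₁, w₁, e₁⟩ := h₁
    obtain ⟨t₂, w₂, e₂⟩ := h₂
    refine ⟨t₁ * t₂, (t₂ : S) • w₁ + (t₁ : S) • w₂, ?_⟩
    rw [smul_add, map_add, LinearMap.map_smul_of_tower, LinearMap.map_smul_of_tower, ← e₁, ← e₂,
      Submonoid.coe_mul, smul_smul, smul_smul, mul_comm (t₂ : S) (t₁ : S)]

variable (R) in
/-- flatness at a prime `q'` of `S' = S ⊗ R'` from flatness of `R' ⊗ M_q`, `q = q' ∩ S`. -/
theorem flat_localizedModule_of_flat_baseChange (f : M →ₗ[S] M') (hf : IsBaseChange S' f)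
    (q' : Ideal S') [q'.IsPrime] (q : Ideal S) [q.IsPrime]
    (hq : q = q'.comap (algebraMap S S'))
    (h : Module.Flat R' (R' ⊗[R] LocalizedModule q.primeCompl M)) :
    Module.Flat R' (LocalizedModule q'.primeCompl M') := by
  classical
  set Mq := LocalizedModule q.primeCompl M with hMq
  set mk := LocalizedModule.mkLinearMap q.primeCompl M with hmk
  set mk' := LocalizedModule.mkLinearMap q'.primeCompl M' with hmk'
  have hmem : ∀ t : q.primeCompl, algebraMap S S' (t : S) ∈ q'.primeCompl := by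
    rintro ⟨t, ht'⟩ ht
    exact ht' (by rw [hq]; exact ht)
  have hunit : ∀ t : q.primeCompl,
      IsUnit (algebraMap S (Module.End S (LocalizedModule q'.primeCompl M')) t) := by
    intro t
    have hu := IsLocalizedModule.map_units mk' ⟨algebraMap S S' t, hmem t⟩
    rw [Module.End.isUnit_iff] at hu ⊢
    convert hu using 1
    ext x
    simp [Module.algebraMap_end_apply]
  let g : Mq →ₗ[S] LocalizedModule q'.primeCompl M' :=
    IsLocalizedModule.lift q.primeCompl mk ((mk'.restrictScalars S).comp f) hunit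
  have hg : ∀ m, g (mk m) = mk' (f m) := fun m =>
    IsLocalizedModule.lift_apply q.primeCompl mk _ hunit m
  let h₀ : S' ⊗[S] Mq →ₗ[S'] LocalizedModule q'.primeCompl M' := LinearMap.liftBaseChange S' g
  have hcomp : ∀ w : S' ⊗[S] M, h₀ (mk.baseChange S' w) = mk' (hf.equiv w) := by
    intro w
    induction w with
    | zero => simp
    | add a b ha hb => rw [map_add, map_add, ha, hb, map_add, map_add]
    | tmul s' m =>
      rw [LinearMap.baseChange_tmul, LinearMap.liftBaseChange_tmul, hg, hf.equiv_tmul, map_smul]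
  haveI : IsLocalizedModule q'.primeCompl h₀ := by
    refine ⟨IsLocalizedModule.map_units mk', ?_, ?_⟩
    · intro y
      obtain ⟨⟨m', s⟩, hy⟩ := IsLocalizedModule.surj q'.primeCompl mk' y
      refine ⟨⟨mk.baseChange S' (hf.equiv.symm m'), s⟩, ?_⟩
      rw [hcomp, LinearEquiv.apply_symm_apply]; exact hy
    · intro z₁ z₂ hz
      obtain ⟨t, w, htw⟩ := exists_smul_eq_baseChange (S' := S') q (z₁ - z₂)
      have h1 : mk' (hf.equiv w) = 0 := by
        rw [← hcomp, ← htw, LinearMap.map_smul_of_tower, map_sub, hz, sub_self, smul_zero]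
      obtain ⟨c, hc⟩ := IsLocalizedModule.exists_of_eq (S := q'.primeCompl) (f := mk')
        (h1.trans (map_zero mk').symm)
      have h2 : (c : S') • w = 0 := by
        apply hf.equiv.injective
        rw [map_smul, map_zero]; simpa [Submonoid.smul_def] using hc
      refine ⟨c * ⟨algebraMap S S' t, hmem t⟩, ?_⟩
      rw [Submonoid.smul_def, Submonoid.smul_def, ← sub_eq_zero, ← smul_sub, Submonoid.coe_mul,
        mul_smul]
      show (c : S') • (algebraMap S S' (t : S)) • (z₁ - z₂) = 0
      rw [algebraMap_smul, htw, ← map_smul, h2, map_zero]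
  haveI : Algebra.IsPushout R R' S S' := Algebra.IsPushout.symm inferInstance
  haveI : Module.Flat R' (S' ⊗[S] Mq) :=
    Module.Flat.of_linearEquiv (Algebra.IsPushout.cancelBaseChange R R' S S' Mq)
  exact Groth.Agent.Lib.Helper21.FlatLocal.flat_of_isLocalizedModule q'.primeCompl h₀

end Bridge

section Main

variable {R S R' S' : Type u} [CommRing R] [IsLocalRing R] [CommRing S]
  [CommRing R'] [IsLocalRing R'] [IsNoetherianRing R'] [CommRing S']
  [Algebra R S] [Algebra R R'] [IsLocalHom (algebraMap R R')] [Algebra S S'] [Algebra R' S']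
  [Algebra R S'] [IsScalarTower R S S'] [IsScalarTower R R' S'] [Algebra.IsPushout R S R' S']
  {M M' : Type u} [AddCommGroup M] [Module S M] [Module R M] [IsScalarTower R S M]
  [AddCommGroup M'] [Module S' M'] [Module R' M'] [IsScalarTower R' S' M'] [Module S M']
  [IsScalarTower S S' M']

/-- universality of the least flattening ideal along a local homomorphism to a Noetherian local
ring. -/
theorem main (f : M →ₗ[S] M') (hf : IsBaseChange S' f) (I : Ideal R)
    (hI : ∀ (q : Ideal S) [q.IsPrime], q.comap (algebraMap R S) = IsLocalRing.maximalIdeal R →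
      Module.Flat (R ⧸ I) ((R ⧸ I) ⊗[R] LocalizedModule q.primeCompl M))
    (hmin : ∀ J : Ideal R, (∀ (q : Ideal S) [q.IsPrime],
      q.comap (algebraMap R S) = IsLocalRing.maximalIdeal R →
        Module.Flat (R ⧸ J) ((R ⧸ J) ⊗[R] LocalizedModule q.primeCompl M)) → I ≤ J) :
    (∀ (q' : Ideal S') [q'.IsPrime],
      q'.comap (algebraMap R' S') = IsLocalRing.maximalIdeal R' →
        Module.Flat R' (LocalizedModule q'.primeCompl M')) ↔
      I ≤ RingHom.ker (algebraMap R R') := by
  classical
  set 𝔪 := IsLocalRing.maximalIdeal R with h𝔪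
  set 𝔪' := IsLocalRing.maximalIdeal R' with h𝔪'
  have hloc : IsLocalHom (algebraMap R R') := inferInstance
  have hcomap : 𝔪'.comap (algebraMap R R') = 𝔪 :=
    ((IsLocalRing.local_hom_TFAE (algebraMap R R')).out 0 4).mp hloc
  have hmap : 𝔪.map (algebraMap R R') ≤ 𝔪' :=
    ((IsLocalRing.local_hom_TFAE (algebraMap R R')).out 0 2).mp hloc
  constructor
  · -- flatness forces `I` into all `φ⁻¹(𝔪'^n)`
    intro hfl
    have hker : ∀ n, 0 < n → I ≤ (𝔪' ^ n).comap (algebraMap R R') := by
      intro n hn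
      apply hmin
      intro q _ hqm
      set 𝔫 := 𝔪' ^ n with h𝔫
      set 𝔞 := 𝔫.comap (algebraMap R R') with h𝔞
      have ha : Module.Flat (R' ⧸ 𝔫) ((R' ⧸ 𝔫) ⊗[R'] M') := by
        refine flat_quotient_of_forall_maximal (S := S') 𝔫 (fun P _ hP => hfl P ?_)
        haveI : (P.comap (algebraMap R' S')).IsPrime := Ideal.comap_isPrime _ _
        have h1 : 𝔪' ≤ P.comap (algebraMap R' S') := Ideal.IsPrime.le_of_pow_le hP
        exact ((IsLocalRing.maximalIdeal.isMaximal R').eq_of_le (Ideal.IsPrime.ne_top inferInstance)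
          h1).symm
      haveI : Algebra.IsPushout R R' S S' := Algebra.IsPushout.symm inferInstance
      let e₁ : M' ≃ₗ[R'] R' ⊗[R] M :=
        hf.equiv.symm.restrictScalars R' ≪≫ₗ Algebra.IsPushout.cancelBaseChange R R' S S' M
      let e₂ : (R' ⧸ 𝔫) ⊗[R'] M' ≃ₗ[R' ⧸ 𝔫] (R' ⧸ 𝔫) ⊗[R] M :=
        AlgebraTensorModule.congr (LinearEquiv.refl _ _) e₁ ≪≫ₗ
          AlgebraTensorModule.cancelBaseChange R R' (R' ⧸ 𝔫) (R' ⧸ 𝔫) M
      have hb : Module.Flat (R' ⧸ 𝔫) ((R' ⧸ 𝔫) ⊗[R] M) := Module.Flat.of_linearEquiv e₂.symm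
      obtain ⟨I₀, hI₀1, hI₀2⟩ := exists_ideal_artinian_univ (R := R) M n hn
      have hk1 : RingHom.ker (algebraMap R (R' ⧸ 𝔫)) = 𝔞 := by
        ext x
        rw [RingHom.mem_ker, IsScalarTower.algebraMap_apply R R' (R' ⧸ 𝔫),
          Ideal.Quotient.algebraMap_eq, Ideal.Quotient.eq_zero_iff_mem, Ideal.mem_comap]
      have hpow : 𝔪 ^ n ≤ 𝔞 := by
        rw [h𝔞, ← Ideal.map_le_iff_le_comap, Ideal.map_pow]
        exact Ideal.pow_right_mono hmap n
      have hc1 : I₀ ≤ 𝔞 := by
        have := (hI₀2 (R' ⧸ 𝔫) (by rw [hk1]; exact hpow)).mp hb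
        rwa [hk1] at this
      have hk2 : RingHom.ker (algebraMap R (R ⧸ 𝔞)) = 𝔞 := by
        rw [Ideal.Quotient.algebraMap_eq]; exact Ideal.mk_ker
      have hc2 : Module.Flat (R ⧸ 𝔞) ((R ⧸ 𝔞) ⊗[R] M) :=
        (hI₀2 (R ⧸ 𝔞) (by rw [hk2]; exact hpow)).mpr (by rw [hk2]; exact hc1)
      exact flat_quotient_localizedModule (S := S) 𝔞 q.primeCompl
        (LocalizedModule.mkLinearMap q.primeCompl M) hc2
    intro x hx
    rw [RingHom.mem_ker]
    have h1 : algebraMap R R' x ∈ ⨅ n : ℕ, 𝔪' ^ n := by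
      rw [Ideal.mem_iInf]
      intro n
      rcases Nat.eq_zero_or_pos n with rfl | hn
      · rw [pow_zero, Ideal.one_eq_top]; exact Submodule.mem_top
      · exact hker n hn hx
    rw [Ideal.iInf_pow_eq_bot_of_isLocalRing _ (Ideal.IsPrime.ne_top inferInstance)] at h1
    exact h1
  · -- base change
    intro hle q' _ hq'
    set q := q'.comap (algebraMap S S') with hq
    haveI : q.IsPrime := Ideal.comap_isPrime _ _
    have hqm : q.comap (algebraMap R S) = 𝔪 := by
      rw [hq, Ideal.comap_comap, ← IsScalarTower.algebraMap_eq R S S',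
        IsScalarTower.algebraMap_eq R R' S', ← Ideal.comap_comap, hq', hcomap]
    haveI h1 := hI q hqm
    letI : Algebra (R ⧸ I) R' :=
      (Ideal.Quotient.lift I (algebraMap R R') (fun a ha => hle ha)).toAlgebra
    haveI : IsScalarTower R (R ⧸ I) R' := IsScalarTower.of_algebraMap_eq (fun x => rfl)
    have h3 : Module.Flat R' (R' ⊗[R] LocalizedModule q.primeCompl M) :=
      Module.Flat.of_linearEquiv
        (AlgebraTensorModule.cancelBaseChange R (R ⧸ I) R' R' (LocalizedModule q.primeCompl M)).symm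
    exact flat_localizedModule_of_flat_baseChange R f hf q' q rfl h3

end Main

end Groth.Agent.Lib.Helper7.FlatIdealUniversal
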