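import Mathlib
import Groth.Agent.Lib.Helper7.FPKer
import Groth.Agent.Lib.Helper29.FlatExt

/-!
# Helper7 — FinFreeResFlat: finite free resolutions of flat finitely presented modules
(EGA IV 11.3.9): `A → B` flat of finite presentation, `M` a finitely presented `B`-module flat over
`A`; then `M` has a resolution by finite free `B`-modules. (Construction adapted from helper10's
`FinFreeRes`, the Noetherian case.)
-/

set_option maxHeartbeats 400000
set_option autoImplicit false

universe u

namespace Groth.Agent.Lib.Helper7.FinFreeResFlat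

open CategoryTheory Function

section Step

variable (A : Type u) {B : Type u} [CommRing A] [CommRing B] [Algebra A B]
  [Algebra.FinitePresentation A B]

/-- one step: the kernel of a surjection of `A`-flat finitely presented `B`-modules is again `A`-flat
and finitely presented. -/
theorem step (N : Type u) [AddCommGroup N] [Module B N] [Module A N] [IsScalarTower A B N]
    [Module.FinitePresentation B N] [Module.Flat A N]
    (G : Type u) [AddCommGroup G] [Module B G] [Module A G] [IsScalarTower A B G]
    [Module.FinitePresentation B G] [Module.Flat A G]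
    (p : G →ₗ[B] N) (hp : Surjective p) :
    Module.FinitePresentation B (LinearMap.ker p) ∧ Module.Flat A (LinearMap.ker p) := by
  refine ⟨Groth.Agent.Lib.Helper7.FPKer.fp_ker_of_flat A B N p hp, ?_⟩
  exact Groth.Agent.Lib.Helper29.FlatExt.flat_of_exact_left
    ((LinearMap.ker p).subtype.restrictScalars A) (p.restrictScalars A)
    (LinearMap.ker p).injective_subtype hp (LinearMap.exact_subtype_ker_map p)

end Step

variable (B : Type u) [CommRing B]

lemma exists_cover {X Y : ModuleCat.{u} B} (f : X ⟶ Y) :
    ∃ (ι : Type u) (p : (ι →₀ B) →ₗ[B] X),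
      LinearMap.range p = LinearMap.ker f.hom ∧ ((LinearMap.ker f.hom).FG → Finite ι) := by
  classical
  by_cases hfin : (LinearMap.ker f.hom).FG
  · obtain ⟨S, hS⟩ := hfin
    refine ⟨S, Finsupp.linearCombination B (fun s : S => (s : X)), ?_, fun _ => inferInstance⟩
    rw [Finsupp.range_linearCombination (R := B), Subtype.range_coe_subtype]
    exact hS
  · refine ⟨LinearMap.ker f.hom, Finsupp.linearCombination B (fun k : LinearMap.ker f.hom => (k : X)),
      ?_, fun h => absurd h hfin⟩
    rw [Finsupp.range_linearCombination (R := B), Subtype.range_coe_subtype]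
    exact Submodule.span_eq (LinearMap.ker f.hom)

noncomputable def syzIdx {X Y : ModuleCat.{u} B} (f : X ⟶ Y) : Type u :=
  (exists_cover B f).choose

noncomputable def syzMap {X Y : ModuleCat.{u} B} (f : X ⟶ Y) : (syzIdx B f →₀ B) →ₗ[B] X :=
  (exists_cover B f).choose_spec.choose

lemma syzMap_range {X Y : ModuleCat.{u} B} (f : X ⟶ Y) :
    LinearMap.range (syzMap B f) = LinearMap.ker f.hom :=
  (exists_cover B f).choose_spec.choose_spec.1

lemma syzIdx_finite {X Y : ModuleCat.{u} B} (f : X ⟶ Y) (h : (LinearMap.ker f.hom).FG) :
    Finite (syzIdx B f) :=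
  (exists_cover B f).choose_spec.choose_spec.2 h

noncomputable def fsyz {X Y : ModuleCat.{u} B} (f : X ⟶ Y) : ModuleCat.{u} B :=
  ModuleCat.of B (syzIdx B f →₀ B)

noncomputable def fd {X Y : ModuleCat.{u} B} (f : X ⟶ Y) : fsyz B f ⟶ X :=
  ModuleCat.ofHom (syzMap B f)

lemma fd_comp {X Y : ModuleCat.{u} B} (f : X ⟶ Y) : fd B f ≫ f = 0 := by
  ext x
  have : syzMap B f x ∈ LinearMap.ker f.hom := by
    rw [← syzMap_range]; exact ⟨x, rfl⟩
  exact this

lemma fd_exact {X Y : ModuleCat.{u} B} (f : X ⟶ Y) :
    (ShortComplex.mk (fd B f) f (fd_comp B f)).Exact := by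
  rw [ShortComplex.moduleCat_exact_iff_range_eq_ker]
  exact syzMap_range B f

instance {X Y : ModuleCat.{u} B} (f : X ⟶ Y) : Module.Free B (fsyz B f) :=
  inferInstanceAs (Module.Free B (syzIdx B f →₀ B))

lemma fsyz_finite {X Y : ModuleCat.{u} B} (f : X ⟶ Y) (h : (LinearMap.ker f.hom).FG) :
    Module.Finite B (fsyz B f) := by
  have := syzIdx_finite B f h
  exact inferInstanceAs (Module.Finite B (syzIdx B f →₀ B))

structure Stage where
  X : ModuleCat.{u} B
  Y : ModuleCat.{u} B
  f : X ⟶ Y

noncomputable def Stage.next (s : Stage B) : Stage B := ⟨fsyz B s.f, s.X, fd B s.f⟩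

noncomputable def stage (M : ModuleCat.{u} B) : ℕ → Stage B
  | 0 => ⟨fsyz B (0 : M ⟶ ModuleCat.of B PUnit), M, fd B _⟩
  | n + 1 => (stage M n).next

lemma stage_free (M : ModuleCat.{u} B) (n : ℕ) : Module.Free B (stage B M n).X := by
  cases n with
  | zero => exact inferInstanceAs (Module.Free B (fsyz B _))
  | succ n => exact inferInstanceAs (Module.Free B (fsyz B _))

noncomputable def cx (M : ModuleCat.{u} B) : ChainComplex (ModuleCat.{u} B) ℕ :=
  ChainComplex.of (fun n => (stage B M n).X) (fun n => (stage B M (n + 1)).f)
    (fun n => fd_comp B (stage B M (n + 1)).f)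

lemma cx_d (M : ModuleCat.{u} B) (n : ℕ) :
    (cx B M).d (n + 1) n = (stage B M (n + 1)).f := by
  simp only [cx, ChainComplex.of]
  exact ChainComplex.of_d (fun n => (stage B M n).X) (fun n => (stage B M (n + 1)).f) n

set_option backward.isDefEq.respectTransparency.types false in
lemma cx_exactAt_succ (M : ModuleCat.{u} B) (n : ℕ) : (cx B M).ExactAt (n + 1) := by
  rw [HomologicalComplex.exactAt_iff' _ (n + 1 + 1) (n + 1) n (by simp) (by simp)]
  simp only [HomologicalComplex.sc', HomologicalComplex.shortComplexFunctor', cx,
    ChainComplex.of_d]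
  exact fd_exact B (stage B M (n + 1)).f

instance (M : ModuleCat.{u} B) (n : ℕ) : Projective ((cx B M).X n) := by
  have : Module.Free B ((cx B M).X n) := stage_free B M n
  exact (IsProjective.iff_projective (R := B) (P := (cx B M).X n)).mp inferInstance

lemma stage_zero_f_epi (M : ModuleCat.{u} B) : Epi (stage B M 0).f := by
  rw [ModuleCat.epi_iff_range_eq_top]
  change LinearMap.range (syzMap B (0 : M ⟶ ModuleCat.of B PUnit)) = ⊤
  rw [syzMap_range]
  ext x
  simp

set_option backward.defeqAttrib.useBackward true in
set_option backward.isDefEq.respectTransparency false in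
noncomputable def res (M : ModuleCat.{u} B) : ProjectiveResolution M where
  complex := cx B M
  π := (ChainComplex.toSingle₀Equiv _ _).symm ⟨(stage B M 0).f, by
          rw [cx_d]; exact fd_comp B (stage B M 0).f⟩
  quasiIso := ⟨fun n => by
    cases n
    · rw [ChainComplex.quasiIsoAt₀_iff, ShortComplex.quasiIso_iff_of_zeros']
      · dsimp
        refine (ShortComplex.exact_and_epi_g_iff_of_iso ?_).2
          ⟨fd_exact B (stage B M 0).f, stage_zero_f_epi B M⟩
        exact ShortComplex.isoMk (Iso.refl _) (Iso.refl _) (Iso.refl _)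
          (by
            have h : (cx B M).d 1 0 = (stage B M 1).f := cx_d B M 0
            simp [h, stage, Stage.next]) (by simp)
      all_goals rfl
    · rw [quasiIsoAt_iff_exactAt']
      · apply cx_exactAt_succ
      · apply ChainComplex.exactAt_succ_single_obj⟩

section Inv

variable (A : Type u) [CommRing A] [Algebra A B] [Algebra.FinitePresentation A B]
  [Module.Flat A B]

/-- the invariant carried along the construction: the kernel of the stage map is finitely presented
over `B` and flat over `A` (for any compatible `A`-module structure on the source). -/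
def Inv (s : Stage B) : Prop :=
  ∀ (_ : Module A s.X) (_ : IsScalarTower A B s.X),
    Module.FinitePresentation B (LinearMap.ker s.f.hom) ∧ Module.Flat A (LinearMap.ker s.f.hom)

omit [Algebra.FinitePresentation A B] [Module.Flat A B] in
lemma inv_fg (s : Stage B) (h : Inv B A s) : (LinearMap.ker s.f.hom).FG := by
  letI : Module A s.X := Module.compHom s.X (algebraMap A B)
  haveI : IsScalarTower A B s.X := IsScalarTower.of_algebraMap_smul fun _ _ => rfl
  haveI := (h inferInstance inferInstance).1
  exact Module.Finite.iff_fg.mp inferInstance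

lemma ker_fp_flat_of_surjective (G : Type u) [AddCommGroup G] [Module B G] [Module A G]
    [IsScalarTower A B G] [Module.Free B G] [Module.Finite B G]
    (N : Type u) [AddCommGroup N] [Module B N]
    [Module A N] [IsScalarTower A B N] [Module.FinitePresentation B N] [Module.Flat A N]
    (p : G →ₗ[B] N) (hp : Surjective p) :
    Module.FinitePresentation B (LinearMap.ker p) ∧ Module.Flat A (LinearMap.ker p) := by
  haveI : Module.Flat A G := Module.Flat.trans A B G
  haveI : Module.FinitePresentation B G := Module.finitePresentation_of_projective B G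
  exact step A N G p hp

lemma ker_fp_flat_of_range_eq (G : Type u) [AddCommGroup G] [Module B G] [Module A G]
    [IsScalarTower A B G] [Module.Free B G] [Module.Finite B G]
    (Y : Type u) [AddCommGroup Y] [Module B Y] [Module A Y] [IsScalarTower A B Y]
    (K : Submodule B Y) [Module.FinitePresentation B K] [Module.Flat A K]
    (g : G →ₗ[B] Y) (hg : LinearMap.range g = K) :
    Module.FinitePresentation B (LinearMap.ker g) ∧ Module.Flat A (LinearMap.ker g) := by
  let p : G →ₗ[B] K := g.codRestrict K (fun x => by rw [← hg]; exact ⟨x, rfl⟩)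
  have hp : Surjective p := by
    rintro ⟨y, hy⟩
    rw [← hg] at hy
    obtain ⟨x, rfl⟩ := hy
    exact ⟨x, rfl⟩
  have hk : LinearMap.ker p = LinearMap.ker g := LinearMap.ker_codRestrict _ _ _
  have := ker_fp_flat_of_surjective B A G K p hp
  rw [hk] at this
  exact this

lemma inv_next (s : Stage B) (h : Inv B A s) : Inv B A s.next := by
  intro i1 i2
  letI : Module A s.X := Module.compHom s.X (algebraMap A B)
  haveI : IsScalarTower A B s.X := IsScalarTower.of_algebraMap_smul fun _ _ => rfl
  obtain ⟨h1, h2⟩ := h inferInstance inferInstance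
  haveI : Module.Finite B s.next.X := fsyz_finite B s.f (inv_fg B A s h)
  haveI : Module.Free B s.next.X := inferInstanceAs (Module.Free B (fsyz B s.f))
  exact ker_fp_flat_of_range_eq B A s.next.X s.X (LinearMap.ker s.f.hom) s.next.f.hom
    (syzMap_range B s.f)

lemma zero_ker_fg (M : Type u) [AddCommGroup M] [Module B M] [Module.Finite B M] :
    (LinearMap.ker (0 : ModuleCat.of B M ⟶ ModuleCat.of B PUnit).hom).FG := by
  have : LinearMap.ker (0 : ModuleCat.of B M ⟶ ModuleCat.of B PUnit).hom = ⊤ := by
    ext x; simp
  rw [this]
  exact Module.Finite.fg_top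

lemma inv_zero (M : Type u) [AddCommGroup M] [Module B M] [Module A M] [IsScalarTower A B M]
    [Module.FinitePresentation B M] [Module.Flat A M] :
    Inv B A (stage B (ModuleCat.of B M) 0) := by
  intro i1 i2
  haveI : Module.Finite B (stage B (ModuleCat.of B M) 0).X :=
    fsyz_finite B _ (zero_ker_fg B M)
  haveI : Module.Free B (stage B (ModuleCat.of B M) 0).X := stage_free B _ 0
  have hp : Surjective (stage B (ModuleCat.of B M) 0).f.hom := by
    rw [← LinearMap.range_eq_top]
    change LinearMap.range (syzMap B (0 : ModuleCat.of B M ⟶ ModuleCat.of B PUnit)) = ⊤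
    rw [syzMap_range]
    ext x; simp
  let p : (stage B (ModuleCat.of B M) 0).X →ₗ[B] M := (stage B (ModuleCat.of B M) 0).f.hom
  exact ker_fp_flat_of_surjective B A (stage B (ModuleCat.of B M) 0).X M p hp

lemma inv_stage (M : Type u) [AddCommGroup M] [Module B M] [Module A M] [IsScalarTower A B M]
    [Module.FinitePresentation B M] [Module.Flat A M] (n : ℕ) :
    Inv B A (stage B (ModuleCat.of B M) n) := by
  induction n with
  | zero => exact inv_zero B A M
  | succ n ih => exact inv_next B A _ ih

theorem main (M : Type u) [AddCommGroup M] [Module B M] [Module A M] [IsScalarTower A B M]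
    [Module.FinitePresentation B M] [Module.Flat A M] :
    ∃ P : ProjectiveResolution (ModuleCat.of B M),
      ∀ n : ℕ, Module.Finite B (P.complex.X n) ∧ Module.Free B (P.complex.X n) := by
  refine ⟨res B (ModuleCat.of B M), fun n => ⟨?_, stage_free B _ n⟩⟩
  change Module.Finite B (stage B (ModuleCat.of B M) n).X
  cases n with
  | zero => exact fsyz_finite B _ (zero_ker_fg B M)
  | succ n => exact fsyz_finite B _ (inv_fg B A _ (inv_stage B A M n))

end Inv

end Groth.Agent.Lib.Helper7.FinFreeResFlat
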