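import Mathlib
import Groth.Agent.Lib.Helper7.FinFreeResFlat
import Groth.Agent.Lib.Helper21.FlatDescA
import Groth.Agent.Lib.Helper21.FlatDescQ4
import Groth.Agent.Lib.Helper21.FlatLocal6
import Groth.Agent.S2106

/-!
# Helper7 — FibrePD: projective dimension of a flat finitely presented family is the supremum of the
projective dimensions of the fibres (EGA IV 11.3.x)

* `hasPDLT_iff_of_shortExact`: dimension shifting along `0 → K → G → M → 0` with `G` projective.
* `baseChange_shortExact`: base change of such a sequence to `B ⊗_A κ` stays short exact when `M` is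
  `A`-flat.
-/

set_option autoImplicit false

namespace Groth.Agent.Lib.Helper7.FibrePD

open TensorProduct Function CategoryTheory

universe u

section Shift

variable {B : Type u} [CommRing B] {K G M : Type u} [AddCommGroup K] [Module B K]
  [AddCommGroup G] [Module B G] [AddCommGroup M] [Module B M]

/-- dimension shifting. -/
theorem hasPDLT_iff_of_shortExact (j : K →ₗ[B] G) (π : G →ₗ[B] M) (hj : Injective j)
    (hex : Exact j π) (hπ : Surjective π) [Module.Projective B G] (n : ℕ) :
    HasProjectiveDimensionLT (ModuleCat.of B M) (n + 2) ↔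
      HasProjectiveDimensionLT (ModuleCat.of B K) (n + 1) := by
  have hS : (ShortComplex.mk (ModuleCat.ofHom j) (ModuleCat.ofHom π)
      (by ext x; exact hex.apply_apply_eq_zero x)).ShortExact :=
    ModuleCat.shortComplex_shortExact _ hex hj hπ
  exact hS.hasProjectiveDimensionLT_X₃_iff n
    ((IsProjective.iff_projective (R := B) (P := G)).mp inferInstance)

end Shift

section BaseChange

attribute [local instance] Algebra.TensorProduct.rightAlgebra

variable {A B : Type u} [CommRing A] [CommRing B] [Algebra A B]
  {K G M : Type u} [AddCommGroup K] [Module B K] [Module A K] [IsScalarTower A B K]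
  [AddCommGroup G] [Module B G] [Module A G] [IsScalarTower A B G]
  [AddCommGroup M] [Module B M] [Module A M] [IsScalarTower A B M]

set_option maxHeartbeats 1600000 in
set_option synthInstance.maxHeartbeats 200000 in
/-- base change to `B ⊗_A κ` of a short exact sequence with `A`-flat cokernel is short exact. -/
theorem baseChange_shortExact (j : K →ₗ[B] G) (π : G →ₗ[B] M) (hj : Injective j)
    (hex : Exact j π) (hπ : Surjective π) [Module.Flat A M]
    (κ : Type u) [CommRing κ] [Algebra A κ] :
    Injective (j.baseChange (B ⊗[A] κ)) ∧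
      Exact (j.baseChange (B ⊗[A] κ)) (π.baseChange (B ⊗[A] κ)) ∧
      Surjective (π.baseChange (B ⊗[A] κ)) := by
  refine ⟨?_, ?_, ?_⟩
  · have h1 : Injective ((j.restrictScalars A).lTensor κ) :=
      Groth.Agent.Lib.Helper21.FlatDesc.lTensor_injective_of_flat_coker
        (j.restrictScalars A) (π.restrictScalars A) hj hex hπ κ
    intro a b hab
    obtain ⟨a', rfl⟩ := (Algebra.IsPushout.cancelBaseChange A κ B (B ⊗[A] κ) K).symm.surjective a
    obtain ⟨b', rfl⟩ := (Algebra.IsPushout.cancelBaseChange A κ B (B ⊗[A] κ) K).symm.surjective b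
    rw [Groth.Agent.Lib.Helper7.FPKer.baseChange_cancelBaseChange_symm,
      Groth.Agent.Lib.Helper7.FPKer.baseChange_cancelBaseChange_symm] at hab
    rw [h1 ((Algebra.IsPushout.cancelBaseChange A κ B (B ⊗[A] κ) G).symm.injective hab)]
  · have := lTensor_exact (B ⊗[A] κ) hex hπ
    exact this
  · exact LinearMap.lTensor_surjective (B ⊗[A] κ) hπ

end BaseChange

section FibreFlat

variable {A B S κ : Type u} [CommRing A] [CommRing B] [CommRing S] [CommRing κ]
  [Algebra A B] [Algebra B S] [Algebra A S] [IsScalarTower A B S] [Algebra A κ]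

set_option maxHeartbeats 1600000 in
set_option synthInstance.maxHeartbeats 200000 in
/-- if `(B ⊗_A κ) ⊗_B M` is flat over `B ⊗_A κ` and `κ → S/I` is an `A`-algebra map, then for a base
change `M_S` of `M` to `S`, `M_S / I M_S` is flat over `S / I`. -/
theorem flat_quotient_of_fibre_flat (I : Ideal S) (g : κ →ₐ[A] S ⧸ I)
    (M : Type u) [AddCommGroup M] [Module B M]
    (Mq : Type u) [AddCommGroup Mq] [Module S Mq] [Module B Mq] [IsScalarTower B S Mq]
    (f : M →ₗ[B] Mq) (hf : IsBaseChange S f)
    [Module.Flat (B ⊗[A] κ) ((B ⊗[A] κ) ⊗[B] M)] :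
    Module.Flat (S ⧸ I) (Mq ⧸ I • (⊤ : Submodule S Mq)) := by
  -- the algebra `B ⊗ κ → S / I`
  let φ : B ⊗[A] κ →ₐ[A] S ⧸ I :=
    Algebra.TensorProduct.lift (IsScalarTower.toAlgHom A B (S ⧸ I)) g (fun _ _ => Commute.all _ _)
  letI aφ : Algebra (B ⊗[A] κ) (S ⧸ I) := φ.toRingHom.toAlgebra
  haveI tφ : IsScalarTower B (B ⊗[A] κ) (S ⧸ I) :=
    IsScalarTower.of_algebraMap_eq fun b => by
      show algebraMap B (S ⧸ I) b = φ (algebraMap B (B ⊗[A] κ) b)
      rw [Algebra.TensorProduct.algebraMap_apply]
      simp [φ]
  let e0 : (S ⧸ I) ⊗[S] Mq ≃ₗ[S ⧸ I] (S ⧸ I) ⊗[S] (S ⊗[B] M) :=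
    TensorProduct.AlgebraTensorModule.congr (LinearEquiv.refl (S ⧸ I) (S ⧸ I)) hf.equiv.symm
  let e1 : (S ⧸ I) ⊗[S] (S ⊗[B] M) ≃ₗ[S ⧸ I] (S ⧸ I) ⊗[B] M :=
    TensorProduct.AlgebraTensorModule.cancelBaseChange B S (S ⧸ I) (S ⧸ I) M
  let e2 : (S ⧸ I) ⊗[B ⊗[A] κ] ((B ⊗[A] κ) ⊗[B] M) ≃ₗ[S ⧸ I] (S ⧸ I) ⊗[B] M :=
    TensorProduct.AlgebraTensorModule.cancelBaseChange B (B ⊗[A] κ) (S ⧸ I) (S ⧸ I) M
  haveI h1 : Module.Flat (S ⧸ I) ((S ⧸ I) ⊗[S] Mq) :=
    Module.Flat.of_linearEquiv (e0 ≪≫ₗ e1 ≪≫ₗ e2.symm)
  let e3 : (S ⧸ I) ⊗[S] Mq ≃ₗ[S] Mq ⧸ I • (⊤ : Submodule S Mq) :=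
    TensorProduct.quotTensorEquivQuotSMul Mq I
  have hsurj : Function.Surjective (algebraMap S (S ⧸ I)) := Ideal.Quotient.mk_surjective
  exact Module.Flat.of_linearEquiv
    (LinearEquiv.extendScalarsOfSurjective hsurj e3).symm

end FibreFlat

section ProjBase

open IsLocalRing Groth.Agent.Lib.Helper21.FlatDesc

variable (A B : Type u) [CommRing A] [CommRing B] [Algebra A B] [Algebra.FinitePresentation A B]

set_option maxHeartbeats 1600000 in
set_option synthInstance.maxHeartbeats 200000 in
/-- **fibre criterion at a prime**: `M` finitely presented over `B`, flat over `A`, with flat fibre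
module over the fibre ring at `p = q ∩ A`.  Then `M_q` is flat over `B`. -/
theorem flat_localized_of_fibre_flat (M : Type u) [AddCommGroup M] [Module B M] [Module A M]
    [IsScalarTower A B M] [Module.FinitePresentation B M] [Module.Flat A M] (q : Ideal B)
    [q.IsPrime]
    [Module.Flat (B ⊗[A] (q.comap (algebraMap A B)).ResidueField)
      ((B ⊗[A] (q.comap (algebraMap A B)).ResidueField) ⊗[B] M)] :
    Module.Flat B (LocalizedModule q.primeCompl M) := by
  by_cases hne : Subsingleton (LocalizedModule q.primeCompl M)
  · haveI := hne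
    haveI : Module.Free B (LocalizedModule q.primeCompl M) := Module.Free.of_subsingleton B _
    infer_instance
  rw [not_subsingleton_iff_nontrivial] at hne
  -- the local rings
  letI aRS : Algebra (Localization.AtPrime (q.comap (algebraMap A B))) (Localization.AtPrime q) :=
    (Localization.localRingHom (q.comap (algebraMap A B)) q (algebraMap A B) rfl).toAlgebra
  haveI hloc : IsLocalHom (algebraMap (Localization.AtPrime (q.comap (algebraMap A B)))
      (Localization.AtPrime q)) :=
    Localization.isLocalHom_localRingHom (I := q.comap (algebraMap A B)) q (algebraMap A B) rfl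
  haveI tARS : IsScalarTower A (Localization.AtPrime (q.comap (algebraMap A B)))
      (Localization.AtPrime q) :=
    IsScalarTower.of_algebraMap_eq fun a => by
      show _ = Localization.localRingHom (q.comap (algebraMap A B)) q (algebraMap A B) rfl
        (algebraMap A _ a)
      rw [Localization.localRingHom_to_map, ← IsScalarTower.algebraMap_apply]
  -- essentially finitely presented
  have hfp : (algebraMap A B).FinitePresentation :=
    RingHom.finitePresentation_algebraMap.2 inferInstance
  obtain ⟨S₀, _, a, b, T, hab, ha, hlocT⟩ := EssFP.localRingHom (algebraMap A B) hfp q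
  have hess : CAlgX.IsEssFinitePresentation (Localization.AtPrime (q.comap (algebraMap A B)))
      (Localization.AtPrime q) := by
    letI aRS₀ : Algebra (Localization.AtPrime (q.comap (algebraMap A B))) S₀ := a.toAlgebra
    letI aS₀S : Algebra S₀ (Localization.AtPrime q) := b.toAlgebra
    haveI tw : IsScalarTower (Localization.AtPrime (q.comap (algebraMap A B))) S₀
        (Localization.AtPrime q) :=
      IsScalarTower.of_algebraMap_eq fun r => by
        show Localization.localRingHom (q.comap (algebraMap A B)) q (algebraMap A B) rfl r = b (a r)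
        rw [hab]; rfl
    exact ⟨S₀, inferInstance, aRS₀, aS₀S, tw, T, ha, hlocT⟩
  -- module structure over `R`
  letI mR : Module (Localization.AtPrime (q.comap (algebraMap A B)))
      (LocalizedModule q.primeCompl M) :=
    Module.compHom _ (algebraMap (Localization.AtPrime (q.comap (algebraMap A B)))
      (Localization.AtPrime q))
  haveI tRSM : IsScalarTower (Localization.AtPrime (q.comap (algebraMap A B)))
      (Localization.AtPrime q) (LocalizedModule q.primeCompl M) :=
    IsScalarTower.of_algebraMap_smul fun _ _ => rfl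
  haveI tARM : IsScalarTower A (Localization.AtPrime (q.comap (algebraMap A B)))
      (LocalizedModule q.primeCompl M) :=
    IsScalarTower.of_algebraMap_smul fun r x => by
      show algebraMap (Localization.AtPrime (q.comap (algebraMap A B))) (Localization.AtPrime q)
        (algebraMap A _ r) • x = r • x
      rw [← IsScalarTower.algebraMap_apply, algebraMap_smul]
  -- flatness over `R`
  haveI hflA : Module.Flat A (LocalizedModule q.primeCompl M) :=
    Groth.Agent.Lib.Helper21.FlatLocal.flat_of_isLocalizedModule (A := A) (B := B) (F := M)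
      q.primeCompl (LocalizedModule.mkLinearMap q.primeCompl M)
  haveI hflR : Module.Flat (Localization.AtPrime (q.comap (algebraMap A B)))
      (LocalizedModule q.primeCompl M) :=
    (Module.flat_iff_of_isLocalization (Localization.AtPrime (q.comap (algebraMap A B)))
      (q.comap (algebraMap A B)).primeCompl (LocalizedModule q.primeCompl M)).2 hflA
  -- the fibre
  let g₀ : Localization.AtPrime (q.comap (algebraMap A B)) →ₐ[A]
      Localization.AtPrime q ⧸ (maximalIdeal (Localization.AtPrime (q.comap (algebraMap A B)))).map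
        (algebraMap _ (Localization.AtPrime q)) :=
    IsScalarTower.toAlgHom A _ _
  let g : (q.comap (algebraMap A B)).ResidueField →ₐ[A]
      Localization.AtPrime q ⧸ (maximalIdeal (Localization.AtPrime (q.comap (algebraMap A B)))).map
        (algebraMap _ (Localization.AtPrime q)) :=
    Ideal.Quotient.liftₐ (maximalIdeal (Localization.AtPrime (q.comap (algebraMap A B)))) g₀
      (fun r hr => by
        show algebraMap _ (Localization.AtPrime q ⧸ _) r = 0
        rw [IsScalarTower.algebraMap_apply _ (Localization.AtPrime q)]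
        exact Ideal.Quotient.eq_zero_iff_mem.2 (Ideal.mem_map_of_mem _ hr))
  have hbc : IsBaseChange (Localization.AtPrime q) (LocalizedModule.mkLinearMap q.primeCompl M) :=
    IsLocalizedModule.isBaseChange q.primeCompl (Localization.AtPrime q) _
  have hfib := flat_quotient_of_fibre_flat (A := A) (B := B) (S := Localization.AtPrime q)
    (κ := (q.comap (algebraMap A B)).ResidueField)
    ((maximalIdeal (Localization.AtPrime (q.comap (algebraMap A B)))).map
      (algebraMap _ (Localization.AtPrime q))) g M (LocalizedModule q.primeCompl M)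
    (LocalizedModule.mkLinearMap q.primeCompl M) hbc
  haveI : IsLocalHom (algebraMap (Localization.AtPrime q) (Localization.AtPrime q)) :=
    ⟨fun _ h => h⟩
  obtain ⟨-, h2⟩ := Groth.Agent.S2106.result
    (R := Localization.AtPrime (q.comap (algebraMap A B))) (S := Localization.AtPrime q)
    (S' := Localization.AtPrime q) (M := LocalizedModule q.primeCompl M) hess hess hfib
  haveI := h2
  exact Module.Flat.trans B (Localization.AtPrime q) (LocalizedModule q.primeCompl M)

end ProjBase

section Main

open IsLocalRing

variable (A B : Type u) [CommRing A] [CommRing B] [Algebra A B] [Algebra.FinitePresentation A B]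

/-- the fibre ring at a prime of `A`. -/
abbrev Bκ (p : PrimeSpectrum A) : Type u := B ⊗[A] p.asIdeal.ResidueField

/-- the fibre module at a prime of `A`. -/
abbrev Mκ (p : PrimeSpectrum A) (M : Type u) [AddCommGroup M] [Module B M] : Type u :=
  (B ⊗[A] p.asIdeal.ResidueField) ⊗[B] M

set_option maxHeartbeats 1600000 in
set_option synthInstance.maxHeartbeats 200000 in
/-- a finitely presented `A`-flat `B`-module is projective iff its fibres are. -/
theorem projective_iff_fibre (M : Type u) [AddCommGroup M] [Module B M] [Module A M]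
    [IsScalarTower A B M] [Module.FinitePresentation B M] [Module.Flat A M] :
    Module.Projective B M ↔
      ∀ p : PrimeSpectrum A, Module.Projective (Bκ A B p) (Mκ A B p M) := by
  constructor
  · intro h p
    infer_instance
  · intro h
    haveI : Module.Flat B M := by
      refine Module.flat_of_localized_maximal M fun q hq => ?_
      haveI := h ⟨q.comap (algebraMap A B), inferInstance⟩
      haveI : Module.Flat (B ⊗[A] (q.comap (algebraMap A B)).ResidueField)
          ((B ⊗[A] (q.comap (algebraMap A B)).ResidueField) ⊗[B] M) :=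
        inferInstanceAs (Module.Flat (Bκ A B ⟨q.comap (algebraMap A B), inferInstance⟩)
          (Mκ A B ⟨q.comap (algebraMap A B), inferInstance⟩ M))
      exact flat_localized_of_fibre_flat A B M q
    exact Module.Flat.projective_of_finitePresentation

set_option maxHeartbeats 1600000 in
set_option synthInstance.maxHeartbeats 200000 in
/-- a finite `B`-module vanishes iff its fibres do. -/
theorem subsingleton_iff_fibre (M : Type u) [AddCommGroup M] [Module B M] [Module.Finite B M] :
    Subsingleton M ↔ ∀ p : PrimeSpectrum A, Subsingleton (Mκ A B p M) := by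
  constructor
  · intro h p
    infer_instance
  · intro h
    by_contra hM
    rw [not_subsingleton_iff_nontrivial] at hM
    obtain ⟨q, hq⟩ := Module.nonempty_support_of_nontrivial (R := B) (M := M)
    rw [Module.mem_support_iff_nontrivial_residueField_tensorProduct] at hq
    haveI hsub := h ⟨q.asIdeal.comap (algebraMap A B), inferInstance⟩
    let g : (q.asIdeal.comap (algebraMap A B)).ResidueField →ₐ[A] q.asIdeal.ResidueField :=
      Ideal.ResidueField.mapₐ _ _ (Algebra.ofId A B) rfl
    let φ : B ⊗[A] (q.asIdeal.comap (algebraMap A B)).ResidueField →ₐ[A] q.asIdeal.ResidueField :=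
      Algebra.TensorProduct.lift (IsScalarTower.toAlgHom A B q.asIdeal.ResidueField) g
        (fun _ _ => Commute.all _ _)
    letI aφ : Algebra (B ⊗[A] (q.asIdeal.comap (algebraMap A B)).ResidueField)
        q.asIdeal.ResidueField := φ.toRingHom.toAlgebra
    haveI tφ : IsScalarTower B (B ⊗[A] (q.asIdeal.comap (algebraMap A B)).ResidueField)
        q.asIdeal.ResidueField :=
      IsScalarTower.of_algebraMap_eq fun b => by
        show algebraMap B q.asIdeal.ResidueField b = φ (algebraMap B _ b)
        rw [Algebra.TensorProduct.algebraMap_apply]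
        simp [φ]
    let e : q.asIdeal.ResidueField ⊗[B ⊗[A] (q.asIdeal.comap (algebraMap A B)).ResidueField]
        ((B ⊗[A] (q.asIdeal.comap (algebraMap A B)).ResidueField) ⊗[B] M) ≃ₗ[q.asIdeal.ResidueField]
        q.asIdeal.ResidueField ⊗[B] M :=
      TensorProduct.AlgebraTensorModule.cancelBaseChange B
        (B ⊗[A] (q.asIdeal.comap (algebraMap A B)).ResidueField) q.asIdeal.ResidueField
        q.asIdeal.ResidueField M
    haveI : Subsingleton ((B ⊗[A] (q.asIdeal.comap (algebraMap A B)).ResidueField) ⊗[B] M) := hsub
    haveI : Subsingleton (q.asIdeal.ResidueField ⊗[B] M) := e.symm.injective.subsingleton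
    exact not_subsingleton _ ‹_›

end Main

section Induction

variable (A B : Type u) [CommRing A] [CommRing B] [Algebra A B] [Algebra.FinitePresentation A B]
  [Module.Flat A B]

set_option maxHeartbeats 1600000 in
set_option synthInstance.maxHeartbeats 200000 in
/-- the inductive statement in degrees `≥ 1`. -/
theorem hasPDLT_succ_iff_fibre (n : ℕ) : ∀ (M : Type u) [AddCommGroup M] [Module B M] [Module A M]
    [IsScalarTower A B M] [Module.FinitePresentation B M] [Module.Flat A M],
    HasProjectiveDimensionLT (ModuleCat.of B M) (n + 1) ↔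
      ∀ p : PrimeSpectrum A,
        HasProjectiveDimensionLT (ModuleCat.of (Bκ A B p) (Mκ A B p M)) (n + 1) := by
  induction n with
  | zero =>
    intro M _ _ _ _ _ _
    rw [← projective_iff_hasProjectiveDimensionLT_one,
      ← IsProjective.iff_projective (R := B) (P := M), projective_iff_fibre A B M]
    refine forall_congr' fun p => ?_
    rw [← projective_iff_hasProjectiveDimensionLT_one,
      ← IsProjective.iff_projective (R := Bκ A B p) (P := Mκ A B p M)]
  | succ n ih =>
    intro M _ _ _ _ _ _
    obtain ⟨k, π, hπ⟩ := Module.Finite.exists_fin' B M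
    obtain ⟨hfp, hfl⟩ := Groth.Agent.Lib.Helper7.FinFreeResFlat.ker_fp_flat_of_surjective B A
      (Fin k → B) M π hπ
    haveI := hfp
    haveI := hfl
    have hj : Injective (LinearMap.ker π).subtype := (LinearMap.ker π).injective_subtype
    have hex : Exact (LinearMap.ker π).subtype π := LinearMap.exact_subtype_ker_map π
    rw [hasPDLT_iff_of_shortExact (LinearMap.ker π).subtype π hj hex hπ n, ih (LinearMap.ker π)]
    refine forall_congr' fun p => ?_
    obtain ⟨h1, h2, h3⟩ := baseChange_shortExact (A := A) (LinearMap.ker π).subtype π hj hex hπ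
      p.asIdeal.ResidueField
    exact (hasPDLT_iff_of_shortExact _ _ h1 h2 h3 n).symm

set_option maxHeartbeats 1600000 in
set_option synthInstance.maxHeartbeats 200000 in
/-- **projective dimension `< n` is tested on the fibres.** -/
theorem hasPDLT_iff_fibre (n : ℕ) (M : Type u) [AddCommGroup M] [Module B M] [Module A M]
    [IsScalarTower A B M] [Module.FinitePresentation B M] [Module.Flat A M] :
    HasProjectiveDimensionLT (ModuleCat.of B M) n ↔
      ∀ p : PrimeSpectrum A, HasProjectiveDimensionLT (ModuleCat.of (Bκ A B p) (Mκ A B p M)) n := by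
  cases n with
  | zero =>
    rw [hasProjectiveDimensionLT_zero_iff_isZero, ModuleCat.isZero_of_iff_subsingleton,
      subsingleton_iff_fibre A B M]
    refine forall_congr' fun p => ?_
    rw [hasProjectiveDimensionLT_zero_iff_isZero, ModuleCat.isZero_of_iff_subsingleton]
  | succ n => exact hasPDLT_succ_iff_fibre A B n M

end Induction

section Assemble

theorem le_of_forall_nat_lt {a b : WithBot ℕ∞} (h : ∀ n : ℕ, b < n → a < n) : a ≤ b := by
  by_contra hab
  rw [not_le] at hab
  induction b with
  | bot =>
    have h0 := h 0 (by exact WithBot.bot_lt_coe _)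
    have : a = ⊥ := by
      rwa [Nat.cast_zero, ← WithBot.coe_zero, ← bot_eq_zero', WithBot.lt_coe_bot] at h0
    rw [this] at hab
    exact lt_irrefl _ hab
  | coe c =>
    induction c with
    | top => exact not_top_lt hab
    | coe k =>
      have h1 : a < ((k + 1 : ℕ) : WithBot ℕ∞) := h (k + 1) (by
        exact_mod_cast Nat.lt_succ_self k)
      have h2 : a ≤ ((k : ℕ) : WithBot ℕ∞) := by
        rw [Nat.cast_add, Nat.cast_one] at h1
        exact ENat.WithBot.lt_add_one_iff.1 h1
      exact absurd (lt_of_lt_of_le hab h2) (lt_irrefl _)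

theorem eq_iSup_of_forall_lt_iff {ι : Sort*} (x : WithBot ℕ∞) (y : ι → WithBot ℕ∞)
    (h : ∀ n : ℕ, x < n ↔ ∀ i, y i < n) : x = ⨆ i, y i := by
  apply le_antisymm
  · exact le_of_forall_nat_lt fun n hn => (h n).2 fun i => lt_of_le_of_lt (le_iSup y i) hn
  · exact iSup_le fun i => le_of_forall_nat_lt fun n hn => (h n).1 hn i

variable (A B : Type u) [CommRing A] [CommRing B] [Algebra A B] [Algebra.FinitePresentation A B]
  [Module.Flat A B]

/-- **EGA IV 11.3.x: the projective dimension of a flat finitely presented family is the supremum of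
the projective dimensions of its fibres.** -/
theorem projectiveDimension_eq_iSup_fibre (M : Type u) [AddCommGroup M] [Module B M] [Module A M]
    [IsScalarTower A B M] [Module.FinitePresentation B M] [Module.Flat A M] :
    projectiveDimension (ModuleCat.of B M) =
      ⨆ p : PrimeSpectrum A, projectiveDimension
        (ModuleCat.of (B ⊗[A] p.asIdeal.ResidueField) ((B ⊗[A] p.asIdeal.ResidueField) ⊗[B] M)) := by
  refine eq_iSup_of_forall_lt_iff _ _ fun n => ?_
  rw [projectiveDimension_lt_iff, hasPDLT_iff_fibre A B n M]
  refine forall_congr' fun p => ?_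
  rw [projectiveDimension_lt_iff]

end Assemble

end Groth.Agent.Lib.Helper7.FibrePD
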