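import Groth.Agent.Lib.Helper7.HartogsScheme
import Groth.Prelude.Def_CInt
import Mathlib.AlgebraicGeometry.Morphisms.Flat

/-!
# Schematically dense opens in locally Noetherian schemes and flat pullback
-/

set_option autoImplicit false
set_option linter.unusedVariables false
set_option linter.style.haveILetI false

universe u

namespace Groth.Agent.Lib.Helper7.SchDense

open AlgebraicGeometry CategoryTheory Opposite TopologicalSpace
open Groth.Agent.Lib.Helper7.Hartogs

/-- On an affine open `W` of a locally Noetherian scheme, the ideal of a schematically dense open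
contains a nonzerodivisor. -/
theorem exists_regular_mem_idealOf {X : Scheme.{u}} [IsLocallyNoetherian X] (V : X.Opens)
    (hV : CInt.IsSchematicallyDense V) {W : X.Opens} (hW : IsAffineOpen W) :
    ∃ a ∈ idealOf V W, IsSMulRegular Γ(X, W) a := by
  classical
  haveI : IsNoetherianRing Γ(X, W) := IsLocallyNoetherian.component_noetherian ⟨W, hW⟩
  by_contra hcon
  push Not at hcon
  have hfin := associatedPrimes.finite Γ(X, W) Γ(X, W)
  have hsub : ((idealOf V W : Ideal Γ(X, W)) : Set Γ(X, W)) ⊆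
      ⋃ P ∈ (hfin.toFinset : Set (Ideal Γ(X, W))), (P : Set Γ(X, W)) := by
    intro a ha
    have h1 : ¬ IsSMulRegular Γ(X, W) a := hcon a ha
    rw [isSMulRegular_iff_right_eq_zero_of_smul] at h1
    push Not at h1
    obtain ⟨x, hx0, hx⟩ := h1
    have h2 : a ∈ {r : Γ(X, W) | ∃ x : Γ(X, W), x ≠ 0 ∧ r • x = 0} := ⟨x, hx, hx0⟩
    rw [← biUnion_associatedPrimes_eq_zero_divisors] at h2
    simp only [Set.mem_iUnion] at h2 ⊢
    obtain ⟨P, hP, haP⟩ := h2
    exact ⟨P, by simpa using hP, haP⟩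
  obtain ⟨P, hP, hIP⟩ := (Ideal.subset_union_prime (f := fun P : Ideal Γ(X, W) => P)
    (idealOf V W) (idealOf V W)
    (fun P hP _ _ => ((hfin.mem_toFinset.1 hP) : IsAssociatedPrime P _).isPrime)).1 hsub
  have hPass : IsAssociatedPrime P Γ(X, W) := hfin.mem_toFinset.1 hP
  rw [isAssociatedPrime_iff] at hPass
  obtain ⟨hPprime, t, hPt⟩ := hPass
  have ht0 : t ≠ 0 := by
    rintro rfl
    apply hPprime.ne_top
    rw [hPt, Ideal.eq_top_iff_one, Submodule.mem_colon_singleton]
    simp
  have hkill : ∀ c ∈ idealOf V W, c * t = 0 := by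
    intro c hc
    have := hIP hc
    rw [hPt, Submodule.mem_colon_singleton] at this
    simpa using this
  apply ht0
  have hinj := hV W
  have hinj' : Function.Injective (res (inf_le_left : W ⊓ V ≤ W)) := hinj
  apply hinj'
  rw [map_zero]
  apply TopCat.Sheaf.eq_of_locally_eq' X.sheaf
    (fun c : {c : Γ(X, W) // c ∈ idealOf V W} => X.basicOpen c.1) (W ⊓ V)
    (fun c => homOfLE (le_inf (X.basicOpen_le c.1) c.2))
  · rintro x ⟨hxW, hxV⟩
    obtain ⟨c, hcV, hxc⟩ := hW.exists_basicOpen_le ⟨x, hxV⟩ hxW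
    exact Opens.mem_iSup.2 ⟨⟨c, hcV⟩, hxc⟩
  · rintro ⟨c, hc⟩
    show res (le_inf (X.basicOpen_le c) hc) (res inf_le_left t) =
      res (le_inf (X.basicOpen_le c) hc) 0
    rw [map_zero, res_res]
    haveI := hW.isLocalization_basicOpen c
    rw [← algebraMap_eq_res, IsLocalization.map_eq_zero_iff (Submonoid.powers c)]
    exact ⟨⟨c, 1, pow_one c⟩, hkill c hc⟩

/-- Flat pullback preserves schematic density of opens, over a locally Noetherian base. -/
theorem isSchematicallyDense_preimage_of_flat {X X' : Scheme.{u}} (f : X' ⟶ X) [Flat f]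
    [IsLocallyNoetherian X] (V : X.Opens) (hV : CInt.IsSchematicallyDense V) :
    CInt.IsSchematicallyDense (f ⁻¹ᵁ V) := by
  intro V'
  show Function.Injective (res (inf_le_left : V' ⊓ f ⁻¹ᵁ V ≤ V'))
  rw [injective_iff_map_eq_zero]
  intro s hs
  apply TopCat.Sheaf.eq_of_locally_eq' X'.sheaf
    (fun W' : {W' : X'.affineOpens // (W'.1 : X'.Opens) ≤ V' ∧
      ∃ W : X.affineOpens, (W'.1 : X'.Opens) ≤ f ⁻¹ᵁ W.1} => (W'.1 : X'.Opens)) V'
    (fun W' => homOfLE W'.2.1)
  · intro x' hx'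
    obtain ⟨W, hW, hxW, -⟩ := exists_isAffineOpen_mem_and_subset (x := f x') (U := ⊤) trivial
    obtain ⟨W', hW', hxW', hW'le⟩ :=
      exists_isAffineOpen_mem_and_subset (x := x') (U := V' ⊓ f ⁻¹ᵁ W) ⟨hx', hxW⟩
    exact Opens.mem_iSup.2 ⟨⟨⟨W', hW'⟩, hW'le.trans inf_le_left, ⟨W, hW⟩,
      hW'le.trans inf_le_right⟩, hxW'⟩
  · rintro ⟨⟨W', hW'⟩, hW'V', ⟨W, hW⟩, hle⟩
    show res hW'V' s = res hW'V' 0
    rw [map_zero]
    obtain ⟨a, haI, hareg⟩ := exists_regular_mem_idealOf V hV hW
    have hflat : (f.appLE W W' hle).hom.Flat := f.flat_appLE hW hW' hle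
    have hbreg : IsSMulRegular Γ(X', W') ((f.appLE W W' hle).hom a) := by
      letI := (f.appLE W W' hle).hom.toAlgebra
      haveI : Module.Flat Γ(X, W) Γ(X', W') := hflat
      exact IsSMulRegular.of_flat hareg
    apply eq_zero_of_res_eq_zero hW' hbreg
    rw [res_res]
    have hble : X'.basicOpen ((f.appLE W W' hle).hom a) ≤ V' ⊓ f ⁻¹ᵁ V := by
      have h1 : X'.basicOpen ((f.appLE W W' hle).hom a) = W' ⊓ f ⁻¹ᵁ (X.basicOpen a) :=
        Scheme.basicOpen_appLE f W' W hle a
      rw [h1]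
      exact le_inf (inf_le_left.trans hW'V') (inf_le_right.trans (fun x hx => haI hx))
    have h2 : res ((X'.basicOpen_le ((f.appLE W W' hle).hom a)).trans hW'V') s =
        res hble (res inf_le_left s) := by rw [res_res]
    rw [h2, hs, map_zero]

end Groth.Agent.Lib.Helper7.SchDense
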