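import Groth.Agent.Lib.Helper7.ModHartogsConv

/-!
# Hartogs from affine opens to all opens; Hartogs for flat quasi-coherent modules
-/

set_option autoImplicit false
set_option linter.unusedVariables false
set_option linter.style.haveILetI false

universe u

namespace Groth.Agent.Lib.Helper7.ModHartogs

open CategoryTheory AlgebraicGeometry Opposite TopologicalSpace RingTheory.Sequence
open Groth.Agent.Lib.Helper28.QCohLoc Groth.Agent.Lib.Helper21.DepthKit
open scoped Pointwise

section general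

variable {X : Scheme.{u}} (F : X.Modules) (U : X.Opens)
  (haff : ∀ W : X.Opens, IsAffineOpen W →
    Function.Bijective (res F (inf_le_left : W ⊓ U ≤ W)))

include haff in
theorem injective_res_of_affine (V : X.Opens) : Function.Injective (res F (inf_le_left : V ⊓ U ≤ V)) := by
  intro s s' hs
  apply eq_of_locally_eq F
    (fun W : {W : X.affineOpens // (W : X.Opens) ≤ V} => (W.1 : X.Opens)) V (fun W => W.2)
  · intro x hx
    obtain ⟨W, hW, hxW, hWV⟩ := exists_isAffineOpen_mem_and_subset (U := V) hx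
    exact Opens.mem_iSup.2 ⟨⟨⟨W, hW⟩, hWV⟩, hxW⟩
  · rintro ⟨⟨W, hW⟩, hWV⟩
    show res F hWV s = res F hWV s'
    apply (haff W hW).1
    rw [res_res, res_res]
    have e1 : res F ((inf_le_left : W ⊓ U ≤ W).trans hWV) s =
        res F (inf_le_inf_right U hWV : W ⊓ U ≤ V ⊓ U) (res F inf_le_left s) := by rw [res_res]
    have e2 : res F ((inf_le_left : W ⊓ U ≤ W).trans hWV) s' =
        res F (inf_le_inf_right U hWV : W ⊓ U ≤ V ⊓ U) (res F inf_le_left s') := by rw [res_res]
    rw [e1, e2, hs]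

include haff in
theorem surjective_res_of_affine (V : X.Opens) : Function.Surjective (res F (inf_le_left : V ⊓ U ≤ V)) := by
  intro t
  let ι := {W : X.affineOpens // (W : X.Opens) ≤ V}
  have hex : ∀ W : ι, ∃ sW : Γ(F, (W.1 : X.Opens)),
      res F (inf_le_left : (W.1 : X.Opens) ⊓ U ≤ W.1) sW =
        res F (inf_le_inf_right U W.2 : (W.1 : X.Opens) ⊓ U ≤ V ⊓ U) t :=
    fun W => (haff W.1.1 W.1.2).2 _
  choose sW hsW using hex
  have hcompat : ∀ W W' : ι, res F (inf_le_left : (W.1 : X.Opens) ⊓ W'.1 ≤ W.1) (sW W) =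
      res F (inf_le_right : (W.1 : X.Opens) ⊓ W'.1 ≤ W'.1) (sW W') := by
    intro W W'
    apply injective_res_of_affine F U haff ((W.1 : X.Opens) ⊓ W'.1)
    rw [res_res, res_res]
    have e1 : res F ((inf_le_left : (W.1 : X.Opens) ⊓ W'.1 ⊓ U ≤ (W.1 : X.Opens) ⊓ W'.1).trans
        inf_le_left) (sW W) =
        res F (inf_le_inf_right U inf_le_left : (W.1 : X.Opens) ⊓ W'.1 ⊓ U ≤ (W.1 : X.Opens) ⊓ U)
          (res F inf_le_left (sW W)) := by rw [res_res]
    have e2 : res F ((inf_le_left : (W.1 : X.Opens) ⊓ W'.1 ⊓ U ≤ (W.1 : X.Opens) ⊓ W'.1).trans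
        inf_le_right) (sW W') =
        res F (inf_le_inf_right U inf_le_right : (W.1 : X.Opens) ⊓ W'.1 ⊓ U ≤ (W'.1 : X.Opens) ⊓ U)
          (res F inf_le_left (sW W')) := by rw [res_res]
    rw [e1, e2, hsW, hsW, res_res, res_res]
  have hcover : V ≤ ⨆ W : ι, (W.1 : X.Opens) := by
    intro x hx
    obtain ⟨W, hW, hxW, hWV⟩ := exists_isAffineOpen_mem_and_subset (U := V) hx
    exact Opens.mem_iSup.2 ⟨⟨⟨W, hW⟩, hWV⟩, hxW⟩
  obtain ⟨s, hs⟩ := exists_gluing F (fun W : ι => (W.1 : X.Opens)) V (fun W => W.2) hcover sW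
    hcompat
  refine ⟨s, ?_⟩
  apply eq_of_locally_eq F (fun W : ι => (W.1 : X.Opens) ⊓ U) (V ⊓ U)
    (fun W => inf_le_inf_right U W.2)
  · rintro x ⟨hxV, hxU⟩
    obtain ⟨W, hW, hxW, hWV⟩ := exists_isAffineOpen_mem_and_subset (U := V) hxV
    exact Opens.mem_iSup.2 ⟨⟨⟨W, hW⟩, hWV⟩, ⟨hxW, hxU⟩⟩
  · intro W
    show res F (inf_le_inf_right U W.2) (res F inf_le_left s) = res F (inf_le_inf_right U W.2) t
    rw [res_res, ← hsW W, ← hs W, res_res]


include haff in
theorem bijective_res_of_affine (V : X.Opens) :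
    Function.Bijective (res F (inf_le_left : V ⊓ U ≤ V)) :=
  ⟨injective_res_of_affine F U haff V, surjective_res_of_affine F U haff V⟩

end general

section flat

open Groth.Agent.Lib.Helper7.Hartogs (idealOf mem_idealOf)
open Groth.Agent.Lib.Helper7.StalkLoc TensorProduct

variable {X : Scheme.{u}} [IsLocallyNoetherian X] (F : X.Modules) [F.IsQuasicoherent]
  (hflat : ∀ x : X, Module.Flat (X.presheaf.stalk x) (F.presheaf.stalk x))

include hflat in
/-- sections over an affine open of a stalkwise flat quasi-coherent module are flat -/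
theorem flat_sections {W : X.Opens} (hW : IsAffineOpen W) : Module.Flat Γ(X, W) Γ(F, W) := by
  apply Module.flat_of_localized_maximal
  intro P hP
  haveI hPp : P.IsPrime := hP.isPrime
  let PP : PrimeSpectrum Γ(X, W) := ⟨P, hPp⟩
  have hxW : hW.fromSpec PP ∈ W := by
    have : hW.fromSpec PP ∈ Set.range hW.fromSpec := ⟨PP, rfl⟩
    rw [hW.range_fromSpec] at this
    exact this
  have hPP : hW.primeIdealOf ⟨hW.fromSpec PP, hxW⟩ = PP := by
    apply hW.fromSpec.isOpenEmbedding.injective
    exact hW.fromSpec_primeIdealOf ⟨hW.fromSpec PP, hxW⟩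
  generalize hx : hW.fromSpec PP = x at hxW hPP
  letI algA : Algebra Γ(X, W) (X.presheaf.stalk x) := X.presheaf.algebra_section_stalk ⟨x, hxW⟩
  haveI hlocR : IsLocalization.AtPrime (X.presheaf.stalk x) P := by
    have := hW.isLocalization_stalk ⟨x, hxW⟩
    rw [hPP] at this
    exact this
  letI modF : Module Γ(X, W) (F.presheaf.stalk x) := stalkModule F x hxW
  haveI stF : IsScalarTower Γ(X, W) (X.presheaf.stalk x) (F.presheaf.stalk x) :=
    ⟨fun a r t => mul_smul _ _ _⟩
  haveI locF : IsLocalizedModule P.primeCompl (gmLin F x hxW) := by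
    have := isLocalizedModule_gmLin F hW (isLocOn_of_isQuasicoherent F hW) x hxW
    rw [hPP] at this
    exact this
  haveI : Module.Flat Γ(X, W) (X.presheaf.stalk x) :=
    IsLocalization.flat (X.presheaf.stalk x) P.primeCompl
  haveI := hflat x
  haveI : Module.Flat Γ(X, W) (F.presheaf.stalk x) :=
    Module.Flat.trans Γ(X, W) (X.presheaf.stalk x) (F.presheaf.stalk x)
  exact Module.Flat.of_linearEquiv (IsLocalizedModule.iso P.primeCompl (gmLin F x hxW))

variable (U : X.Opens)
  (hU : ∀ x : X, x ∉ U → (2 : ℕ∞) ≤ LocCoh.depth (X.presheaf.stalk x) (X.presheaf.stalk x))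

include hflat hU in
/-- Hartogs on an affine open for a flat quasi-coherent module (no finiteness). -/
theorem bijective_res_affine_of_flat {W : X.Opens} (hW : IsAffineOpen W) :
    Function.Bijective (res F (inf_le_left : W ⊓ U ≤ W)) := by
  haveI : IsNoetherianRing Γ(X, W) := IsLocallyNoetherian.component_noetherian ⟨W, hW⟩
  haveI := flat_sections F hflat hW
  have hsub : ∀ c ∈ idealOf U W, X.basicOpen c ≤ W ⊓ U := fun c hc =>
    le_inf (X.basicOpen_le c) hc
  have hcov : ∀ x ∈ W ⊓ U, ∃ c ∈ idealOf U W, x ∈ X.basicOpen c := by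
    intro x hx
    obtain ⟨c, hcU, hxc⟩ := hW.exists_basicOpen_le ⟨x, hx.2⟩ hx.1
    exact ⟨c, hcU, hxc⟩
  have hdepth := Groth.Agent.Lib.Helper7.Hartogs.depth_idealOf U hU hW
  by_cases hI : idealOf U W • (⊤ : Submodule Γ(X, W) Γ(X, W)) = ⊤
  · -- the ideal is the unit ideal
    have h1 : (1 : Γ(X, W)) ∈ idealOf U W := by
      rw [smul_eq_mul, Ideal.mul_top] at hI
      rw [hI]; trivial
    refine bijective_res F (isLocOn_of_isQuasicoherent F hW) (idealOf U W) (W ⊓ U) inf_le_left
      hsub hcov 1 1 h1 h1 ?_ ?_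
    · intro x y hxy
      simpa using hxy
    · rintro u ⟨z, hz⟩
      exact ⟨z, by simpa using hz⟩
  · obtain ⟨rs, hlen, hmem, hreg⟩ := (natCast_le_idealDepth_iff (idealOf U W) hI 2).1 hdepth
    match rs, hlen with
    | [a, b], _ =>
      have hreg' : IsWeaklyRegular Γ(F, W) [a, b] := by
        have h1 : IsWeaklyRegular (Γ(X, W) ⊗[Γ(X, W)] Γ(F, W)) [a, b] :=
          hreg.isWeaklyRegular_rTensor
        exact ((TensorProduct.lid Γ(X, W) Γ(F, W)).isWeaklyRegular_congr [a, b]).1 h1
      rw [isWeaklyRegular_cons_iff, isWeaklyRegular_cons_iff] at hreg'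
      obtain ⟨hareg, hbreg, -⟩ := hreg'
      refine bijective_res F (isLocOn_of_isQuasicoherent F hW) (idealOf U W) (W ⊓ U) inf_le_left
        hsub hcov a b (hmem a (by simp)) (hmem b (by simp)) hareg ?_
      rintro u ⟨z, hz⟩
      have h2 := (isSMulRegular_quotient_iff_mem_of_smul_mem _ b).1 hbreg u
        ((Submodule.mem_smul_pointwise_iff_exists _ _ _).2 ⟨z, trivial, hz.symm⟩)
      obtain ⟨z', -, hz'⟩ := (Submodule.mem_smul_pointwise_iff_exists _ _ _).1 h2
      exact ⟨z', hz'.symm⟩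

include hflat hU in
/-- **Hartogs for flat quasi-coherent modules.** -/
theorem bijective_res_of_flat (V : X.Opens) :
    Function.Bijective (res F (inf_le_left : V ⊓ U ≤ V)) :=
  bijective_res_of_affine F U (fun W hW => bijective_res_affine_of_flat F hflat U hU hW) V

end flat

end Groth.Agent.Lib.Helper7.ModHartogs
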