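import Mathlib
import Groth.Agent.Lib.Helper21.DepthKit4
import Groth.Agent.Lib.Helper21.NormalKit
import Groth.Agent.Lib.Helper7.FibreCM
import Groth.Agent.Lib.Helper7.LocQuotDim
import Groth.Agent.Lib.Helper7.AffineChain
import Groth.Agent.Lib.Helper7.AffineDimFormula
import Groth.Agent.Lib.Helper18.Chev.FibreSplit
import Groth.Agent.Lib.Helper18.Chev.Main
import Groth.Agent.Lib.Helper18.FieldBC.FibLoc
import Groth.Agent.Lib.lead.FibreRingDim
import Groth.Prelude.Def_EGA4b

/-!
# Openness (in `V(f)`) of the locus where `f` is a regular sequence on the fibre local ring,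
for finite type algebras with Cohen–Macaulay equidimensional fibres (helper7)
-/

set_option autoImplicit false
set_option linter.unusedVariables false
set_option linter.style.haveILetI false

universe u

open RingTheory.Sequence IsLocalRing Module

namespace Groth.Agent.Lib.Helper7.FibreRegOpen

open Groth.Agent.Lib.Helper21.DepthKit

/-- In a Cohen–Macaulay local ring, a sequence in the maximal ideal is regular iff it cuts the
dimension down by its length. -/
theorem isRegular_iff_dim (O : Type u) [CommRing O] [hO : LocCoh.IsCohenMacaulayLocalRing O]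
    (xs : List O) (hm : ∀ r ∈ xs, r ∈ maximalIdeal O) :
    IsRegular O xs ↔ ringKrullDim (O ⧸ Ideal.ofList xs) + xs.length ≤ ringKrullDim O := by
  constructor
  · intro h
    exact (ringKrullDim_add_length_eq_ringKrullDim_of_isRegular xs h).le
  · intro h
    rw [IsLocalRing.isRegular_iff_isWeaklyRegular_of_subset_maximalIdeal hm]
    have hCM : LocCoh.IsCohenMacaulayModule O O := hO.supportDim_eq_depth
    refine isWeaklyRegular_of_supportDim_drop xs O hCM hm ?_
    have hJ : (Ideal.ofList xs • ⊤ : Submodule O O) = Ideal.ofList xs := by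
      rw [smul_eq_mul, Ideal.mul_top]
    apply le_antisymm
    · rw [hJ, Module.supportDim_quotient_eq_ringKrullDim, Module.supportDim_self_eq_ringKrullDim]
      exact h
    · exact supportDim_le_quot_ofList_add_length xs O hm

/-- in a finite type algebra over a field all of whose irreducible components have dimension `d`,
`ht Q + dim Φ/Q = d` for every prime `Q`. -/
theorem height_add_coheight_of_equidim (κ : Type u) [Field κ] (Φ : Type u) [CommRing Φ]
    [Algebra κ Φ] [Algebra.FiniteType κ Φ] (d : ℕ)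
    (heq : ∀ P ∈ minimalPrimes Φ, ringKrullDim (Φ ⧸ P) = (d : WithBot ℕ∞))
    (Q : PrimeSpectrum Φ) : Order.height Q + Order.coheight Q = (d : ℕ∞) := by
  obtain ⟨Q₀, hle, hmin, hco⟩ := Groth.Agent.Lib.Helper7.AffDim.exists_isMin_coheight_eq (k := κ) Φ Q
  have hmem : Q₀.asIdeal ∈ minimalPrimes Φ := by
    rw [minimalPrimes_eq_minimals]
    refine ⟨Q₀.isPrime, ?_⟩
    intro P' hP' hle'
    have : (⟨P', hP'⟩ : PrimeSpectrum Φ) ≤ Q₀ := hle'
    exact hmin this
  have h1 := heq _ hmem
  rw [Groth.Agent.Lib.Helper7.AffChain.ringKrullDim_quotient_eq_coheight Q₀, hco] at h1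
  rw [add_comm]
  exact_mod_cast h1

open AlgebraicGeometry CategoryTheory in
theorem lft_SpecMap (R S : Type u) [CommRing R] [CommRing S] [Algebra R S]
    [Algebra.FiniteType R S] :
    LocallyOfFiniteType (Spec.map (CommRingCat.ofHom (algebraMap R S))) :=
  (HasRingHomProperty.Spec_iff (P := @LocallyOfFiniteType)).mpr
    (RingHom.finiteType_algebraMap.mpr ‹_›)

open AlgebraicGeometry CategoryTheory in
/-- the data attached to a prime `q` of a finite type `R`-algebra `S`: the point `Q` of the fibre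
ring over `p = q ∩ R`, the residue transcendence degree `e` and the dimension `h` of the fibre
local ring; the local fibre dimension at `q` is `e + h`. -/
theorem fibre_data (R S : Type u) [CommRing R] [CommRing S] [Algebra R S] [Algebra.FiniteType R S]
    (p : Ideal R) [p.IsPrime] (q : PrimeSpectrum S) [q.asIdeal.LiesOver p] :
    ∃ (Q : PrimeSpectrum (p.Fiber S)) (e h : ℕ),
      FlatMor.fibreDimAt (Spec.map (CommRingCat.ofHom (algebraMap R S))) q =
        ((e + h : ℕ) : WithBot ℕ∞) ∧
      Algebra.trdeg (R ⧸ p) (S ⧸ q.asIdeal) = e ∧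
      ringKrullDim (EGA4.FibLocRing R S q.asIdeal) = (h : WithBot ℕ∞) ∧
      Order.height Q = (h : ℕ∞) ∧ Order.coheight Q = (e : ℕ∞) ∧
      Nonempty (Localization.AtPrime Q.asIdeal ≃+* EGA4.FibLocRing R S q.asIdeal) := by
  classical
  haveI := lft_SpecMap R S
  obtain rfl : p = q.asIdeal.under R := Ideal.LiesOver.over
  let p₀ : PrimeSpectrum R := ⟨q.asIdeal.under R, inferInstance⟩
  have hq : PrimeSpectrum.comap (algebraMap R S) q = p₀ := rfl
  let Q : PrimeSpectrum ((q.asIdeal.under R).Fiber S) :=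
    PrimeSpectrum.preimageOrderIsoFiber R S p₀ ⟨q, hq⟩
  have hiso : (PrimeSpectrum.preimageOrderIsoFiber R S p₀).symm Q = ⟨q, hq⟩ :=
    (PrimeSpectrum.preimageOrderIsoFiber R S p₀).symm_apply_apply ⟨q, hq⟩
  have hQ : Q.asIdeal.comap (Algebra.TensorProduct.includeRight.toRingHom) = q.asIdeal :=
    congrArg (fun x => x.1.asIdeal) hiso
  obtain ⟨n, hn⟩ := Groth.Agent.Lib.Helper18.Chev.exists_nat_fibreDimAt
    (Spec.map (CommRingCat.ofHom (algebraMap R S))) q
  have hloc := Groth.Agent.Lib.lead.FibreRingDim.localDim_fiberRing_eq R S q Q hQ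
  rw [hn] at hloc
  obtain ⟨e, h, hneh, htr, hht⟩ :=
    Groth.Agent.Lib.Helper18.Chev.fibre_localDim_split R S (q.asIdeal.under R) q.asIdeal Q hQ n hloc
  have hhQ : Order.height Q = (h : ℕ∞) := by
    rw [← hht, ← Order.height_orderIso (PrimeSpectrum.preimageOrderIsoFiber R S p₀).symm Q, hiso]
    rfl
  have h1 := Groth.Agent.Lib.Helper24.LocalDim.localDim_eq (q.asIdeal.under R).ResidueField
    ((q.asIdeal.under R).Fiber S) Q
  rw [hloc, hhQ] at h1
  have hcQ : Order.coheight Q = (e : ℕ∞) := by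
    have h2 : (n : ℕ∞) = (h : ℕ∞) + Order.coheight Q := by exact_mod_cast h1
    rw [hneh] at h2
    push_cast at h2
    rw [add_comm] at h2
    exact (WithTop.add_left_cancel (ENat.natCast_ne_top h) h2).symm
  haveI := Q.isPrime
  obtain ⟨ε⟩ := Groth.Agent.Lib.Helper21.NormalKit.nonempty_fibLocRing_ringEquiv
    (q.asIdeal.under R) Q.asIdeal q.asIdeal hQ.symm
  refine ⟨Q, e, h, by rw [hn, hneh], htr, ?_, hhQ, hcQ, ⟨ε⟩⟩
  rw [← ringKrullDim_eq_of_ringEquiv ε,
    IsLocalization.AtPrime.ringKrullDim_eq_height Q.asIdeal (Localization.AtPrime Q.asIdeal),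
    PrimeSpectrum.height_eq_orderHeight]
  rw [hhQ]
  rfl

/-- `dim B_P / K B_P = ht (P / K)` for an ideal `K ≤ P`. -/
theorem ringKrullDim_localization_quotient {B : Type u} [CommRing B] (P K : Ideal B) [P.IsPrime]
    (hKP : K ≤ P) :
    ringKrullDim (Localization.AtPrime P ⧸ K.map (algebraMap B (Localization.AtPrime P))) =
      ((P.map (Ideal.Quotient.mk K)).height : WithBot ℕ∞) := by
  haveI hP' : (P.map (Ideal.Quotient.mk K)).IsPrime :=
    Ideal.map_isPrime_of_surjective Ideal.Quotient.mk_surjective (by rwa [Ideal.mk_ker])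
  haveI : IsLocalization.AtPrime
      (Localization.AtPrime P ⧸ K.map (algebraMap B (Localization.AtPrime P)))
      (P.map (Ideal.Quotient.mk K)) := by
    unfold IsLocalization.AtPrime
    rw [← Groth.Agent.Lib.Helper7.LocQuotDim.algebraMapSubmonoid_primeCompl B P K hKP]
    infer_instance
  exact IsLocalization.AtPrime.ringKrullDim_eq_height (P.map (Ideal.Quotient.mk K))
    (Localization.AtPrime P ⧸ K.map (algebraMap B (Localization.AtPrime P)))

theorem height_map_map_mk {B : Type u} [CommRing B] (P I K : Ideal B) :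
    ((P.map (Ideal.Quotient.mk I)).map (Ideal.Quotient.mk (K.map (Ideal.Quotient.mk I)))).height =
      (P.map (Ideal.Quotient.mk (I ⊔ K))).height := by
  rw [← RingEquiv.height_map (DoubleQuot.quotQuotEquivQuotSup I K)]
  congr 1
  rw [Ideal.map_map]
  change Ideal.map (DoubleQuot.quotQuotEquivQuotSup I K).toRingHom _ = _
  rw [Ideal.map_map]
  congr 1

theorem ringKrullDim_fibLocRing_quot (R S : Type u) [CommRing R] [CommRing S] [Algebra R S]
    (q : Ideal S) [q.IsPrime] (f : List S) (hf : Ideal.ofList f ≤ q) :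
    ringKrullDim (EGA4.FibLocRing R S q ⧸
        Ideal.ofList (f.map (algebraMap S (EGA4.FibLocRing R S q)))) =
      ((q.map (Ideal.Quotient.mk (Ideal.ofList f ⊔ (q.under R).map (algebraMap R S)))).height :
        WithBot ℕ∞) := by
  set A := Localization.AtPrime q with hA
  set I := Ideal.ofList f with hI
  set K₁ := (q.under R).map (algebraMap R S) with hK₁
  set J := (q.comap (algebraMap R S)).map (algebraMap R A) with hJ
  have hJ' : J = K₁.map (algebraMap S A) := by
    rw [hK₁, Ideal.map_map, ← IsScalarTower.algebraMap_eq]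
  have h1 : Ideal.ofList (f.map (algebraMap S (A ⧸ J))) = (I.map (algebraMap S A)).map (Ideal.Quotient.mk J) := by
    rw [← Ideal.map_ofList, Ideal.map_map]
    rfl
  have h2 : J ⊔ I.map (algebraMap S A) = (I ⊔ K₁).map (algebraMap S A) := by
    rw [Ideal.map_sup, hJ', sup_comm]
  have hK : I ⊔ K₁ ≤ q := by
    refine sup_le hf ?_
    rw [hK₁, Ideal.map_le_iff_le_comap]
  rw [← ringKrullDim_localization_quotient q (I ⊔ K₁) hK]
  exact ringKrullDim_eq_of_ringEquiv ((Ideal.quotEquivOfEq h1).trans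
    ((DoubleQuot.quotQuotEquivQuotSup J (I.map (algebraMap S A))).trans (Ideal.quotEquivOfEq h2)))

theorem trdeg_quotient_eq (R S : Type u) [CommRing R] [CommRing S] [Algebra R S] (I : Ideal S)
    (p : Ideal R) (q' : Ideal (S ⧸ I)) [q'.LiesOver p] (q : Ideal S) [q.LiesOver p]
    (hq : q = q'.comap (Ideal.Quotient.mk I)) :
    Algebra.trdeg (R ⧸ p) (S ⧸ q) = Algebra.trdeg (R ⧸ p) ((S ⧸ I) ⧸ q') := by
  let φ : S ⧸ q →+* (S ⧸ I) ⧸ q' := Ideal.quotientMap q' (Ideal.Quotient.mk I) hq.le
  have hφi : Function.Injective φ := Ideal.quotientMap_injective' hq.ge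
  have hφs : Function.Surjective φ := Ideal.quotientMap_surjective Ideal.Quotient.mk_surjective
  let ψ : S ⧸ q →ₐ[R ⧸ p] (S ⧸ I) ⧸ q' :=
    { φ with
      commutes' := by
        intro x
        obtain ⟨r, rfl⟩ := Ideal.Quotient.mk_surjective x
        rfl }
  exact (AlgEquiv.ofBijective ψ ⟨hφi, hφs⟩).trdeg_eq

open AlgebraicGeometry CategoryTheory in
/-- the pointwise criterion: at a prime `q ⊇ (f)`, the sequence `f` is regular on the fibre local
ring iff the local fibre dimension of `Spec S/(f) → Spec R` at `q` is at most `d - length f`. -/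
theorem isRegular_iff_fibreDimAt (R S : Type u) [CommRing R] [CommRing S] [Algebra R S]
    [Algebra.FiniteType R S] (d : ℕ)
    (hCM : ∀ p : PrimeSpectrum R, LocCoh.IsCohenMacaulayRing (p.asIdeal.Fiber S))
    (heq : ∀ p : PrimeSpectrum R, ∀ P ∈ minimalPrimes (p.asIdeal.Fiber S),
      ringKrullDim (p.asIdeal.Fiber S ⧸ P) = (d : WithBot ℕ∞))
    (f : List S) (q' : PrimeSpectrum (S ⧸ Ideal.ofList f)) :
    IsRegular
        (EGA4.FibLocRing R S (PrimeSpectrum.comap (Ideal.Quotient.mk (Ideal.ofList f)) q').asIdeal)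
        (f.map (algebraMap S (EGA4.FibLocRing R S
          (PrimeSpectrum.comap (Ideal.Quotient.mk (Ideal.ofList f)) q').asIdeal))) ↔
      FlatMor.fibreDimAt (Spec.map (CommRingCat.ofHom (algebraMap R (S ⧸ Ideal.ofList f)))) q' +
        (f.length : WithBot ℕ∞) ≤ (d : WithBot ℕ∞) := by
  classical
  let q : PrimeSpectrum S := PrimeSpectrum.comap (Ideal.Quotient.mk (Ideal.ofList f)) q'
  change IsRegular (EGA4.FibLocRing R S q.asIdeal)
    (f.map (algebraMap S (EGA4.FibLocRing R S q.asIdeal))) ↔ _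
  have hqI : q.asIdeal = q'.asIdeal.comap (Ideal.Quotient.mk (Ideal.ofList f)) := rfl
  have hIq : Ideal.ofList f ≤ q.asIdeal := by
    rw [hqI]
    intro x hx
    rw [Ideal.mem_comap, Ideal.Quotient.eq_zero_iff_mem.2 hx]
    exact zero_mem _
  let p : Ideal R := q'.asIdeal.under R
  haveI hover : q.asIdeal.LiesOver p := ⟨rfl⟩
  obtain ⟨Q, e, h, hfd, htr, hdimO, hhQ, hcQ, ⟨ε⟩⟩ := fibre_data R S p q
  obtain ⟨Q', e', h', hfd', htr', hdimO', hhQ', hcQ', -⟩ :=
    fibre_data R (S ⧸ Ideal.ofList f) p q'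
  have hd : h + e = d := by
    have := height_add_coheight_of_equidim p.ResidueField (p.Fiber S) d
      (heq ⟨p, inferInstance⟩) Q
    rw [hhQ, hcQ] at this
    exact_mod_cast this
  have hee : e = e' := by
    have := trdeg_quotient_eq R S (Ideal.ofList f) p q'.asIdeal q.asIdeal hqI
    rw [htr, htr'] at this
    exact_mod_cast this
  have hquot : ringKrullDim (EGA4.FibLocRing R S q.asIdeal ⧸
      Ideal.ofList (f.map (algebraMap S (EGA4.FibLocRing R S q.asIdeal)))) = (h' : WithBot ℕ∞) := by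
    rw [ringKrullDim_fibLocRing_quot R S q.asIdeal f hIq, ← hdimO',
      Groth.Agent.Lib.Helper18.FieldBC.ringKrullDim_fibLocRing p q'.asIdeal]
    have hq'map : q'.asIdeal = q.asIdeal.map (Ideal.Quotient.mk (Ideal.ofList f)) := by
      rw [hqI, Ideal.map_comap_of_surjective _ Ideal.Quotient.mk_surjective]
    have hpmap : p.map (algebraMap R (S ⧸ Ideal.ofList f)) =
        (p.map (algebraMap R S)).map (Ideal.Quotient.mk (Ideal.ofList f)) := by
      rw [Ideal.map_map]
      rfl
    have hunder : q.asIdeal.under R = p := hover.over.symm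
    have key := height_map_map_mk q.asIdeal (Ideal.ofList f) (p.map (algebraMap R S))
    rw [hunder, ← key, ← hpmap, ← hq'map]
  haveI : LocCoh.IsCohenMacaulayLocalRing (Localization.AtPrime Q.asIdeal) :=
    (hCM ⟨p, inferInstance⟩).isCohenMacaulayLocalRing_localization Q.asIdeal
  haveI hOCM : LocCoh.IsCohenMacaulayLocalRing (EGA4.FibLocRing R S q.asIdeal) :=
    Groth.Agent.Lib.Helper7.FibreCM.isCM_of_ringEquiv (A := Localization.AtPrime Q.asIdeal) ε
  have hmem : ∀ r ∈ f.map (algebraMap S (EGA4.FibLocRing R S q.asIdeal)),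
      r ∈ maximalIdeal (EGA4.FibLocRing R S q.asIdeal) := by
    intro r hr
    obtain ⟨x, hx, rfl⟩ := List.mem_map.1 hr
    have hxq : x ∈ q.asIdeal := hIq (Ideal.subset_span hx)
    have h1 : algebraMap S (Localization.AtPrime q.asIdeal) x ∈
        maximalIdeal (Localization.AtPrime q.asIdeal) :=
      (IsLocalization.AtPrime.to_map_mem_maximal_iff _ q.asIdeal x).2 hxq
    haveI : IsLocalHom (Ideal.Quotient.mk ((q.asIdeal.comap (algebraMap R S)).map
        (algebraMap R (Localization.AtPrime q.asIdeal)))) :=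
      IsLocalHom.of_surjective _ Ideal.Quotient.mk_surjective
    exact map_nonunit (Ideal.Quotient.mk ((q.asIdeal.comap (algebraMap R S)).map
        (algebraMap R (Localization.AtPrime q.asIdeal)))) _ h1
  rw [isRegular_iff_dim _ _ hmem, hquot, hdimO, hfd', List.length_map]
  subst hee
  rw [← hd]
  norm_cast
  omega

theorem add_le_iff_le_sub_aux (a : WithBot ℕ∞) (m n d : ℕ) (hm : a = (m : WithBot ℕ∞))
    (hn : n ≤ d) :
    a + (n : WithBot ℕ∞) ≤ (d : WithBot ℕ∞) ↔ a ≤ ((d - n : ℕ) : WithBot ℕ∞) := by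
  rw [hm]
  norm_cast
  omega

theorem not_add_le_aux (a : WithBot ℕ∞) (m n d : ℕ) (hm : a = (m : WithBot ℕ∞))
    (hn : ¬ n ≤ d) : ¬ (a + (n : WithBot ℕ∞) ≤ (d : WithBot ℕ∞)) := by
  rw [hm]
  norm_cast
  omega

open AlgebraicGeometry CategoryTheory in
/-- **Openness in `V(f)` of the fibrewise regular locus** for finite type algebras with
Cohen–Macaulay equidimensional fibres. -/
theorem exists_isOpen_isRegular_fibre (R S : Type u) [CommRing R] [CommRing S] [Algebra R S]
    [Algebra.FiniteType R S] (d : ℕ)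
    (hCM : ∀ p : PrimeSpectrum R, LocCoh.IsCohenMacaulayRing (p.asIdeal.Fiber S))
    (heq : ∀ p : PrimeSpectrum R, ∀ P ∈ minimalPrimes (p.asIdeal.Fiber S),
      ringKrullDim (p.asIdeal.Fiber S ⧸ P) = (d : WithBot ℕ∞))
    (f : List S) :
    ∃ U : Set (PrimeSpectrum S), IsOpen U ∧ ∀ q : PrimeSpectrum S, Ideal.ofList f ≤ q.asIdeal →
      (q ∈ U ↔ IsRegular (EGA4.FibLocRing R S q.asIdeal)
        (f.map (algebraMap S (EGA4.FibLocRing R S q.asIdeal)))) := by
  classical
  let c : PrimeSpectrum (S ⧸ Ideal.ofList f) → PrimeSpectrum S :=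
    PrimeSpectrum.comap (Ideal.Quotient.mk (Ideal.ofList f))
  have hc : Topology.IsClosedEmbedding c :=
    PrimeSpectrum.isClosedEmbedding_comap_of_surjective _ _ Ideal.Quotient.mk_surjective
  haveI := lft_SpecMap R (S ⧸ Ideal.ofList f)
  let U' : Set (PrimeSpectrum (S ⧸ Ideal.ofList f)) :=
    {x | FlatMor.fibreDimAt (Spec.map (CommRingCat.ofHom (algebraMap R (S ⧸ Ideal.ofList f)))) x +
      (f.length : WithBot ℕ∞) ≤ (d : WithBot ℕ∞)}
  have hU' : IsOpen U' := by
    by_cases hn : f.length ≤ d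
    · have hop := Groth.Agent.Lib.Helper18.Chev.isOpen_fibreDimAt_le
        (Spec.map (CommRingCat.ofHom (algebraMap R (S ⧸ Ideal.ofList f)))) (d - f.length)
      have hset : U' = {x | FlatMor.fibreDimAt
          (Spec.map (CommRingCat.ofHom (algebraMap R (S ⧸ Ideal.ofList f)))) x ≤
            ((d - f.length : ℕ) : WithBot ℕ∞)} := by
        ext x
        obtain ⟨m, hm⟩ := Groth.Agent.Lib.Helper18.Chev.exists_nat_fibreDimAt
          (Spec.map (CommRingCat.ofHom (algebraMap R (S ⧸ Ideal.ofList f)))) x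
        exact add_le_iff_le_sub_aux _ m _ _ hm hn
      rw [hset]
      exact hop
    · have hset : U' = ∅ := by
        ext x
        obtain ⟨m, hm⟩ := Groth.Agent.Lib.Helper18.Chev.exists_nat_fibreDimAt
          (Spec.map (CommRingCat.ofHom (algebraMap R (S ⧸ Ideal.ofList f)))) x
        exact iff_of_false (not_add_le_aux _ m _ _ hm hn) (Set.notMem_empty x)
      rw [hset]
      exact isOpen_empty
  refine ⟨(c '' U'ᶜ)ᶜ, (hc.isClosedMap _ hU'.isClosed_compl).isOpen_compl, ?_⟩
  intro q hq
  obtain ⟨q', rfl⟩ : ∃ q', c q' = q := by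
    have : q ∈ Set.range c := by
      rw [range_comap_of_surjective _ _ Ideal.Quotient.mk_surjective, Ideal.mk_ker]
      exact hq
    exact this
  rw [isRegular_iff_fibreDimAt R S d hCM heq f q']
  constructor
  · intro h
    by_contra h'
    exact h ⟨q', h', rfl⟩
  · rintro h ⟨x, hx, hxq⟩
    have : x = q' := hc.injective hxq
    subst this
    exact hx h

end Groth.Agent.Lib.Helper7.FibreRegOpen
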