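import Mathlib
import Groth.Prelude.Def_CAlg
import Groth.Prelude.Def_W4c5grrsingularflatDSeq
import Groth.Agent.Lib.Helper9.CosetAvoid
import Groth.Agent.Lib.Helper21.DepthKit3
import Groth.Agent.Lib.helper11.RegularCounting
import Groth.Agent.Lib.helper19.RegularLocalQuot

/-!
# Almost complete intersection primes of a Cohen–Macaulay local ring are generated by d-sequences
-/

set_option autoImplicit false
universe u

namespace Groth.Agent.Lib.Helper7.DSeqPrime

open RingTheory.Sequence IsLocalRing Pointwise

section Avoid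

variable {T : Type u} [CommRing T]

/-- Coset prime avoidance: `(a) + I ⊄ P` for finitely many primes `P` gives `x ∈ I` with
`a + x` in none of them. -/
theorem exists_add_notMem (a : T) (I : Ideal T) (S : Set (Ideal T)) (hS : S.Finite)
    (hP : ∀ P ∈ S, P.IsPrime) (h : ∀ P ∈ S, ¬ (Ideal.span {a} ⊔ I ≤ P)) :
    ∃ x ∈ I, ∀ P ∈ S, a + x ∉ P := by
  classical
  let s : Finset (PrimeSpectrum T) :=
    (hS.toFinset.attach.image fun P => ⟨P.1, hP P.1 (hS.mem_toFinset.mp P.2)⟩).filter
      fun 𝔭 => ¬ I ≤ 𝔭.asIdeal
  obtain ⟨x, hxI, hx⟩ := Groth.Agent.Lib.Helper9.CosetAvoid.exists_add_not_mem a I s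
    (fun 𝔭 h𝔭 => (Finset.mem_filter.mp h𝔭).2)
  refine ⟨x, hxI, fun P hPS hmem => ?_⟩
  by_cases hIP : I ≤ P
  · apply h P hPS
    refine sup_le ?_ hIP
    rw [Ideal.span_singleton_le_iff_mem]
    have h1 : a = (a + x) - x := by ring
    rw [h1]
    exact P.sub_mem hmem (hIP hxI)
  · have hmem' : (⟨P, hP P hPS⟩ : PrimeSpectrum T) ∈ s := by
      rw [Finset.mem_filter]
      refine ⟨?_, hIP⟩
      rw [Finset.mem_image]
      exact ⟨⟨P, hS.mem_toFinset.mpr hPS⟩, Finset.mem_attach _ _, rfl⟩
    exact hx _ hmem' hmem

end Avoid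

section Step

variable {T : Type u} [CommRing T] [IsLocalRing T] [IsNoetherianRing T]

/-- In a CM local ring, an associated prime `P` of `T/(xs)` for a regular sequence `xs ⊆ m` has
`dim T/P + length xs = dim T`. -/
theorem ringKrullDim_quotient_add_length (hCM : LocCoh.IsCohenMacaulayModule T T) (xs : List T)
    (hxs : IsWeaklyRegular T xs) (hm : ∀ x ∈ xs, x ∈ maximalIdeal T) (P : Ideal T)
    (hP : P ∈ associatedPrimes T (T ⧸ (Ideal.ofList xs • ⊤ : Submodule T T))) :
    ringKrullDim (T ⧸ P) + xs.length = ringKrullDim T := by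
  have hreg : IsRegular T xs :=
    (IsLocalRing.isRegular_iff_isWeaklyRegular_of_subset_maximalIdeal hm).mpr hxs
  have h1 := Module.supportDim_add_length_eq_supportDim_of_isRegular xs hreg
  have hCMq := Groth.Agent.Lib.Helper21.DepthKit.isCM_quot_ofList xs T hCM hm hxs
  have h2 := Groth.Agent.Lib.Helper21.DepthKit.ringKrullDim_quotient_eq_supportDim_of_isCM
    hCMq hP
  rw [h2, h1, Module.supportDim_self_eq_ringKrullDim]

theorem ofList_le_of_mem_associatedPrimes (xs : List T) (P : Ideal T)
    (hP : P ∈ associatedPrimes T (T ⧸ (Ideal.ofList xs • ⊤ : Submodule T T))) :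
    Ideal.ofList xs ≤ P := by
  refine le_trans ?_ (IsAssociatedPrime.annihilator_le hP)
  intro z hz
  rw [Submodule.mem_annihilator]
  intro b _
  obtain ⟨b, rfl⟩ := Submodule.Quotient.mk_surjective _ b
  rw [← Submodule.Quotient.mk_smul, Submodule.Quotient.mk_eq_zero]
  exact Submodule.smul_mem_smul hz trivial

/-- A prime `p` of height `> length xs` is not contained in an associated prime of `T/(xs)`. -/
theorem not_le_of_mem_associatedPrimes (hCM : LocCoh.IsCohenMacaulayModule T T) (xs : List T)
    (hxs : IsWeaklyRegular T xs) (hm : ∀ x ∈ xs, x ∈ maximalIdeal T) (P : Ideal T)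
    (hP : P ∈ associatedPrimes T (T ⧸ (Ideal.ofList xs • ⊤ : Submodule T T)))
    (p : Ideal T) [p.IsPrime] (hlen : (xs.length : ℕ∞) < p.height) : ¬ p ≤ P := by
  intro hpP
  haveI : P.IsPrime := hP.isPrime
  have h1 := ringKrullDim_quotient_add_length hCM xs hxs hm P hP
  have h2 := Groth.Agent.Lib.helper11.RegularCounting.height_add_ringKrullDim_quotient_le P
  have h3 : p.height ≤ P.height := Ideal.height_mono hpP
  have h4 : ((xs.length : ℕ∞) : WithBot ℕ∞) < (P.height : WithBot ℕ∞) :=
    WithBot.coe_lt_coe.mpr (lt_of_lt_of_le hlen h3)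
  haveI : Nontrivial (T ⧸ P) := Ideal.Quotient.nontrivial_iff.mpr Ideal.IsPrime.ne_top'
  haveI : IsLocalRing (T ⧸ P) :=
    IsLocalRing.of_surjective' (Ideal.Quotient.mk P) Ideal.Quotient.mk_surjective
  have hfin : ringKrullDim (T ⧸ P) ≠ ⊤ := ringKrullDim_ne_top
  have hnb : ringKrullDim (T ⧸ P) ≠ ⊥ := ringKrullDim_ne_bot
  rw [← h1] at h2
  obtain ⟨e, he⟩ := WithBot.ne_bot_iff_exists.mp hnb
  have he' : e ≠ ⊤ := by
    intro h
    apply hfin
    rw [← he, h]
    rfl
  obtain ⟨e, rfl⟩ := ENat.ne_top_iff_exists.mp he'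
  obtain ⟨h, hh⟩ := ENat.ne_top_iff_exists.mp (Ideal.height_ne_top (I := P) Ideal.IsPrime.ne_top')
  rw [← he, ← hh] at h2
  rw [← hh] at h4
  have h5 : h + e ≤ e + xs.length := by exact_mod_cast h2
  have h6 : xs.length < h := by exact_mod_cast h4
  omega

/-- The step: a regular element in the coset `y + p * (ys)`. -/
theorem exists_regular_coset (hCM : LocCoh.IsCohenMacaulayModule T T) (p : Ideal T) [p.IsPrime]
    (xs : List T) (hxs : IsWeaklyRegular T xs) (y : T) (ys : List T)
    (hgen : Ideal.ofList (xs ++ y :: ys) = p) (hlen : (xs.length : ℕ∞) < p.height) :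
    ∃ c ∈ p * Ideal.ofList ys,
      IsSMulRegular (T ⧸ (Ideal.ofList xs • ⊤ : Submodule T T)) (y + c) := by
  have hpm : p ≤ maximalIdeal T := IsLocalRing.le_maximalIdeal Ideal.IsPrime.ne_top'
  have hxsp : Ideal.ofList xs ≤ p := by
    rw [← hgen, Ideal.ofList_append]
    exact le_sup_left
  have hm : ∀ x ∈ xs, x ∈ maximalIdeal T := fun x hx =>
    hpm (hxsp (Ideal.subset_span hx))
  obtain ⟨c, hc, hc'⟩ := exists_add_notMem y (p * Ideal.ofList ys)
    (associatedPrimes T (T ⧸ (Ideal.ofList xs • ⊤ : Submodule T T)))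
    (associatedPrimes.finite T _) (fun P hP => hP.isPrime) (by
      intro P hP hle
      haveI : P.IsPrime := hP.isPrime
      apply not_le_of_mem_associatedPrimes hCM xs hxs hm P hP p hlen
      have hy : y ∈ P := hle (Ideal.mem_sup_left (Ideal.mem_span_singleton_self y))
      have hmul : p * Ideal.ofList ys ≤ P := le_trans le_sup_right hle
      rcases (Ideal.IsPrime.mul_le ‹P.IsPrime›).mp hmul with h | h
      · exact h
      · rw [← hgen, Ideal.ofList_append, Ideal.ofList_cons]
        refine sup_le (ofList_le_of_mem_associatedPrimes xs P hP) (sup_le ?_ h)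
        rwa [Ideal.span_singleton_le_iff_mem])
  refine ⟨c, hc, ?_⟩
  have h1 := biUnion_associatedPrimes_eq_compl_regular T
    (T ⧸ (Ideal.ofList xs • ⊤ : Submodule T T))
  by_contra hreg
  have h2 : (y + c) ∈ ({r : T | IsSMulRegular
      (T ⧸ (Ideal.ofList xs • ⊤ : Submodule T T)) r}ᶜ : Set T) := hreg
  rw [← h1] at h2
  simp only [Set.mem_iUnion] at h2
  obtain ⟨P, hP, hmem⟩ := h2
  exact hc' P hP hmem

/-- Iterating the step: modify the first `k` members of a generating list modulo `p ^ 2` into a
regular sequence. -/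
theorem exists_regular_modification (hCM : LocCoh.IsCohenMacaulayModule T T) (p : Ideal T)
    [p.IsPrime] (k : ℕ) :
    ∀ (xs ys : List T), IsWeaklyRegular T xs → Ideal.ofList (xs ++ ys) = p →
      ((xs.length + k : ℕ) : ℕ∞) ≤ p.height → k ≤ ys.length →
      ∃ xs' : List T, xs'.length = k ∧ IsWeaklyRegular T (xs ++ xs') ∧
        Ideal.ofList (xs ++ xs' ++ ys.drop k) = p ∧
        List.Forall₂ (fun a b => a - b ∈ p ^ 2) xs' (ys.take k) := by
  induction k with
  | zero =>
    intro xs ys hxs hgen _ _
    exact ⟨[], rfl, by simpa using hxs, by simpa using hgen, by simp⟩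
  | succ k ih =>
    intro xs ys hxs hgen hlen hk
    match ys, hk with
    | y :: ys', hk =>
      have hlen' : (xs.length : ℕ∞) < p.height := by
        refine lt_of_lt_of_le ?_ hlen
        exact_mod_cast (by omega : xs.length < xs.length + (k + 1))
      obtain ⟨c, hc, hreg⟩ := exists_regular_coset hCM p xs hxs y ys' hgen hlen'
      have hys'p : Ideal.ofList ys' ≤ p := by
        rw [← hgen, Ideal.ofList_append, Ideal.ofList_cons]
        exact le_trans le_sup_right (le_trans le_sup_right le_rfl)
      have hcys : c ∈ Ideal.ofList ys' :=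
        (Ideal.mul_le_right : p * Ideal.ofList ys' ≤ Ideal.ofList ys') hc
      have hcp2 : c ∈ p ^ 2 := by
        rw [pow_two]
        exact (Ideal.mul_mono_right hys'p : p * Ideal.ofList ys' ≤ p * p) hc
      have hxs1 : IsWeaklyRegular T (xs ++ [y + c]) := by
        rw [isWeaklyRegular_append_iff, isWeaklyRegular_singleton_iff]
        exact ⟨hxs, hreg⟩
      have hgen1 : Ideal.ofList ((xs ++ [y + c]) ++ ys') = p := by
        rw [← hgen, List.append_assoc, List.singleton_append, Ideal.ofList_append,
          Ideal.ofList_append, Ideal.ofList_cons, Ideal.ofList_cons]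
        congr 1
        apply le_antisymm
        · refine sup_le ?_ le_sup_right
          rw [Ideal.span_singleton_le_iff_mem]
          exact Ideal.add_mem _ (Ideal.mem_sup_left (Ideal.mem_span_singleton_self y))
            (Ideal.mem_sup_right hcys)
        · refine sup_le ?_ le_sup_right
          rw [Ideal.span_singleton_le_iff_mem]
          have h1 : (y + c) - c ∈ Ideal.span {y + c} ⊔ Ideal.ofList ys' :=
            Ideal.sub_mem _ (Ideal.mem_sup_left (Ideal.mem_span_singleton_self _))
              (Ideal.mem_sup_right hcys)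
          simpa using h1
      obtain ⟨xs'', hlen'', hreg'', hgen'', hrel''⟩ := ih (xs ++ [y + c]) ys' hxs1 hgen1
        (by
          have h1 : (xs ++ [y + c]).length + k = xs.length + (k + 1) := by
            simp; omega
          rw [h1]; exact hlen)
        (by simpa using hk)
      refine ⟨(y + c) :: xs'', by simp [hlen''], ?_, ?_, ?_⟩
      · have h1 : xs ++ (y + c) :: xs'' = (xs ++ [y + c]) ++ xs'' := by simp
        rw [h1]; exact hreg''
      · have h1 : xs ++ (y + c) :: xs'' ++ List.drop (k + 1) (y :: ys') =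
            (xs ++ [y + c]) ++ xs'' ++ List.drop k ys' := by simp
        rw [h1]; exact hgen''
      · rw [List.take_succ_cons]
        refine List.Forall₂.cons ?_ hrel''
        have h1 : y + c - y = c := by ring
        rw [h1]; exact hcp2

end Step

section Select

variable {A : Type u} [CommRing A] [IsLocalRing A] [IsNoetherianRing A]

/-- From `n + 1` generators of the maximal ideal of a local ring of embedding dimension `≤ n`, one
can be dropped. -/
theorem exists_drop_one (n : ℕ) (hn : (maximalIdeal A).spanFinrank ≤ n)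
    (y : Fin (n + 1) → A) (hy : Ideal.span (Set.range y) = maximalIdeal A) :
    ∃ j : Fin (n + 1), Ideal.span (Set.range (y ∘ j.succAbove)) = maximalIdeal A := by
  classical
  have hmem : ∀ i, y i ∈ maximalIdeal A := fun i => hy ▸ Ideal.subset_span ⟨i, rfl⟩
  let y' : Fin (n + 1) → maximalIdeal A := fun i => ⟨y i, hmem i⟩
  let v : Fin (n + 1) → CotangentSpace A := fun i => (maximalIdeal A).toCotangent (y' i)
  have htop : Submodule.span A (Set.range y') = ⊤ := by
    apply Submodule.map_injective_of_injective (maximalIdeal A).injective_subtype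
    rw [Submodule.map_span, Submodule.map_top, Submodule.range_subtype, ← Set.range_comp]
    exact hy
  have hvtop : Submodule.span (ResidueField A) (Set.range v) = ⊤ := by
    have h1 := CotangentSpace.span_image_eq_top_iff.mpr htop
    rwa [← Set.range_comp] at h1
  have hfin : Module.finrank (ResidueField A) (CotangentSpace A) ≤ n := by
    rw [← spanFinrank_maximalIdeal_eq_finrank_cotangentSpace]
    exact hn
  have hli : ¬ LinearIndependent (ResidueField A) v := by
    intro h
    have h1 := h.fintype_card_le_finrank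
    simp only [Fintype.card_fin] at h1
    omega
  rw [Fintype.not_linearIndependent_iff] at hli
  obtain ⟨g, hsum, j, hj⟩ := hli
  refine ⟨j, ?_⟩
  have hvj : v j ∈ Submodule.span (ResidueField A) (Set.range (v ∘ j.succAbove)) := by
    rw [Fin.sum_univ_succAbove _ j] at hsum
    have h2 : g j • v j = -∑ i, g (j.succAbove i) • v (j.succAbove i) :=
      eq_neg_of_add_eq_zero_left hsum
    have h1 : v j = -((g j)⁻¹ • ∑ i, g (j.succAbove i) • v (j.succAbove i)) := by
      rw [← smul_neg, ← h2, smul_smul, inv_mul_cancel₀ hj, one_smul]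
    rw [h1]
    refine Submodule.neg_mem _ (Submodule.smul_mem _ _ (Submodule.sum_mem _ fun i _ =>
      Submodule.smul_mem _ _ (Submodule.subset_span ⟨i, rfl⟩)))
  have hvtop' : Submodule.span (ResidueField A) (Set.range (v ∘ j.succAbove)) = ⊤ := by
    rw [eq_top_iff, ← hvtop, Submodule.span_le]
    rintro _ ⟨i, rfl⟩
    rcases Fin.eq_self_or_eq_succAbove j i with rfl | ⟨i', rfl⟩
    · exact hvj
    · exact Submodule.subset_span ⟨i', rfl⟩
  have htop' : Submodule.span A (Set.range (y' ∘ j.succAbove)) = ⊤ := by
    apply CotangentSpace.span_image_eq_top_iff.mp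
    rw [← Set.range_comp]
    exact hvtop'
  have h3 := congrArg (Submodule.map (maximalIdeal A).subtype) htop'
  rw [Submodule.map_span, Submodule.map_top, Submodule.range_subtype, ← Set.range_comp] at h3
  exact h3

end Select

section Special

variable {T : Type u} [CommRing T] [IsLocalRing T] [IsNoetherianRing T]

theorem ofList_smul_top (xs : List T) :
    (Ideal.ofList xs • ⊤ : Submodule T T) = Ideal.ofList xs := by
  rw [smul_eq_mul, Ideal.mul_top]

/-- The last colon condition: `(I : x ^ 2) = (I : x)` when `I = (xs)` is generated by a regular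
sequence of length `ht p`, `p = I + (x)` and `I` and `p` agree at `p`. -/
theorem mul_mem_of_mul_sq_mem (hCM : LocCoh.IsCohenMacaulayModule T T) (p : Ideal T) [p.IsPrime]
    (xs : List T) (hxs : IsWeaklyRegular T xs) (x : T)
    (hgen : Ideal.ofList (xs ++ [x]) = p) (hlen : (xs.length : ℕ∞) = p.height)
    (hloc : ∃ s, s ∉ p ∧ s * x ∈ Ideal.ofList xs) (a : T)
    (ha : a * (x * x) ∈ Ideal.ofList xs) : a * x ∈ Ideal.ofList xs := by
  by_contra hax
  have hpm : p ≤ maximalIdeal T := IsLocalRing.le_maximalIdeal Ideal.IsPrime.ne_top'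
  have hxsp : Ideal.ofList xs ≤ p := by
    rw [← hgen, Ideal.ofList_append]
    exact le_sup_left
  have hm : ∀ z ∈ xs, z ∈ maximalIdeal T := fun z hz =>
    hpm (hxsp (Ideal.subset_span hz))
  have hb : (Submodule.Quotient.mk (a * x) : T ⧸ (Ideal.ofList xs • ⊤ : Submodule T T)) ≠ 0 := by
    rw [Ne, Submodule.Quotient.mk_eq_zero, ofList_smul_top]
    exact hax
  obtain ⟨P, hPass, hle⟩ := exists_le_isAssociatedPrime_of_isNoetherianRing T _ hb
  haveI : P.IsPrime := hPass.isPrime
  have hann : ∀ z : T, z * (a * x) ∈ Ideal.ofList xs → z ∈ P := by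
    intro z hz
    apply hle
    rw [Submodule.mem_colon_singleton, Submodule.mem_bot, ← Submodule.Quotient.mk_smul,
      Submodule.Quotient.mk_eq_zero, ofList_smul_top]
    exact hz
  have hxP : x ∈ P := hann x (by
    have h1 : x * (a * x) = a * (x * x) := by ring
    rw [h1]; exact ha)
  have hJP : Ideal.ofList xs ≤ P := ofList_le_of_mem_associatedPrimes xs P hPass
  have hpP : p ≤ P := by
    rw [← hgen, Ideal.ofList_append, Ideal.ofList_singleton]
    exact sup_le hJP ((Ideal.span_singleton_le_iff_mem _).mpr hxP)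
  -- `P = p` by heights
  have h1 := ringKrullDim_quotient_add_length hCM xs hxs hm P hPass
  have h2 := Groth.Agent.Lib.helper11.RegularCounting.height_add_ringKrullDim_quotient_le P
  haveI : Nontrivial (T ⧸ P) := Ideal.Quotient.nontrivial_iff.mpr Ideal.IsPrime.ne_top'
  haveI : IsLocalRing (T ⧸ P) :=
    IsLocalRing.of_surjective' (Ideal.Quotient.mk P) Ideal.Quotient.mk_surjective
  have hfin : ringKrullDim (T ⧸ P) ≠ ⊤ := ringKrullDim_ne_top
  have hnb : ringKrullDim (T ⧸ P) ≠ ⊥ := ringKrullDim_ne_bot
  rw [← h1] at h2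
  obtain ⟨e, he⟩ := WithBot.ne_bot_iff_exists.mp hnb
  have he' : e ≠ ⊤ := by
    intro h
    apply hfin
    rw [← he, h]
    rfl
  obtain ⟨e, rfl⟩ := ENat.ne_top_iff_exists.mp he'
  obtain ⟨h, hh⟩ := ENat.ne_top_iff_exists.mp (Ideal.height_ne_top (I := P) Ideal.IsPrime.ne_top')
  rw [← he, ← hh] at h2
  have h5 : h + e ≤ e + xs.length := by exact_mod_cast h2
  have hPp : P.height ≤ p.height := by
    rw [← hlen, ← hh]
    exact_mod_cast (by omega : h ≤ xs.length)
  have heq : p = P := p.eq_of_le_of_height_le hpP hPp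
  obtain ⟨s, hs, hsx⟩ := hloc
  apply hs
  rw [heq]
  apply hann
  have h6 : s * (a * x) = a * (s * x) := by ring
  rw [h6]
  exact Ideal.mul_mem_left _ _ hsx

omit [IsLocalRing T] in
/-- A generating list of minimal length: no member lies in the ideal of the others. -/
theorem notMem_span_others (p : Ideal T) (ts : List T)
    (hgen : Ideal.ofList ts = p) (hlen : ts.length = p.spanFinrank) (i : Fin ts.length) :
    ts[i] ∉ Ideal.span
      (Set.range fun j : {j : Fin ts.length // j ≠ i} => ts[(j : Fin ts.length)]) := by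
  classical
  subst hgen
  intro hmem
  have hle : Ideal.ofList ts ≤ Ideal.span
      (Set.range fun j : {j : Fin ts.length // j ≠ i} => ts[(j : Fin ts.length)]) := by
    rw [Ideal.ofList, Ideal.span_le]
    intro z hz
    obtain ⟨k, rfl⟩ := List.mem_iff_get.mp hz
    by_cases hk : k = i
    · subst hk; exact hmem
    · exact Ideal.subset_span ⟨⟨k, hk⟩, rfl⟩
  have hsub : (Set.range fun j : {j : Fin ts.length // j ≠ i} => ts[(j : Fin ts.length)]) ⊆
      ((Finset.univ.erase i).image fun j : Fin ts.length => ts[j] : Finset T) := by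
    rintro _ ⟨j, rfl⟩
    rw [Finset.mem_coe, Finset.mem_image]
    exact ⟨j.1, Finset.mem_erase.mpr ⟨j.2, Finset.mem_univ _⟩, rfl⟩
  have h2 : Ideal.ofList ts ≤ Ideal.span
      (((Finset.univ.erase i).image fun j : Fin ts.length => ts[j] : Finset T) : Set T) :=
    hle.trans (Ideal.span_mono hsub)
  have h3 : Ideal.span
      (((Finset.univ.erase i).image fun j : Fin ts.length => ts[j] : Finset T) : Set T) ≤
        Ideal.ofList ts := by
    rw [Ideal.span_le]
    intro z hz
    rw [Finset.mem_coe, Finset.mem_image] at hz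
    obtain ⟨j, -, rfl⟩ := hz
    exact Ideal.subset_span (List.getElem_mem _)
  have h4 := Submodule.spanFinrank_span_le_ncard_of_finite (R := T)
    (((Finset.univ.erase i).image fun j : Fin ts.length => ts[j]).finite_toSet)
  rw [Set.ncard_coe_finset] at h4
  have h5 : Ideal.span
      (((Finset.univ.erase i).image fun j : Fin ts.length => ts[j] : Finset T) : Set T) =
        Ideal.ofList ts := le_antisymm h3 h2
  have h1 : (Ideal.ofList ts).spanFinrank ≤
      ((Finset.univ.erase i).image fun j : Fin ts.length => ts[j]).card := by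
    have h8 := congrArg Submodule.spanFinrank h5
    rw [← h8]
    exact h4
  have h6 : ((Finset.univ.erase i).image fun j : Fin ts.length => ts[j]).card ≤ ts.length - 1 := by
    refine Finset.card_image_le.trans ?_
    rw [Finset.card_erase_of_mem (Finset.mem_univ _), Finset.card_univ, Fintype.card_fin]
  have h7 : 0 < ts.length := i.pos
  omega

/-- Assembling the d-sequence. -/
theorem isDSeq_of_data (hCM : LocCoh.IsCohenMacaulayModule T T) (p : Ideal T) [p.IsPrime]
    (xs rest : List T) (hxs : IsWeaklyRegular T xs)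
    (hgen : Ideal.ofList (xs ++ rest) = p) (hlen : (xs.length : ℕ∞) = p.height)
    (hmin : (xs ++ rest).length = p.spanFinrank) (hrest : rest.length ≤ 1)
    (hloc : ∀ x ∈ rest, ∃ s, s ∉ p ∧ s * x ∈ Ideal.ofList xs) :
    W4c5grrsingularflat.IsDSeq (xs ++ rest) := by
  refine ⟨fun i => notMem_span_others p (xs ++ rest) hgen hmin i, ?_⟩
  intro i k hk hik
  ext a
  rw [Submodule.mem_colon_singleton, Submodule.mem_colon_singleton, smul_eq_mul, smul_eq_mul]
  constructor
  · intro h
    by_cases hi : i < xs.length
    · have htake : List.take i (xs ++ rest) = List.take i xs :=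
        List.take_append_of_le_length hi.le
      have hget : (xs ++ rest)[i]'(Nat.lt_of_le_of_lt hik hk) = xs[i] :=
        List.getElem_append_left hi
      rw [htake] at h ⊢
      rw [hget] at h
      have hreg := hxs.regular_mod_prev i hi
      rw [isSMulRegular_quotient_iff_mem_of_smul_mem] at hreg
      have h1 := hreg (a * (xs ++ rest)[k]) (by
        rw [ofList_smul_top, smul_eq_mul]
        have h2 : xs[i] * (a * (xs ++ rest)[k]) = a * ((xs ++ rest)[k] * xs[i]) := by ring
        rw [h2]; exact h)
      rwa [ofList_smul_top] at h1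
    · -- `i = k = xs.length` and `rest = [x]`
      rw [List.length_append] at hk
      have hi' : i = xs.length := by omega
      have hk' : k = xs.length := by omega
      have hr1 : rest.length = 1 := by omega
      obtain ⟨x, rfl⟩ := List.length_eq_one_iff.mp hr1
      subst hi'
      subst hk'
      have htake : List.take xs.length (xs ++ [x]) = xs := List.take_left
      have hget : (xs ++ [x])[xs.length]'(by simp) = x := by simp
      rw [htake] at h ⊢
      simp only [hget] at h ⊢
      exact mul_mem_of_mul_sq_mem hCM p xs hxs x hgen hlen (hloc x (by simp)) a h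
  · intro h
    have h1 : a * ((xs ++ rest)[k] * (xs ++ rest)[i]'(Nat.lt_of_le_of_lt hik hk)) =
        (xs ++ rest)[i]'(Nat.lt_of_le_of_lt hik hk) * (a * (xs ++ rest)[k]) := by ring
    rw [h1]
    exact Ideal.mul_mem_left _ _ h

end Special

section Main

theorem ofList_le_of_forall₂ {T : Type u} [CommRing T] (I : Ideal T) {xs ys : List T}
    (h : List.Forall₂ (fun a b => a - b ∈ I) xs ys) :
    Ideal.ofList ys ≤ Ideal.ofList xs ⊔ I := by
  induction h with
  | nil => simp
  | @cons a b xs ys hab _ ih =>
    rw [Ideal.ofList_cons, Ideal.ofList_cons]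
    refine sup_le ?_ (ih.trans (sup_le_sup_right le_sup_right _))
    rw [Ideal.span_singleton_le_iff_mem]
    have h1 : b = a - (a - b) := by ring
    rw [h1]
    exact Ideal.sub_mem _ (Ideal.mem_sup_left (Ideal.mem_sup_left
      (Ideal.mem_span_singleton_self a))) (Ideal.mem_sup_right hab)

theorem ofList_ofFn {T : Type u} [CommRing T] {n : ℕ} (f : Fin n → T) :
    Ideal.ofList (List.ofFn f) = Ideal.span (Set.range f) := by
  unfold Ideal.ofList
  congr 1
  ext r
  simp [List.mem_ofFn]

variable {T : Type u} [CommRing T] [hT : LocCoh.IsCohenMacaulayLocalRing T]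

/-- **Huneke**: in a Cohen–Macaulay local ring, a prime `p` with `μ(p) ≤ ht p + 1` and `T_p` regular
is generated by a d-sequence. -/
theorem exists_isDSeq (p : Ideal T) [p.IsPrime]
    (hgen : (Submodule.spanFinrank p : ℕ∞) ≤ p.height + 1)
    [IsRegularLocalRing (Localization.AtPrime p)] :
    ∃ ts : List T, Ideal.ofList ts = p ∧ W4c5grrsingularflat.IsDSeq ts := by
  have hCM : LocCoh.IsCohenMacaulayModule T T := hT.supportDim_eq_depth
  obtain ⟨n, hn⟩ := ENat.ne_top_iff_exists.mp
    (Ideal.height_ne_top (I := p) Ideal.IsPrime.ne_top')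
  obtain ⟨ys₀, hlen₀, hgen₀⟩ := Groth.Agent.Lib.helper19.exists_list_ofList_eq p
  have hkrull : p.height ≤ p.spanFinrank := Ideal.height_le_spanFinrank p Ideal.IsPrime.ne_top'
  rw [← hn] at hkrull hgen
  have h1 : n ≤ ys₀.length := by rw [hlen₀]; exact_mod_cast hkrull
  have h2 : ys₀.length ≤ n + 1 := by rw [hlen₀]; exact_mod_cast hgen
  rcases Nat.lt_or_ge n ys₀.length with hlt | hge
  · -- `μ(p) = n + 1`
    have hlen1 : ys₀.length = n + 1 := by omega
    let y : Fin (n + 1) → T := fun i => ys₀[i.1]'(by omega)
    have hyspan : Ideal.span (Set.range y) = p := by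
      rw [← hgen₀]
      unfold Ideal.ofList
      congr 1
      ext r
      constructor
      · rintro ⟨i, rfl⟩
        exact List.getElem_mem _
      · intro hr
        obtain ⟨k, hk, rfl⟩ := List.getElem_of_mem hr
        exact ⟨⟨k, by omega⟩, rfl⟩
    have hspanA : Ideal.span (Set.range (algebraMap T (Localization.AtPrime p) ∘ y)) =
        maximalIdeal (Localization.AtPrime p) := by
      rw [Set.range_comp, ← Ideal.map_span, hyspan, Localization.AtPrime.map_eq_maximalIdeal]
    have hemb : (maximalIdeal (Localization.AtPrime p)).spanFinrank ≤ n := by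
      have h3 := IsRegularLocalRing.spanFinrank_maximalIdeal (R := Localization.AtPrime p)
      rw [IsLocalization.AtPrime.ringKrullDim_eq_height p (Localization.AtPrime p), ← hn] at h3
      exact le_of_eq (by exact_mod_cast h3)
    obtain ⟨j, hj⟩ := exists_drop_one n hemb _ hspanA
    -- the reordered list
    have hgen1 : Ideal.ofList (([] : List T) ++
        (List.ofFn (y ∘ j.succAbove) ++ [y j])) = p := by
      rw [List.nil_append, Ideal.ofList_append, Ideal.ofList_singleton, ofList_ofFn, ← hyspan,
        ← Ideal.span_union]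
      congr 1
      ext r
      constructor
      · rintro (⟨i, rfl⟩ | rfl)
        · exact ⟨_, rfl⟩
        · exact ⟨j, rfl⟩
      · rintro ⟨i, rfl⟩
        rcases Fin.eq_self_or_eq_succAbove j i with rfl | ⟨i', rfl⟩
        · exact Or.inr rfl
        · exact Or.inl ⟨i', rfl⟩
    obtain ⟨xs', hxs'len, hxs'reg, hxs'gen, hrel⟩ := exists_regular_modification hCM p n []
      (List.ofFn (y ∘ j.succAbove) ++ [y j]) (IsWeaklyRegular.nil T T) hgen1
      (by rw [← hn]; simp) (by simp)
    have hdrop : List.drop n (List.ofFn (y ∘ j.succAbove) ++ [y j]) = [y j] :=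
      List.drop_left' (by simp)
    have htake : List.take n (List.ofFn (y ∘ j.succAbove) ++ [y j]) =
        List.ofFn (y ∘ j.succAbove) := List.take_left' (by simp)
    rw [hdrop, List.nil_append] at hxs'gen
    rw [htake] at hrel
    rw [List.nil_append] at hxs'reg
    -- `(xs') T_p = p T_p`
    have hY := ofList_le_of_forall₂ (p ^ 2) hrel
    have hxsp : Ideal.ofList xs' ≤ p := by
      rw [← hxs'gen, Ideal.ofList_append]
      exact le_sup_left
    have hmapY : (Ideal.ofList (List.ofFn (y ∘ j.succAbove))).map
        (algebraMap T (Localization.AtPrime p)) = maximalIdeal (Localization.AtPrime p) := by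
      rw [ofList_ofFn, Ideal.map_span, ← Set.range_comp]
      exact hj
    have hmapJ : maximalIdeal (Localization.AtPrime p) ≤
        (Ideal.ofList xs').map (algebraMap T (Localization.AtPrime p)) := by
      apply Submodule.le_of_le_smul_of_le_jacobson_bot
        (I := maximalIdeal (Localization.AtPrime p))
        (IsNoetherian.noetherian _)
        (IsLocalRing.jacobson_eq_maximalIdeal _ bot_ne_top).ge
      have h3 := Ideal.map_mono (f := algebraMap T (Localization.AtPrime p)) hY
      rw [hmapY, Ideal.map_sup, Ideal.map_pow, Localization.AtPrime.map_eq_maximalIdeal,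
        pow_two] at h3
      exact h3
    have hloc : ∃ s, s ∉ p ∧ s * y j ∈ Ideal.ofList xs' := by
      have hyj : y j ∈ p := by rw [← hyspan]; exact Ideal.subset_span ⟨j, rfl⟩
      have h3 : algebraMap T (Localization.AtPrime p) (y j) ∈
          (Ideal.ofList xs').map (algebraMap T (Localization.AtPrime p)) := by
        apply hmapJ
        rw [← Localization.AtPrime.map_eq_maximalIdeal]
        exact Ideal.mem_map_of_mem _ hyj
      rw [IsLocalization.mem_map_algebraMap_iff p.primeCompl] at h3
      obtain ⟨⟨a, s⟩, has⟩ := h3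
      rw [← map_mul] at has
      obtain ⟨t, ht⟩ := (IsLocalization.eq_iff_exists p.primeCompl _).mp has
      refine ⟨t * s, (t * s).2, ?_⟩
      have h4 : (t : T) * (s : T) * y j = t * (y j * s) := by ring
      rw [h4, ht]
      exact Ideal.mul_mem_left _ _ a.2
    refine ⟨xs' ++ [y j], hxs'gen, ?_⟩
    apply isDSeq_of_data hCM p xs' [y j] hxs'reg hxs'gen (by rw [hxs'len, hn])
      (by simp [hxs'len, ← hlen₀, hlen1]) (by simp)
    intro x hx
    rw [List.mem_singleton] at hx
    rw [hx]
    exact hloc
  · -- `μ(p) = n`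
    have hlen1 : ys₀.length = n := by omega
    obtain ⟨xs', hxs'len, hxs'reg, hxs'gen, -⟩ := exists_regular_modification hCM p n []
      ys₀ (IsWeaklyRegular.nil T T) (by simpa using hgen₀)
      (by rw [← hn]; simp) (by omega)
    have hdrop : List.drop n ys₀ = [] := List.drop_of_length_le (by omega)
    rw [hdrop, List.nil_append] at hxs'gen
    rw [List.nil_append] at hxs'reg
    refine ⟨xs' ++ [], hxs'gen, ?_⟩
    apply isDSeq_of_data hCM p xs' [] hxs'reg hxs'gen (by rw [hxs'len, hn])
      (by simp [hxs'len, ← hlen₀, hlen1]) (by simp)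
    intro x hx
    simp at hx

end Main

end Groth.Agent.Lib.Helper7.DSeqPrime
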