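import Mathlib

/-!
# Completion along a principal ideal preserves weakly regular sequences under bounded torsion

If `x` is `M`-regular and `M/xM` has bounded `a`-power torsion, then the `(a)`-adic completion of
`0 → M → M → M/xM → 0` is exact.
-/

set_option autoImplicit false
universe u

namespace Groth.Agent.Lib.Helper7.AdicRegular

open Submodule Pointwise

variable {A : Type u} [CommRing A] (a : A)

/-- bounded `a`-power torsion. -/
def BddTors (M : Type u) [AddCommGroup M] [Module A M] : Prop :=
  ∃ N : ℕ, ∀ y : M, (∃ m : ℕ, a ^ m • y = 0) → a ^ N • y = 0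

lemma BddTors.of_equiv {M M' : Type u} [AddCommGroup M] [Module A M] [AddCommGroup M']
    [Module A M'] (e : M ≃ₗ[A] M') (h : BddTors a M) : BddTors a M' := by
  obtain ⟨N, hN⟩ := h
  refine ⟨N, fun y ⟨m, hm⟩ => ?_⟩
  have h1 : a ^ N • e.symm y = 0 := hN (e.symm y) ⟨m, by rw [← map_smul, hm, map_zero]⟩
  have h2 := congrArg e h1
  rwa [map_smul, e.apply_symm_apply, map_zero] at h2

section Basic

variable {M : Type u} [AddCommGroup M] [Module A M]

lemma mem_pow_smul_top_iff (n : ℕ) (m : M) :
    m ∈ (Ideal.span {a} ^ n • ⊤ : Submodule A M) ↔ ∃ m' : M, m = a ^ n • m' := by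
  rw [Ideal.span_singleton_pow, Submodule.ideal_span_singleton_smul,
    Submodule.mem_smul_pointwise_iff_exists]
  constructor
  · rintro ⟨b, -, hb⟩; exact ⟨b, hb.symm⟩
  · rintro ⟨b, hb⟩; exact ⟨b, trivial, hb.symm⟩

variable (x : A)

/-- the Artin–Rees type consequence of bounded torsion of `M/xM`. -/
lemma mem_of_smul_mem (hx : IsSMulRegular M x) (N₀ : ℕ)
    (hb : ∀ y : QuotSMulTop x M, (∃ m : ℕ, a ^ m • y = 0) → a ^ N₀ • y = 0)
    (n : ℕ) (m : M) (hm : x • m ∈ (Ideal.span {a} ^ (n + N₀) • ⊤ : Submodule A M)) :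
    m ∈ (Ideal.span {a} ^ n • ⊤ : Submodule A M) := by
  obtain ⟨m', hm'⟩ := (mem_pow_smul_top_iff a _ _).mp hm
  have h1 : a ^ (n + N₀) • (Submodule.Quotient.mk m' : QuotSMulTop x M) = 0 := by
    rw [← Submodule.Quotient.mk_smul, ← hm', Submodule.Quotient.mk_eq_zero]
    exact Submodule.smul_mem_pointwise_smul m x ⊤ trivial
  have h2 := hb _ ⟨_, h1⟩
  rw [← Submodule.Quotient.mk_smul, Submodule.Quotient.mk_eq_zero,
    Submodule.mem_smul_pointwise_iff_exists] at h2
  obtain ⟨m'', -, hm''⟩ := h2
  rw [mem_pow_smul_top_iff]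
  refine ⟨m'', hx ?_⟩
  show x • m = x • a ^ n • m''
  rw [hm', pow_add, mul_smul, ← hm'', smul_comm x (a ^ n)]

/-- `x` stays regular on the completion. -/
lemma isSMulRegular_adicCompletion (hx : IsSMulRegular M x) (N₀ : ℕ)
    (hb : ∀ y : QuotSMulTop x M, (∃ m : ℕ, a ^ m • y = 0) → a ^ N₀ • y = 0) :
    IsSMulRegular (AdicCompletion (Ideal.span {a}) M) x := by
  intro y z hyz
  have h0 : x • (y - z) = 0 := by rw [smul_sub, sub_eq_zero]; exact hyz
  suffices y - z = 0 from sub_eq_zero.mp this
  generalize y - z = w at h0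
  induction w using AdicCompletion.induction_on with
  | h f =>
    ext n
    have h1 : x • f (n + N₀) ∈ (Ideal.span {a} ^ (n + N₀) • ⊤ : Submodule A M) := by
      have h2 := congrArg (fun w => w.val (n + N₀)) h0
      simp only [AdicCompletion.val_smul_apply, AdicCompletion.mk_apply_coe,
        AdicCompletion.val_zero_apply, Submodule.mkQ_apply, ← Submodule.Quotient.mk_smul,
        Submodule.Quotient.mk_eq_zero] at h2
      exact h2
    have h2 := mem_of_smul_mem a x hx N₀ hb n _ h1
    rw [AdicCompletion.mk_apply_coe, Submodule.mkQ_apply, AdicCompletion.val_zero_apply,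
      ← AdicCompletion.AdicCauchySequence.mk_eq_mk (show n ≤ n + N₀ by omega) f,
      Submodule.Quotient.mk_eq_zero]
    exact h2

/-- decomposition of elements whose class in `M/xM` lies in `I^n (M/xM)`. -/
lemma exists_decomp (n : ℕ) (m : M)
    (h : (Submodule.mkQ (x • (⊤ : Submodule A M)) m : QuotSMulTop x M) ∈
      (Ideal.span {a} ^ n • ⊤ : Submodule A (QuotSMulTop x M))) :
    ∃ u v : M, m = x • u + a ^ n • v := by
  obtain ⟨q, hq⟩ := (mem_pow_smul_top_iff a n _).mp h
  obtain ⟨v, rfl⟩ := Submodule.mkQ_surjective _ q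
  have h1 : m - a ^ n • v ∈ (x • (⊤ : Submodule A M)) := by
    rw [← Submodule.ker_mkQ (x • (⊤ : Submodule A M)), LinearMap.mem_ker, map_sub, hq, map_smul,
      sub_self]
  obtain ⟨u, -, hu⟩ := (Submodule.mem_smul_pointwise_iff_exists _ _ _).mp h1
  exact ⟨u, v, by rw [hu]; abel⟩

/-- exactness of the completed sequence in the middle. -/
lemma map_mkQ_eq_zero_iff (hx : IsSMulRegular M x) (N₀ : ℕ)
    (hb : ∀ y : QuotSMulTop x M, (∃ m : ℕ, a ^ m • y = 0) → a ^ N₀ • y = 0)
    (y : AdicCompletion (Ideal.span {a}) M) :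
    AdicCompletion.map (Ideal.span {a}) (Submodule.mkQ (x • (⊤ : Submodule A M))) y = 0 ↔
      ∃ z : AdicCompletion (Ideal.span {a}) M, y = x • z := by
  constructor
  · intro hy
    induction y using AdicCompletion.induction_on with
    | h f =>
      rw [AdicCompletion.map_mk] at hy
      have hmem : ∀ n, (Submodule.mkQ (x • (⊤ : Submodule A M)) (f n) : QuotSMulTop x M) ∈
          (Ideal.span {a} ^ n • ⊤ : Submodule A (QuotSMulTop x M)) := by
        intro n
        have h2 := congrArg (fun w => w.val n) hy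
        simp only [AdicCompletion.mk_apply_coe, AdicCompletion.val_zero_apply,
          Submodule.mkQ_apply, Submodule.Quotient.mk_eq_zero] at h2
        exact h2
      choose u v huv using fun n => exists_decomp a x n (f n) (hmem n)
      have hcauchy : ∀ n, u (n + N₀) ≡ u (n + N₀ + 1)
          [SMOD (Ideal.span {a} ^ n • ⊤ : Submodule A M)] := by
        intro n
        rw [SModEq.sub_mem]
        apply mem_of_smul_mem a x hx N₀ hb n
        have h3 : x • (u (n + N₀) - u (n + N₀ + 1)) =
            (f (n + N₀) - f (n + N₀ + 1)) - a ^ (n + N₀) • v (n + N₀)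
              + a ^ (n + N₀ + 1) • v (n + N₀ + 1) := by
          rw [huv (n + N₀), huv (n + N₀ + 1), smul_sub]
          abel
        rw [h3]
        refine Submodule.add_mem _ (Submodule.sub_mem _ ?_ ?_) ?_
        · have := f.property (show n + N₀ ≤ n + N₀ + 1 by omega)
          rwa [SModEq.sub_mem] at this
        · exact (mem_pow_smul_top_iff a _ _).mpr ⟨_, rfl⟩
        · refine Submodule.smul_mono_left (Ideal.pow_le_pow_right (show n + N₀ ≤ n + N₀ + 1 by omega)) ?_
          exact (mem_pow_smul_top_iff a _ _).mpr ⟨_, rfl⟩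
      let g : AdicCompletion.AdicCauchySequence (Ideal.span {a}) M :=
        AdicCompletion.AdicCauchySequence.mk (Ideal.span {a}) M (fun n => u (n + N₀)) (by
          intro n
          have := hcauchy n
          simpa [add_right_comm] using this)
      refine ⟨AdicCompletion.mk (Ideal.span {a}) M g, ?_⟩
      ext n
      rw [AdicCompletion.val_smul_apply, AdicCompletion.mk_apply_coe, AdicCompletion.mk_apply_coe,
        Submodule.mkQ_apply, Submodule.mkQ_apply, ← Submodule.Quotient.mk_smul,
        ← AdicCompletion.AdicCauchySequence.mk_eq_mk (show n ≤ n + N₀ by omega) f,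
        Submodule.Quotient.eq]
      have h4 : f (n + N₀) - x • g n = a ^ (n + N₀) • v (n + N₀) := by
        show f (n + N₀) - x • u (n + N₀) = _
        conv_lhs => rw [huv (n + N₀)]
        abel
      rw [h4]
      refine Submodule.smul_mono_left (Ideal.pow_le_pow_right (show n ≤ n + N₀ by omega)) ?_
      exact (mem_pow_smul_top_iff a _ _).mpr ⟨_, rfl⟩
  · rintro ⟨z, rfl⟩
    rw [LinearMap.map_smul_of_tower]
    generalize AdicCompletion.map (Ideal.span {a}) (Submodule.mkQ (x • (⊤ : Submodule A M))) z = w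
    ext n
    rw [AdicCompletion.val_smul_apply, AdicCompletion.val_zero_apply]
    obtain ⟨q, hq⟩ := Submodule.Quotient.mk_surjective _ (w.val n)
    obtain ⟨m, rfl⟩ := Submodule.Quotient.mk_surjective _ q
    rw [← hq, ← Submodule.Quotient.mk_smul, ← Submodule.Quotient.mk_smul]
    have : (Submodule.Quotient.mk (x • m) : QuotSMulTop x M) = 0 := by
      rw [Submodule.Quotient.mk_eq_zero]
      exact Submodule.smul_mem_pointwise_smul m x ⊤ trivial
    rw [this, Submodule.Quotient.mk_zero]

end Basic

section Main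

open RingTheory.Sequence

variable {M : Type u} [AddCommGroup M] [Module A M] (x : A)

/-- the projection on completions as an `A`-linear map. -/
noncomputable def piMap : AdicCompletion (Ideal.span {a}) M →ₗ[A]
    AdicCompletion (Ideal.span {a}) (QuotSMulTop x M) :=
  (AdicCompletion.map (Ideal.span {a}) (Submodule.mkQ (x • (⊤ : Submodule A M)))).restrictScalars A

lemma piMap_apply (y : AdicCompletion (Ideal.span {a}) M) :
    piMap a x y =
      AdicCompletion.map (Ideal.span {a}) (Submodule.mkQ (x • (⊤ : Submodule A M))) y := rfl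

lemma piMap_surjective : Function.Surjective (piMap (M := M) a x) :=
  AdicCompletion.map_surjective _ (Submodule.mkQ_surjective _)

lemma ker_piMap (hx : IsSMulRegular M x) (N₀ : ℕ)
    (hb : ∀ y : QuotSMulTop x M, (∃ m : ℕ, a ^ m • y = 0) → a ^ N₀ • y = 0) :
    LinearMap.ker (piMap (M := M) a x) =
      x • (⊤ : Submodule A (AdicCompletion (Ideal.span {a}) M)) := by
  ext y
  rw [LinearMap.mem_ker, piMap_apply, map_mkQ_eq_zero_iff a x hx N₀ hb,
    Submodule.mem_smul_pointwise_iff_exists]
  constructor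
  · rintro ⟨z, rfl⟩; exact ⟨z, trivial, rfl⟩
  · rintro ⟨z, -, rfl⟩; exact ⟨z, rfl⟩

/-- `M^/xM^ ≃ (M/xM)^`. -/
noncomputable def quotEquiv (hx : IsSMulRegular M x) (N₀ : ℕ)
    (hb : ∀ y : QuotSMulTop x M, (∃ m : ℕ, a ^ m • y = 0) → a ^ N₀ • y = 0) :
    QuotSMulTop x (AdicCompletion (Ideal.span {a}) M) ≃ₗ[A]
      AdicCompletion (Ideal.span {a}) (QuotSMulTop x M) :=
  (Submodule.quotEquivOfEq _ _ (ker_piMap a x hx N₀ hb).symm) ≪≫ₗ
    (piMap a x).quotKerEquivOfSurjective (piMap_surjective a x)

/-- completing along an isomorphism is injective. -/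
lemma map_equiv_eq_zero_iff {N N' : Type u} [AddCommGroup N] [Module A N] [AddCommGroup N']
    [Module A N'] (e : N ≃ₗ[A] N') (y : AdicCompletion (Ideal.span {a}) N) :
    AdicCompletion.map (Ideal.span {a}) e.toLinearMap y = 0 ↔ y = 0 := by
  constructor
  · intro h
    have h1 := congrArg (AdicCompletion.map (Ideal.span {a}) e.symm.toLinearMap) h
    rw [AdicCompletion.map_comp_apply, map_zero] at h1
    have h2 : e.symm.toLinearMap ∘ₗ e.toLinearMap = LinearMap.id := by
      ext; simp
    rwa [h2, AdicCompletion.map_id, LinearMap.id_apply] at h1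
  · rintro rfl; exact map_zero _

theorem main (rs : List A) : ∀ (M : Type u) [AddCommGroup M] [Module A M],
    IsWeaklyRegular M rs →
    (∀ i ≤ rs.length, BddTors a (M ⧸ (Ideal.ofList (rs.take i) • ⊤ : Submodule A M))) →
    IsWeaklyRegular (AdicCompletion (Ideal.span {a}) M) rs ∧
    ∀ y : AdicCompletion (Ideal.span {a}) M,
      AdicCompletion.map (Ideal.span {a})
          (Submodule.mkQ (Ideal.ofList rs • ⊤ : Submodule A M)) y = 0 ↔
        y ∈ (Ideal.ofList rs • ⊤ : Submodule A (AdicCompletion (Ideal.span {a}) M)) := by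
  induction rs with
  | nil =>
    intro M _ _ _ _
    refine ⟨IsWeaklyRegular.nil A _, fun y => ?_⟩
    have hbot : (Ideal.ofList ([] : List A) • ⊤ : Submodule A M) = ⊥ := by
      rw [Ideal.ofList_nil, Submodule.bot_smul]
    have hbot' : (Ideal.ofList ([] : List A) • ⊤ :
        Submodule A (AdicCompletion (Ideal.span {a}) M)) = ⊥ := by
      rw [Ideal.ofList_nil, Submodule.bot_smul]
    rw [hbot', Submodule.mem_bot]
    have : Submodule.mkQ (Ideal.ofList ([] : List A) • ⊤ : Submodule A M) =
        (Submodule.quotEquivOfEqBot _ hbot).symm.toLinearMap := by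
      ext m; rfl
    rw [this]
    exact map_equiv_eq_zero_iff a _ y
  | cons r rs ih =>
    intro M _ _ hreg hbdd
    rw [isWeaklyRegular_cons_iff] at hreg
    obtain ⟨hx, hreg'⟩ := hreg
    -- bounded torsion of `M/rM`
    have hb1 : BddTors a (QuotSMulTop r M) := by
      have h1 := hbdd 1 (by simp)
      have h2 : (Ideal.ofList ((r :: rs).take 1) • ⊤ : Submodule A M) = r • ⊤ := by
        rw [List.take_succ_cons, List.take_zero, Ideal.ofList_singleton,
          Submodule.ideal_span_singleton_smul]
      exact h1.of_equiv a (Submodule.quotEquivOfEq _ _ h2)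
    obtain ⟨N₀, hb⟩ := hb1
    have hbdd' : ∀ i ≤ rs.length, BddTors a
        (QuotSMulTop r M ⧸ (Ideal.ofList (rs.take i) • ⊤ : Submodule A (QuotSMulTop r M))) := by
      intro i hi
      have h1 := hbdd (i + 1) (by simpa using hi)
      rw [List.take_succ_cons] at h1
      exact h1.of_equiv a (Submodule.quotOfListConsSMulTopEquivQuotSMulTopInner M r (rs.take i))
    obtain ⟨ih1, ih2⟩ := ih (QuotSMulTop r M) hreg' hbdd'
    refine ⟨?_, fun y => ?_⟩
    · rw [isWeaklyRegular_cons_iff]
      exact ⟨isSMulRegular_adicCompletion a r hx N₀ hb,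
        ((quotEquiv a r hx N₀ hb).isWeaklyRegular_congr rs).mpr ih1⟩
    · let e := Submodule.quotOfListConsSMulTopEquivQuotSMulTopInner M r rs
      have hcomp : e.toLinearMap ∘ₗ Submodule.mkQ (Ideal.ofList (r :: rs) • ⊤ : Submodule A M) =
          Submodule.mkQ (Ideal.ofList rs • ⊤ : Submodule A (QuotSMulTop r M)) ∘ₗ
            Submodule.mkQ (r • (⊤ : Submodule A M)) := by
        ext m; rfl
      rw [← map_equiv_eq_zero_iff a e, AdicCompletion.map_comp_apply, hcomp,
        ← AdicCompletion.map_comp_apply, ih2, ← piMap_apply, ← Submodule.mem_comap]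
      have h3 : (Ideal.ofList rs • ⊤ :
          Submodule A (AdicCompletion (Ideal.span {a}) (QuotSMulTop r M))) =
          Submodule.map (piMap a r) (Ideal.ofList rs • ⊤ :
            Submodule A (AdicCompletion (Ideal.span {a}) M)) := by
        rw [Submodule.map_smul'', Submodule.map_top,
          LinearMap.range_eq_top.mpr (piMap_surjective a r)]
      rw [h3, Submodule.comap_map_eq, ker_piMap a r hx N₀ hb, Ideal.ofList_cons_smul, sup_comm]

end Main

end Groth.Agent.Lib.Helper7.AdicRegular
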