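import Mathlib

/-!
# Units on the affine space over a reduced scheme
-/

set_option autoImplicit false
universe u

namespace Groth.Agent.Lib.Helper7.AffineSpaceUnits

open AlgebraicGeometry CategoryTheory MvPolynomial AffineSpace Limits

/-- Over a reduced affine base, units of the affine space are pulled back from the base. -/
theorem exists_of_isAffine (n : Type u) (S : Scheme.{u}) [IsAffine S] [IsReduced S]
    (w : Γ(𝔸(n; S), ⊤)) (hw : IsUnit w) : ∃ r : Γ(S, ⊤), (𝔸(n; S) ↘ S).appTop r = w := by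
  have hiso : IsIso (CommRingCat.ofHom
      (eval₂Hom ((𝔸(n; S) ↘ S).appTop).hom (coord S))) := by
    have h := isoOfIsAffine_hom_appTop (n := n) (S := S)
    have h2 : CommRingCat.ofHom (eval₂Hom ((𝔸(n; S) ↘ S).appTop).hom (coord S)) =
        (Scheme.ΓSpecIso _).inv ≫ (isoOfIsAffine n S).hom.appTop := by
      rw [h, Iso.inv_hom_id_assoc]
    rw [h2]
    haveI : IsIso (isoOfIsAffine n S).hom.appTop :=
      inferInstanceAs (IsIso ((isoOfIsAffine n S).hom.app ⊤))
    infer_instance
  have hbij : Function.Bijective (eval₂Hom ((𝔸(n; S) ↘ S).appTop).hom (coord S)) :=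
    ConcreteCategory.bijective_of_isIso (CommRingCat.ofHom
      (eval₂Hom ((𝔸(n; S) ↘ S).appTop).hom (coord S)))
  obtain ⟨P, rfl⟩ := hbij.2 w
  have hP : IsUnit P := by
    have h1 : IsUnit (RingEquiv.ofBijective _ hbij P) := hw
    exact (MulEquiv.isUnit_map (RingEquiv.ofBijective _ hbij)).mp h1
  obtain ⟨r, -, rfl⟩ := MvPolynomial.isUnit_iff_eq_C_of_isReduced.mp hP
  exact ⟨r, by simp⟩

/-- The zero section of the affine space. -/
noncomputable def zeroSec (n : Type u) (S : Scheme.{u}) : S ⟶ 𝔸(n; S) :=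
  homOfVector (𝟙 S) 0

@[reassoc (attr := simp)]
theorem zeroSec_over (n : Type u) (S : Scheme.{u}) : zeroSec n S ≫ 𝔸(n; S) ↘ S = 𝟙 S :=
  homOfVector_over _ _

theorem zeroSec_naturality (n : Type u) {S T : Scheme.{u}} (f : S ⟶ T) :
    f ≫ zeroSec n T = zeroSec n S ≫ map n f := by
  apply AffineSpace.hom_ext
  · simp
  · intro i
    rw [Scheme.Hom.comp_appTop, Scheme.Hom.comp_appTop, CommRingCat.comp_apply,
      CommRingCat.comp_apply, zeroSec, zeroSec, homOfVector_appTop_coord, map_appTop_coord,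
      homOfVector_appTop_coord]
    simp

theorem covers_map (n : Type u) (X : Scheme.{u}) (y : 𝔸(n; X)) :
    ∃ (i : X.affineOpenCover.I₀) (z : 𝔸(n; Spec (X.affineOpenCover.X i))),
      map n (X.affineOpenCover.f i) z = y := by
  obtain ⟨u, hu⟩ := X.affineOpenCover.covers ((𝔸(n; X) ↘ X) y)
  refine ⟨X.affineOpenCover.idx ((𝔸(n; X) ↘ X) y), ?_⟩
  obtain ⟨z, hz1, -⟩ := Scheme.Pullback.exists_preimage_pullback
    (f := 𝔸(n; X) ↘ X)
    (g := X.affineOpenCover.f (X.affineOpenCover.idx ((𝔸(n; X) ↘ X) y))) y u hu.symm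
  refine ⟨(isPullback_map (n := n)
    (X.affineOpenCover.f (X.affineOpenCover.idx ((𝔸(n; X) ↘ X) y)))).isoPullback.inv z, ?_⟩
  rw [← Scheme.Hom.comp_apply, IsPullback.isoPullback_inv_fst]
  exact hz1

theorem isOpenImmersion_map (n : Type u) {S T : Scheme.{u}} (f : S ⟶ T) [IsOpenImmersion f] :
    IsOpenImmersion (map n f) :=
  MorphismProperty.of_isPullback (P := @IsOpenImmersion) (isPullback_map (n := n) f).flip
    inferInstance

/-- Units on `𝔸(n; X)`, `X` reduced, are pulled back along the zero section. -/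
theorem appTop_zeroSec_of_isUnit (n : Type u) (X : Scheme.{u}) [IsReduced X]
    (w : Γ(𝔸(n; X), ⊤)) (hw : IsUnit w) :
    (𝔸(n; X) ↘ X).appTop ((zeroSec n X).appTop w) = w := by
  let 𝒰 : (𝔸(n; X)).OpenCover := Scheme.Cover.mkOfCovers X.affineOpenCover.I₀
    (fun i => 𝔸(n; Spec (X.affineOpenCover.X i))) (fun i => map n (X.affineOpenCover.f i))
    (covers_map n X) (fun i => isOpenImmersion_map n _)
  apply 𝒰.ext_elem
  intro i
  have key : ∀ j : X.affineOpenCover.I₀, (map n (X.affineOpenCover.f j)).appTop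
      ((𝔸(n; X) ↘ X).appTop ((zeroSec n X).appTop w)) =
      (map n (X.affineOpenCover.f j)).appTop w := by
    intro j
    haveI : IsReduced (Spec (X.affineOpenCover.X j)) :=
      isReduced_of_isOpenImmersion (X.affineOpenCover.f j)
    obtain ⟨r, hr⟩ := exists_of_isAffine n (Spec (X.affineOpenCover.X j))
      ((map n (X.affineOpenCover.f j)).appTop w) (hw.map _)
    have h1 : map n (X.affineOpenCover.f j) ≫ 𝔸(n; X) ↘ X ≫ zeroSec n X =
        𝔸(n; Spec (X.affineOpenCover.X j)) ↘ Spec (X.affineOpenCover.X j) ≫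
          zeroSec n (Spec (X.affineOpenCover.X j)) ≫ map n (X.affineOpenCover.f j) := by
      rw [map_over_assoc, zeroSec_naturality]
    have h2 := congrArg (fun g => g.appTop w) h1
    simp only [Scheme.Hom.comp_appTop, CommRingCat.comp_apply] at h2
    rw [h2, ← hr, ← CommRingCat.comp_apply, ← CommRingCat.comp_apply, ← Scheme.Hom.comp_appTop,
      ← Scheme.Hom.comp_appTop, Category.assoc, zeroSec_over, Category.comp_id]
  exact key i

end Groth.Agent.Lib.Helper7.AffineSpaceUnits
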