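import Groth.Prelude.Def_FlatCA
import Mathlib.RingTheory.AdicCompletion.Basic
import Mathlib.LinearAlgebra.TensorProduct.Basic
import Mathlib.RingTheory.Ideal.Maps
import Mathlib.Algebra.Ring.GeomSum
import Mathlib.RingTheory.FiniteType
import Mathlib.RingTheory.Nakayama
import Mathlib.Algebra.DirectSum.Module
import Mathlib.LinearAlgebra.Projection
import Mathlib.LinearAlgebra.Finsupp.Span
import Mathlib.RingTheory.LocalRing.MaximalIdeal.Basic
import Mathlib.RingTheory.Jacobson.Ideal
import Mathlib.Algebra.Module.Projective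
import Mathlib.LinearAlgebra.LinearIndependent.Lemmas
import Mathlib.LinearAlgebra.Finsupp.VectorSpace

/-!
# Associated primes of `N ⊗ M` and the closed fibre
-/

set_option autoImplicit false
set_option linter.unusedSectionVars false
set_option linter.unusedVariables false

namespace Groth.Agent.Lib.Helper7.AssFibre

open scoped TensorProduct

universe u

section general

variable {R S : Type u} [CommRing R] [CommRing S] [Algebra R S]
  (N : Type u) [AddCommGroup N] [Module S N] [Module R N] [IsScalarTower R S N]
  (M : Type u) [AddCommGroup M] [Module R M]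

/-- if some `a ∈ q` acts injectively on `N ⊗ M` then `q` is not associated -/
theorem not_mem_ass_of_injective (q : Ideal S) (hq : q ∈ FlatCA.ass S (N ⊗[R] M)) (a : S)
    (ha : a ∈ q) (hinj : ∀ w : N ⊗[R] M, a • w = 0 → w = 0) : False := by
  obtain ⟨hprime, z, hz⟩ := hq
  have h1 : a • z = 0 := by
    rw [hz, Submodule.mem_annihilator_span_singleton] at ha
    exact ha
  have h2 : z = 0 := hinj z h1
  apply hprime.ne_top
  rw [hz, h2]
  rw [Submodule.annihilator_eq_top_iff, Submodule.span_singleton_eq_bot]

/-- an element acting bijectively on `N` acts injectively on `N ⊗ M` -/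
theorem smul_tensor_injective (a : S) (hbij : Function.Bijective (fun x : N => a • x))
    (w : N ⊗[R] M) (hw : a • w = 0) : w = 0 := by
  let T : N →ₗ[R] N :=
    { toFun := fun x => a • x
      map_add' := fun x y => smul_add a x y
      map_smul' := fun r x => by
        simp only [RingHom.id_apply]
        rw [smul_comm] }
  let e : N ≃ₗ[R] N := LinearEquiv.ofBijective T hbij
  have key : ∀ w : N ⊗[R] M, (e.toLinearMap.rTensor M) w = a • w := by
    intro w
    induction w using TensorProduct.induction_on with
    | zero => simp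
    | tmul x y =>
      rw [LinearMap.rTensor_tmul, TensorProduct.smul_tmul']
      rfl
    | add x y hx hy => rw [map_add, hx, hy, smul_add]
  have hinj : Function.Injective (e.toLinearMap.rTensor M) :=
    (LinearEquiv.rTensor M e).injective
  apply hinj
  rw [key, hw, map_zero]

end general

section complete

variable {R S : Type u} [CommRing R] [CommRing S] [Algebra R S] (I : Ideal R)
  (N : Type u) [AddCommGroup N] [Module S N] [Module R N] [IsScalarTower R S N]

/-- `J N` is stable under `S` -/
lemma smul_mem_ideal_smul (J : Ideal R) (s : S) (y : N)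
    (hy : y ∈ J • (⊤ : Submodule R N)) : s • y ∈ J • (⊤ : Submodule R N) := by
  refine Submodule.smul_induction_on hy (fun f hf x _ => ?_) (fun x y hx hy => ?_)
  · rw [smul_comm]
    exact Submodule.smul_mem_smul hf Submodule.mem_top
  · rw [smul_add]
    exact add_mem hx hy

lemma map_smul_mem (g : S) (hg : g ∈ I.map (algebraMap R S)) (n : ℕ) (x : N)
    (hx : x ∈ I ^ n • (⊤ : Submodule R N)) : g • x ∈ I ^ (n + 1) • (⊤ : Submodule R N) := by
  unfold Ideal.map at hg
  induction hg using Submodule.span_induction with
  | mem g hg =>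
    obtain ⟨f, hf, rfl⟩ := hg
    rw [algebraMap_smul, pow_succ', mul_smul]
    exact Submodule.smul_mem_smul hf hx
  | zero => rw [zero_smul]; exact zero_mem _
  | add g g' _ _ h1 h2 => rw [add_smul]; exact add_mem h1 h2
  | smul s g _ h1 =>
    rw [smul_eq_mul, mul_smul]
    exact smul_mem_ideal_smul N _ s _ h1

lemma pow_smul_mem (g : S) (hg : g ∈ I.map (algebraMap R S)) (n : ℕ) (x : N) :
    g ^ n • x ∈ I ^ n • (⊤ : Submodule R N) := by
  induction n with
  | zero => simp
  | succ n ih =>
    have h1 : g ^ (n + 1) • x = g • g ^ n • x := by rw [pow_succ', mul_smul]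
    rw [h1]
    exact map_smul_mem I N g hg n _ ih

theorem one_sub_bijective [IsAdicComplete I N] (g : S) (hg : g ∈ I.map (algebraMap R S)) :
    Function.Bijective (fun x : N => (1 - g) • x) := by
  constructor
  · intro x y hxy
    simp only at hxy
    have h0 : (1 - g) • (x - y) = 0 := by rw [smul_sub, hxy, sub_self]
    have h1 : x - y = g • (x - y) := by
      rw [sub_smul, one_smul, sub_eq_zero] at h0
      exact h0
    have h2 : ∀ n : ℕ, x - y = g ^ n • (x - y) := by
      intro n
      induction n with
      | zero => simp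
      | succ n ih => rw [pow_succ, mul_smul, ← h1, ← ih]
    have h3 : x - y = 0 := by
      apply IsHausdorff.haus (inferInstance : IsHausdorff I N)
      intro n
      rw [SModEq.sub_mem, sub_zero, h2 n]
      exact pow_smul_mem I N g hg n _
    exact sub_eq_zero.1 h3
  · intro y
    let f : ℕ → N := fun n => (∑ k ∈ Finset.range n, g ^ k) • y
    have hstep : ∀ n, f (n + 1) = f n + g ^ n • y := by
      intro n
      simp only [f]
      rw [Finset.sum_range_succ, add_smul]
    have hcauchy : ∀ {m n : ℕ}, m ≤ n → f m ≡ f n [SMOD (I ^ m • ⊤ : Submodule R N)] := by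
      intro m n hmn
      induction n, hmn using Nat.le_induction with
      | base => rfl
      | succ n hmn ih =>
        rw [SModEq.sub_mem] at ih ⊢
        have h1 : f m - f (n + 1) = (f m - f n) - g ^ n • y := by rw [hstep]; abel
        rw [h1]
        refine sub_mem ih ?_
        exact Submodule.smul_mono_left (Ideal.pow_le_pow_right hmn) (pow_smul_mem I N g hg n y)
    obtain ⟨L, hL⟩ := IsPrecomplete.prec (inferInstance : IsPrecomplete I N) hcauchy
    refine ⟨L, ?_⟩
    simp only
    rw [← sub_eq_zero]
    apply IsHausdorff.haus (inferInstance : IsHausdorff I N)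
    intro n
    rw [SModEq.sub_mem, sub_zero]
    have h1 : (1 - g) • f n = y - g ^ n • y := by
      simp only [f]
      rw [← mul_smul, mul_neg_geom_sum, sub_smul, one_smul]
    have h2 : (1 - g) • L - y = (1 - g) • (L - f n) - g ^ n • y := by
      rw [smul_sub, h1]
      abel
    rw [h2]
    refine sub_mem (smul_mem_ideal_smul N _ _ _ ?_) (pow_smul_mem I N g hg n y)
    have := hL n
    rw [SModEq.sub_mem] at this
    have h3 : L - f n = -(f n - L) := by abel
    rw [h3]
    exact neg_mem this

end complete

section directsum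

variable {R S : Type u} [CommRing R] [IsLocalRing R] [CommRing S] [Algebra R S]
  (N : Type u) [AddCommGroup N] [Module S N] [Module R N] [IsScalarTower R S N]
  (ι : Type u) [DecidableEq ι] (F : ι → Submodule R N) (hF : DirectSum.IsInternal F)
  (hfin : ∀ i, Module.Finite R (F i))
  (M : Type u) [AddCommGroup M] [Module R M]

/-- the image of `P ⊗ M` in `N ⊗ M` -/
def rng (P : Submodule R N) : Submodule R (N ⊗[R] M) := LinearMap.range (P.subtype.rTensor M)

lemma rng_mono {P Q : Submodule R N} (h : P ≤ Q) : rng N M P ≤ rng N M Q := by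
  have h1 : P.subtype = Q.subtype.comp (Submodule.inclusion h) := by
    ext x
    rfl
  unfold rng
  rw [h1, LinearMap.rTensor_comp]
  exact LinearMap.range_comp_le_range _ _

include hF in
lemma exists_finset_mem_rng (z : N ⊗[R] M) :
    ∃ s : Finset ι, z ∈ rng N M (⨆ i ∈ (s : Set ι), F i) := by
  induction z using TensorProduct.induction_on with
  | zero => exact ⟨∅, zero_mem _⟩
  | tmul x y =>
    have hx : x ∈ ⨆ i, F i := by
      rw [hF.submodule_iSup_eq_top]
      exact Submodule.mem_top
    obtain ⟨s, hs⟩ := Submodule.exists_finset_of_mem_iSup F hx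
    refine ⟨s, ?_⟩
    have hs' : x ∈ ⨆ i ∈ (s : Set ι), F i := by
      simpa only [Finset.mem_coe] using hs
    exact ⟨(⟨x, hs'⟩ : ↥(⨆ i ∈ (s : Set ι), F i)) ⊗ₜ[R] y, rfl⟩
  | add x y hx hy =>
    obtain ⟨s₁, h₁⟩ := hx
    obtain ⟨s₂, h₂⟩ := hy
    refine ⟨s₁ ∪ s₂, ?_⟩
    have m1 : (⨆ i ∈ (s₁ : Set ι), F i) ≤ ⨆ i ∈ ((s₁ ∪ s₂ : Finset ι) : Set ι), F i :=
      biSup_mono (fun i hi => by
        rw [Finset.coe_union]
        exact Or.inl hi)
    have m2 : (⨆ i ∈ (s₂ : Set ι), F i) ≤ ⨆ i ∈ ((s₁ ∪ s₂ : Finset ι) : Set ι), F i :=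
      biSup_mono (fun i hi => by
        rw [Finset.coe_union]
        exact Or.inr hi)
    exact add_mem (rng_mono N M m1 h₁) (rng_mono N M m2 h₂)

include hF hfin in
/-- **General form**: if `γ : N → N` is `R`-linear with image in `m N`, then `(1 - γ) ⊗ 1` is
injective on `N ⊗ M` (`N` a direct sum of finite modules over the local ring `R`). -/
theorem sub_rTensor_injective (γ : N →ₗ[R] N)
    (hγ : ∀ x : N, γ x ∈ IsLocalRing.maximalIdeal R • (⊤ : Submodule R N)) (z : N ⊗[R] M)
    (hz : z - (γ.rTensor M) z = 0) : z = 0 := by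
  obtain ⟨s, hs⟩ := exists_finset_mem_rng N ι F hF M z
  set P : Submodule R N := ⨆ i ∈ (s : Set ι), F i with hP
  obtain ⟨z', hz'⟩ := hs
  set Q : Submodule R N := ⨆ i ∈ ((s : Set ι)ᶜ), F i with hQ
  have hPQ : IsCompl P Q := by
    constructor
    · exact hF.submodule_iSupIndep.disjoint_biSup_biSup' disjoint_compl_right s.finite_toSet
    · rw [codisjoint_iff, hP, hQ, ← iSup_union, Set.union_compl_self, iSup_univ,
        hF.submodule_iSup_eq_top]
  have hPfg : P.FG := by
    have h1 : P = ⨆ i ∈ s, F i := by
      rw [hP]
      simp only [Finset.mem_coe]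
    rw [h1]
    exact Submodule.fg_biSup s F (fun i _ => (Submodule.fg_top _).1 (hfin i).fg_top)
  haveI : Module.Finite R P := Module.Finite.iff_fg.2 hPfg
  let π' : N →ₗ[R] P := Submodule.linearProjOfIsCompl P Q hPQ
  let aN : N →ₗ[R] N := LinearMap.id - γ
  let φ : P →ₗ[R] P := π'.comp (aN.comp P.subtype)
  have hφ : ∀ x : P, x - φ x = π' (γ (x : N)) := by
    intro x
    have h1 : π' (x : N) = x := Submodule.linearProjOfIsCompl_apply_left hPQ x
    change x - π' ((x : N) - γ (x : N)) = _
    rw [map_sub, h1, sub_sub_cancel]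
  have hsurj : Function.Surjective φ := by
    rw [← LinearMap.range_eq_top]
    apply le_antisymm le_top
    refine Submodule.le_of_le_smul_of_le_jacobson_bot (I := IsLocalRing.maximalIdeal R)
      Module.Finite.fg_top (IsLocalRing.maximalIdeal_le_jacobson ⊥) ?_
    · intro x _
      have h1 : x = φ x + (x - φ x) := by abel
      rw [h1]
      refine Submodule.add_mem_sup (LinearMap.mem_range_self φ x) ?_
      rw [hφ]
      have h3 : π' (γ (x : N)) ∈ (IsLocalRing.maximalIdeal R • (⊤ : Submodule R N)).map π' :=
        Submodule.mem_map_of_mem (hγ _)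
      rw [Submodule.map_smul''] at h3
      exact Submodule.smul_mono le_rfl le_top h3
  have hinj : Function.Injective φ := OrzechProperty.injective_of_surjective_endomorphism φ hsurj
  let e : P ≃ₗ[R] P := LinearEquiv.ofBijective φ ⟨hinj, hsurj⟩
  have key : ∀ w : N ⊗[R] M, (aN.rTensor M) w = w - (γ.rTensor M) w := by
    intro w
    change ((LinearMap.id - γ).rTensor M) w = _
    rw [LinearMap.rTensor_sub, LinearMap.sub_apply, LinearMap.rTensor_id, LinearMap.id_apply]
  have h0 : (φ.rTensor M) z' = 0 := by
    change ((π'.comp (aN.comp P.subtype)).rTensor M) z' = 0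
    rw [LinearMap.rTensor_comp, LinearMap.rTensor_comp, LinearMap.comp_apply,
      LinearMap.comp_apply, hz', key, hz, map_zero]
  have h1 : z' = 0 := by
    apply (LinearEquiv.rTensor M e).injective
    rw [map_zero]
    exact h0
  rw [← hz', h1, map_zero]

include hF hfin in
/-- elements of `1 + m S` act injectively on `N ⊗ M` -/
theorem one_sub_smul_tensor_injective (g : S)
    (hg : g ∈ (IsLocalRing.maximalIdeal R).map (algebraMap R S)) (z : N ⊗[R] M)
    (hz : (1 - g) • z = 0) : z = 0 := by
  let γ : N →ₗ[R] N :=
    { toFun := fun x => g • x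
      map_add' := fun x y => smul_add _ x y
      map_smul' := fun r x => by
        simp only [RingHom.id_apply]
        rw [smul_comm] }
  have hγ : ∀ x : N, γ x ∈ IsLocalRing.maximalIdeal R • (⊤ : Submodule R N) := by
    intro x
    have := pow_smul_mem (IsLocalRing.maximalIdeal R) N g hg 1 x
    rwa [pow_one, pow_one] at this
  have key : ∀ w : N ⊗[R] M, (γ.rTensor M) w = g • w := by
    intro w
    induction w using TensorProduct.induction_on with
    | zero => simp
    | tmul x y =>
      rw [LinearMap.rTensor_tmul, TensorProduct.smul_tmul']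
      rfl
    | add x y hx hy => rw [map_add, hx, hy, smul_add]
  apply sub_rTensor_injective N ι F hF hfin M γ hγ z
  rw [key, ← hz, sub_smul, one_smul]

end directsum

section projective

variable {R S : Type u} [CommRing R] [IsLocalRing R] [CommRing S] [Algebra R S]
  (N : Type u) [AddCommGroup N] [Module S N] [Module R N] [IsScalarTower R S N]
  (M : Type u) [AddCommGroup M] [Module R M]

/-- the projective case: elements of `1 + m S` act injectively on `N ⊗ M` -/
theorem one_sub_smul_tensor_injective_of_projective [Module.Projective R N] (g : S)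
    (hg : g ∈ (IsLocalRing.maximalIdeal R).map (algebraMap R S)) (z : N ⊗[R] M)
    (hz : (1 - g) • z = 0) : z = 0 := by
  classical
  obtain ⟨i, hi⟩ := Module.projective_def'.1 (inferInstance : Module.Projective R N)
  let r : (N →₀ R) →ₗ[R] N := Finsupp.linearCombination R id
  let gN : N →ₗ[R] N :=
    { toFun := fun x => g • x
      map_add' := fun x y => smul_add _ x y
      map_smul' := fun c x => by
        simp only [RingHom.id_apply]
        rw [smul_comm] }
  let γ : (N →₀ R) →ₗ[R] (N →₀ R) := i.comp (gN.comp r)
  have hγ : ∀ x : N →₀ R, γ x ∈ IsLocalRing.maximalIdeal R • (⊤ : Submodule R (N →₀ R)) := by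
    intro x
    have h1 : g • r x ∈ IsLocalRing.maximalIdeal R • (⊤ : Submodule R N) := by
      have := pow_smul_mem (IsLocalRing.maximalIdeal R) N g hg 1 (r x)
      rwa [pow_one, pow_one] at this
    have h3 : i (g • r x) ∈ (IsLocalRing.maximalIdeal R • (⊤ : Submodule R N)).map i :=
      Submodule.mem_map_of_mem h1
    rw [Submodule.map_smul''] at h3
    exact Submodule.smul_mono le_rfl le_top h3
  let b : Module.Basis N R (N →₀ R) := Finsupp.basisSingleOne
  let F : N → Submodule R (N →₀ R) := fun j => Submodule.span R {b j}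
  have hF : DirectSum.IsInternal F := by
    apply DirectSum.isInternal_submodule_of_iSupIndep_of_iSup_eq_top
    · exact b.linearIndependent.iSupIndep_span_singleton
    · rw [← Submodule.span_range_eq_iSup, b.span_eq]
  have hfin : ∀ j, Module.Finite R (F j) := fun j => Module.Finite.span_singleton R (b j)
  have key : ∀ w : N ⊗[R] M, (gN.rTensor M) w = g • w := by
    intro w
    induction w using TensorProduct.induction_on with
    | zero => simp
    | tmul x y =>
      rw [LinearMap.rTensor_tmul, TensorProduct.smul_tmul']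
      rfl
    | add x y hx hy => rw [map_add, hx, hy, smul_add]
  have hri : ∀ w : N ⊗[R] M, (r.rTensor M) ((i.rTensor M) w) = w := by
    intro w
    rw [← LinearMap.comp_apply, ← LinearMap.rTensor_comp]
    change ((Finsupp.linearCombination R id ∘ₗ i).rTensor M) w = w
    rw [hi, LinearMap.rTensor_id, LinearMap.id_apply]
  have hw : (i.rTensor M) z - (γ.rTensor M) ((i.rTensor M) z) = 0 := by
    change (i.rTensor M) z - ((i.comp (gN.comp r)).rTensor M) ((i.rTensor M) z) = 0
    rw [LinearMap.rTensor_comp, LinearMap.rTensor_comp, LinearMap.comp_apply,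
      LinearMap.comp_apply, hri, key]
    have h5 : z - g • z = 0 := by rw [← hz, sub_smul, one_smul]
    have h6 : (i.rTensor M) z - (i.rTensor M) (g • z) = (i.rTensor M) (z - g • z) :=
      (map_sub (i.rTensor M) z (g • z)).symm
    rw [h6, h5, map_zero]
  have h0 := sub_rTensor_injective (N →₀ R) N F hF hfin M γ hγ _ hw
  rw [← hri z, h0, map_zero]

end projective

end Groth.Agent.Lib.Helper7.AssFibre
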