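import Mathlib
import Groth.Agent.Lib.Helper5.KosDescB
import Groth.Agent.Lib.Helper5.LciF
import Groth.Agent.Lib.Helper5.LciB
import Groth.Agent.Lib.Helper5.KosRegA
import Groth.Agent.Lib.Helper5.RegImmB
import Groth.Agent.Lib.Helper5.KosBCB

/-!
# Descent of "generated by a regular sequence" along flat local homomorphisms of localizations
(helper7)

`P₀ → P` flat, `q` a prime of `P` over `q₀`, `I₀ ≤ q₀` an ideal of `P₀`: if `I₀ P_q` is generated
by a weakly regular sequence, so is `I₀ (P₀)_{q₀}`.
-/

set_option autoImplicit false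
set_option linter.style.haveILetI false
universe u

namespace Groth.Agent.Lib.Helper7.AvrDescent

open RingTheory.Sequence Groth.Agent.Lib.Helper5.Lci

section KRLocal

variable {R : Type u} [CommRing R] [IsNoetherianRing R] [IsLocalRing R]

/-- a proper Koszul-regular ideal of a Noetherian local ring is generated by a regular sequence. -/
theorem exists_regular_of_isKoszulRegularIdeal (J : Ideal R) (hJ : LCI.IsKoszulRegularIdeal J)
    (hle : J ≤ IsLocalRing.maximalIdeal R) :
    ∃ rs : List R, Ideal.ofList rs = J ∧ IsRegular R rs := by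
  obtain ⟨g, hg, a, haJ, haKR, haspan⟩ := exists_global_gens J hJ (IsLocalRing.maximalIdeal R) hle
  have hgu : IsUnit g := by
    by_contra h
    exact hg ((IsLocalRing.mem_maximalIdeal g).2 h)
  have hM : Submonoid.powers g ≤ IsUnit.submonoid R := by
    rintro _ ⟨n, rfl⟩
    exact hgu.pow n
  let e : R ≃ₐ[R] Localization.Away g := IsLocalization.atUnits R (Submonoid.powers g) hM
  have he : ∀ x, e x = algebraMap R (Localization.Away g) x := fun x => by
    simpa using e.commutes x
  have hbij : Function.Bijective (algebraMap R (Localization.Away g)) := by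
    have : (algebraMap R (Localization.Away g) : R → Localization.Away g) = e := by
      ext x; exact (he x).symm
    rw [this]
    exact e.bijective
  have hKR : LCI.IsKoszulRegularSeq R a :=
    Groth.Agent.Lib.Helper5.KosBC.isKoszulRegularSeq_of_map _
      (RingHom.FaithfullyFlat.of_bijective hbij) a haKR
  have hspan : J = Ideal.ofList a := by
    have h1 : J.map (algebraMap R (Localization.Away g)) =
        (Ideal.ofList a).map (algebraMap R (Localization.Away g)) := by
      rw [Ideal.map_ofList]
      exact haspan
    have h2 := congrArg (Ideal.comap (algebraMap R (Localization.Away g))) h1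
    rwa [Ideal.comap_map_of_bijective _ hbij, Ideal.comap_map_of_bijective _ hbij] at h2
  refine ⟨a, hspan.symm, ?_⟩
  exact Groth.Agent.Lib.Helper5.KosReg.isRegular_of_koszulRegular a
    (fun x hx => hle (haJ x hx)) hKR

end KRLocal


section Descent

variable {P₀ P : Type u} [CommRing P₀] [CommRing P] [IsNoetherianRing P₀]
  [Algebra P₀ P] [Module.Flat P₀ P]

/-- descent of "generated by a regular sequence" from `P_q` to `(P₀)_{q₀}`. -/
theorem descend_regular (I₀ : Ideal P₀) (q : Ideal P) [q.IsPrime] (q₀ : Ideal P₀) [q₀.IsPrime]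
    (hq : q₀ = q.comap (algebraMap P₀ P)) (hI₀ : I₀ ≤ q₀)
    (rs : List (Localization.AtPrime q))
    (hrs : Ideal.ofList rs =
      (I₀.map (algebraMap P₀ P)).map (algebraMap P (Localization.AtPrime q)))
    (hreg : IsWeaklyRegular (Localization.AtPrime q) rs) :
    ∃ rs₀ : List (Localization.AtPrime q₀),
      Ideal.ofList rs₀ = I₀.map (algebraMap P₀ (Localization.AtPrime q₀)) ∧
      IsRegular (Localization.AtPrime q₀) rs₀ := by
  let ρ : Localization.AtPrime q₀ →+* Localization.AtPrime q :=
    Localization.localRingHom q₀ q (algebraMap P₀ P) hq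
  letI : Algebra (Localization.AtPrime q₀) (Localization.AtPrime q) := ρ.toAlgebra
  have hρflat : ρ.Flat :=
    RingHom.Flat.localRingHom (RingHom.flat_algebraMap_iff.2 inferInstance) q q₀ hq
  haveI : Module.Flat (Localization.AtPrime q₀) (Localization.AtPrime q) := hρflat
  haveI : IsLocalHom (algebraMap (Localization.AtPrime q₀) (Localization.AtPrime q)) := Localization.isLocalHom_localRingHom q₀ q _ hq
  haveI : Module.FaithfullyFlat (Localization.AtPrime q₀) (Localization.AtPrime q) := Module.FaithfullyFlat.of_flat_of_isLocalHom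
  set J₀ : Ideal (Localization.AtPrime q₀) := I₀.map (algebraMap P₀ (Localization.AtPrime q₀)) with hJ₀
  have hmap : J₀.map (algebraMap (Localization.AtPrime q₀) (Localization.AtPrime q)) =
      (I₀.map (algebraMap P₀ P)).map (algebraMap P (Localization.AtPrime q)) := by
    rw [hJ₀, Ideal.map_map, Ideal.map_map]
    congr 1
    ext x
    exact Localization.localRingHom_to_map q₀ q (algebraMap P₀ P) hq x
  have hKR : LCI.IsKoszulRegularIdeal (J₀.map (algebraMap (Localization.AtPrime q₀) (Localization.AtPrime q))) := by
    rw [hmap, ← hrs]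
    exact isKoszulRegularIdeal_ofList rs
      (Groth.Agent.Lib.Helper5.RegImmB.isKoszulRegularSeq_of_isWeaklyRegular rs hreg)
  have hKR₀ : LCI.IsKoszulRegularIdeal J₀ :=
    Groth.Agent.Lib.Helper5.KosDesc.isKoszulRegularIdeal_of_faithfullyFlat (A := (Localization.AtPrime q₀)) (B := (Localization.AtPrime q)) J₀ hKR
  refine exists_regular_of_isKoszulRegularIdeal J₀ hKR₀ ?_
  rw [hJ₀, Ideal.map_le_iff_le_comap]
  intro x hx
  exact (IsLocalization.AtPrime.to_map_mem_maximal_iff (Localization.AtPrime q₀) q₀ x).2 (hI₀ hx)

end Descent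

end Groth.Agent.Lib.Helper7.AvrDescent
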