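import Mathlib

/-!
# Helper7 — MinGen: extending minimal generators of `I` to minimal generators of `J ⊇ I`
in a Noetherian local ring, when `I/mI → J/mJ` is injective.
-/

namespace Groth.Agent.Lib.Helper7.MinGen

universe u

variable {A : Type u} [CommRing A] [IsNoetherianRing A] [IsLocalRing A]

open IsLocalRing

theorem exists_lists (I J : Ideal A) (hIJ : I ≤ J)
    (hinj : ∀ x ∈ I, x ∈ maximalIdeal A * J → x ∈ maximalIdeal A * I) :
    ∃ xs ys : List A, Ideal.ofList xs = I ∧ Ideal.ofList (xs ++ ys) = J ∧
      (∀ y ∈ ys, y ∈ J) ∧ (xs ++ ys).length = (J : Submodule A A).spanFinrank := by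
  classical
  let k := A ⧸ maximalIdeal A
  letI : Field k := Ideal.Quotient.field (maximalIdeal A)
  let VI := I ⧸ (maximalIdeal A • (⊤ : Submodule A I))
  let VJ := J ⧸ (maximalIdeal A • (⊤ : Submodule A J))
  have hsurj : Function.Surjective (algebraMap A k) := Ideal.Quotient.mk_surjective
  -- the map `I/mI → J/mJ`
  have hle : (maximalIdeal A • (⊤ : Submodule A I)) ≤
      (maximalIdeal A • (⊤ : Submodule A J)).comap (Submodule.inclusion hIJ) := by
    intro x hx
    rw [Submodule.mem_comap, Submodule.mem_smul_top_iff]
    rw [Submodule.mem_smul_top_iff] at hx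
    exact Submodule.smul_mono le_rfl hIJ hx
  let ιA : VI →ₗ[A] VJ := Submodule.mapQ _ _ (Submodule.inclusion hIJ) hle
  let ιk : VI →ₗ[k] VJ := ιA.extendScalarsOfSurjective hsurj
  have hιinj : Function.Injective ιk := by
    rw [← LinearMap.ker_eq_bot, LinearMap.ker_eq_bot']
    intro v hv
    obtain ⟨x, rfl⟩ := Submodule.Quotient.mk_surjective _ v
    change Submodule.Quotient.mk (Submodule.inclusion hIJ x) = 0 at hv
    rw [Submodule.Quotient.mk_eq_zero, Submodule.mem_smul_top_iff] at hv
    rw [Submodule.Quotient.mk_eq_zero, Submodule.mem_smul_top_iff]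
    exact hinj x.1 x.2 hv
  haveI : Module.Finite k VI := Module.Finite.of_restrictScalars_finite A k VI
  haveI : Module.Finite k VJ := Module.Finite.of_restrictScalars_finite A k VJ
  have hrI : (I : Submodule A A).spanFinrank = Module.finrank k VI :=
    spanFinrank_eq_finrank_quotient I (IsNoetherian.noetherian I)
  have hrJ : (J : Submodule A A).spanFinrank = Module.finrank k VJ :=
    spanFinrank_eq_finrank_quotient J (IsNoetherian.noetherian J)
  -- complement of the image
  let U : Submodule k VJ := LinearMap.range ιk
  have hU : Module.finrank k U = Module.finrank k VI := LinearMap.finrank_range_of_inj hιinj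
  obtain ⟨U', hU'⟩ := Submodule.exists_isCompl U
  have hdim : Module.finrank k U + Module.finrank k U' = Module.finrank k VJ :=
    Submodule.finrank_add_eq_of_isCompl hU'
  let b := Module.finBasis k U'
  -- lift the basis vectors to `J`
  have hlift : ∀ j, ∃ y : J, Submodule.Quotient.mk y = (b j : VJ) := fun j =>
    Submodule.Quotient.mk_surjective _ _
  choose ys hys using hlift
  -- generators of `I`
  obtain ⟨s, hscard, hsspan⟩ :=
    Submodule.FG.exists_span_finset_card_eq_spanFinrank (IsNoetherian.noetherian I)
  refine ⟨s.toList, List.ofFn (fun j => (ys j : A)), ?_, ?_, ?_, ?_⟩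
  · unfold Ideal.ofList
    have : {r | r ∈ s.toList} = (s : Set A) := by ext; simp
    rw [this]
    exact hsspan
  · -- Nakayama
    have hys_set : {r | r ∈ List.ofFn (fun j => (ys j : A))} =
        Set.range (fun j => (ys j : A)) := by
      ext r; simp [List.mem_ofFn]
    have hxs : Ideal.ofList s.toList = I := by
      unfold Ideal.ofList
      have : {r | r ∈ s.toList} = (s : Set A) := by ext; simp
      rw [this]
      exact hsspan
    rw [Ideal.ofList_append, hxs]
    apply le_antisymm
    · refine sup_le hIJ ?_
      unfold Ideal.ofList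
      rw [hys_set, Ideal.span_le]
      rintro _ ⟨j, rfl⟩
      exact (ys j).2
    · -- the submodule `N` of `J`
      let N : Submodule A J := (Submodule.comap J.subtype (I : Submodule A A)) ⊔
        Submodule.span A (Set.range ys)
      have hN : N = ⊤ := by
        rw [← map_mkQ_eq_top]
        rw [eq_top_iff]
        rintro v -
        set P := N.map (Submodule.mkQ (maximalIdeal A • (⊤ : Submodule A J))) with hP
        have hUP : ∀ u ∈ U, u ∈ P := by
          rintro _ ⟨w, rfl⟩
          obtain ⟨x, rfl⟩ := Submodule.Quotient.mk_surjective _ w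
          refine ⟨Submodule.inclusion hIJ x, Submodule.mem_sup_left ?_, rfl⟩
          exact x.2
        have hbP : ∀ j, (b j : VJ) ∈ P := fun j =>
          ⟨ys j, Submodule.mem_sup_right (Submodule.subset_span ⟨j, rfl⟩), hys j⟩
        have hv : v ∈ U ⊔ U' := by rw [hU'.sup_eq_top]; trivial
        obtain ⟨u, hu, w, hw, rfl⟩ := Submodule.mem_sup.1 hv
        refine P.add_mem (hUP u hu) ?_
        have hw' : (⟨w, hw⟩ : U') ∈ Submodule.span k (Set.range b) := by
          rw [b.span_eq]; trivial
        have key : ∀ z : U', z ∈ Submodule.span k (Set.range b) → (z : VJ) ∈ P := by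
          intro z hz
          induction hz using Submodule.span_induction with
          | mem z hz => obtain ⟨j, rfl⟩ := hz; exact hbP j
          | zero => exact P.zero_mem
          | add z z' _ _ hz hz' => exact P.add_mem hz hz'
          | smul c z _ hz =>
            obtain ⟨a, rfl⟩ := hsurj c
            have : ((algebraMap A k a • z : U') : VJ) = a • (z : VJ) := by
              rw [Submodule.coe_smul, algebraMap_smul]
            rw [this]
            exact P.smul_mem a hz
        exact key ⟨w, hw⟩ hw'
      intro x hx
      have hxN : (⟨x, hx⟩ : J) ∈ N := by rw [hN]; trivial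
      obtain ⟨p, hp, q, hq, hpq⟩ := Submodule.mem_sup.1 hxN
      have hx' : x = (p : A) + (q : A) := by
        have := congrArg Subtype.val hpq
        simpa using this.symm
      rw [hx']
      refine Ideal.add_mem _ (Ideal.mem_sup_left hp) (Ideal.mem_sup_right ?_)
      unfold Ideal.ofList
      rw [hys_set]
      have hmap : (Submodule.span A (Set.range ys)).map J.subtype =
          Submodule.span A (Set.range (fun j => (ys j : A))) := by
        rw [Submodule.map_span, ← Set.range_comp]
        rfl
      have : (q : A) ∈ (Submodule.span A (Set.range ys)).map J.subtype := ⟨q, hq, rfl⟩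
      rw [hmap] at this
      exact this
  · intro y hy
    rw [List.mem_ofFn] at hy
    obtain ⟨j, rfl⟩ := hy
    exact (ys j).2
  · rw [List.length_append, Finset.length_toList, hscard, List.length_ofFn, hrI, hrJ, ← hdim, hU,
      Module.finrank_eq_card_basis b, Fintype.card_fin]

end Groth.Agent.Lib.Helper7.MinGen
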