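import Mathlib.RingTheory.Flat.Basic
import Mathlib.Algebra.Module.Projective
import Mathlib.LinearAlgebra.TensorProduct.RightExactness
import Mathlib.Algebra.Exact.Basic

/-!
# Helper7 — Stair: staircase (zig-zag) comparison in `X ⊗ G_•` versus `X ⊗ C_•`

`X` is a flat module with an endomorphism `D` (not assumed to square to zero on `X`, only after
tensoring with the coefficient modules), `G_•`, `C_•` are ℕ-indexed complexes of modules
augmented to `T`.
-/

namespace Groth.Agent.Lib.Helper7.Stair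

open TensorProduct

section Lift

variable {R : Type*} [Ring R]

lemma lift_of_exact {P M N L : Type*} [AddCommGroup P] [Module R P] [AddCommGroup M] [Module R M]
    [AddCommGroup N] [Module R N] [AddCommGroup L] [Module R L] [Module.Projective R P]
    (f : M →ₗ[R] N) (g : N →ₗ[R] L) (hfg : Function.Exact f g) (h : P →ₗ[R] N)
    (hh : g ∘ₗ h = 0) : ∃ h' : P →ₗ[R] M, f ∘ₗ h' = h := by
  have hmem : ∀ x, h x ∈ LinearMap.range f := by
    intro x
    have : g (h x) = 0 := by simpa using LinearMap.congr_fun hh x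
    exact (hfg (h x)).1 this
  obtain ⟨h', hh'⟩ := Module.projective_lifting_property f.rangeRestrict
    (h.codRestrict (LinearMap.range f) hmem) f.surjective_rangeRestrict
  refine ⟨h', ?_⟩
  ext x
  have := LinearMap.congr_fun hh' x
  have h2 := congrArg Subtype.val this
  simpa using h2

variable {G C : ℕ → Type*} [∀ i, AddCommGroup (G i)] [∀ i, Module R (G i)]
  [∀ i, AddCommGroup (C i)] [∀ i, Module R (C i)] {T : Type*} [AddCommGroup T] [Module R T]
  (dG : ∀ i, G (i + 1) →ₗ[R] G i) (aG : G 0 →ₗ[R] T)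
  (dC : ∀ i, C (i + 1) →ₗ[R] C i) (aC : C 0 →ₗ[R] T)

/-- the recursive data of a chain map. -/
noncomputable def seq [∀ i, Module.Projective R (G i)]
    (hG : ∀ i, dG i ∘ₗ dG (i + 1) = 0)
    (hC : ∀ i, Function.Exact (dC (i + 1)) (dC i))
    (z : {pq : (G 0 →ₗ[R] C 0) × (G 1 →ₗ[R] C 1) // dC 0 ∘ₗ pq.2 = pq.1 ∘ₗ dG 0}) :
    ∀ i, {pq : (G i →ₗ[R] C i) × (G (i + 1) →ₗ[R] C (i + 1)) // dC i ∘ₗ pq.2 = pq.1 ∘ₗ dG i}
  | 0 => z
  | i + 1 =>
    have hex : ∃ h' : G (i + 2) →ₗ[R] C (i + 2),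
        dC (i + 1) ∘ₗ h' = (seq hG hC z i).1.2 ∘ₗ dG (i + 1) := by
      apply lift_of_exact (dC (i + 1)) (dC i) (hC i)
      rw [← LinearMap.comp_assoc, (seq hG hC z i).2, LinearMap.comp_assoc, hG i,
        LinearMap.comp_zero]
    ⟨((seq hG hC z i).1.2, hex.choose), hex.choose_spec⟩

theorem exists_chainMap [∀ i, Module.Projective R (G i)]
    (hG : ∀ i, dG i ∘ₗ dG (i + 1) = 0) (hG0 : aG ∘ₗ dG 0 = 0)
    (hC : ∀ i, Function.Exact (dC (i + 1)) (dC i)) (hC0 : Function.Exact (dC 0) aC)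
    (haC : Function.Surjective aC) :
    ∃ γ : ∀ i, G i →ₗ[R] C i, aC ∘ₗ γ 0 = aG ∧ ∀ i, dC i ∘ₗ γ (i + 1) = γ i ∘ₗ dG i := by
  obtain ⟨γ0, h0⟩ := Module.projective_lifting_property aC aG haC
  obtain ⟨γ1, h1⟩ : ∃ h' : G 1 →ₗ[R] C 1, dC 0 ∘ₗ h' = γ0 ∘ₗ dG 0 := by
    apply lift_of_exact (dC 0) aC hC0
    rw [← LinearMap.comp_assoc, h0, hG0]
  let s := seq dG dC hG hC ⟨(γ0, γ1), h1⟩
  refine ⟨fun i => (s i).1.1, h0, fun i => ?_⟩
  have : (s (i + 1)).1.1 = (s i).1.2 := rfl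
  show dC i ∘ₗ (s (i + 1)).1.1 = (s i).1.1 ∘ₗ dG i
  rw [this]
  exact (s i).2

end Lift

section Stairs

variable {K : Type*} [CommRing K] {X : Type*} [AddCommGroup X] [Module K X] (D : X →ₗ[K] X)
  {G : ℕ → Type*} [∀ i, AddCommGroup (G i)] [∀ i, Module K (G i)]
  (dG : ∀ i, G (i + 1) →ₗ[K] G i)
  {T : Type*} [AddCommGroup T] [Module K T] (aG : G 0 →ₗ[K] T)

/-- `Stair c i u`: `u ∈ X ⊗ G_i` is the end of a staircase of length `i` starting above
`c ∈ X ⊗ T`. -/
def IsStair (c : X ⊗[K] T) : ∀ i, X ⊗[K] G i → Prop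
  | 0, u => (aG.lTensor X) u = c
  | (i + 1), u => ∃ u', IsStair c i u' ∧ (D.rTensor (G i)) u' = ((dG i).lTensor X) u

lemma rTensor_lTensor_comm {M N : Type*} [AddCommGroup M] [Module K M] [AddCommGroup N]
    [Module K N] (h : M →ₗ[K] N) (x : X ⊗[K] M) :
    (D.rTensor N) ((h.lTensor X) x) = (h.lTensor X) ((D.rTensor M) x) := by
  induction x using TensorProduct.induction_on with
  | zero => simp
  | tmul a b => simp
  | add a b ha hb => simp [ha, hb]

theorem exists_stair [Module.Flat K X]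
    (hG : ∀ i, Function.Exact (dG (i + 1)) (dG i)) (hG0 : Function.Exact (dG 0) aG)
    (haG : Function.Surjective aG)
    (hDD : ∀ i, (D ∘ₗ D).rTensor (G i) = 0)
    (c : X ⊗[K] T) (hc : (D.rTensor T) c = 0) :
    ∀ i, ∃ u, IsStair D dG aG c i u := by
  intro i
  induction i with
  | zero =>
    obtain ⟨u, hu⟩ := LinearMap.lTensor_surjective X haG c
    exact ⟨u, hu⟩
  | succ i ih =>
    obtain ⟨u', hu'⟩ := ih
    cases i with
    | zero =>
      have hex := lTensor_exact X hG0 haG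
      have h0 : (aG.lTensor X) ((D.rTensor (G 0)) u') = 0 := by
        rw [← rTensor_lTensor_comm]
        change (D.rTensor T) ((aG.lTensor X) u') = 0
        rw [show (aG.lTensor X) u' = c from hu', hc]
      obtain ⟨u, hu⟩ := (hex _).1 h0
      exact ⟨u, u', hu', hu.symm⟩
    | succ i =>
      obtain ⟨u'', hu'', hrel⟩ := hu'
      have hex := Module.Flat.lTensor_exact X (hG i)
      have h0 : ((dG i).lTensor X) ((D.rTensor (G (i + 1))) u') = 0 := by
        rw [← rTensor_lTensor_comm, ← hrel]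
        have := LinearMap.congr_fun (hDD i) u''
        simpa [LinearMap.rTensor_comp] using this
      obtain ⟨u, hu⟩ := (hex _).1 h0
      exact ⟨u, u', ⟨u'', hu'', hrel⟩, hu.symm⟩

variable {C : ℕ → Type*} [∀ i, AddCommGroup (C i)] [∀ i, Module K (C i)]
  (dC : ∀ i, C (i + 1) →ₗ[K] C i) (aC : C 0 →ₗ[K] T)

theorem stair_compare [Module.Flat K X]
    (hC : ∀ i, Function.Exact (dC (i + 1)) (dC i)) (hC0 : Function.Exact (dC 0) aC)
    (hDD : ∀ i, (D ∘ₗ D).rTensor (C i) = 0)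
    (γ : ∀ i, G i →ₗ[K] C i) (hγ0 : aC ∘ₗ γ 0 = aG)
    (hγ : ∀ i, dC i ∘ₗ γ (i + 1) = γ i ∘ₗ dG i)
    (c : X ⊗[K] T) :
    ∀ (i : ℕ) (u : X ⊗[K] G i) (v : X ⊗[K] C i), IsStair D dG aG c i u → IsStair D dC aC c i v →
      ∃ (a : X ⊗[K] C i) (b : X ⊗[K] C (i + 1)),
        ((γ i).lTensor X) u - v = (D.rTensor (C i)) a + ((dC i).lTensor X) b := by
  intro i
  induction i with
  | zero =>
    intro u v hu hv
    have hex := Module.Flat.lTensor_exact X hC0
    have h0 : (aC.lTensor X) (((γ 0).lTensor X) u - v) = 0 := by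
      rw [map_sub, ← LinearMap.comp_apply, ← LinearMap.lTensor_comp, hγ0]
      rw [show (aG.lTensor X) u = c from hu, show (aC.lTensor X) v = c from hv, sub_self]
    obtain ⟨b, hb⟩ := (hex _).1 h0
    exact ⟨0, b, by rw [map_zero, zero_add, hb]⟩
  | succ i ih =>
    intro u v hu hv
    obtain ⟨u', hu', hurel⟩ := hu
    obtain ⟨v', hv', hvrel⟩ := hv
    obtain ⟨a, b, hab⟩ := ih u' v' hu' hv'
    have hex := Module.Flat.lTensor_exact X (hC i)
    have h0 : ((dC i).lTensor X) (((γ (i + 1)).lTensor X) u - v - (D.rTensor (C (i + 1))) b)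
        = 0 := by
      rw [map_sub, map_sub, ← LinearMap.comp_apply, ← LinearMap.lTensor_comp, hγ i,
        LinearMap.lTensor_comp, LinearMap.comp_apply, ← hurel, ← hvrel,
        ← rTensor_lTensor_comm, ← rTensor_lTensor_comm, ← map_sub, hab, map_add,
        sub_eq_zero]
      have := LinearMap.congr_fun (hDD i) a
      rw [LinearMap.rTensor_comp, LinearMap.comp_apply] at this
      rw [this, LinearMap.zero_apply, zero_add]
    obtain ⟨b', hb'⟩ := (hex _).1 h0
    refine ⟨b, b', ?_⟩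
    rw [hb']
    abel

end Stairs

end Groth.Agent.Lib.Helper7.Stair
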