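import Mathlib
import Groth.Prelude.Def_DRing2

/-!
# Helper7 — TorBridge: vanishing of Mathlib's `Tor_{n+1}(S, N)` unpacked as exactness of
`S ⊗ G_•` at `n+1` for a projective resolution `G_• → N` given by plain modules.
-/

open CategoryTheory CategoryTheory.Limits MonoidalCategory

namespace Groth.Agent.Lib.Helper7.TorBridge

universe u

variable {R : Type u} [CommRing R]

theorem exists_resolution_of_subsingleton_Tor (S N : Type u) [AddCommGroup S] [Module R S]
    [AddCommGroup N] [Module R N] (n : ℕ) (h : Subsingleton (DRing.Tor R (n + 1) S N)) :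
    ∃ (G : ℕ → ModuleCat.{u} R) (dG : ∀ i, G (i + 1) ⟶ G i) (aG : G 0 ⟶ ModuleCat.of R N),
      (∀ i, Module.Projective R (G i)) ∧
      (∀ i, Function.Exact (dG (i + 1)).hom (dG i).hom) ∧
      Function.Exact (dG 0).hom aG.hom ∧ Function.Surjective aG.hom ∧
      Function.Exact ((dG (n + 1)).hom.lTensor S) ((dG n).hom.lTensor S) := by
  let Y := ProjectiveResolution.of (ModuleCat.of R N)
  refine ⟨fun i => Y.complex.X i, fun i => Y.complex.d (i + 1) i, Y.π.f 0, ?_, ?_, ?_, ?_, ?_⟩
  · intro i
    have hp : Projective (Y.complex.X i) := inferInstance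
    exact (IsProjective.iff_projective _).2 hp
  · intro i
    have := Y.exact_succ i
    rw [ShortComplex.ShortExact.moduleCat_exact_iff_function_exact] at this
    exact this
  · have h1 : (ShortComplex.mk _ _ Y.complex_d_comp_π_f_zero).Exact :=
      ShortComplex.exact_of_g_is_cokernel _ Y.isColimitCokernelCofork
    rw [ShortComplex.ShortExact.moduleCat_exact_iff_function_exact] at h1
    exact h1
  · have : Epi (Y.π.f 0) := inferInstance
    exact (ModuleCat.epi_iff_surjective _).1 this
  · let F : ModuleCat.{u} R ⥤ ModuleCat.{u} R :=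
      (tensoringLeft (ModuleCat.{u} R)).obj (ModuleCat.of R S)
    have e1 := Y.isoLeftDerivedObj F (n + 1)
    have h0 : IsZero ((F.leftDerived (n + 1)).obj (ModuleCat.of R N)) :=
      ModuleCat.isZero_iff_subsingleton.2 h
    have h1 : IsZero (((F.mapHomologicalComplex _).obj Y.complex).homology (n + 1)) :=
      h0.of_iso e1.symm
    rw [← HomologicalComplex.exactAt_iff_isZero_homology,
      HomologicalComplex.exactAt_iff' _ (n + 2) (n + 1) n (by simp) (by simp),
      ShortComplex.ShortExact.moduleCat_exact_iff_function_exact] at h1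
    exact h1

end Groth.Agent.Lib.Helper7.TorBridge
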