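import Mathlib
import Groth.Agent.Lib.Helper7.Stair
import Groth.Agent.Lib.Helper7.TorBridge

/-!
# Helper7 — SqZero: `R = R'/(f)` with `f² = 0`; a curved differential module `(X', D')` over `R'`
with `D'² = f Θ` forces non-vanishing of `Tor^R_{2k}(S, -)`.
-/

namespace Groth.Agent.Lib.Helper7.SqZero

open TensorProduct Groth.Agent.Lib.Helper7.Stair

universe u

section Basic

variable {R' R : Type u} [CommRing R'] [CommRing R] [Algebra R' R]

/-- the annihilator of `f`. -/
abbrev annF (f : R') : Ideal R' := (Ideal.span {f}).annihilator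

lemma mem_annF {f a : R'} : a ∈ annF f ↔ a * f = 0 := by
  rw [annF, Submodule.mem_annihilator_span_singleton, smul_eq_mul]

variable (hπ : Function.Surjective (algebraMap R' R)) {f : R'}
  (hker : RingHom.ker (algebraMap R' R) = Ideal.span {f})

include hker in
lemma mul_eq_of_map_eq {x y : R'} (h : algebraMap R' R x = algebraMap R' R y) {a : R'}
    (ha : a ∈ annF f) : x * a = y * a := by
  have h1 : x - y ∈ RingHom.ker (algebraMap R' R) := by
    rw [RingHom.mem_ker, map_sub, h, sub_self]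
  rw [hker, Ideal.mem_span_singleton'] at h1
  obtain ⟨c, hc⟩ := h1
  have h2 : (x - y) * a = 0 := by
    rw [← hc, mul_assoc, mul_comm f a, mem_annF.1 ha, mul_zero]
  have h3 : x * a - y * a = 0 := by rw [← sub_mul]; exact h2
  exact sub_eq_zero.1 h3

/-- `Ann(f)` as an `R`-module. -/
def AnnMod (_hπ : Function.Surjective (algebraMap R' R))
    (_hker : RingHom.ker (algebraMap R' R) = Ideal.span {f}) : Type u := ↥(annF f)

instance : AddCommGroup (AnnMod hπ hker) := inferInstanceAs (AddCommGroup ↥(annF f))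

instance : Module R' (AnnMod hπ hker) := inferInstanceAs (Module R' ↥(annF f))

noncomputable instance : SMul R (AnnMod hπ hker) :=
  ⟨fun r a => ⟨Function.surjInv hπ r * a.1, Ideal.mul_mem_left _ _ a.2⟩⟩

lemma AnnMod.smul_val (r : R) (a : AnnMod hπ hker) :
    (r • a : AnnMod hπ hker).1 = Function.surjInv hπ r * a.1 := rfl

lemma AnnMod.smul'_val (c : R') (a : AnnMod hπ hker) :
    (c • a : AnnMod hπ hker).1 = c * a.1 := rfl

noncomputable instance : Module R (AnnMod hπ hker) :=
  Function.Surjective.moduleLeft (algebraMap R' R) hπ (fun c a => Subtype.ext (by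
    rw [AnnMod.smul_val, AnnMod.smul'_val]
    exact mul_eq_of_map_eq hker (Function.surjInv_eq hπ _) a.2))

instance : IsScalarTower R' R (AnnMod hπ hker) :=
  IsScalarTower.of_algebraMap_smul (fun c a => Subtype.ext (by
    rw [AnnMod.smul_val, AnnMod.smul'_val]
    exact mul_eq_of_map_eq hker (Function.surjInv_eq hπ _) a.2))

/-- the element `f` of `Ann(f)`. -/
def fA (hf : f * f = 0) : AnnMod hπ hker := ⟨f, mem_annF.2 hf⟩

/-- the inclusion `Ann(f) → R'`. -/
def incl : AnnMod hπ hker →ₗ[R'] R' := (annF f).subtype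

lemma incl_injective : Function.Injective (incl hπ hker) := Subtype.val_injective

/-- `p : Ann(f) → R`, `a ↦ π a`. -/
noncomputable def pA : AnnMod hπ hker →ₗ[R] R where
  toFun a := algebraMap R' R a.1
  map_add' a b := by
    change algebraMap R' R (a.1 + b.1) = _
    rw [map_add]
  map_smul' r a := by
    rw [AnnMod.smul_val, map_mul, Function.surjInv_eq hπ, RingHom.id_apply, smul_eq_mul]

lemma pA_apply (a : AnnMod hπ hker) : pA hπ hker a = algebraMap R' R a.1 := rfl

/-- `q : R → Ann(f)`, `r ↦ r • f`. -/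
noncomputable def qA (hf : f * f = 0) : R →ₗ[R] AnnMod hπ hker :=
  LinearMap.toSpanSingleton R _ (fA hπ hker hf)

lemma qA_apply (hf : f * f = 0) (r : R) : qA hπ hker hf r = r • fA hπ hker hf := rfl

/-- the periodic coefficient module `W = R × Ann(f)`. -/
abbrev WW : Type u := R × AnnMod hπ hker

/-- `δ (r, a) = (π a, r • f)`. -/
noncomputable def del (hf : f * f = 0) : WW hπ hker →ₗ[R] WW hπ hker :=
  ((pA hπ hker).comp (LinearMap.snd R R _)).prod ((qA hπ hker hf).comp (LinearMap.fst R R _))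

lemma del_apply (hf : f * f = 0) (w : WW hπ hker) :
    del hπ hker hf w = (pA hπ hker w.2, qA hπ hker hf w.1) := rfl

lemma del_exact (hf : f * f = 0) : Function.Exact (del hπ hker hf) (del hπ hker hf) := by
  intro w
  constructor
  · intro h
    rw [del_apply, Prod.mk_eq_zero] at h
    obtain ⟨h1, h2⟩ := h
    -- `π w.2 = 0` so `w.2 = c f`
    have h3 : w.2.1 ∈ RingHom.ker (algebraMap R' R) := by
      rw [RingHom.mem_ker]; exact h1
    rw [hker, Ideal.mem_span_singleton'] at h3
    obtain ⟨c, hc⟩ := h3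
    -- `w.1 • f = 0` so a lift of `w.1` lies in `Ann(f)`
    have h4 : Function.surjInv hπ w.1 * f = 0 := by
      have := congrArg Subtype.val h2
      rw [qA_apply, AnnMod.smul_val] at this
      exact this
    refine ⟨(algebraMap R' R c, ⟨Function.surjInv hπ w.1, mem_annF.2 h4⟩), ?_⟩
    rw [del_apply]
    refine Prod.ext ?_ ?_
    · change algebraMap R' R (Function.surjInv hπ w.1) = w.1
      exact Function.surjInv_eq hπ _
    · change qA hπ hker hf (algebraMap R' R c) = w.2
      rw [qA_apply, algebraMap_smul]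
      exact Subtype.ext (by rw [AnnMod.smul'_val]; exact hc)
  · rintro ⟨v, rfl⟩
    rw [del_apply, del_apply, Prod.mk_eq_zero]
    constructor
    · change pA hπ hker (v.1 • fA hπ hker hf) = 0
      rw [map_smul, pA_apply]
      have : algebraMap R' R f = 0 := by
        rw [← RingHom.mem_ker, hker]; exact Ideal.mem_span_singleton_self f
      change v.1 • algebraMap R' R f = 0
      rw [this, smul_zero]
    · change (pA hπ hker v.2) • fA hπ hker hf = 0
      rw [pA_apply, algebraMap_smul]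
      exact Subtype.ext (by
        rw [AnnMod.smul'_val]
        exact mem_annF.1 v.2.2)

end Basic

section EMap

variable {R' : Type u} (R : Type u) [CommRing R'] [CommRing R] [Algebra R' R]
  {X' : Type u} [AddCommGroup X'] [Module R' X']
  {S : Type u} [AddCommGroup S] [Module R S] [Module R' S] [IsScalarTower R' R S]
  (ε : X' →ₗ[R'] S)

/-- `X' ⊗[R'] Y → S ⊗[R] Y`, `x ⊗ y ↦ ε x ⊗ y`. -/
noncomputable def eMap (Y : Type u) [AddCommGroup Y] [Module R Y] [Module R' Y]
    [IsScalarTower R' R Y] : X' ⊗[R'] Y →ₗ[R'] S ⊗[R] Y :=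
  TensorProduct.lift
    { toFun := fun x => ((TensorProduct.mk R S Y (ε x)).restrictScalars R')
      map_add' := fun x y => by
        ext z
        simp
      map_smul' := fun c x => by
        ext z
        simp [TensorProduct.smul_tmul'] }

@[simp]
lemma eMap_tmul (Y : Type u) [AddCommGroup Y] [Module R Y] [Module R' Y]
    [IsScalarTower R' R Y] (x : X') (y : Y) : eMap R ε Y (x ⊗ₜ y) = ε x ⊗ₜ[R] y := rfl

lemma eMap_rTensor (D' : X' →ₗ[R'] X') (hε : ε ∘ₗ D' = 0) (Y : Type u) [AddCommGroup Y]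
    [Module R Y] [Module R' Y] [IsScalarTower R' R Y] (t : X' ⊗[R'] Y) :
    eMap R ε Y ((D'.rTensor Y) t) = 0 := by
  induction t using TensorProduct.induction_on with
  | zero => simp
  | tmul x y =>
    have : ε (D' x) = 0 := LinearMap.congr_fun hε x
    simp [this]
  | add a b ha hb => simp [ha, hb]

lemma eMap_lTensor {Y Y' : Type u} [AddCommGroup Y] [Module R Y] [Module R' Y]
    [IsScalarTower R' R Y] [AddCommGroup Y'] [Module R Y'] [Module R' Y']
    [IsScalarTower R' R Y'] (h : Y →ₗ[R] Y') (t : X' ⊗[R'] Y) :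
    eMap R ε Y' (((h.restrictScalars R').lTensor X') t) = (h.lTensor S) (eMap R ε Y t) := by
  induction t using TensorProduct.induction_on with
  | zero => simp
  | tmul x y => simp
  | add a b ha hb => simp [ha, hb]

end EMap

section Main

variable {R' R : Type u} [CommRing R'] [CommRing R] [Algebra R' R]
  (hπ : Function.Surjective (algebraMap R' R)) {f : R'}
  (hker : RingHom.ker (algebraMap R' R) = Ideal.span {f}) (hf : f * f = 0)
  {X' : Type u} [AddCommGroup X'] [Module R' X']
  (D' Θ : X' →ₗ[R'] X')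

include hker in
lemma map_f_eq_zero : algebraMap R' R f = 0 := by
  rw [← RingHom.mem_ker, hker]; exact Ideal.mem_span_singleton_self f

include hker in
lemma rTensor_DD (hD : D' ∘ₗ D' = f • Θ) (Y : Type u) [AddCommGroup Y] [Module R Y]
    [Module R' Y] [IsScalarTower R' R Y] : (D' ∘ₗ D').rTensor Y = 0 := by
  rw [hD]
  apply TensorProduct.ext'
  intro x y
  have h0 : f • y = 0 := by
    rw [← algebraMap_smul R f y, map_f_eq_zero hker, zero_smul]
  simp only [LinearMap.rTensor_tmul, LinearMap.smul_apply, LinearMap.zero_apply]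
  rw [TensorProduct.smul_tmul, h0, TensorProduct.tmul_zero]

/-- `μ : X' ⊗ Ann(f) → X'`, `x ⊗ a ↦ a • x`. -/
noncomputable def mu : X' ⊗[R'] AnnMod hπ hker →ₗ[R'] X' :=
  (TensorProduct.rid R' X').toLinearMap ∘ₗ (incl hπ hker).lTensor X'

@[simp]
lemma mu_tmul (x : X') (a : AnnMod hπ hker) : mu hπ hker (x ⊗ₜ a) = a.1 • x := by
  change (TensorProduct.rid R' X') (x ⊗ₜ[R'] (a.1 : R')) = a.1 • x
  rw [TensorProduct.rid_tmul]

lemma mu_injective [Module.Flat R' X'] : Function.Injective (mu (X' := X') hπ hker) := by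
  unfold mu
  rw [LinearMap.coe_comp]
  exact (TensorProduct.rid R' X').injective.comp
    (Module.Flat.lTensor_preserves_injective_linearMap _ (incl_injective hπ hker))

lemma exists_mu_eq {y : X'} (hy : y ∈ annF f • (⊤ : Submodule R' X')) :
    ∃ s, mu hπ hker s = y := by
  induction hy using Submodule.smul_induction_on' with
  | smul a ha x _ =>
    let a' : AnnMod hπ hker := (⟨a, ha⟩ : ↥(annF f))
    exact ⟨x ⊗ₜ a', by rw [mu_tmul]⟩
  | add x _ y _ hx hy =>
    obtain ⟨s, hs⟩ := hx
    obtain ⟨t, ht⟩ := hy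
    exact ⟨s + t, by rw [map_add, hs, ht]⟩

lemma mu_rTensor (L : X' →ₗ[R'] X') (s : X' ⊗[R'] AnnMod hπ hker) :
    mu hπ hker ((L.rTensor _) s) = L (mu hπ hker s) := by
  induction s using TensorProduct.induction_on with
  | zero => simp
  | tmul x a => simp
  | add a b ha hb => simp [ha, hb]

lemma map_mem_smul_top (L : X' →ₗ[R'] X') {y : X'} (hy : y ∈ annF f • (⊤ : Submodule R' X')) :
    L y ∈ annF f • (⊤ : Submodule R' X') := by
  induction hy using Submodule.smul_induction_on' with
  | smul a ha x _ =>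
    rw [map_smul]
    exact Submodule.smul_mem_smul ha Submodule.mem_top
  | add x _ y _ hx hy =>
    rw [map_add]
    exact add_mem hx hy

/-- `δ` as an `R'`-linear map. -/
noncomputable abbrev del' : WW hπ hker →ₗ[R'] WW hπ hker := (del hπ hker hf).restrictScalars R'

/-- the element `(1, 0)` of `W`. -/
def w10 : WW hπ hker := ((1 : R), (0 : AnnMod hπ hker))

lemma del'_lTensor_inr (s : X' ⊗[R'] AnnMod hπ hker) :
    ((del' hπ hker hf).lTensor X') (((LinearMap.inr R' R (AnnMod hπ hker)).lTensor X') s) =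
      (mu hπ hker s) ⊗ₜ w10 hπ hker := by
  induction s using TensorProduct.induction_on with
  | zero => simp
  | tmul x a =>
    simp only [LinearMap.lTensor_tmul, mu_tmul]
    rw [TensorProduct.smul_tmul]
    congr 1
    change del hπ hker hf ((0 : R), a) = a.1 • w10 hπ hker
    rw [del_apply]
    refine Prod.ext ?_ ?_
    · change pA hπ hker a = a.1 • (1 : R)
      rw [pA_apply, Algebra.smul_def, mul_one]
    · change qA hπ hker hf 0 = a.1 • (0 : AnnMod hπ hker)
      rw [map_zero, smul_zero]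
  | add a b ha hb => simp only [map_add, ha, hb, TensorProduct.add_tmul]

lemma del'_lTensor_w10 (y : X') :
    ((del' hπ hker hf).lTensor X') (y ⊗ₜ w10 hπ hker) =
      ((LinearMap.inr R' R (AnnMod hπ hker)).lTensor X') (y ⊗ₜ fA hπ hker hf) := by
  simp only [LinearMap.lTensor_tmul]
  congr 1
  change del hπ hker hf ((1 : R), (0 : AnnMod hπ hker)) = ((0 : R), fA hπ hker hf)
  rw [del_apply]
  refine Prod.ext ?_ ?_
  · change pA hπ hker 0 = 0
    rw [map_zero]
  · change qA hπ hker hf 1 = fA hπ hker hf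
    rw [qA_apply, one_smul]

/-- the coefficient module `N = W / δ W`. -/
abbrev NN : Type u := WW hπ hker ⧸ LinearMap.range (del hπ hker hf)

/-- the augmentation `W → N`. -/
noncomputable abbrev aC : WW hπ hker →ₗ[R] NN hπ hker hf :=
  (LinearMap.range (del hπ hker hf)).mkQ

/-- the augmentation `W → N`, `R'`-linear. -/
noncomputable abbrev aC' : WW hπ hker →ₗ[R'] NN hπ hker hf :=
  (aC hπ hker hf).restrictScalars R'

lemma comm_pow_apply (hcomm : D' ∘ₗ Θ = Θ ∘ₗ D') (j : ℕ) (τ : X') :
    D' ((Θ ^ j) τ) = (Θ ^ j) (D' τ) := by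
  have h : Commute D' Θ := hcomm
  have h2 := (h.pow_right j).eq
  exact LinearMap.congr_fun h2 τ

lemma isStair_explicit [Module.Flat R' X'] (hD : D' ∘ₗ D' = f • Θ)
    (hcomm : D' ∘ₗ Θ = Θ ∘ₗ D') (τ : X') (hτ : D' τ ∈ annF f • (⊤ : Submodule R' X')) :
    ∀ j : ℕ, IsStair (G := fun _ => WW hπ hker) D' (fun _ => del' hπ hker hf) (aC' hπ hker hf)
      (τ ⊗ₜ aC hπ hker hf (w10 hπ hker)) (2 * j) (((Θ ^ j) τ) ⊗ₜ w10 hπ hker) := by
  intro j
  induction j with
  | zero =>
    change ((aC' hπ hker hf).lTensor X') (((Θ ^ 0) τ) ⊗ₜ w10 hπ hker) = _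
    rw [pow_zero]
    rfl
  | succ j ih =>
    have hmem : D' ((Θ ^ j) τ) ∈ annF f • (⊤ : Submodule R' X') := by
      rw [comm_pow_apply D' Θ hcomm]
      exact map_mem_smul_top _ hτ
    obtain ⟨s, hs⟩ := exists_mu_eq hπ hker hmem
    change IsStair (G := fun _ => WW hπ hker) D' (fun _ => del' hπ hker hf) (aC' hπ hker hf)
      (τ ⊗ₜ aC hπ hker hf (w10 hπ hker)) (2 * j + 1 + 1) (((Θ ^ (j + 1)) τ) ⊗ₜ w10 hπ hker)
    refine ⟨((LinearMap.inr R' R (AnnMod hπ hker)).lTensor X') s,
      ⟨((Θ ^ j) τ) ⊗ₜ w10 hπ hker, ih, ?_⟩, ?_⟩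
    · rw [del'_lTensor_inr, hs]
      rfl
    · rw [del'_lTensor_w10, rTensor_lTensor_comm]
      congr 1
      apply mu_injective hπ hker
      rw [mu_rTensor, hs, mu_tmul]
      have h1 : D' (D' ((Θ ^ j) τ)) = f • Θ ((Θ ^ j) τ) := LinearMap.congr_fun hD _
      rw [h1, pow_succ']
      rfl

lemma tmul_aC_eq_zero {y : X'} (hy : y ∈ annF f • (⊤ : Submodule R' X')) :
    y ⊗ₜ[R'] (aC hπ hker hf (w10 hπ hker)) = 0 := by
  induction hy using Submodule.smul_induction_on' with
  | smul a ha x _ =>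
    rw [TensorProduct.smul_tmul]
    have h1 : a • (aC hπ hker hf (w10 hπ hker)) = 0 := by
      let a' : AnnMod hπ hker := (⟨a, ha⟩ : ↥(annF f))
      have h2 : a • (aC hπ hker hf (w10 hπ hker)) =
          aC hπ hker hf (del hπ hker hf ((0 : R), a')) := by
        rw [← algebraMap_smul R a (aC hπ hker hf (w10 hπ hker)), ← map_smul]
        congr 1
        rw [del_apply]
        refine Prod.ext ?_ ?_
        · change algebraMap R' R a • (1 : R) = pA hπ hker a'
          rw [pA_apply, smul_eq_mul, mul_one]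
        · change algebraMap R' R a • (0 : AnnMod hπ hker) = qA hπ hker hf 0
          rw [map_zero, smul_zero]
      rw [h2]
      exact (Submodule.Quotient.mk_eq_zero _).2 ⟨_, rfl⟩
    rw [h1, TensorProduct.tmul_zero]
  | add x _ y _ hx hy => rw [TensorProduct.add_tmul, hx, hy, add_zero]

/-- `S ⊗ W → S / I S`, `s ⊗ (r, a) ↦ r s`. -/
noncomputable def psi (S : Type u) [AddCommGroup S] [Module R S] :
    S ⊗[R] WW hπ hker →ₗ[R]
      S ⧸ (((annF f).map (algebraMap R' R)) • (⊤ : Submodule R S)) :=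
  TensorProduct.lift
    ((LinearMap.lsmul R _).flip.compr₂
        ((((annF f).map (algebraMap R' R)) • (⊤ : Submodule R S)).mkQ) |>.compl₂
      (LinearMap.fst R R (AnnMod hπ hker)))

lemma psi_tmul (S : Type u) [AddCommGroup S] [Module R S] (s : S) (w : WW hπ hker) :
    psi hπ hker S (s ⊗ₜ w) = Submodule.Quotient.mk (w.1 • s) := rfl

lemma psi_del (S : Type u) [AddCommGroup S] [Module R S] (t : S ⊗[R] WW hπ hker) :
    psi hπ hker S (((del hπ hker hf).lTensor S) t) = 0 := by
  induction t using TensorProduct.induction_on with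
  | zero => simp
  | tmul s w =>
    rw [LinearMap.lTensor_tmul, psi_tmul, del_apply]
    refine (Submodule.Quotient.mk_eq_zero _).2 ?_
    refine Submodule.smul_mem_smul ?_ Submodule.mem_top
    change pA hπ hker w.2 ∈ _
    rw [pA_apply]
    exact Ideal.mem_map_of_mem _ w.2.2
  | add a b ha hb => rw [map_add, map_add, ha, hb, add_zero]

include hπ hker hf in
theorem main [Module.Flat R' X'] (hD : D' ∘ₗ D' = f • Θ) (hcomm : D' ∘ₗ Θ = Θ ∘ₗ D')
    {S : Type u} [AddCommGroup S] [Module R S] [Module R' S] [IsScalarTower R' R S]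
    (ε : X' →ₗ[R'] S) (hε : ε ∘ₗ D' = 0) (τ : X')
    (hτ : D' τ ∈ annF f • (⊤ : Submodule R' X')) (k : ℕ)
    (h : ∀ (N : Type u) [AddCommGroup N] [Module R N],
      Subsingleton (DRing.Tor R (2 * k + 2) S N)) :
    ε ((Θ ^ (k + 1)) τ) ∈ ((annF f).map (algebraMap R' R)) • (⊤ : Submodule R S) := by
  obtain ⟨G, dG, aG, hproj, hGex, hG0, haG, hSex⟩ :=
    TorBridge.exists_resolution_of_subsingleton_Tor S (NN hπ hker hf) (2 * k + 1) (h _)
  letI : ∀ i, Module R' (G i) := fun i => Module.compHom _ (algebraMap R' R)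
  haveI : ∀ i, IsScalarTower R' R (G i) := fun i =>
    IsScalarTower.of_algebraMap_smul fun _ _ => rfl
  haveI : ∀ i, Module.Projective R (G i) := hproj
  -- the comparison map
  have hGc : ∀ i, (dG i).hom ∘ₗ (dG (i + 1)).hom = 0 := fun i =>
    LinearMap.ext fun x => (hGex i).apply_apply_eq_zero x
  have hG0c : aG.hom ∘ₗ (dG 0).hom = 0 := LinearMap.ext fun x => hG0.apply_apply_eq_zero x
  obtain ⟨γ, hγ0, hγ⟩ := exists_chainMap (G := fun i => G i) (C := fun _ => WW hπ hker)
    (fun i => (dG i).hom) aG.hom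
    (fun _ => del hπ hker hf) (aC hπ hker hf) hGc hG0c
    (fun _ => del_exact hπ hker hf) (LinearMap.exact_map_mkQ_range _)
    (Submodule.mkQ_surjective _)
  -- the staircases
  let c : X' ⊗[R'] NN hπ hker hf := τ ⊗ₜ aC hπ hker hf (w10 hπ hker)
  have hc : (D'.rTensor (NN hπ hker hf)) c = 0 := by
    change (D' τ) ⊗ₜ[R'] aC hπ hker hf (w10 hπ hker) = 0
    exact tmul_aC_eq_zero hπ hker hf hτ
  obtain ⟨u, hu⟩ := exists_stair (K := R') D' (fun i => (dG i).hom.restrictScalars R')
    (aG.hom.restrictScalars R') hGex hG0 haG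
    (fun i => rTensor_DD hker D' Θ hD (G i)) c hc (2 * k + 2)
  have hv := isStair_explicit hπ hker hf D' Θ hD hcomm τ hτ (k + 1)
  have hγ0' : aC' hπ hker hf ∘ₗ (γ 0).restrictScalars R' = aG.hom.restrictScalars R' :=
    LinearMap.ext fun x => LinearMap.congr_fun hγ0 x
  have hγ' : ∀ i, del' hπ hker hf ∘ₗ (γ (i + 1)).restrictScalars R' =
      (γ i).restrictScalars R' ∘ₗ (dG i).hom.restrictScalars R' := fun i =>
    LinearMap.ext fun x => LinearMap.congr_fun (hγ i) x
  obtain ⟨a, b, hab⟩ := stair_compare (K := R') (G := fun i => G i)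
    (C := fun _ => WW hπ hker) D'
    (fun i => (dG i).hom.restrictScalars R') (aG.hom.restrictScalars R')
    (fun _ => del' hπ hker hf) (aC' hπ hker hf)
    (fun _ => del_exact hπ hker hf) (LinearMap.exact_map_mkQ_range _)
    (fun _ => rTensor_DD hker D' Θ hD (WW hπ hker))
    (fun i => (γ i).restrictScalars R') hγ0' hγ' c
    (2 * k + 2) u _ hu hv
  -- the cycle `eMap u` is a boundary
  obtain ⟨u', -, hurel⟩ := hu
  have hz : ((dG (2 * k + 1)).hom.lTensor S) (eMap R ε (G (2 * k + 2)) u) = 0 := by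
    rw [← eMap_lTensor, ← hurel, eMap_rTensor R ε D' hε]
  obtain ⟨w, hw⟩ := (hSex _).1 hz
  -- apply `eMap` and `psi`
  have h1 := congrArg (eMap R ε (WW hπ hker)) hab
  rw [map_sub, map_add, eMap_rTensor R ε D' hε, zero_add] at h1
  have h2 : eMap R ε (WW hπ hker) ((((γ (2 * k + 2)).restrictScalars R').lTensor X') u) =
      ((del hπ hker hf).lTensor S) (((γ (2 * k + 3)).lTensor S) w) := by
    rw [eMap_lTensor, ← hw, ← LinearMap.comp_apply, ← LinearMap.lTensor_comp,
      ← hγ (2 * k + 2), LinearMap.lTensor_comp, LinearMap.comp_apply]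
  have h3 : eMap R ε (WW hπ hker) (((del' hπ hker hf).lTensor X') b) =
      ((del hπ hker hf).lTensor S) (eMap R ε (WW hπ hker) b) := eMap_lTensor R ε _ b
  have h4 := congrArg (psi hπ hker S) h1
  rw [map_sub, h2, h3, psi_del, psi_del, zero_sub, eMap_tmul, psi_tmul, neg_eq_zero] at h4
  have h5 := (Submodule.Quotient.mk_eq_zero _).1 h4
  change (1 : R) • ε ((Θ ^ (k + 1)) τ) ∈ _ at h5
  rwa [one_smul] at h5

end Main

end Groth.Agent.Lib.Helper7.SqZero
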