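import Mathlib
import Groth.Agent.Lib.Helper7.SqZero

/-!
# Helper7 — KosFact: the Koszul factorisation `D = φ⌋ + ρ∧` on the exterior algebra
(`D² = φ(ρ)`), and its use with `SqZero.main` for quotients of polynomial rings.
-/

namespace Groth.Agent.Lib.Helper7.KosFact

open ExteriorAlgebra Groth.Agent.Lib.Helper7.SqZero

universe u

section Kos

variable {B : Type*} [CommRing B] {M : Type*} [AddCommGroup M] [Module B M]
  (φ : Module.Dual B M) (ρ : M)

/-- `D = φ⌋ + ρ∧`. -/
noncomputable def DD : ExteriorAlgebra B M →ₗ[B] ExteriorAlgebra B M :=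
  CliffordAlgebra.contractLeft (Q := (0 : QuadraticForm B M)) φ +
    LinearMap.mulLeft B (ExteriorAlgebra.ι B ρ)

lemma DD_apply (x : ExteriorAlgebra B M) :
    DD φ ρ x = CliffordAlgebra.contractLeft (Q := (0 : QuadraticForm B M)) φ x +
      ExteriorAlgebra.ι B ρ * x := rfl

lemma DD_DD (x : ExteriorAlgebra B M) : DD φ ρ (DD φ ρ x) = φ ρ • x := by
  rw [DD_apply, DD_apply, map_add, CliffordAlgebra.contractLeft_contractLeft, zero_add, mul_add,
    ← mul_assoc, ExteriorAlgebra.ι_sq_zero, zero_mul, add_zero]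
  have := CliffordAlgebra.contractLeft_ι_mul (Q := (0 : QuadraticForm B M)) (d := φ) ρ x
  erw [this]
  abel

lemma DD_one : DD φ ρ 1 = ExteriorAlgebra.ι B ρ := by
  rw [DD_apply, CliffordAlgebra.contractLeft_one, zero_add, mul_one]

lemma algebraMapInv_DD_mem (J : Ideal B) (hJ : ∀ m, φ m ∈ J) (x : ExteriorAlgebra B M) :
    ExteriorAlgebra.algebraMapInv (DD φ ρ x) ∈ J := by
  rw [DD_apply, map_add, map_mul]
  have h0 : ExteriorAlgebra.algebraMapInv (ExteriorAlgebra.ι B ρ) = 0 := by
    simp [ExteriorAlgebra.algebraMapInv]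
  rw [h0, zero_mul, add_zero]
  induction x using CliffordAlgebra.left_induction with
  | algebraMap r =>
    rw [CliffordAlgebra.contractLeft_algebraMap, map_zero]
    exact J.zero_mem
  | add x y hx hy =>
    rw [map_add, map_add]
    exact J.add_mem hx hy
  | ι_mul x m hx =>
    rw [CliffordAlgebra.contractLeft_ι_mul, map_sub, map_smul, map_mul]
    have h1 : ExteriorAlgebra.algebraMapInv (CliffordAlgebra.ι (0 : QuadraticForm B M) m) = 0 := by
      simp [ExteriorAlgebra.algebraMapInv]
    rw [h1, zero_mul, sub_zero, smul_eq_mul]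
    exact J.mul_mem_right _ (hJ m)

end Kos

section Poly

variable {R' R : Type u} [CommRing R'] [CommRing R] [Algebra R' R] {n m : ℕ}

local notation "PP'" => MvPolynomial (Fin n) R'
local notation "PP" => MvPolynomial (Fin n) R
local notation "XX" => ExteriorAlgebra (MvPolynomial (Fin n) R') (Fin m → MvPolynomial (Fin n) R')

lemma smul_mem_smul_top {f : R'} {a : PP'} (ha : a ∈ (annF f).map MvPolynomial.C) :
    ∀ x : XX, a • x ∈ annF f • (⊤ : Submodule R' XX) := by
  rw [Ideal.map] at ha
  induction ha using Submodule.span_induction with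
  | mem a ha =>
    obtain ⟨a₀, ha₀, rfl⟩ := ha
    intro x
    have : (MvPolynomial.C a₀ : PP') • x = a₀ • x := by
      rw [← MvPolynomial.algebraMap_eq, algebraMap_smul]
    rw [this]
    exact Submodule.smul_mem_smul ha₀ Submodule.mem_top
  | zero => intro x; rw [zero_smul]; exact Submodule.zero_mem _
  | add a b _ _ iha ihb => intro x; rw [add_smul]; exact add_mem (iha x) (ihb x)
  | smul p a _ iha =>
    intro x
    rw [smul_eq_mul, mul_comm, mul_smul]
    exact iha (p • x)

/-- the form `φ(v) = ∑ f'_j v_j`. -/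
noncomputable def phi (f' : Fin m → PP') : Module.Dual PP' (Fin m → PP') :=
  ∑ j, f' j • LinearMap.proj j

lemma phi_apply (f' : Fin m → PP') (v : Fin m → PP') : phi f' v = ∑ j, f' j * v j := by
  simp [phi]

lemma phi_mem (f' : Fin m → PP') (v : Fin m → PP') : phi f' v ∈ Ideal.span (Set.range f') := by
  rw [phi_apply]
  refine Ideal.sum_mem _ (fun j _ => ?_)
  exact Ideal.mul_mem_right _ _ (Ideal.subset_span ⟨j, rfl⟩)

lemma iota_mem {f : R'} (a : Fin m → PP') (ha : ∀ j, a j ∈ (annF f).map MvPolynomial.C) :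
    ExteriorAlgebra.ι PP' a ∈ annF f • (⊤ : Submodule R' XX) := by
  have h1 : a = ∑ j, a j • (Pi.single j (1 : PP') : Fin m → PP') := by
    ext i
    simp [Finset.sum_apply, Pi.single_apply]
  rw [h1, map_sum]
  refine Submodule.sum_mem _ (fun j _ => ?_)
  rw [map_smul]
  exact smul_mem_smul_top (ha j) _

/-- multiplication by `g` on the exterior algebra, `R'`-linear. -/
noncomputable def thetaMap (g : PP') : XX →ₗ[R'] XX :=
  (LinearMap.lsmul PP' XX g).restrictScalars R'

lemma thetaMap_pow (g : PP') (j : ℕ) (x : XX) :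
    ((thetaMap (m := m) g) ^ j) x = g ^ j • x := by
  induction j generalizing x with
  | zero => simp
  | succ j ih =>
    rw [pow_succ', Module.End.mul_apply, ih, pow_succ', mul_smul]
    rfl

/-- the augmentation `Λ → P/J`. -/
noncomputable def epsMap (J : Ideal PP) : XX →ₗ[R'] (PP ⧸ J) :=
  ((Ideal.Quotient.mkₐ R' J).toLinearMap) ∘ₗ
    ((MvPolynomial.mapAlgHom (Algebra.ofId R' R) : PP' →ₐ[R'] PP).toLinearMap) ∘ₗ
      ((ExteriorAlgebra.algebraMapInv : XX →ₐ[PP'] PP').toLinearMap.restrictScalars R')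

lemma epsMap_apply (J : Ideal PP) (x : XX) :
    epsMap (m := m) J x = Ideal.Quotient.mk J
      (MvPolynomial.map (algebraMap R' R) (ExteriorAlgebra.algebraMapInv x)) := rfl

theorem pow_mem_of_subsingleton_Tor
    (hπ : Function.Surjective (algebraMap R' R)) {f : R'}
    (hker : RingHom.ker (algebraMap R' R) = Ideal.span {f}) (hf : f * f = 0)
    (fs : Fin m → PP) (a f' : Fin m → PP') (g : PP')
    (ha : ∀ j, a j ∈ (annF f).map MvPolynomial.C)
    (hf' : ∀ j, MvPolynomial.map (algebraMap R' R) (f' j) = fs j)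
    (hsum : ∑ j, a j * f' j = MvPolynomial.C f * g) (k : ℕ)
    (h : ∀ (N : Type u) [AddCommGroup N] [Module R N],
      Subsingleton (DRing.Tor R (2 * k + 2) (PP ⧸ Ideal.span (Set.range fs)) N)) :
    (MvPolynomial.map (algebraMap R' R) g) ^ (k + 1) ∈
      Ideal.span (Set.range fs) ⊔ ((annF f).map (algebraMap R' R)).map MvPolynomial.C := by
  haveI : Module.Free PP' XX :=
    Module.Free.of_basis (Module.Basis.ExteriorAlgebra (Pi.basisFun _ (Fin m)))
  haveI : Module.Flat R' XX := Module.Flat.trans R' PP' XX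
  set J := Ideal.span (Set.range fs) with hJ
  let D' : XX →ₗ[R'] XX := (DD (phi f') a).restrictScalars R'
  have hphi : phi f' a = MvPolynomial.C f * g := by
    rw [phi_apply, ← hsum]
    exact Finset.sum_congr rfl (fun j _ => mul_comm _ _)
  have hD : D' ∘ₗ D' = f • thetaMap (m := m) g := by
    ext x
    change DD (phi f') a (DD (phi f') a x) = f • (g • x)
    rw [DD_DD, hphi, mul_smul, ← MvPolynomial.algebraMap_eq, algebraMap_smul]
  have hcomm : D' ∘ₗ thetaMap (m := m) g = thetaMap (m := m) g ∘ₗ D' := by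
    ext x
    change DD (phi f') a (g • x) = g • DD (phi f') a x
    rw [map_smul]
  have hε : epsMap (m := m) J ∘ₗ D' = 0 := by
    ext x
    change epsMap (m := m) J (DD (phi f') a x) = 0
    rw [epsMap_apply]
    have h1 := algebraMapInv_DD_mem (phi f') a (Ideal.span (Set.range f')) (phi_mem f') x
    have h2 := Ideal.mem_map_of_mem (MvPolynomial.map (algebraMap R' R)) h1
    rw [Ideal.map_span, ← Set.range_comp] at h2
    have h3 : (⇑(MvPolynomial.map (algebraMap R' R)) ∘ f') = fs := funext hf'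
    rw [h3] at h2
    exact Ideal.Quotient.eq_zero_iff_mem.2 h2
  have hτ : D' (1 : XX) ∈ annF f • (⊤ : Submodule R' XX) := by
    change DD (phi f') a 1 ∈ _
    rw [DD_one]
    exact iota_mem a ha
  have hmain := main hπ hker hf D' (thetaMap (m := m) g) hD hcomm (epsMap (m := m) J) hε 1 hτ k h
  rw [thetaMap_pow, epsMap_apply, map_smul, smul_eq_mul, map_one, mul_one, map_pow] at hmain
  -- from `I • ⊤` back to ideals
  have key : ∀ s ∈ ((annF f).map (algebraMap R' R)) • (⊤ : Submodule R (PP ⧸ J)),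
      ∃ p ∈ ((annF f).map (algebraMap R' R)).map MvPolynomial.C, Ideal.Quotient.mk J p = s := by
    intro s hs
    induction hs using Submodule.smul_induction_on' with
    | smul r hr x _ =>
      obtain ⟨p, rfl⟩ := Ideal.Quotient.mk_surjective x
      refine ⟨MvPolynomial.C r * p, Ideal.mul_mem_right _ _ (Ideal.mem_map_of_mem _ hr), ?_⟩
      rw [← MvPolynomial.smul_eq_C_mul]
      rfl
    | add x _ y _ hx hy =>
      obtain ⟨p, hp, rfl⟩ := hx
      obtain ⟨q, hq, rfl⟩ := hy
      exact ⟨p + q, Ideal.add_mem _ hp hq, map_add _ _ _⟩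
  obtain ⟨p, hp, hpeq⟩ := key _ hmain
  have h4 : (MvPolynomial.map (algebraMap R' R) g) ^ (k + 1) - p ∈ J := by
    rw [← Ideal.Quotient.eq_zero_iff_mem, map_sub, hpeq, sub_self]
  have h5 : (MvPolynomial.map (algebraMap R' R) g) ^ (k + 1) =
      ((MvPolynomial.map (algebraMap R' R) g) ^ (k + 1) - p) + p := by ring
  rw [h5]
  exact Ideal.add_mem _ (Ideal.mem_sup_left h4) (Ideal.mem_sup_right hp)

end Poly

end Groth.Agent.Lib.Helper7.KosFact
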