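import Mathlib
import Groth.Agent.Lib.Helper7.KosFact

/-!
# Helper7 — KosLocal: `SqZero.main` with the Koszul factorisation over `R'` itself (no variables).
-/

namespace Groth.Agent.Lib.Helper7.KosLocal

open ExteriorAlgebra Groth.Agent.Lib.Helper7.SqZero Groth.Agent.Lib.Helper7.KosFact

universe u

variable {R' R : Type u} [CommRing R'] [CommRing R] [Algebra R' R] {s : ℕ}

local notation "XX" => ExteriorAlgebra R' (Fin s → R')

/-- the form `φ(v) = ∑ y_j v_j`. -/
noncomputable def phi (y : Fin s → R') : Module.Dual R' (Fin s → R') :=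
  ∑ j, y j • LinearMap.proj j

lemma phi_apply (y : Fin s → R') (v : Fin s → R') : phi y v = ∑ j, y j * v j := by
  simp [phi]

lemma phi_mem (y : Fin s → R') (v : Fin s → R') : phi y v ∈ Ideal.span (Set.range y) := by
  rw [phi_apply]
  refine Ideal.sum_mem _ (fun j _ => ?_)
  exact Ideal.mul_mem_right _ _ (Ideal.subset_span ⟨j, rfl⟩)

lemma iota_mem {f : R'} (c : Fin s → R') (hc : ∀ j, c j ∈ annF f) :
    ExteriorAlgebra.ι R' c ∈ annF f • (⊤ : Submodule R' XX) := by
  have h1 : c = ∑ j, c j • (Pi.single j (1 : R') : Fin s → R') := by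
    ext i
    simp [Finset.sum_apply, Pi.single_apply]
  rw [h1, map_sum]
  refine Submodule.sum_mem _ (fun j _ => ?_)
  rw [map_smul]
  exact Submodule.smul_mem_smul (hc j) Submodule.mem_top

theorem one_mem_of_subsingleton_Tor
    (hπ : Function.Surjective (algebraMap R' R)) {f : R'}
    (hker : RingHom.ker (algebraMap R' R) = Ideal.span {f}) (hf : f * f = 0)
    {S : Type u} [AddCommGroup S] [Module R S] [Module R' S] [IsScalarTower R' R S]
    (q : R' →ₗ[R'] S) (c y : Fin s → R') (hc : ∀ j, c j ∈ annF f) (hy : ∀ j, q (y j) = 0)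
    (hsum : ∑ j, c j * y j = f) (k : ℕ)
    (h : ∀ (N : Type u) [AddCommGroup N] [Module R N],
      Subsingleton (DRing.Tor R (2 * k + 2) S N)) :
    q 1 ∈ ((annF f).map (algebraMap R' R)) • (⊤ : Submodule R S) := by
  haveI : Module.Free R' XX :=
    Module.Free.of_basis (Module.Basis.ExteriorAlgebra (Pi.basisFun _ (Fin s)))
  let D' : XX →ₗ[R'] XX := DD (phi y) c
  have hphi : phi y c = f := by
    rw [phi_apply, ← hsum]
    exact Finset.sum_congr rfl (fun j _ => mul_comm _ _)
  have hD : D' ∘ₗ D' = f • (LinearMap.id : XX →ₗ[R'] XX) := by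
    refine LinearMap.ext fun x => ?_
    change DD (phi y) c (DD (phi y) c x) = f • x
    rw [DD_DD, hphi]
  have hcomm : D' ∘ₗ (LinearMap.id : XX →ₗ[R'] XX) = LinearMap.id ∘ₗ D' := rfl
  let ε : XX →ₗ[R'] S := q ∘ₗ (ExteriorAlgebra.algebraMapInv : XX →ₐ[R'] R').toLinearMap
  have hq : ∀ b ∈ Ideal.span (Set.range y), q b = 0 := by
    intro b hb
    induction hb using Submodule.span_induction with
    | mem b hb => obtain ⟨j, rfl⟩ := hb; exact hy j
    | zero => exact map_zero _
    | add a b _ _ ha hb => rw [map_add, ha, hb, add_zero]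
    | smul r b _ hb => rw [map_smul, hb, smul_zero]
  have hε : ε ∘ₗ D' = 0 := by
    refine LinearMap.ext fun x => ?_
    change q (ExteriorAlgebra.algebraMapInv (DD (phi y) c x)) = 0
    exact hq _ (algebraMapInv_DD_mem (phi y) c (Ideal.span (Set.range y)) (phi_mem y) x)
  have hτ : D' (1 : XX) ∈ annF f • (⊤ : Submodule R' XX) := by
    change DD (phi y) c 1 ∈ _
    rw [DD_one]
    exact iota_mem c hc
  have hmain := main hπ hker hf D' LinearMap.id hD hcomm ε hε 1 hτ k h
  have h1 : ((LinearMap.id : XX →ₗ[R'] XX) ^ (k + 1)) 1 = 1 := by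
    rw [← Module.End.one_eq_id, one_pow]; rfl
  rw [h1] at hmain
  change q (ExteriorAlgebra.algebraMapInv (1 : XX)) ∈ _ at hmain
  rwa [map_one] at hmain

end Groth.Agent.Lib.Helper7.KosLocal
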