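import Mathlib
import Groth.Agent.S2200
import Groth.Agent.Lib.Helper5.LciB
import Groth.Agent.Lib.Helper5.KosRegA
import Groth.Agent.Lib.Helper5.RegImmB
import Groth.Agent.Lib.Helper5.RegSpreadRing
import Groth.Agent.Lib.Helper7.RegSeqSpread
import Groth.Agent.Lib.Helper7.LocQuotDim
import Groth.Agent.Lib.Helper15.RelPC11

/-!
# Avramov's theorem for a pair of ideals in a Noetherian ring (helper7)

`P` Noetherian, `I ≤ K` ideals, `K` Koszul-regular, `P/K` of finite tor dimension over `P/I`.
Then `K/I` is a Koszul-regular ideal of `P/I`, and `I` is generated by a Koszul-regular sequence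
near every prime containing `K`.  The local input is `Groth.Agent.S2200.result`.
-/

set_option autoImplicit false
set_option linter.style.haveILetI false
universe u

namespace Groth.Agent.Lib.Helper7.AvrRing

open RingTheory.Sequence Groth.Agent.Lib.Helper5.Lci

section Spread

variable {A : Type u} [CommRing A] [IsNoetherianRing A]

/-- an ideal whose extension to the local ring at `p` is generated by a weakly regular sequence is
generated by a Koszul-regular sequence on a basic open neighbourhood of `p`. -/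
theorem exists_away_kr (p : Ideal A) [p.IsPrime] (R : Type u) [CommRing R] [Algebra A R]
    [IsLocalization.AtPrime R p] (I : Ideal A) (rs : List R)
    (hI : I.map (algebraMap A R) = Ideal.ofList rs) (hreg : IsWeaklyRegular R rs) :
    ∃ g : A, g ∉ p ∧ ∃ a : List A,
      LCI.IsKoszulRegularSeq (Localization.Away g) (a.map (algebraMap A (Localization.Away g))) ∧
      I.map (algebraMap A (Localization.Away g)) =
        Ideal.ofList (a.map (algebraMap A (Localization.Away g))) := by
  obtain ⟨g₁, hg₁, xs, hF, hsp⟩ :=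
    Groth.Agent.Lib.Helper5.RegSpreadRing.exists_away_ideal_eq' p R I rs hI
  have hreg' : IsWeaklyRegular R (xs.map (algebraMap A R)) :=
    Groth.Agent.Lib.Helper7.RegSpread.isWeaklyRegular_of_forall₂_unit hF R hreg
  obtain ⟨g₂, hg₂, hwr⟩ :=
    Groth.Agent.Lib.Helper5.RegSpreadRing.exists_away_weaklyRegular' p R xs hreg'
  refine ⟨g₁ * g₂, fun h => (Ideal.IsPrime.mem_or_mem inferInstance h).elim hg₁ hg₂, xs, ?_, ?_⟩
  · exact Groth.Agent.Lib.Helper5.RegImmB.isKoszulRegularSeq_of_isWeaklyRegular _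
      (hwr (g₁ * g₂) (Dvd.intro_left g₁ rfl) (Localization.Away (g₁ * g₂)))
  · apply hsp
    have h1 : IsUnit (algebraMap A (Localization.Away (g₁ * g₂)) (g₁ * g₂)) :=
      IsLocalization.Away.algebraMap_isUnit (g₁ * g₂)
    rw [map_mul] at h1
    exact isUnit_of_mul_isUnit_left h1

end Spread


section Local

variable {P : Type u} [CommRing P] [IsNoetherianRing P] (I K : Ideal P) (hIK : I ≤ K)

omit [IsNoetherianRing P] in
theorem algebraMapSubmonoid_factor (M : Submonoid P) :
    letI := (Ideal.Quotient.factor hIK).toAlgebra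
    Algebra.algebraMapSubmonoid (P ⧸ K) (Algebra.algebraMapSubmonoid (P ⧸ I) M) =
      Algebra.algebraMapSubmonoid (P ⧸ K) M := by
  letI := (Ideal.Quotient.factor hIK).toAlgebra
  ext x
  constructor
  · rintro ⟨_, ⟨m, hm, rfl⟩, rfl⟩
    exact ⟨m, hm, rfl⟩
  · rintro ⟨m, hm, rfl⟩
    exact ⟨_, ⟨m, hm, rfl⟩, rfl⟩

include hIK in
/-- finite tor dimension passes to the local rings at a prime. -/
theorem hasFiniteTorDim_localization
    (hftd : letI := (Ideal.Quotient.factor hIK).toAlgebra
      DRing.HasFiniteTorDim (P ⧸ I) (P ⧸ K))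
    (q : Ideal P) [q.IsPrime] :
    letI := (Ideal.Quotient.factor
      (Ideal.map_mono hIK : I.map (algebraMap P (Localization.AtPrime q)) ≤
        K.map (algebraMap P (Localization.AtPrime q)))).toAlgebra
    DRing.HasFiniteTorDim
      (Localization.AtPrime q ⧸ I.map (algebraMap P (Localization.AtPrime q)))
      (Localization.AtPrime q ⧸ K.map (algebraMap P (Localization.AtPrime q))) := by
  set Λ := Localization.AtPrime q with hΛ
  set IΛ := I.map (algebraMap P Λ) with hIΛ
  set KΛ := K.map (algebraMap P Λ) with hKΛ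
  have hle : IΛ ≤ KΛ := Ideal.map_mono hIK
  letI a1 : Algebra (P ⧸ I) (P ⧸ K) := (Ideal.Quotient.factor hIK).toAlgebra
  letI a2 : Algebra (Λ ⧸ IΛ) (Λ ⧸ KΛ) := (Ideal.Quotient.factor hle).toAlgebra
  letI a3 : Algebra (P ⧸ I) (Λ ⧸ KΛ) :=
    ((algebraMap (P ⧸ K) (Λ ⧸ KΛ)).comp (Ideal.Quotient.factor hIK)).toAlgebra
  haveI t1 : IsScalarTower (P ⧸ I) (P ⧸ K) (Λ ⧸ KΛ) := .of_algebraMap_eq (fun x => rfl)
  haveI t2 : IsScalarTower (P ⧸ I) (Λ ⧸ IΛ) (Λ ⧸ KΛ) := .of_algebraMap_eq (fun x => by
    obtain ⟨x, rfl⟩ := Ideal.Quotient.mk_surjective x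
    rfl)
  haveI fl : Module.Flat (P ⧸ I) (Λ ⧸ IΛ) :=
    IsLocalization.flat (Λ ⧸ IΛ) (Algebra.algebraMapSubmonoid (P ⧸ I) q.primeCompl)
  haveI loc : IsLocalization (Algebra.algebraMapSubmonoid (P ⧸ K)
      (Algebra.algebraMapSubmonoid (P ⧸ I) q.primeCompl)) (Λ ⧸ KΛ) := by
    rw [algebraMapSubmonoid_factor I K hIK q.primeCompl]
    infer_instance
  haveI po : Algebra.IsPushout (P ⧸ I) (P ⧸ K) (Λ ⧸ IΛ) (Λ ⧸ KΛ) :=
    Algebra.isPushout_of_isLocalization (Algebra.algebraMapSubmonoid (P ⧸ I) q.primeCompl)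
      (Λ ⧸ IΛ) (P ⧸ K) (Λ ⧸ KΛ)
  obtain ⟨d, hd⟩ := hftd
  exact ⟨d, Groth.Agent.Lib.Helper15.RelPC11.hasTorDimLE_baseChange (R := P ⧸ I) (S := P ⧸ K)
    (R' := Λ ⧸ IΛ) (S' := Λ ⧸ KΛ) d hd⟩

end Local


section LocalReg

variable {P : Type u} [CommRing P] [IsNoetherianRing P] (I K : Ideal P) (hIK : I ≤ K)

include hIK in
/-- the local statement at a prime containing `K`, from `S2200`. -/
theorem local_regular (hK : LCI.IsKoszulRegularIdeal K)
    (hftd : letI := (Ideal.Quotient.factor hIK).toAlgebra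
      DRing.HasFiniteTorDim (P ⧸ I) (P ⧸ K))
    (q : Ideal P) [q.IsPrime] (hKq : K ≤ q) :
    (∃ rs : List (Localization.AtPrime q),
        Ideal.ofList rs = I.map (algebraMap P (Localization.AtPrime q)) ∧
        IsRegular (Localization.AtPrime q) rs) ∧
    ∃ rs' : List (Localization.AtPrime q ⧸ I.map (algebraMap P (Localization.AtPrime q))),
      Ideal.ofList rs' = (K.map (algebraMap P (Localization.AtPrime q))).map
        (Ideal.Quotient.mk (I.map (algebraMap P (Localization.AtPrime q)))) ∧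
      IsRegular (Localization.AtPrime q ⧸ I.map (algebraMap P (Localization.AtPrime q))) rs' := by
  set Λ := Localization.AtPrime q with hΛ
  set IΛ := I.map (algebraMap P Λ) with hIΛ
  set KΛ := K.map (algebraMap P Λ) with hKΛ
  have hle : IΛ ≤ KΛ := Ideal.map_mono hIK
  have hKm : KΛ ≤ IsLocalRing.maximalIdeal Λ := by
    rw [hKΛ, Ideal.map_le_iff_le_comap]
    intro x hx
    exact (IsLocalization.AtPrime.to_map_mem_maximal_iff Λ q x).2 (hKq hx)
  have hne : KΛ ≠ ⊤ := fun h =>
    (IsLocalRing.maximalIdeal.isMaximal Λ).ne_top (top_le_iff.1 (h ▸ hKm))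
  letI a2 : Algebra (Λ ⧸ IΛ) (Λ ⧸ KΛ) := (Ideal.Quotient.factor hle).toAlgebra
  haveI : IsScalarTower Λ (Λ ⧸ IΛ) (Λ ⧸ KΛ) := by
    exact IsScalarTower.of_algebraMap_eq (R := Λ) (S := Λ ⧸ IΛ) (A := Λ ⧸ KΛ) (fun x => rfl)
  have hfd : DRing.HasFiniteTorDim (Λ ⧸ IΛ) (Λ ⧸ KΛ) :=
    hasFiniteTorDim_localization I K hIK hftd q
  -- `KΛ` is generated by a regular sequence
  obtain ⟨g, hg, a, haK, haKR, haspan⟩ := exists_global_gens K hK q hKq
  have haKRq := kr_atPrime_of_kr_away a g haKR q hg
  have haspanq : KΛ = Ideal.ofList (a.map (algebraMap P Λ)) :=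
    map_eq_ofList_of_isUnit K a g haspan _ (IsLocalization.map_units _ (⟨g, hg⟩ : q.primeCompl))
  have hmem : ∀ x ∈ a.map (algebraMap P Λ), x ∈ IsLocalRing.maximalIdeal Λ := by
    intro x hx
    obtain ⟨y, hy, rfl⟩ := List.mem_map.1 hx
    exact hKm (Ideal.mem_map_of_mem _ (haK y hy))
  have hreg : IsRegular Λ (a.map (algebraMap P Λ)) :=
    Groth.Agent.Lib.Helper5.KosReg.isRegular_of_koszulRegular _ hmem haKRq
  exact Groth.Agent.S2200.result IΛ KΛ hle hne hfd ⟨_, haspanq.symm, hreg⟩

end LocalReg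


section Core

variable {P : Type u} [CommRing P] [IsNoetherianRing P] (I K : Ideal P) (hIK : I ≤ K)

include hIK in
/-- **Avramov's theorem for a pair of ideals** (finite type form): `K` Koszul-regular and `P/K` of
finite tor dimension over `P/I`.  Then `K/I` is Koszul-regular in `P/I` and `I` is generated by a
Koszul-regular sequence near every prime containing `K`. -/
theorem core (hK : LCI.IsKoszulRegularIdeal K)
    (hftd : letI := (Ideal.Quotient.factor hIK).toAlgebra
      DRing.HasFiniteTorDim (P ⧸ I) (P ⧸ K)) :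
    LCI.IsKoszulRegularIdeal (K.map (Ideal.Quotient.mk I)) ∧
    ∀ (q : Ideal P) [q.IsPrime], K ≤ q → ∃ g : P, g ∉ q ∧ ∃ a : List P,
      LCI.IsKoszulRegularSeq (Localization.Away g) (a.map (algebraMap P (Localization.Away g))) ∧
      I.map (algebraMap P (Localization.Away g)) =
        Ideal.ofList (a.map (algebraMap P (Localization.Away g))) := by
  constructor
  · apply isKoszulRegularIdeal_of_local
    intro qb hqb hle
    set q : Ideal P := qb.comap (Ideal.Quotient.mk I) with hq
    haveI : q.IsPrime := Ideal.comap_isPrime _ _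
    have hKq : K ≤ q := Ideal.map_le_iff_le_comap.1 hle
    have hIq : I ≤ q := hIK.trans hKq
    have hqb' : q.map (Ideal.Quotient.mk I) = qb :=
      Ideal.map_comap_of_surjective _ Ideal.Quotient.mk_surjective qb
    obtain ⟨-, rs', hrs', hreg'⟩ := local_regular I K hIK hK hftd q hKq
    haveI hP' : (q.map (Ideal.Quotient.mk I)).IsPrime := hqb' ▸ hqb
    haveI : IsLocalization.AtPrime
        (Localization.AtPrime q ⧸ I.map (algebraMap P (Localization.AtPrime q))) qb := by
      unfold IsLocalization.AtPrime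
      have : qb.primeCompl = (q.map (Ideal.Quotient.mk I)).primeCompl := by
        congr 1
        exact hqb'.symm
      rw [this, ← Groth.Agent.Lib.Helper7.LocQuotDim.algebraMapSubmonoid_primeCompl P q I hIq]
      infer_instance
    refine exists_away_kr (A := P ⧸ I) qb
      (Localization.AtPrime q ⧸ I.map (algebraMap P (Localization.AtPrime q)))
      (K.map (Ideal.Quotient.mk I)) rs' ?_ hreg'.toIsWeaklyRegular
    rw [hrs', Ideal.map_map, Ideal.map_map]
    rfl
  · intro q _ hKq
    obtain ⟨⟨rs, hrs, hreg⟩, -⟩ := local_regular I K hIK hK hftd q hKq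
    exact exists_away_kr q (Localization.AtPrime q) I rs hrs.symm hreg.toIsWeaklyRegular

end Core

end Groth.Agent.Lib.Helper7.AvrRing
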