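import Mathlib
import Groth.Prelude.Def_MoreMor
import Groth.Agent.Lib.Helper7.AvrRing
import Groth.Agent.Lib.Helper7.AvrDescent
import Groth.Agent.Lib.Helper5.LciS
import Groth.Agent.Lib.Helper15.RelPC17

/-!
# Avramov's theorem for ring maps of finite type (helper7)

`A` Noetherian, `A → B` of finite type, `B → C` perfect, `A → C` a local complete intersection.
Then `B → C` is a local complete intersection, and `A → B` is one near every prime of `B` in the
image of `Spec C`.
-/

set_option autoImplicit false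
set_option linter.style.haveILetI false
universe u

namespace Groth.Agent.Lib.Helper7.AvrRing

open RingTheory.Sequence Groth.Agent.Lib.Helper5.Lci Groth.Agent.Lib.Helper15.RelPC11
  Groth.Agent.Lib.Helper15.RelPC17

variable {A B C : Type u} [CommRing A] [CommRing B] [CommRing C] [IsNoetherianRing A]

theorem avramov_ring (f : A →+* B) (g : B →+* C) (hf : f.FiniteType)
    (hperf : letI := g.toAlgebra; MoreMor.IsPerfectHom B C)
    (hlci : IsLciHom (g.comp f)) :
    IsLciHom g ∧ ∀ (r : Ideal C) [r.IsPrime], ∃ b : B, g b ∉ r ∧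
      ∀ (B' : Type u) [CommRing B'] [Algebra B B'] [IsLocalization.Away b B'],
        IsLciHom ((algebraMap B B').comp f) := by
  letI : Algebra B C := g.toAlgebra
  obtain ⟨⟨m, φ, hφ, -⟩, hftd⟩ := hperf
  obtain ⟨n, γ, hγ⟩ := exists_isPres_of_finiteType hf
  let φ' : MvPolynomial (Fin m) B →+* C := φ
  have hφC : ∀ b : B, φ' (MvPolynomial.C b) = g b := fun b => by
    have := φ.commutes b
    rw [MvPolynomial.algebraMap_eq] at this
    exact this
  let π : MvPolynomial (Fin m) (MvPolynomial (Fin n) A) →+* MvPolynomial (Fin m) B :=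
    MvPolynomial.map γ
  have hπ : Function.Surjective π := MvPolynomial.map_surjective γ hγ.2
  let Ψ : MvPolynomial (Fin m) (MvPolynomial (Fin n) A) →+* C := φ'.comp π
  have hΨ : Function.Surjective Ψ := hφ.comp hπ
  have hΨC : ∀ x : MvPolynomial (Fin n) A, Ψ (MvPolynomial.C x) = g (γ x) := fun x => by
    change φ' (MvPolynomial.map γ (MvPolynomial.C x)) = _
    rw [MvPolynomial.map_C, hφC]
  have hγC : ∀ a : A, γ (MvPolynomial.C a) = f a := fun a => RingHom.congr_fun hγ.1 a
  -- `Ψ` is lci
  have hΨlci : IsLciHom Ψ := by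
    apply IsLciHom.of_comp_C Ψ
    apply IsLciHom.of_comp_C (Ψ.comp MvPolynomial.C)
    have : (Ψ.comp MvPolynomial.C).comp MvPolynomial.C = g.comp f := by
      ext a
      change Ψ (MvPolynomial.C (MvPolynomial.C a)) = g (f a)
      rw [hΨC, hγC]
    rw [this]
    exact hlci
  set I : Ideal (MvPolynomial (Fin m) (MvPolynomial (Fin n) A)) := RingHom.ker π with hI
  set K : Ideal (MvPolynomial (Fin m) (MvPolynomial (Fin n) A)) := RingHom.ker Ψ with hK
  have hIK : I ≤ K := by
    intro x hx
    rw [hK, RingHom.mem_ker]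
    change φ' (π x) = 0
    rw [(RingHom.mem_ker).1 hx, map_zero]
  have hKR : LCI.IsKoszulRegularIdeal K := IsLciHom.ker_of_surjective hΨlci hΨ
  -- finite tor dimension
  let e₁ := RingHom.quotientKerEquivOfSurjective hπ
  let e₂ := RingHom.quotientKerEquivOfSurjective hΨ
  have hfac : Ideal.Quotient.factor hIK =
      (e₂.symm : C →+* _).comp (φ'.comp (e₁ : _ →+* MvPolynomial (Fin m) B)) := by
    apply Ideal.Quotient.ringHom_ext
    ext x
    · change Ideal.Quotient.mk K (MvPolynomial.C (MvPolynomial.C x)) =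
        e₂.symm (φ' (e₁ (Ideal.Quotient.mk I (MvPolynomial.C (MvPolynomial.C x)))))
      rw [RingEquiv.eq_symm_apply]
      rfl
    · change Ideal.Quotient.mk K (MvPolynomial.C (MvPolynomial.X x)) =
        e₂.symm (φ' (e₁ (Ideal.Quotient.mk I (MvPolynomial.C (MvPolynomial.X x)))))
      rw [RingEquiv.eq_symm_apply]
      rfl
    · change Ideal.Quotient.mk K (MvPolynomial.X x) =
        e₂.symm (φ' (e₁ (Ideal.Quotient.mk I (MvPolynomial.X x))))
      rw [RingEquiv.eq_symm_apply]
      rfl
  have hFTD : @FTD (MvPolynomial (Fin m) (MvPolynomial (Fin n) A) ⧸ I)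
      (MvPolynomial (Fin m) (MvPolynomial (Fin n) A) ⧸ K) _ _ (Ideal.Quotient.factor hIK) := by
    rw [hfac]
    refine ftd_comp _ _ (ftd_comp _ _ ?_ (ftd_presentation hftd φ)) ?_
    · exact (Groth.Agent.Lib.Helper15.RelPC13.perfH_of_bijective _ e₁.bijective).2
    · exact (Groth.Agent.Lib.Helper15.RelPC13.perfH_of_bijective _ e₂.symm.bijective).2
  have hcore := core I K hIK hKR hFTD
  refine ⟨?_, ?_⟩
  · -- `g = φ' ∘ C`
    have hkerφ : LCI.IsKoszulRegularIdeal (RingHom.ker φ') := by
      have h1 := isKoszulRegularIdeal_map_ringEquiv e₁ _ hcore.1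
      rw [Ideal.map_map] at h1
      have h2 : (e₁ : _ →+* MvPolynomial (Fin m) B).comp (Ideal.Quotient.mk I) = π := by
        ext x <;> rfl
      rw [h2] at h1
      have h3 : K.map π = RingHom.ker φ' := by
        rw [hK, ← RingHom.comap_ker]
        exact Ideal.map_comap_of_surjective π hπ _
      rwa [h3] at h1
    have hφlci : IsLciHom φ' := isLciHom_of_surjective_of_kr φ' hφ hkerφ
    have hg : g = φ'.comp MvPolynomial.C := by
      ext b
      exact (hφC b).symm
    rw [hg]
    exact IsLciHom.comp (isLciHom_C m) hφlci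
  · intro r _
    set q : Ideal (MvPolynomial (Fin m) (MvPolynomial (Fin n) A)) := r.comap Ψ with hq
    haveI : q.IsPrime := Ideal.comap_isPrime _ _
    have hKq : K ≤ q := by
      intro x hx
      rw [hq, Ideal.mem_comap, (RingHom.mem_ker).1 hx]
      exact zero_mem _
    set q₀ : Ideal (MvPolynomial (Fin n) A) :=
      q.comap (algebraMap (MvPolynomial (Fin n) A) (MvPolynomial (Fin m) (MvPolynomial (Fin n) A)))
      with hq₀
    haveI : q₀.IsPrime := Ideal.comap_isPrime _ _
    set I₀ : Ideal (MvPolynomial (Fin n) A) := RingHom.ker γ with hI₀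
    have hII₀ : I = I₀.map (algebraMap (MvPolynomial (Fin n) A)
        (MvPolynomial (Fin m) (MvPolynomial (Fin n) A))) := by
      rw [hI, MvPolynomial.algebraMap_eq]
      exact MvPolynomial.ker_map γ
    have hI₀q₀ : I₀ ≤ q₀ := by
      intro x hx
      rw [hq₀, Ideal.mem_comap]
      apply hKq
      apply hIK
      rw [hII₀]
      exact Ideal.mem_map_of_mem _ hx
    obtain ⟨⟨rs, hrs, hreg⟩, -⟩ := local_regular I K hIK hKR hFTD q hKq
    obtain ⟨rs₀, hrs₀, hreg₀⟩ := Groth.Agent.Lib.Helper7.AvrDescent.descend_regular I₀ q q₀ rfl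
      hI₀q₀ rs (by rw [hrs, hII₀]) hreg.toIsWeaklyRegular
    obtain ⟨h, hh, a₀, ha₀KR, ha₀span⟩ := exists_away_kr q₀ (Localization.AtPrime q₀) I₀ rs₀
      hrs₀.symm hreg₀.toIsWeaklyRegular
    refine ⟨γ h, ?_, ?_⟩
    · rw [← hΨC]
      intro hmem
      apply hh
      rw [hq₀, Ideal.mem_comap, MvPolynomial.algebraMap_eq]
      exact hmem
    · intro B' _ _ _
      let ψ : Localization.Away h →+* B' := IsLocalization.Away.map (Localization.Away h) B' γ h
      have hψsurj : Function.Surjective ψ := by
        rw [IsLocalization.Away.map_surjective_iff]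
        intro b
        obtain ⟨x, rfl⟩ := hγ.2 b
        exact ⟨x, 0, by simp⟩
      have hψker : RingHom.ker ψ = I₀.map (algebraMap _ (Localization.Away h)) :=
        IsLocalization.ker_map (S := Localization.Away h) B' γ (Submonoid.map_powers γ h)
      have hψlci : IsLciHom ψ := by
        apply isLciHom_of_surjective_of_kr ψ hψsurj
        rw [hψker, ha₀span]
        exact isKoszulRegularIdeal_ofList _ ha₀KR
      have h1 : IsLciHom ((algebraMap (MvPolynomial (Fin n) A) (Localization.Away h)).comp
          (MvPolynomial.C : A →+* MvPolynomial (Fin n) A)) :=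
        IsLciHom.comp (isLciHom_C n) (isLciHom_algebraMap_away h)
      have h2 := IsLciHom.comp h1 hψlci
      have h3 : ψ.comp ((algebraMap (MvPolynomial (Fin n) A) (Localization.Away h)).comp
          (MvPolynomial.C : A →+* MvPolynomial (Fin n) A)) = (algebraMap B B').comp f := by
        ext a
        rw [RingHom.comp_apply, RingHom.comp_apply, RingHom.comp_apply, ← hγC]
        exact IsLocalization.map_eq _ (MvPolynomial.C a)
      rwa [h3] at h2

end Groth.Agent.Lib.Helper7.AvrRing
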