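import Mathlib
import Groth.Agent.Lib.Helper7.AvrRing2

/-!
# Avramov's theorem for a composite of surjections (helper7)

`A` Noetherian, `A → B → C` surjections, the kernel of the composite Koszul-regular and `C` of finite
tor dimension over `B`.  Then the kernel of `B → C` is Koszul-regular, and the kernel of `A → B`
is generated by a Koszul-regular sequence near every prime of `A` coming from `C`.
-/

set_option autoImplicit false
set_option linter.style.haveILetI false
universe u

namespace Groth.Agent.Lib.Helper7.AvrImm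

open RingTheory.Sequence Groth.Agent.Lib.Helper5.Lci Groth.Agent.Lib.Helper15.RelPC11
  Groth.Agent.Lib.Helper15.RelPC17 Groth.Agent.Lib.Helper7.AvrRing

variable {A B C : Type u} [CommRing A] [CommRing B] [CommRing C] [IsNoetherianRing A]

theorem avramov_surj (φ : A →+* B) (hφ : Function.Surjective φ) (ψ : B →+* C)
    (hψ : Function.Surjective ψ)
    (hK : LCI.IsKoszulRegularIdeal (RingHom.ker (ψ.comp φ))) (hftd : FTD ψ) :
    LCI.IsKoszulRegularIdeal (RingHom.ker ψ) ∧
    ∀ (q : Ideal A) [q.IsPrime], RingHom.ker (ψ.comp φ) ≤ q → ∃ g : A, g ∉ q ∧ ∃ a : List A,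
      LCI.IsKoszulRegularSeq (Localization.Away g) (a.map (algebraMap A (Localization.Away g))) ∧
      (RingHom.ker φ).map (algebraMap A (Localization.Away g)) =
        Ideal.ofList (a.map (algebraMap A (Localization.Away g))) := by
  have hΨ : Function.Surjective (ψ.comp φ) := hψ.comp hφ
  set I : Ideal A := RingHom.ker φ with hI
  set K : Ideal A := RingHom.ker (ψ.comp φ) with hKdef
  have hIK : I ≤ K := by
    intro x hx
    rw [hKdef, RingHom.mem_ker]
    change ψ (φ x) = 0
    rw [(RingHom.mem_ker).1 hx, map_zero]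
  let e₁ := RingHom.quotientKerEquivOfSurjective hφ
  let e₂ := RingHom.quotientKerEquivOfSurjective hΨ
  have hfac : Ideal.Quotient.factor hIK =
      (e₂.symm : C →+* _).comp (ψ.comp (e₁ : _ →+* B)) := by
    apply Ideal.Quotient.ringHom_ext
    ext x
    change Ideal.Quotient.mk K x = e₂.symm (ψ (e₁ (Ideal.Quotient.mk I x)))
    rw [RingEquiv.eq_symm_apply]
    rfl
  have hFTD : @FTD (A ⧸ I) (A ⧸ K) _ _ (Ideal.Quotient.factor hIK) := by
    rw [hfac]
    refine ftd_comp _ _ (ftd_comp _ _ ?_ hftd) ?_
    · exact (Groth.Agent.Lib.Helper15.RelPC13.perfH_of_bijective _ e₁.bijective).2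
    · exact (Groth.Agent.Lib.Helper15.RelPC13.perfH_of_bijective _ e₂.symm.bijective).2
  have hcore := core I K hIK hK hFTD
  refine ⟨?_, hcore.2⟩
  have h1 := isKoszulRegularIdeal_map_ringEquiv e₁ _ hcore.1
  rw [Ideal.map_map] at h1
  have h2 : (e₁ : _ →+* B).comp (Ideal.Quotient.mk I) = φ := by
    ext x
    rfl
  rw [h2] at h1
  have h3 : K.map φ = RingHom.ker ψ := by
    rw [hKdef, ← RingHom.comap_ker]
    exact Ideal.map_comap_of_surjective φ hφ _
  rwa [h3] at h1

/-- transporting a Koszul-regular generating sequence from `Localization.Away g` to any model of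
the localization. -/
theorem kr_transport {R : Type u} [CommRing R] (g : R) (R' : Type u) [CommRing R'] [Algebra R R']
    [IsLocalization.Away g R'] (J : Ideal R) (l : List (Localization.Away g))
    (hl : LCI.IsKoszulRegularSeq (Localization.Away g) l)
    (hJ : J.map (algebraMap R (Localization.Away g)) = Ideal.ofList l) :
    ∃ l' : List R', LCI.IsKoszulRegularSeq R' l' ∧ J.map (algebraMap R R') = Ideal.ofList l' := by
  let e : Localization.Away g ≃ₐ[R] R' :=
    IsLocalization.algEquiv (Submonoid.powers g) (Localization.Away g) R'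
  refine ⟨l.map (e : Localization.Away g →+* R'), ?_, ?_⟩
  · exact Groth.Agent.Lib.Helper5.KosBC.isKoszulRegularSeq_map _
      (RingHom.Flat.of_bijective e.bijective) l hl
  · rw [← Ideal.map_ofList, ← hJ, Ideal.map_map]
    congr 1
    ext x
    exact (e.commutes x).symm

end Groth.Agent.Lib.Helper7.AvrImm
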