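import Mathlib
import Groth.Agent.Lib.Helper7.AvrRing2
import Groth.Agent.Lib.Helper5.RegularProd
import Groth.Agent.Lib.helper11.GlDimRegular
import Groth.Agent.Lib.Helper16.TorAmp9
import Groth.Agent.S6946

/-!
# Avramov's theorem over a regular intermediate ring (helper7)

`A` Noetherian, `A → B` of finite type with `B` regular, `B → C` any ring map such that `A → C` is
a local complete intersection.  Then `B → C` is a local complete intersection, and `A → B` is one
near every prime of `B` in the image of `Spec C`.  Same proof as `AvrRing2.avramov_ring`; the finite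
tor dimension is supplied locally by Serre's theorem.
-/

set_option autoImplicit false
set_option linter.style.haveILetI false
universe u

namespace Groth.Agent.Lib.Helper7.AvrReg

open RingTheory.Sequence Groth.Agent.Lib.Helper5.Lci Groth.Agent.Lib.Helper7.AvrRing

/-- Serre: over a regular local ring every module has finite tor dimension (as in `S1005`). -/
theorem hasFiniteTorDim_of_regular (A : Type u) [CommRing A] [IsRegularLocalRing A]
    (M : Type u) [AddCommGroup M] [Module A M] : DRing.HasFiniteTorDim A M := by
  have hd : ringKrullDim A = ((IsLocalRing.maximalIdeal A).spanFinrank : ℕ) :=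
    (IsRegularLocalRing.spanFinrank_maximalIdeal).symm
  haveI := Groth.Agent.Lib.helper11.GlDimRegular.hasProjectiveDimensionLT_of_isRegularLocalRing
    (IsLocalRing.maximalIdeal A).spanFinrank hd (ModuleCat.of A M)
  exact ⟨(IsLocalRing.maximalIdeal A).spanFinrank,
    (Groth.Agent.S6946.result A M _).1.2
      (Groth.Agent.Lib.Helper16.TorAmp.torAmp_of_projDim (ModuleCat.of A M) _)⟩

section Core

variable {P : Type u} [CommRing P] [IsNoetherianRing P] (I K : Ideal P) (hIK : I ≤ K)

include hIK in
/-- the local statement at a prime containing `K` when `P/I` is regular. -/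
theorem local_regular_of_regular [IsRegularRing (P ⧸ I)] (hK : LCI.IsKoszulRegularIdeal K)
    (q : Ideal P) [q.IsPrime] (hKq : K ≤ q) :
    (∃ rs : List (Localization.AtPrime q),
        Ideal.ofList rs = I.map (algebraMap P (Localization.AtPrime q)) ∧
        IsRegular (Localization.AtPrime q) rs) ∧
    ∃ rs' : List (Localization.AtPrime q ⧸ I.map (algebraMap P (Localization.AtPrime q))),
      Ideal.ofList rs' = (K.map (algebraMap P (Localization.AtPrime q))).map
        (Ideal.Quotient.mk (I.map (algebraMap P (Localization.AtPrime q)))) ∧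
      IsRegular (Localization.AtPrime q ⧸ I.map (algebraMap P (Localization.AtPrime q))) rs' := by
  have hle : I.map (algebraMap P (Localization.AtPrime q)) ≤
      K.map (algebraMap P (Localization.AtPrime q)) := Ideal.map_mono hIK
  have hKm : K.map (algebraMap P (Localization.AtPrime q)) ≤
      IsLocalRing.maximalIdeal (Localization.AtPrime q) := by
    rw [Ideal.map_le_iff_le_comap]
    intro x hx
    exact (IsLocalization.AtPrime.to_map_mem_maximal_iff (Localization.AtPrime q) q x).2 (hKq hx)
  have hne : K.map (algebraMap P (Localization.AtPrime q)) ≠ ⊤ := fun h =>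
    (IsLocalRing.maximalIdeal.isMaximal (Localization.AtPrime q)).ne_top
      (top_le_iff.1 (h ▸ hKm))
  have hIne : I.map (algebraMap P (Localization.AtPrime q)) ≠ ⊤ := fun h =>
    hne (top_le_iff.1 (h ▸ hle))
  letI a2 : Algebra
      (Localization.AtPrime q ⧸ I.map (algebraMap P (Localization.AtPrime q)))
      (Localization.AtPrime q ⧸ K.map (algebraMap P (Localization.AtPrime q))) :=
    (Ideal.Quotient.factor hle).toAlgebra
  haveI : IsScalarTower (Localization.AtPrime q)
      (Localization.AtPrime q ⧸ I.map (algebraMap P (Localization.AtPrime q)))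
      (Localization.AtPrime q ⧸ K.map (algebraMap P (Localization.AtPrime q))) := by
    exact IsScalarTower.of_algebraMap_eq (R := Localization.AtPrime q)
      (S := Localization.AtPrime q ⧸ I.map (algebraMap P (Localization.AtPrime q)))
      (A := Localization.AtPrime q ⧸ K.map (algebraMap P (Localization.AtPrime q)))
      (fun x => rfl)
  -- the quotient `Λ/IΛ` is a regular local ring
  haveI : IsRegularRing
      (Localization.AtPrime q ⧸ I.map (algebraMap P (Localization.AtPrime q))) :=
    Groth.Agent.Lib.Helper5.RegularProd.isRegularRing_of_isLocalization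
      (Algebra.algebraMapSubmonoid (P ⧸ I) q.primeCompl) _
  haveI : Nontrivial
      (Localization.AtPrime q ⧸ I.map (algebraMap P (Localization.AtPrime q))) :=
    Ideal.Quotient.nontrivial_iff.2 hIne
  haveI : IsLocalRing
      (Localization.AtPrime q ⧸ I.map (algebraMap P (Localization.AtPrime q))) :=
    IsLocalRing.of_surjective' (Ideal.Quotient.mk _) Ideal.Quotient.mk_surjective
  haveI : IsRegularLocalRing
      (Localization.AtPrime q ⧸ I.map (algebraMap P (Localization.AtPrime q))) :=
    IsRegularLocalRing.of_isRegularRing_of_isLocalRing _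
  have hfd : DRing.HasFiniteTorDim
      (Localization.AtPrime q ⧸ I.map (algebraMap P (Localization.AtPrime q)))
      (Localization.AtPrime q ⧸ K.map (algebraMap P (Localization.AtPrime q))) :=
    hasFiniteTorDim_of_regular _ _
  obtain ⟨g, hg, a, haK, haKR, haspan⟩ := exists_global_gens K hK q hKq
  have haKRq := kr_atPrime_of_kr_away a g haKR q hg
  have haspanq : K.map (algebraMap P (Localization.AtPrime q)) =
      Ideal.ofList (a.map (algebraMap P (Localization.AtPrime q))) :=
    map_eq_ofList_of_isUnit K a g haspan _ (IsLocalization.map_units _ (⟨g, hg⟩ : q.primeCompl))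
  have hmem : ∀ x ∈ a.map (algebraMap P (Localization.AtPrime q)),
      x ∈ IsLocalRing.maximalIdeal (Localization.AtPrime q) := by
    intro x hx
    obtain ⟨y, hy, rfl⟩ := List.mem_map.1 hx
    exact hKm (Ideal.mem_map_of_mem _ (haK y hy))
  have hreg : IsRegular (Localization.AtPrime q) (a.map (algebraMap P (Localization.AtPrime q))) :=
    Groth.Agent.Lib.Helper5.KosReg.isRegular_of_koszulRegular _ hmem haKRq
  exact Groth.Agent.S2200.result _ _ hle hne hfd ⟨_, haspanq.symm, hreg⟩

end Core


section CoreLocal

variable {P : Type u} [CommRing P] [IsNoetherianRing P] (I K : Ideal P) (hIK : I ≤ K)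

/-- the conclusion of `S2200` at the local ring of a prime `q`. -/
def LocalReg (q : Ideal P) [q.IsPrime] : Prop :=
  (∃ rs : List (Localization.AtPrime q),
      Ideal.ofList rs = I.map (algebraMap P (Localization.AtPrime q)) ∧
      IsRegular (Localization.AtPrime q) rs) ∧
  ∃ rs' : List (Localization.AtPrime q ⧸ I.map (algebraMap P (Localization.AtPrime q))),
    Ideal.ofList rs' = (K.map (algebraMap P (Localization.AtPrime q))).map
      (Ideal.Quotient.mk (I.map (algebraMap P (Localization.AtPrime q)))) ∧
    IsRegular (Localization.AtPrime q ⧸ I.map (algebraMap P (Localization.AtPrime q))) rs'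

include hIK in
/-- `AvrRing.core`, from the local statements. -/
theorem core_of_local (hloc : ∀ (q : Ideal P) [q.IsPrime], K ≤ q → LocalReg I K q) :
    LCI.IsKoszulRegularIdeal (K.map (Ideal.Quotient.mk I)) := by
  apply isKoszulRegularIdeal_of_local
  intro qb hqb hle
  set q : Ideal P := qb.comap (Ideal.Quotient.mk I) with hq
  haveI : q.IsPrime := Ideal.comap_isPrime _ _
  have hKq : K ≤ q := Ideal.map_le_iff_le_comap.1 hle
  have hIq : I ≤ q := hIK.trans hKq
  have hqb' : q.map (Ideal.Quotient.mk I) = qb :=
    Ideal.map_comap_of_surjective _ Ideal.Quotient.mk_surjective qb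
  obtain ⟨-, rs', hrs', hreg'⟩ := hloc q hKq
  haveI hP' : (q.map (Ideal.Quotient.mk I)).IsPrime := hqb' ▸ hqb
  haveI : IsLocalization.AtPrime
      (Localization.AtPrime q ⧸ I.map (algebraMap P (Localization.AtPrime q))) qb := by
    unfold IsLocalization.AtPrime
    have : qb.primeCompl = (q.map (Ideal.Quotient.mk I)).primeCompl := by
      congr 1
      exact hqb'.symm
    rw [this, ← Groth.Agent.Lib.Helper7.LocQuotDim.algebraMapSubmonoid_primeCompl P q I hIq]
    infer_instance
  refine exists_away_kr (A := P ⧸ I) qb
    (Localization.AtPrime q ⧸ I.map (algebraMap P (Localization.AtPrime q)))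
    (K.map (Ideal.Quotient.mk I)) rs' ?_ hreg'.toIsWeaklyRegular
  rw [hrs', Ideal.map_map, Ideal.map_map]
  rfl

end CoreLocal

section Main

open Groth.Agent.Lib.Helper15.RelPC11 Groth.Agent.Lib.Helper15.RelPC17

variable {A B C : Type u} [CommRing A] [CommRing B] [CommRing C] [IsNoetherianRing A]

/-- **Avramov's theorem, regular intermediate ring**: if `A → B` is of finite type with `B` regular
and `A → B → C` is a local complete intersection, then so is `B → C`, and `A → B` is one near the
image of `Spec C`. -/
theorem avramov_ring_regular [IsRegularRing B] (f : A →+* B) (g : B →+* C) (hf : f.FiniteType)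
    (hlci : IsLciHom (g.comp f)) :
    IsLciHom g ∧ ∀ (r : Ideal C) [r.IsPrime], ∃ b : B, g b ∉ r ∧
      ∀ (B' : Type u) [CommRing B'] [Algebra B B'] [IsLocalization.Away b B'],
        IsLciHom ((algebraMap B B').comp f) := by
  have hgft : g.FiniteType := RingHom.FiniteType.of_comp_finiteType hlci.finiteType
  obtain ⟨m, φ', hφ'⟩ := exists_isPres_of_finiteType hgft
  have hφ : Function.Surjective φ' := hφ'.2
  obtain ⟨n, γ, hγ⟩ := exists_isPres_of_finiteType hf
  have hφC : ∀ b : B, φ' (MvPolynomial.C b) = g b := fun b => RingHom.congr_fun hφ'.1 b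
  let π : MvPolynomial (Fin m) (MvPolynomial (Fin n) A) →+* MvPolynomial (Fin m) B :=
    MvPolynomial.map γ
  have hπ : Function.Surjective π := MvPolynomial.map_surjective γ hγ.2
  let Ψ : MvPolynomial (Fin m) (MvPolynomial (Fin n) A) →+* C := φ'.comp π
  have hΨ : Function.Surjective Ψ := hφ.comp hπ
  have hΨC : ∀ x : MvPolynomial (Fin n) A, Ψ (MvPolynomial.C x) = g (γ x) := fun x => by
    change φ' (MvPolynomial.map γ (MvPolynomial.C x)) = _
    rw [MvPolynomial.map_C, hφC]
  have hγC : ∀ a : A, γ (MvPolynomial.C a) = f a := fun a => RingHom.congr_fun hγ.1 a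
  -- `Ψ` is lci
  have hΨlci : IsLciHom Ψ := by
    apply IsLciHom.of_comp_C Ψ
    apply IsLciHom.of_comp_C (Ψ.comp MvPolynomial.C)
    have : (Ψ.comp MvPolynomial.C).comp MvPolynomial.C = g.comp f := by
      ext a
      change Ψ (MvPolynomial.C (MvPolynomial.C a)) = g (f a)
      rw [hΨC, hγC]
    rw [this]
    exact hlci
  set I : Ideal (MvPolynomial (Fin m) (MvPolynomial (Fin n) A)) := RingHom.ker π with hI
  set K : Ideal (MvPolynomial (Fin m) (MvPolynomial (Fin n) A)) := RingHom.ker Ψ with hK
  have hIK : I ≤ K := by
    intro x hx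
    rw [hK, RingHom.mem_ker]
    change φ' (π x) = 0
    rw [(RingHom.mem_ker).1 hx, map_zero]
  have hKR : LCI.IsKoszulRegularIdeal K := IsLciHom.ker_of_surjective hΨlci hΨ
  let e₁ := RingHom.quotientKerEquivOfSurjective hπ
  haveI : IsRegularRing (MvPolynomial (Fin m) (MvPolynomial (Fin n) A) ⧸ I) :=
    IsRegularRing.of_ringEquiv e₁.symm
  have hloc : ∀ (q : Ideal (MvPolynomial (Fin m) (MvPolynomial (Fin n) A))) [q.IsPrime],
      K ≤ q → LocalReg I K q := fun q _ hKq => local_regular_of_regular I K hIK hKR q hKq
  have hcore := core_of_local I K hIK hloc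
  refine ⟨?_, ?_⟩
  · -- `g = φ' ∘ C`
    have hkerφ : LCI.IsKoszulRegularIdeal (RingHom.ker φ') := by
      have h1 := isKoszulRegularIdeal_map_ringEquiv e₁ _ hcore
      rw [Ideal.map_map] at h1
      have h2 : (e₁ : _ →+* MvPolynomial (Fin m) B).comp (Ideal.Quotient.mk I) = π := by
        ext x <;> rfl
      rw [h2] at h1
      have h3 : K.map π = RingHom.ker φ' := by
        rw [hK, ← RingHom.comap_ker]
        exact Ideal.map_comap_of_surjective π hπ _
      rwa [h3] at h1
    have hφlci : IsLciHom φ' := isLciHom_of_surjective_of_kr φ' hφ hkerφ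
    have hg : g = φ'.comp MvPolynomial.C := by
      ext b
      exact (hφC b).symm
    rw [hg]
    exact IsLciHom.comp (isLciHom_C m) hφlci
  · intro r _
    set q : Ideal (MvPolynomial (Fin m) (MvPolynomial (Fin n) A)) := r.comap Ψ with hq
    haveI : q.IsPrime := Ideal.comap_isPrime _ _
    have hKq : K ≤ q := by
      intro x hx
      rw [hq, Ideal.mem_comap, (RingHom.mem_ker).1 hx]
      exact zero_mem _
    set q₀ : Ideal (MvPolynomial (Fin n) A) :=
      q.comap (algebraMap (MvPolynomial (Fin n) A) (MvPolynomial (Fin m) (MvPolynomial (Fin n) A)))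
      with hq₀
    haveI : q₀.IsPrime := Ideal.comap_isPrime _ _
    set I₀ : Ideal (MvPolynomial (Fin n) A) := RingHom.ker γ with hI₀
    have hII₀ : I = I₀.map (algebraMap (MvPolynomial (Fin n) A)
        (MvPolynomial (Fin m) (MvPolynomial (Fin n) A))) := by
      rw [hI, MvPolynomial.algebraMap_eq]
      exact MvPolynomial.ker_map γ
    have hI₀q₀ : I₀ ≤ q₀ := by
      intro x hx
      rw [hq₀, Ideal.mem_comap]
      apply hKq
      apply hIK
      rw [hII₀]
      exact Ideal.mem_map_of_mem _ hx
    obtain ⟨⟨rs, hrs, hreg⟩, -⟩ := hloc q hKq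
    obtain ⟨rs₀, hrs₀, hreg₀⟩ := Groth.Agent.Lib.Helper7.AvrDescent.descend_regular I₀ q q₀ rfl
      hI₀q₀ rs (by rw [hrs, hII₀]) hreg.toIsWeaklyRegular
    obtain ⟨h, hh, a₀, ha₀KR, ha₀span⟩ := exists_away_kr q₀ (Localization.AtPrime q₀) I₀ rs₀
      hrs₀.symm hreg₀.toIsWeaklyRegular
    refine ⟨γ h, ?_, ?_⟩
    · rw [← hΨC]
      intro hmem
      apply hh
      rw [hq₀, Ideal.mem_comap, MvPolynomial.algebraMap_eq]
      exact hmem
    · intro B' _ _ _
      let ψ : Localization.Away h →+* B' := IsLocalization.Away.map (Localization.Away h) B' γ h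
      have hψsurj : Function.Surjective ψ := by
        rw [IsLocalization.Away.map_surjective_iff]
        intro b
        obtain ⟨x, rfl⟩ := hγ.2 b
        exact ⟨x, 0, by simp⟩
      have hψker : RingHom.ker ψ = I₀.map (algebraMap _ (Localization.Away h)) :=
        IsLocalization.ker_map (S := Localization.Away h) B' γ (Submonoid.map_powers γ h)
      have hψlci : IsLciHom ψ := by
        apply isLciHom_of_surjective_of_kr ψ hψsurj
        rw [hψker, ha₀span]
        exact isKoszulRegularIdeal_ofList _ ha₀KR
      have h1 : IsLciHom ((algebraMap (MvPolynomial (Fin n) A) (Localization.Away h)).comp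
          (MvPolynomial.C : A →+* MvPolynomial (Fin n) A)) :=
        IsLciHom.comp (isLciHom_C n) (isLciHom_algebraMap_away h)
      have h2 := IsLciHom.comp h1 hψlci
      have h3 : ψ.comp ((algebraMap (MvPolynomial (Fin n) A) (Localization.Away h)).comp
          (MvPolynomial.C : A →+* MvPolynomial (Fin n) A)) = (algebraMap B B').comp f := by
        ext a
        rw [RingHom.comp_apply, RingHom.comp_apply, RingHom.comp_apply, ← hγC]
        exact IsLocalization.map_eq _ (MvPolynomial.C a)
      rwa [h3] at h2

end Main

end Groth.Agent.Lib.Helper7.AvrReg
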