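import Mathlib
import Groth.Agent.Lib.Helper5.LciS
import Groth.Agent.Lib.Helper5.RegDescA

/-!
# `Synt.IsKoszulAt` from a single local complete intersection chart (helper7)

A variant of `Helper5.Lci.isKoszulAt_of_lciMor_aux` which only asks the ring map of one pair of
affine opens to be a local complete intersection.
-/

set_option autoImplicit false
universe u

namespace Groth.Agent.Lib.Helper7.AvrSch

open AlgebraicGeometry CategoryTheory Limits Groth.Agent.Lib.Helper5.Lci
open Groth.Agent.Lib.Helper5.RegImmA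

variable {X Y : Scheme.{u}}

theorem isKoszulAt_of_isLciHom_appLE (f : X ⟶ Y) (x : X) {V : Y.Opens}
    (hV : IsAffineOpen V) {U : X.Opens} (hU : IsAffineOpen U) (hxU : x ∈ U) (hUV : U ≤ f ⁻¹ᵁ V)
    (h1 : IsLciHom (f.appLE V U hUV).hom) : Synt.IsKoszulAt f x := by
  obtain ⟨n, γ, hγ, hk⟩ := h1.exists_isPres
  let P : Scheme.{u} := Spec (CommRingCat.of (MvPolynomial (Fin n) Γ(Y, V)))
  let j : Spec Γ(X, U) ⟶ P := Spec.map (CommRingCat.ofHom γ)
  let i : (U : Scheme.{u}) ⟶ P := hU.isoSpec.hom ≫ j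
  let c : P ⟶ Spec Γ(Y, V) :=
    Spec.map (CommRingCat.ofHom (MvPolynomial.C : Γ(Y, V) →+* MvPolynomial (Fin n) Γ(Y, V)))
  let π : P ⟶ Y := c ≫ hV.fromSpec
  have hfac : i ≫ π = U.ι ≫ f := by
    have h2 : j ≫ c = Spec.map (f.appLE V U hUV) := by
      rw [← Spec.map_comp]
      congr 1
      ext a
      exact RingHom.congr_fun hγ.1 a
    change (hU.isoSpec.hom ≫ j) ≫ c ≫ hV.fromSpec = _
    rw [Category.assoc, ← Category.assoc j, h2, IsAffineOpen.SpecMap_appLE_fromSpec f hV hU hUV,
      IsAffineOpen.isoSpec_hom_fromSpec_assoc]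
  have hjc : IsClosedImmersion j := IsClosedImmersion.spec_of_surjective _ hγ.2
  have hsm : Smooth π := by
    have : Smooth c := smooth_Spec_map_C Γ(Y, V) n
    infer_instance
  have hlft : LocallyOfFiniteType (U.ι ≫ f) := by
    rw [← hfac]
    infer_instance
  refine ⟨U, P, i, π, hxU, hlft, ?_, hsm, hfac⟩
  have : IsImmersion i := inferInstance
  apply isRegularImmersion_of_lciMor
  apply LciMor.comp_mem
  · exact lciMor_of_smooth _
  · rw [HasRingHomProperty.Spec_iff (P := LciMor)]
    exact isLciHom_of_surjective_of_kr γ hγ.2 hk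

end Groth.Agent.Lib.Helper7.AvrSch
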