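import Mathlib
import Groth.Agent.Lib.Helper7.AvrFlat
import Groth.Agent.Lib.Helper7.AvrSch

/-!
# Avramov's theorem for schemes, flat variant (helper7)

`S` locally Noetherian, `g : Y ⟶ S` locally of finite type, `f : X ⟶ Y` flat and `f ≫ g` Koszul at
every point.  Then `f` is Koszul at every point and `g` is Koszul at the points of `f(X)`.
-/

set_option autoImplicit false
set_option linter.style.haveILetI false
universe u

namespace Groth.Agent.Lib.Helper7.AvrSchFlat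

open AlgebraicGeometry CategoryTheory Limits Groth.Agent.Lib.Helper5.Lci
  Groth.Agent.Lib.Helper15.RelPC11

theorem ftd_of_ringHom_flat {A B : Type u} [CommRing A] [CommRing B] (φ : A →+* B) (hφ : φ.Flat) :
    FTD φ := by
  letI := φ.toAlgebra
  haveI : Module.Flat A B := hφ
  have h := ftd_of_flat (A := A) (B := B)
  rwa [RingHom.algebraMap_toAlgebra] at h

theorem koszulAt_of_flat {X Y S : Scheme.{u}} (f : X ⟶ Y) (g : Y ⟶ S) [IsLocallyNoetherian S]
    [LocallyOfFiniteType g] [Flat f] (h : ∀ x : X, Synt.IsKoszulAt (f ≫ g) x) :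
    (∀ x : X, Synt.IsKoszulAt f x) ∧ ∀ x : X, Synt.IsKoszulAt g (f x) := by
  have hL : LciMor (f ≫ g) := lciMor_of_isKoszulAt _ h
  have key : ∀ x : X, Synt.IsKoszulAt f x ∧ Synt.IsKoszulAt g (f x) := by
    intro x
    obtain ⟨_, ⟨W, hW, rfl⟩, hxW, -⟩ := S.isBasis_affineOpens.exists_subset_of_mem_open
      (Set.mem_univ (g (f x))) isOpen_univ
    obtain ⟨_, ⟨V, hV, rfl⟩, hxV, hVW⟩ := Y.isBasis_affineOpens.exists_subset_of_mem_open
      (show f x ∈ (g ⁻¹ᵁ W : Set Y) from hxW) (g ⁻¹ᵁ W).2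
    obtain ⟨_, ⟨U, hU, rfl⟩, hxU, hUV⟩ := X.isBasis_affineOpens.exists_subset_of_mem_open
      (show x ∈ (f ⁻¹ᵁ V : Set X) from hxV) (f ⁻¹ᵁ V).2
    have : IsNoetherianRing Γ(S, W) := IsLocallyNoetherian.component_noetherian ⟨W, hW⟩
    have hft : (g.appLE W V hVW).hom.FiniteType := g.finiteType_appLE hW hV hVW
    have hflat : (f.appLE V U hUV).hom.Flat :=
      HasRingHomProperty.appLE (P := @Flat) f inferInstance ⟨V, hV⟩ ⟨U, hU⟩ hUV
    have hftd := ftd_of_ringHom_flat _ hflat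
    have hcomp := HasRingHomProperty.appLE (P := LciMor) (f ≫ g) hL ⟨W, hW⟩ ⟨U, hU⟩
      (hUV.trans ((TopologicalSpace.Opens.map f.base).map (homOfLE hVW)).le)
    rw [← Scheme.Hom.appLE_comp_appLE f g W V U hVW hUV] at hcomp
    obtain ⟨h1, h2⟩ := Groth.Agent.Lib.Helper7.AvrFlat.avramov_ring_ftd (g.appLE W V hVW).hom
      (f.appLE V U hUV).hom hft hftd hcomp
    refine ⟨Groth.Agent.Lib.Helper7.AvrSch.isKoszulAt_of_isLciHom_appLE f x hV hU hxU hUV h1, ?_⟩
    obtain ⟨b, hb, hB'⟩ := h2 (hU.primeIdealOf ⟨x, hxU⟩).asIdeal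
    have hbV : b ∉ (hV.primeIdealOf ⟨f x, hUV hxU⟩).asIdeal := by
      rw [← IsAffineOpen.comap_primeIdealOf_appLE V hV U hU hUV hxU]
      exact hb
    have hfx : f x ∈ Y.basicOpen b := by
      have := (Groth.Agent.Lib.Helper5.RegDesc.mem_basicOpen_fromSpec_iff hV
        (hV.primeIdealOf ⟨f x, hUV hxU⟩) b).2 hbV
      rwa [hV.fromSpec_primeIdealOf] at this
    have hDW : Y.basicOpen b ≤ g ⁻¹ᵁ W := (Y.basicOpen_le b).trans hVW
    have := hV.isLocalization_basicOpen b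
    have h3 := hB' Γ(Y, Y.basicOpen b)
    have h4 : (algebraMap Γ(Y, V) Γ(Y, Y.basicOpen b)).comp (g.appLE W V hVW).hom =
        (g.appLE W (Y.basicOpen b) hDW).hom := by
      rw [← Scheme.Hom.appLE_map g hVW (homOfLE (Y.basicOpen_le b)).op]
      rfl
    rw [h4] at h3
    exact Groth.Agent.Lib.Helper7.AvrSch.isKoszulAt_of_isLciHom_appLE g (f x) hW
      (hV.basicOpen b) hfx hDW h3
  exact ⟨fun x => (key x).1, fun x => (key x).2⟩

end Groth.Agent.Lib.Helper7.AvrSchFlat
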