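import Mathlib
import Groth.Agent.Lib.Helper9.BlowRegN1

/-!
# Presentation of the charts of the blow-up along an `H_1`-regular sequence (helper7)

For an `H_1`-regular sequence `f` (every relation `∑ a_i f_i = 0` is a combination of the Koszul
relations) the chart `A[I/f_{i₀}]` of the blow-up of `I = (f)` is presented as
`A[T_i : i ≠ i₀] / (f_{i₀} T_i - f_i)`; in particular it is a finitely presented `A`-algebra.
-/

set_option autoImplicit false
set_option maxHeartbeats 800000
universe u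

namespace Groth.Agent.Lib.Helper7.BlowRegPres

open MvPolynomial Groth.Agent.Lib.Helper29.AffBlow Groth.Agent.Lib.Helper9.BlowProper
  Groth.Agent.Lib.Helper9.BlowRegN

variable {A : Type u} [CommRing A] {c : ℕ} (f : Fin c → A) (i₀ : Fin c)

/-- the relation `f_{i₀} T_i - f_i` -/
noncomputable def rel (i : Idx i₀) : MvPolynomial (Idx i₀) A :=
  C (f i₀) * X i - C (f i.1)

/-- the ideal of relations -/
noncomputable def relIdeal : Ideal (MvPolynomial (Idx i₀) A) :=
  Ideal.span (Set.range (rel f i₀))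

lemma rel_mem (i : Idx i₀) : rel f i₀ i ∈ relIdeal f i₀ := Ideal.subset_span ⟨i, rfl⟩

/-- the coordinate `T_k` (`T_{i₀} = 1`) -/
noncomputable def T (k : Fin c) : MvPolynomial (Idx i₀) A :=
  if h : k = i₀ then 1 else X ⟨k, h⟩

lemma T_self : T (A := A) i₀ i₀ = 1 := dif_pos rfl

lemma T_of_ne (i : Idx i₀) : T (A := A) i₀ i.1 = X i := by
  unfold T
  rw [dif_neg i.2]

/-- modulo the relations, `f_k = f_{i₀} T_k` -/
lemma C_sub_mem (k : Fin c) : C (f k) - C (f i₀) * T i₀ k ∈ relIdeal f i₀ := by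
  by_cases h : k = i₀
  · subst h
    rw [T_self, mul_one, sub_self]
    exact Ideal.zero_mem _
  · have := rel_mem f i₀ ⟨k, h⟩
    have h2 : C (f k) - C (f i₀) * T i₀ k = -(rel f i₀ ⟨k, h⟩) := by
      unfold rel
      rw [show T (A := A) i₀ k = X ⟨k, h⟩ from T_of_ne i₀ ⟨k, h⟩]
      ring
    rw [h2]
    exact (Ideal.neg_mem_iff _).2 this

lemma ev_T (k : Fin c) : ev f i₀ (T i₀ k) = fr (II f) (f i₀) (f k) := by
  by_cases h : k = i₀
  · subst h
    rw [T_self, map_one, fr_self (f_mem f k)]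
  · rw [show T (A := A) i₀ k = X ⟨k, h⟩ from T_of_ne i₀ ⟨k, h⟩, ev, aeval_X]

lemma relIdeal_le_ker : relIdeal f i₀ ≤ RingHom.ker (ev f i₀) := by
  unfold relIdeal
  rw [Ideal.span_le]
  rintro _ ⟨i, rfl⟩
  change rel f i₀ i ∈ RingHom.ker (ev f i₀)
  rw [RingHom.mem_ker]
  unfold rel
  rw [map_sub, map_mul, ev, aeval_C, aeval_C, aeval_X, ← alg_eq_mul_fr (f_mem f i.1), sub_self]

/-- the linear functional `v ↦ ∑ v_k T_k` modulo the relations -/
noncomputable def ψ : (Fin c → A) →ₗ[A] (MvPolynomial (Idx i₀) A ⧸ relIdeal f i₀) where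
  toFun v := Ideal.Quotient.mk _ (∑ k, C (v k) * T i₀ k)
  map_add' v w := by
    rw [← map_add, ← Finset.sum_add_distrib]
    congr 1
    refine Finset.sum_congr rfl fun k _ => ?_
    rw [Pi.add_apply, map_add, add_mul]
  map_smul' r v := by
    rw [RingHom.id_apply]
    have h1 : r • (Ideal.Quotient.mk (relIdeal f i₀)) (∑ k, C (v k) * T i₀ k) =
        Ideal.Quotient.mk (relIdeal f i₀) (C r * ∑ k, C (v k) * T i₀ k) := by
      rw [← smul_eq_C_mul]
      rfl
    rw [h1, Finset.mul_sum]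
    congr 1
    refine Finset.sum_congr rfl fun k _ => ?_
    rw [Pi.smul_apply, smul_eq_mul, map_mul, mul_assoc]

lemma ψ_apply (v : Fin c → A) :
    ψ f i₀ v = Ideal.Quotient.mk _ (∑ k, C (v k) * T i₀ k) := rfl

/-- `ψ` kills the Koszul relations -/
lemma ψ_koszul (p q : Fin c) : ψ f i₀ (Pi.single p (f q) - Pi.single q (f p)) = 0 := by
  classical
  rw [map_sub, ψ_apply, ψ_apply, ← map_sub, Ideal.Quotient.eq_zero_iff_mem]
  have h1 : ∀ (a : Fin c) (r : A), ∑ k, C ((Pi.single a r : Fin c → A) k) * T (A := A) i₀ k =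
      C r * T i₀ a := by
    intro a r
    rw [Finset.sum_eq_single a]
    · rw [Pi.single_eq_same]
    · intro b _ hb
      rw [Pi.single_eq_of_ne hb, map_zero, zero_mul]
    · intro h; exact absurd (Finset.mem_univ a) h
  rw [h1, h1]
  have e : C (f q) * T i₀ p - C (f p) * T i₀ q =
      (C (f q) - C (f i₀) * T i₀ q) * T i₀ p - (C (f p) - C (f i₀) * T i₀ p) * T i₀ q := by ring
  rw [e]
  exact Ideal.sub_mem _ (Ideal.mul_mem_right _ _ (C_sub_mem f i₀ q))
    (Ideal.mul_mem_right _ _ (C_sub_mem f i₀ p))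

/-- `ψ` kills all relations of an `H_1`-regular sequence -/
lemma ψ_eq_zero (hH : CAlgX.IsH1Regular f) (v : Fin c → A) (hv : ∑ k, v k * f k = 0) :
    ψ f i₀ v = 0 := by
  have h1 := hH v hv
  have h2 : Submodule.span A {v : Fin c → A | ∃ i j : Fin c,
      v = Pi.single i (f j) - Pi.single j (f i)} ≤ LinearMap.ker (ψ f i₀) := by
    rw [Submodule.span_le]
    rintro _ ⟨p, q, rfl⟩
    exact ψ_koszul f i₀ p q
  exact h2 h1

/-- polynomial relations are killed as well -/
lemma sum_mul_T_mem (hH : CAlgX.IsH1Regular f) (a : Fin c → MvPolynomial (Idx i₀) A)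
    (ha : ∑ k, a k * C (f k) = 0) : ∑ k, a k * T i₀ k ∈ relIdeal f i₀ := by
  classical
  set S : Finset (Idx i₀ →₀ ℕ) := Finset.univ.biUnion fun k => (a k).support with hS
  have hak : ∀ k, a k = ∑ d ∈ S, monomial d (coeff d (a k)) := by
    intro k
    conv_lhs => rw [(a k).as_sum]
    refine Finset.sum_subset ?_ ?_
    · intro d hd
      exact Finset.mem_biUnion.2 ⟨k, Finset.mem_univ k, hd⟩
    · intro d _ hd
      rw [notMem_support_iff.1 hd, monomial_zero]
  have hrel : ∀ d, ∑ k, coeff d (a k) * f k = 0 := by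
    intro d
    have := congrArg (coeff d) ha
    rw [coeff_sum, coeff_zero] at this
    rw [← this]
    refine Finset.sum_congr rfl fun k _ => ?_
    rw [mul_comm (a k), coeff_C_mul, mul_comm]
  have hmem : ∀ d, ∑ k, C (coeff d (a k)) * T (A := A) i₀ k ∈ relIdeal f i₀ := by
    intro d
    have := ψ_eq_zero f i₀ hH (fun k => coeff d (a k)) (hrel d)
    rw [ψ_apply, Ideal.Quotient.eq_zero_iff_mem] at this
    exact this
  have e : ∑ k, a k * T i₀ k =
      ∑ d ∈ S, monomial d (1 : A) * ∑ k, C (coeff d (a k)) * T (A := A) i₀ k := by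
    calc ∑ k, a k * T i₀ k = ∑ k, (∑ d ∈ S, monomial d (coeff d (a k))) * T i₀ k := by
          refine Finset.sum_congr rfl fun k _ => ?_
          rw [← hak k]
      _ = ∑ k, ∑ d ∈ S, monomial d (1 : A) * (C (coeff d (a k)) * T i₀ k) := by
          refine Finset.sum_congr rfl fun k _ => ?_
          rw [Finset.sum_mul]
          refine Finset.sum_congr rfl fun d _ => ?_
          rw [← mul_assoc, mul_comm (monomial d (1 : A)), C_mul_monomial, mul_one]
      _ = ∑ d ∈ S, ∑ k, monomial d (1 : A) * (C (coeff d (a k)) * T i₀ k) := Finset.sum_comm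
      _ = _ := by
          refine Finset.sum_congr rfl fun d _ => ?_
          rw [Finset.mul_sum]
  rw [e]
  exact Ideal.sum_mem _ fun d _ => Ideal.mul_mem_left _ _ (hmem d)

/-- **`f_{i₀}` is a nonzerodivisor modulo the relations**, for an `H_1`-regular sequence -/
theorem mem_of_C_mul_mem (hH : CAlgX.IsH1Regular f) (Q : MvPolynomial (Idx i₀) A)
    (hQ : C (f i₀) * Q ∈ relIdeal f i₀) : Q ∈ relIdeal f i₀ := by
  classical
  obtain ⟨h, hh⟩ := (Ideal.mem_span_range_iff_exists_fun (R := MvPolynomial (Idx i₀) A)).1 hQ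
  -- the relation
  let a : Fin c → MvPolynomial (Idx i₀) A := fun k =>
    if hk : k = i₀ then Q - ∑ i, h i * X i else h ⟨k, hk⟩
  have hsplit : ∀ (F : Fin c → MvPolynomial (Idx i₀) A),
      ∑ k, F k = F i₀ + ∑ i : Idx i₀, F i.1 := by
    intro F
    rw [← Finset.add_sum_erase Finset.univ F (Finset.mem_univ i₀)]
    congr 1
    refine (Finset.sum_bij (fun (i : Idx i₀) _ => i.1) ?_ ?_ ?_ ?_).symm
    · intro i _
      exact Finset.mem_erase.2 ⟨i.2, Finset.mem_univ _⟩
    · intro i _ j _ hij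
      exact Subtype.ext hij
    · intro k hk
      exact ⟨⟨k, (Finset.mem_erase.1 hk).1⟩, Finset.mem_univ _, rfl⟩
    · intro i _
      rfl
  have ha0 : a i₀ = Q - ∑ i, h i * X i := dif_pos rfl
  have hai : ∀ i : Idx i₀, a i.1 = h i := fun i => by
    change (if hk : i.1 = i₀ then Q - ∑ i, h i * X i else h ⟨i.1, hk⟩) = h i
    rw [dif_neg i.2]
  have harel : ∑ k, a k * C (f k) = 0 := by
    rw [hsplit, ha0]
    have h1 : ∑ i : Idx i₀, a i.1 * C (f i.1) = ∑ i : Idx i₀, h i * C (f i.1) :=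
      Finset.sum_congr rfl fun i _ => by rw [hai]
    rw [h1]
    have h2 : C (f i₀) * Q = ∑ i, h i * (C (f i₀) * X i - C (f i.1)) := hh.symm
    have h3 : ∑ i, h i * (C (f i₀) * X i - C (f i.1)) =
        C (f i₀) * ∑ i, h i * X i - ∑ i : Idx i₀, h i * C (f i.1) := by
      rw [Finset.mul_sum, ← Finset.sum_sub_distrib]
      refine Finset.sum_congr rfl fun i _ => ?_
      ring
    rw [h3] at h2
    have : (Q - ∑ i, h i * X i) * C (f i₀) + ∑ i : Idx i₀, h i * C (f i.1) =
        C (f i₀) * Q - (C (f i₀) * ∑ i, h i * X i - ∑ i : Idx i₀, h i * C (f i.1)) := by ring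
    rw [this, h2, sub_self]
  have hmem := sum_mul_T_mem f i₀ hH a harel
  rw [hsplit, ha0, T_self, mul_one] at hmem
  have h4 : ∑ i : Idx i₀, a i.1 * T (A := A) i₀ i.1 = ∑ i : Idx i₀, h i * X i :=
    Finset.sum_congr rfl fun i _ => by rw [hai, T_of_ne]
  rw [h4, sub_add_cancel] at hmem
  exact hmem

theorem mem_of_C_pow_mul_mem (hH : CAlgX.IsH1Regular f) (n : ℕ) (Q : MvPolynomial (Idx i₀) A)
    (hQ : C (f i₀) ^ n * Q ∈ relIdeal f i₀) : Q ∈ relIdeal f i₀ := by
  induction n with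
  | zero => rwa [pow_zero, one_mul] at hQ
  | succ n ih =>
    rw [pow_succ', mul_assoc] at hQ
    exact ih (mem_of_C_mul_mem f i₀ hH _ hQ)

/-- every polynomial becomes constant modulo the relations after multiplication by a power of
`f_{i₀}` -/
theorem exists_pow_mul_sub_C_mem (P : MvPolynomial (Idx i₀) A) :
    ∃ (N : ℕ) (a : A), C (f i₀) ^ N * P - C a ∈ relIdeal f i₀ := by
  induction P using MvPolynomial.induction_on with
  | C r => exact ⟨0, r, by rw [pow_zero, one_mul, sub_self]; exact Ideal.zero_mem _⟩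
  | add p q hp hq =>
    obtain ⟨N₁, a₁, h₁⟩ := hp
    obtain ⟨N₂, a₂, h₂⟩ := hq
    refine ⟨N₁ + N₂, f i₀ ^ N₂ * a₁ + f i₀ ^ N₁ * a₂, ?_⟩
    have e : C (f i₀) ^ (N₁ + N₂) * (p + q) - C (f i₀ ^ N₂ * a₁ + f i₀ ^ N₁ * a₂) =
        C (f i₀) ^ N₂ * (C (f i₀) ^ N₁ * p - C a₁) + C (f i₀) ^ N₁ * (C (f i₀) ^ N₂ * q - C a₂) := by
      simp only [map_add, map_mul, map_pow]
      ring
    rw [e]
    exact Ideal.add_mem _ (Ideal.mul_mem_left _ _ h₁) (Ideal.mul_mem_left _ _ h₂)
  | mul_X p i hp =>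
    obtain ⟨N, a, h⟩ := hp
    refine ⟨N + 1, a * f i.1, ?_⟩
    have e : C (f i₀) ^ (N + 1) * (p * X i) - C (a * f i.1) =
        (C (f i₀) ^ N * p - C a) * (C (f i₀) * X i) + C a * rel f i₀ i := by
      unfold rel
      simp only [map_mul]
      ring
    rw [e]
    exact Ideal.add_mem _ (Ideal.mul_mem_right _ _ h) (Ideal.mul_mem_left _ _ (rel_mem f i₀ i))

/-- **the kernel of the evaluation map is the ideal of relations** -/
theorem ker_ev (hH : CAlgX.IsH1Regular f) : RingHom.ker (ev f i₀) = relIdeal f i₀ := by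
  apply le_antisymm
  · intro P hP
    rw [RingHom.mem_ker] at hP
    obtain ⟨N, a, hNa⟩ := exists_pow_mul_sub_C_mem f i₀ P
    have h1 : ev f i₀ (C (f i₀) ^ N * P - C a) = 0 :=
      (RingHom.mem_ker).1 (relIdeal_le_ker f i₀ hNa)
    rw [map_sub, map_mul, hP, mul_zero, zero_sub, neg_eq_zero, ev, aeval_C] at h1
    have h2 : algebraMap A (Localization.Away (f i₀)) a = 0 := by
      have := congrArg Subtype.val h1
      exact this
    obtain ⟨⟨_, k, rfl⟩, hk⟩ :=
      (IsLocalization.map_eq_zero_iff (Submonoid.powers (f i₀)) (Localization.Away (f i₀)) a).1 h2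
    have hk' : f i₀ ^ k * a = 0 := hk
    have h3 : C (f i₀) ^ (k + N) * P ∈ relIdeal f i₀ := by
      have e : C (f i₀) ^ (k + N) * P = C (f i₀) ^ k * (C (f i₀) ^ N * P - C a) +
          C (f i₀ ^ k * a) := by
        simp only [map_mul, map_pow]
        ring
      rw [e, hk', map_zero, add_zero]
      exact Ideal.mul_mem_left _ _ hNa
    exact mem_of_C_pow_mul_mem f i₀ hH _ P h3
  · exact relIdeal_le_ker f i₀

/-- the charts of the blow-up along an `H_1`-regular sequence are finitely presented -/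
theorem finitePresentation (hH : CAlgX.IsH1Regular f) :
    Algebra.FinitePresentation A (BlowUp.affineAlgebra A (II f) (f i₀)) := by
  refine Algebra.FinitePresentation.of_surjective (f := ev f i₀) (ev_surjective f i₀) ?_
  change (RingHom.ker (ev f i₀)).FG
  rw [ker_ev f i₀ hH]
  unfold relIdeal
  exact ⟨(Set.finite_range (rel f i₀)).toFinset, by rw [Set.Finite.coe_toFinset]⟩

end Groth.Agent.Lib.Helper7.BlowRegPres
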