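import Mathlib
import Groth.Agent.Lib.Helper7.BlowRegPres

/-!
# Base change of the charts of a blow-up along an `H_1`-regular sequence (helper7)

Let `f` be a sequence in `A` whose image `f'` in an `A`-algebra `A'` is `H_1`-regular.  Then
multiplication by `f_{i₀}` is injective on `A[I/f_{i₀}] ⊗_A A'`: this tensor product embeds into
(in fact is isomorphic to) the chart `A'[I'/f'_{i₀}]` of the blow-up of `A'`.
-/

set_option backward.isDefEq.respectTransparency false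
set_option autoImplicit false
set_option maxHeartbeats 800000
universe u

namespace Groth.Agent.Lib.Helper7.BlowRegBC

open MvPolynomial Groth.Agent.Lib.Helper29.AffBlow Groth.Agent.Lib.Helper9.BlowProper
  Groth.Agent.Lib.Helper9.BlowRegN Groth.Agent.Lib.Helper7.BlowRegPres TensorProduct

variable {A : Type u} (A' : Type u) [CommRing A] [CommRing A'] [Algebra A A'] {c : ℕ}
  (f : Fin c → A) (i₀ : Fin c)

/-- the image sequence -/
abbrev f' : Fin c → A' := fun k => algebraMap A A' (f k)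

/-- the chart of `A` -/
abbrev Bc : Type u := BlowUp.affineAlgebra A (II f) (f i₀)

/-- the chart of `A'` -/
abbrev Bc' : Type u := BlowUp.affineAlgebra A' (II (f' A' f)) (f' A' f i₀)

lemma map_mem {x : A} (hx : x ∈ II f) : algebraMap A A' x ∈ II (f' A' f) := by
  have h1 : (II f).map (algebraMap A A') = II (f' A' f) := by
    rw [Ideal.map_span, ← Set.range_comp]
    rfl
  rw [← h1]
  exact Ideal.mem_map_of_mem _ hx

/-- the comparison map `A[I/f_{i₀}] → A'[I'/f'_{i₀}]` -/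
theorem exists_comparison :
    ∃ θ : Bc f i₀ →+* Bc' A' f i₀,
      ∀ r : A, θ (algebraMap A _ r) = algebraMap A' _ (algebraMap A A' r) := by
  refine exists_lift ((algebraMap A' (Bc' A' f i₀)).comp (algebraMap A A'))
    (algebraMap_mem_nonZeroDivisors A' (II (f' A' f)) (f' A' f i₀)) ?_
  intro x hx
  exact ⟨fr (II (f' A' f)) (f' A' f i₀) (algebraMap A A' x), alg_eq_mul_fr (map_mem A' f hx)⟩

/-- the comparison map -/
noncomputable def θ : Bc f i₀ →+* Bc' A' f i₀ := (exists_comparison A' f i₀).choose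

lemma θ_algebraMap (r : A) :
    θ A' f i₀ (algebraMap A _ r) = algebraMap A' _ (algebraMap A A' r) :=
  (exists_comparison A' f i₀).choose_spec r

lemma θ_fr (i : Idx i₀) : θ A' f i₀ (fr (II f) (f i₀) (f i.1)) =
    fr (II (f' A' f)) (f' A' f i₀) (f' A' f i.1) := by
  refine eq_fr_of_mul_eq (f_mem (f' A' f) i.1) _ ?_
  have h1 := alg_eq_mul_fr (a := f i₀) (f_mem f i.1)
  have h2 := congrArg (θ A' f i₀) h1
  rw [map_mul, θ_algebraMap, θ_algebraMap] at h2
  exact h2.symm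

/-- the comparison map on the tensor product -/
noncomputable def ΘT : (Bc f i₀) ⊗[A] A' →+* Bc' A' f i₀ :=
  letI : Algebra A (Bc' A' f i₀) := ((algebraMap A' (Bc' A' f i₀)).comp (algebraMap A A')).toAlgebra
  haveI : IsScalarTower A A' (Bc' A' f i₀) := IsScalarTower.of_algebraMap_eq fun _ => rfl
  (Algebra.TensorProduct.lift
    ({ θ A' f i₀ with commutes' := θ_algebraMap A' f i₀ } : Bc f i₀ →ₐ[A] Bc' A' f i₀)
    (IsScalarTower.toAlgHom A A' (Bc' A' f i₀)) fun _ _ => Commute.all _ _).toRingHom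

lemma ΘT_tmul (β : Bc f i₀) (a' : A') :
    ΘT A' f i₀ (β ⊗ₜ a') = θ A' f i₀ β * algebraMap A' _ a' := by
  letI : Algebra A (Bc' A' f i₀) := ((algebraMap A' (Bc' A' f i₀)).comp (algebraMap A A')).toAlgebra
  haveI : IsScalarTower A A' (Bc' A' f i₀) := IsScalarTower.of_algebraMap_eq fun _ => rfl
  exact Algebra.TensorProduct.lift_tmul _ _ _ β a'

/-- the inclusion of `A'` -/
noncomputable def incl : A' →+* (Bc f i₀) ⊗[A] A' :=
  (Algebra.TensorProduct.includeRight : A' →ₐ[A] (Bc f i₀) ⊗[A] A').toRingHom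

lemma incl_apply (a' : A') : incl A' f i₀ a' = (1 : Bc f i₀) ⊗ₜ[A] a' := rfl

/-- the candidate inverse on the polynomial ring -/
noncomputable def Ψ₀ : MvPolynomial (Idx i₀) A' →+* (Bc f i₀) ⊗[A] A' :=
  MvPolynomial.eval₂Hom (incl A' f i₀) fun i => fr (II f) (f i₀) (f i.1) ⊗ₜ[A] (1 : A')

lemma Ψ₀_C (a' : A') : Ψ₀ A' f i₀ (C a') = (1 : Bc f i₀) ⊗ₜ[A] a' := by
  unfold Ψ₀
  rw [MvPolynomial.coe_eval₂Hom, MvPolynomial.eval₂_C]
  rfl

lemma Ψ₀_X (i : Idx i₀) : Ψ₀ A' f i₀ (X i) = fr (II f) (f i₀) (f i.1) ⊗ₜ[A] (1 : A') := by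
  unfold Ψ₀
  rw [MvPolynomial.coe_eval₂Hom, MvPolynomial.eval₂_X]

lemma tmul_algebraMap (r : A) (β : Bc f i₀) :
    β ⊗ₜ[A] (algebraMap A A' r) = (algebraMap A (Bc f i₀) r * β) ⊗ₜ[A] (1 : A') := by
  rw [Algebra.algebraMap_eq_smul_one, ← TensorProduct.smul_tmul, Algebra.smul_def]

section Main

variable (hH' : CAlgX.IsH1Regular (f' A' f))

include hH' in
lemma ker_le : RingHom.ker (ev (f' A' f) i₀) ≤ RingHom.ker (Ψ₀ A' f i₀) := by
  rw [ker_ev (f' A' f) i₀ hH']
  unfold relIdeal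
  rw [Ideal.span_le]
  rintro _ ⟨i, rfl⟩
  change rel (f' A' f) i₀ i ∈ RingHom.ker (Ψ₀ A' f i₀)
  rw [RingHom.mem_ker]
  unfold rel
  rw [map_sub, map_mul, Ψ₀_C, Ψ₀_C, Ψ₀_X, Algebra.TensorProduct.tmul_mul_tmul, one_mul, mul_one,
    tmul_algebraMap, tmul_algebraMap, mul_one, ← alg_eq_mul_fr (f_mem f i.1), sub_self]

/-- the inverse -/
noncomputable def ψ : Bc' A' f i₀ →+* (Bc f i₀) ⊗[A] A' :=
  (Ideal.Quotient.lift (RingHom.ker (ev (f' A' f) i₀ : MvPolynomial (Idx i₀) A' →+* Bc' A' f i₀))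
    (Ψ₀ A' f i₀) (fun a ha => ker_le A' f i₀ hH' ha)).comp
    (RingHom.quotientKerEquivOfSurjective
      (f := (ev (f' A' f) i₀ : MvPolynomial (Idx i₀) A' →+* Bc' A' f i₀))
      (ev_surjective (f' A' f) i₀)).symm.toRingHom

lemma ψ_ev (p : MvPolynomial (Idx i₀) A') :
    ψ A' f i₀ hH' (ev (f' A' f) i₀ p) = Ψ₀ A' f i₀ p := by
  unfold ψ
  have h1 : (RingHom.quotientKerEquivOfSurjective
      (f := (ev (f' A' f) i₀ : MvPolynomial (Idx i₀) A' →+* Bc' A' f i₀))
      (ev_surjective (f' A' f) i₀)).symm (ev (f' A' f) i₀ p) =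
      Ideal.Quotient.mk _ p := by
    rw [RingEquiv.symm_apply_eq]
    rfl
  rw [RingHom.comp_apply]
  change (Ideal.Quotient.lift _ (Ψ₀ A' f i₀) _) ((RingHom.quotientKerEquivOfSurjective
      (f := (ev (f' A' f) i₀ : MvPolynomial (Idx i₀) A' →+* Bc' A' f i₀))
      (ev_surjective (f' A' f) i₀)).symm (ev (f' A' f) i₀ p)) = _
  rw [h1]
  rfl

lemma ψ_θ (β : Bc f i₀) : ψ A' f i₀ hH' (θ A' f i₀ β) = β ⊗ₜ[A] (1 : A') := by
  obtain ⟨p, rfl⟩ := ev_surjective f i₀ β
  induction p using MvPolynomial.induction_on with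
  | C r =>
    have h1 : ev f i₀ (C r) = algebraMap A (Bc f i₀) r := by rw [ev, aeval_C]
    have h2 : algebraMap A' (Bc' A' f i₀) (algebraMap A A' r) =
        ev (f' A' f) i₀ (C (algebraMap A A' r)) := by rw [ev, aeval_C]
    rw [h1, θ_algebraMap, h2, ψ_ev, Ψ₀_C, tmul_algebraMap, mul_one]
  | add p q hp hq => rw [map_add, map_add, map_add, hp, hq, TensorProduct.add_tmul]
  | mul_X p i hp =>
    have h1 : ev f i₀ (X i) = fr (II f) (f i₀) (f i.1) := by rw [ev, aeval_X]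
    have h2 : fr (II (f' A' f)) (f' A' f i₀) (f' A' f i.1) = ev (f' A' f) i₀ (X i) := by
      rw [ev, aeval_X]
    rw [map_mul, map_mul, map_mul, hp, h1, θ_fr, h2, ψ_ev, Ψ₀_X,
      Algebra.TensorProduct.tmul_mul_tmul, mul_one]

lemma ψ_ΘT (y : (Bc f i₀) ⊗[A] A') : ψ A' f i₀ hH' (ΘT A' f i₀ y) = y := by
  induction y using TensorProduct.induction_on with
  | zero => rw [map_zero, map_zero]
  | tmul β a' =>
    have h2 : algebraMap A' (Bc' A' f i₀) a' = ev (f' A' f) i₀ (C a') := by rw [ev, aeval_C]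
    rw [ΘT_tmul, map_mul, ψ_θ, h2, ψ_ev, Ψ₀_C, Algebra.TensorProduct.tmul_mul_tmul, mul_one,
      one_mul]
  | add x y hx hy => rw [map_add, map_add, hx, hy]

include hH' in
/-- **multiplication by `f_{i₀}` is injective on `A[I/f_{i₀}] ⊗_A A'`** when the image sequence
is `H_1`-regular in `A'` -/
theorem smul_tensor_injective :
    Function.Injective (fun y : (Bc f i₀) ⊗[A] A' =>
      (algebraMap A (Bc f i₀) (f i₀)) • y) := by
  have hmul : ∀ y : (Bc f i₀) ⊗[A] A', (algebraMap A (Bc f i₀) (f i₀)) • y =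
      ((algebraMap A (Bc f i₀) (f i₀)) ⊗ₜ[A] (1 : A')) * y := by
    intro y
    induction y using TensorProduct.induction_on with
    | zero => rw [smul_zero, mul_zero]
    | tmul x z => rw [TensorProduct.smul_tmul', Algebra.TensorProduct.tmul_mul_tmul, one_mul,
        smul_eq_mul]
    | add x y hx hy => rw [smul_add, mul_add, hx, hy]
  have hnzd := algebraMap_mem_nonZeroDivisors A' (II (f' A' f)) (f' A' f i₀)
  intro y₁ y₂ h
  have h' : (algebraMap A (Bc f i₀) (f i₀)) • y₁ = (algebraMap A (Bc f i₀) (f i₀)) • y₂ := h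
  rw [hmul, hmul] at h'
  have h2 := congrArg (ΘT A' f i₀) h'
  rw [map_mul, map_mul, ΘT_tmul, map_one, mul_one, θ_algebraMap] at h2
  have h3 : ΘT A' f i₀ y₁ = ΘT A' f i₀ y₂ :=
    (mul_cancel_left_mem_nonZeroDivisors hnzd).1 h2
  rw [← ψ_ΘT A' f i₀ hH' y₁, ← ψ_ΘT A' f i₀ hH' y₂, h3]

end Main

end Groth.Agent.Lib.Helper7.BlowRegBC
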