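import Mathlib
import Groth.Agent.Lib.Helper7.BlowRegPres
import Groth.Agent.Lib.Helper9.BlowRegN4

/-!
# A blow-up along an ideal locally generated by `H_1`-regular sequences is locally of finite
presentation (helper7)
-/

set_option backward.isDefEq.respectTransparency false
set_option autoImplicit false
set_option maxHeartbeats 800000
universe u

open CategoryTheory CategoryTheory.Limits AlgebraicGeometry TopologicalSpace

namespace Groth.Agent.Lib.Helper7.BlowRegLfp

open Groth.Agent.Lib.Helper29.EffCart Groth.Agent.Lib.Helper29.AffBlow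
open Groth.Agent.Lib.Helper9.BlowExist Groth.Agent.Lib.Helper9.BlowProper
open Groth.Agent.Lib.Helper9.BlowRegN RingTheory.Sequence

/-- weakly regular sequences are `H_1`-regular -/
theorem isH1Regular_of_isWeaklyRegular {R : Type u} [CommRing R] (rs : List R)
    (h : IsWeaklyRegular R rs) : CAlgX.IsH1Regular rs.get :=
  (Groth.Agent.Lib.Helper5.KosH1.isH1Regular_iff_isZero rs).mpr
    (Groth.Agent.Lib.Helper5.RegImmB.isKoszulRegularSeq_of_isWeaklyRegular rs h (-1)
      (by decide))

/-- Koszul-regular sequences are `H_1`-regular -/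
theorem isH1Regular_of_isKoszulRegularSeq {R : Type u} [CommRing R] (rs : List R)
    (h : LCI.IsKoszulRegularSeq R rs) : CAlgX.IsH1Regular rs.get :=
  (Groth.Agent.Lib.Helper5.KosH1.isH1Regular_iff_isZero rs).mpr (h (-1) (by decide))

section Affine

variable {A : Type u} [CommRing A]

/-- **affine case** -/
theorem lfp_affine {c : ℕ} (f : Fin c → A) (hH : CAlgX.IsH1Regular f)
    {W : Scheme.{u}} (β : W ⟶ Spec (CommRingCat.of A))
    (hβ : BlowUp.IsBlowUp β (idealSheaf (II f))) : LocallyOfFinitePresentation β := by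
  have hcov : ⨆ a : Set.range f, genLocus (II f) a.1 β = ⊤ :=
    genLocus_cover_of_span β hβ.1 (Set.range f) rfl
  let 𝒱 : W.OpenCover :=
    W.openCoverOfIsOpenCover (fun a : Set.range f => genLocus (II f) a.1 β) hcov
  refine IsZariskiLocalAtSource.of_openCover (P := @LocallyOfFinitePresentation) 𝒱 ?_
  change ∀ a : Set.range f, LocallyOfFinitePresentation ((genLocus (II f) a.1 β).ι ≫ β)
  rintro ⟨_, i₀, rfl⟩
  obtain ⟨e, he⟩ := exists_chartIso hβ (f i₀) (f_mem f i₀)
  rw [← he, MorphismProperty.cancel_left_of_respectsIso (P := @LocallyOfFinitePresentation),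
    HasRingHomProperty.Spec_iff (P := @LocallyOfFinitePresentation), CommRingCat.hom_ofHom,
    RingHom.finitePresentation_algebraMap]
  exact Groth.Agent.Lib.Helper7.BlowRegPres.finitePresentation f i₀ hH

end Affine

section Global

variable {X X' : Scheme.{u}}

/-- **global case** -/
theorem lfp_of_regular (𝓘 : X.IdealSheafData) (b : X' ⟶ X) (hb : BlowUp.IsBlowUp b 𝓘)
    (hreg : ∀ x : X, ∃ U : X.affineOpens, x ∈ U.1 ∧ ∃ rs : List Γ(X, U.1),
      CAlgX.IsH1Regular rs.get ∧ 𝓘.ideal U = Ideal.ofList rs) :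
    LocallyOfFinitePresentation b := by
  choose U hxU rs hrs hideal using hreg
  have hsup : ⨆ x, (U x).1 = ⊤ := by
    rw [eq_top_iff]
    intro x _
    exact Opens.mem_iSup.2 ⟨x, hxU x⟩
  rw [IsZariskiLocalAtTarget.iff_of_iSup_eq_top (P := @LocallyOfFinitePresentation)
    (fun x => (U x).1) hsup]
  intro x
  have h1 := isBlowUp_morphismRestrict hb (U x).1
  have h2 := isBlowUp_comp_iso h1 (U x).2.isoSpec
  have h3 : (𝓘.comap (U x).1.ι).comap (U x).2.isoSpec.inv =
      idealSheaf (A := Γ(X, (U x).1)) (𝓘.ideal (U x)) := by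
    rw [← Scheme.IdealSheafData.comap_comp, IsAffineOpen.isoSpec_inv_ι]
    exact comap_fromSpec 𝓘 (U x)
  rw [h3, hideal x, ← span_range_get (rs x)] at h2
  have h4 := lfp_affine (rs x).get (hrs x) _ h2
  rwa [MorphismProperty.cancel_right_of_respectsIso (P := @LocallyOfFinitePresentation)] at h4

end Global

end Groth.Agent.Lib.Helper7.BlowRegLfp
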