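import Mathlib
import Groth.Agent.Lib.Helper7.BlowRegBC
import Groth.Agent.Lib.Helper7.BlowRegLfp
import Groth.Agent.Lib.Helper29.FlatPowGeo2

/-!
# Base change of a blow-up along an ideal locally generated by sequences that stay `H_1`-regular
(helper7)

Mirrors `Helper29.FlatPow.isBlowUp_baseChange`, with the flatness of the thickenings replaced by
`H_1`-regularity of the image sequences.
-/

set_option backward.isDefEq.respectTransparency false
set_option autoImplicit false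
set_option maxHeartbeats 800000
universe u

open CategoryTheory CategoryTheory.Limits AlgebraicGeometry TopologicalSpace

namespace Groth.Agent.Lib.Helper7.BlowRegBCGeo

open Groth.Agent.Lib.Helper29.EffCart Groth.Agent.Lib.Helper29.AffBlow
open Groth.Agent.Lib.Helper9.BlowExist Groth.Agent.Lib.Helper9.BlowProper
open Groth.Agent.Lib.Helper9.BlowRegN Groth.Agent.Lib.Helper29.FlatPow

section Cast

variable {R R' : Type u} [CommRing R] [CommRing R']

theorem isH1Regular_cast {c c' : ℕ} (h : c' = c) (f' : Fin c' → R) (f : Fin c → R)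
    (hff : ∀ i, f' i = f (Fin.cast h i)) : CAlgX.IsH1Regular f' ↔ CAlgX.IsH1Regular f := by
  subst h
  have : f' = f := funext hff
  subst this
  exact Iff.rfl

theorem isH1Regular_map_get (φ : R →+* R') (rs : List R) :
    CAlgX.IsH1Regular (rs.map φ).get ↔ CAlgX.IsH1Regular (fun k => φ (rs.get k)) := by
  refine isH1Regular_cast (List.length_map φ) _ _ fun i => ?_
  simp

end Cast

variable {X X' : Scheme.{u}} {b : X' ⟶ X} {𝓘 : X.IdealSheafData}

/-- charts of a blow-up at a generating family over an affine open of the base -/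
theorem exists_chart_gen (hb : BlowUp.IsBlowUp b 𝓘) (U : X.affineOpens) {c : ℕ}
    (f : Fin c → Γ(X, U.1)) (hf : II f = 𝓘.ideal U) (x' : X') (hx' : b x' ∈ U.1) :
    ∃ (i₀ : Fin c)
      (j : Spec (CommRingCat.of (BlowUp.affineAlgebra Γ(X, U.1) (𝓘.ideal U) (f i₀))) ⟶ X'),
      IsOpenImmersion j ∧ x' ∈ Set.range j ∧
        j ≫ b = chartMap (𝓘.ideal U) (f i₀) ≫ U.2.fromSpec := by
  have h1 := isBlowUp_morphismRestrict hb U.1
  have h2 := isBlowUp_comp_iso h1 U.2.isoSpec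
  have h3 : (𝓘.comap U.1.ι).comap U.2.isoSpec.inv = idealSheaf (A := Γ(X, U.1)) (𝓘.ideal U) := by
    rw [← Scheme.IdealSheafData.comap_comp, U.2.isoSpec_inv_ι]
    exact comap_fromSpec 𝓘 U
  rw [h3] at h2
  let y : ↥(b ⁻¹ᵁ U.1) := ⟨x', hx'⟩
  have hcov := genLocus_cover_of_span ((b ∣_ U.1) ≫ U.2.isoSpec.hom) h2.1 (Set.range f) hf
  have hy : y ∈ (⨆ a : Set.range f, genLocus (𝓘.ideal U) a.1 ((b ∣_ U.1) ≫ U.2.isoSpec.hom)) := by
    rw [hcov]; trivial
  obtain ⟨⟨_, i₀, rfl⟩, hyV⟩ := Opens.mem_iSup.1 hy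
  have hmem : f i₀ ∈ 𝓘.ideal U := hf ▸ f_mem f i₀
  set V := genLocus (𝓘.ideal U) (f i₀) ((b ∣_ U.1) ≫ U.2.isoSpec.hom) with hV
  obtain ⟨e, he⟩ := exists_chartIso h2 (f i₀) hmem
  refine ⟨i₀, e.inv ≫ V.ι ≫ (b ⁻¹ᵁ U.1).ι, inferInstance, ?_, ?_⟩
  · refine ⟨e.hom ⟨y, hyV⟩, ?_⟩
    change (e.hom ≫ e.inv ≫ V.ι ≫ (b ⁻¹ᵁ U.1).ι) ⟨y, hyV⟩ = x'
    rw [Iso.hom_inv_id_assoc]
    rfl
  · rw [Category.assoc, Category.assoc, ← morphismRestrict_ι, ← U.2.isoSpec_inv_ι]
    have : V.ι ≫ (b ∣_ U.1) = e.hom ≫ chartMap (𝓘.ideal U) (f i₀) ≫ U.2.isoSpec.inv := by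
      rw [← Category.assoc, he, Category.assoc, Category.assoc, Iso.hom_inv_id, Category.comp_id]
    rw [← Category.assoc V.ι, this]
    simp only [Category.assoc, Iso.inv_hom_id_assoc]

/-- the chart-level statement: the exceptional ideal of the chart stays effective Cartier after a
base change `T ⟶ X` under which the generating sequence stays `H_1`-regular. -/
theorem isEffCartierIdeal_chart {T Z : Scheme.{u}} (U : X.affineOpens) (I : Ideal Γ(X, U.1))
    {c : ℕ} (f : Fin c → Γ(X, U.1)) (hI : I = II f) (i₀ : Fin c) (g : T ⟶ X)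
    (hg : ∀ (V' : T.affineOpens) (e : V'.1 ≤ g ⁻¹ᵁ U.1),
      CAlgX.IsH1Regular (fun k => (g.appLE U.1 V'.1 e).hom (f k)))
    (q : Z ⟶ Spec (CommRingCat.of (BlowUp.affineAlgebra Γ(X, U.1) I (f i₀)))) (r : Z ⟶ T)
    (H : IsPullback q r (chartMap I (f i₀) ≫ U.2.fromSpec) g) :
    BlowUp.IsEffCartierIdeal (((idealSheaf I).comap (chartMap I (f i₀))).comap q) := by
  subst hI
  set φc : Γ(X, U.1) ⟶ CommRingCat.of (BlowUp.affineAlgebra Γ(X, U.1) (II f) (f i₀)) :=
    CommRingCat.ofHom (algebraMap Γ(X, U.1) (BlowUp.affineAlgebra Γ(X, U.1) (II f) (f i₀)))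
    with hφc
  have hh : chartMap (II f) (f i₀) ≫ U.2.fromSpec = Spec.map φc ≫ U.2.fromSpec := rfl
  rw [hh] at H
  have hV : (⊤ : (Spec (CommRingCat.of (BlowUp.affineAlgebra Γ(X, U.1) (II f) (f i₀)))).Opens) ≤
      (Spec.map φc ≫ U.2.fromSpec) ⁻¹ᵁ U.1 := by
    intro x _
    exact fromSpec_mem U _
  refine isEffCartierIdeal_comap_of_isPullback_spec _ g q r H U hV _ _
    (ideal_chart_top _ (f i₀) (f_mem f i₀)) ?_
  intro V' hV' P α β hpo
  have hpo' : IsPushout φc (g.appLE U.1 V'.1 hV') ((Scheme.ΓSpecIso _).inv ≫ α) β := by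
    have h1 := appLE_comp_ΓSpecIso_eq U φc hV
    refine IsPushout.of_iso hpo (Iso.refl _) (Scheme.ΓSpecIso _) (Iso.refl _) (Iso.refl _)
      ?_ ?_ ?_ ?_
    · rw [h1, Iso.refl_hom, Category.id_comp]
    · simp
    · simp
    · simp
  letI := (g.appLE U.1 V'.1 hV').hom.toAlgebra
  have hφ : φc.hom = algebraMap Γ(X, U.1) (BlowUp.affineAlgebra Γ(X, U.1) (II f) (f i₀)) := by
    rw [hφc, CommRingCat.hom_ofHom]
  exact map_mem_nonZeroDivisors_of_isPushout' hpo' hφ rfl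
    (algebraMap Γ(X, U.1) (BlowUp.affineAlgebra Γ(X, U.1) (II f) (f i₀)) (f i₀))
    (Groth.Agent.Lib.Helper7.BlowRegBC.smul_tensor_injective Γ(T, V'.1) f i₀ (hg V' hV'))

/-- the inverse image of `𝓘` on `X' ×_X T` is effective Cartier -/
theorem isEffCartierIdeal_pullback (hb : BlowUp.IsBlowUp b 𝓘) {T P : Scheme.{u}} (g : T ⟶ X)
    (hloc : ∀ x : X, ∃ U : X.affineOpens, x ∈ U.1 ∧ ∃ rs : List Γ(X, U.1),
      𝓘.ideal U = Ideal.ofList rs ∧ ∀ (V' : T.affineOpens) (e : V'.1 ≤ g ⁻¹ᵁ U.1),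
        CAlgX.IsH1Regular (rs.map (g.appLE U.1 V'.1 e).hom).get)
    (pX' : P ⟶ X') (bT : P ⟶ T) (hP : IsPullback pX' bT b g) :
    BlowUp.IsEffCartierIdeal (𝓘.comap (pX' ≫ b)) := by
  refine P_local 𝓘 (pX' ≫ b) ?_
  intro z
  obtain ⟨U, hxU, rs, hid, hreg⟩ := hloc (b (pX' z))
  have hf : II rs.get = 𝓘.ideal U := by rw [hid]; exact span_range_get rs
  obtain ⟨i₀, j, hj, hxj, hjb⟩ := exists_chart_gen hb U rs.get hf (pX' z) hxU
  have hz : z ∈ (pullback.fst pX' j).opensRange := by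
    change z ∈ Set.range (pullback.fst pX' j)
    rw [IsOpenImmersion.range_pullbackFst]
    exact hxj
  refine ⟨(pullback.fst pX' j).opensRange, hz, ?_⟩
  have hsmall : IsPullback (pullback.snd pX' j) (pullback.fst pX' j) j pX' :=
    (IsPullback.of_hasPullback pX' j).flip
  have hpaste := hsmall.paste_vert hP
  rw [hjb] at hpaste
  have hchart := isEffCartierIdeal_chart U (𝓘.ideal U) rs.get hf.symm i₀ g
    (fun V' e => (isH1Regular_map_get _ rs).1 (hreg V' e)) _ _ hpaste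
  have heq : 𝓘.comap ((pullback.fst pX' j).opensRange.ι ≫ pX' ≫ b) =
      (((idealSheaf (𝓘.ideal U)).comap (chartMap (𝓘.ideal U) (rs.get i₀))).comap
        (pullback.snd pX' j)).comap (pullback.fst pX' j).isoOpensRange.inv := by
    rw [← comap_fromSpec 𝓘 U, ← Scheme.IdealSheafData.comap_comp,
      ← Scheme.IdealSheafData.comap_comp, ← Scheme.IdealSheafData.comap_comp]
    congr 1
    rw [← Scheme.Hom.isoOpensRange_inv_comp (pullback.fst pX' j), Category.assoc,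
      ← Category.assoc (pullback.fst pX' j), pullback.condition, Category.assoc, hjb]
    simp only [Category.assoc]
  rw [heq]
  exact isEffCartierIdeal_comap_of_flat _ _ hchart

/-- **Blowing up commutes with base changes that keep the local generating sequences
`H_1`-regular.** -/
theorem isBlowUp_baseChange (hb : BlowUp.IsBlowUp b 𝓘) {T P : Scheme.{u}} (g : T ⟶ X)
    (hloc : ∀ x : X, ∃ U : X.affineOpens, x ∈ U.1 ∧ ∃ rs : List Γ(X, U.1),
      𝓘.ideal U = Ideal.ofList rs ∧ ∀ (V' : T.affineOpens) (e : V'.1 ≤ g ⁻¹ᵁ U.1),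
        CAlgX.IsH1Regular (rs.map (g.appLE U.1 V'.1 e).hom).get)
    (pX' : P ⟶ X') (bT : P ⟶ T) (hP : IsPullback pX' bT b g) :
    BlowUp.IsBlowUp bT (𝓘.comap g) := by
  refine ⟨?_, ?_⟩
  · rw [← Scheme.IdealSheafData.comap_comp, ← hP.w]
    exact isEffCartierIdeal_pullback hb g hloc pX' bT hP
  · intro Y h hh
    rw [← Scheme.IdealSheafData.comap_comp] at hh
    obtain ⟨k, hk, hku⟩ := hb.2 Y (h ≫ g) hh
    refine ⟨hP.lift k h hk, hP.lift_snd k h hk, ?_⟩
    intro k' hk'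
    apply hP.hom_ext
    · rw [hP.lift_fst]
      apply hku
      change (k' ≫ pX') ≫ b = h ≫ g
      rw [Category.assoc, hP.w, ← Category.assoc, hk']
    · rw [hP.lift_snd]
      exact hk'

/-- outside the support, an ideal sheaf is locally the unit ideal -/
theorem exists_ideal_eq_top_of_notMem_support {X : Scheme.{u}} (𝓘 : X.IdealSheafData) (x : X)
    (hx : x ∉ 𝓘.support) : ∃ U : X.affineOpens, x ∈ U.1 ∧ 𝓘.ideal U = ⊤ := by
  obtain ⟨U₀, hU₀, hxU₀, -⟩ := Opens.isBasis_iff_nbhd.mp X.isBasis_affineOpens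
    (show x ∈ (⊤ : X.Opens) from trivial)
  let U : X.affineOpens := ⟨U₀, hU₀⟩
  have h1 : x ∉ X.zeroLocus (U := U.1) (𝓘.ideal U) := fun h =>
    hx ((Scheme.IdealSheafData.mem_support_iff_of_mem (U := U) hxU₀).2 h)
  rw [Scheme.mem_zeroLocus_iff] at h1
  push_neg at h1
  obtain ⟨s, hs, hxs⟩ := h1
  refine ⟨X.affineBasicOpen (U := U) s, hxs, ?_⟩
  rw [← 𝓘.map_ideal_basicOpen U s]
  have hu : IsUnit ((X.presheaf.map (homOfLE (X.basicOpen_le s)).op).hom s) := by
    letI : Algebra Γ(X, U.1) Γ(X, X.basicOpen s) :=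
      (X.presheaf.map (homOfLE (X.basicOpen_le s)).op).hom.toAlgebra
    haveI : IsLocalization.Away s Γ(X, X.basicOpen s) := hU₀.isLocalization_basicOpen s
    exact IsLocalization.Away.algebraMap_isUnit s
  exact Ideal.eq_top_of_isUnit_mem _ (Ideal.mem_map_of_mem _ hs) hu

/-- the sequence `[1]` is `H_1`-regular, also after mapping -/
theorem isH1Regular_map_one {R R' : Type u} [CommRing R] [CommRing R'] (φ : R →+* R') :
    CAlgX.IsH1Regular (([1] : List R).map φ).get := by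
  refine Groth.Agent.Lib.Helper7.BlowRegLfp.isH1Regular_of_isWeaklyRegular _ ?_
  rw [List.map_cons, List.map_nil, map_one, RingTheory.Sequence.isWeaklyRegular_cons_iff]
  exact ⟨IsSMulRegular.one _, RingTheory.Sequence.IsWeaklyRegular.nil _ _⟩

/-- **the Koszul-regular case** -/
theorem isBlowUp_snd_of_koszulRegular {X X' B : Scheme.{u}} (𝓘 : X.IdealSheafData)
    (h𝓘 : RegImm.IsRegularIdeal .koszul 𝓘) (g : X' ⟶ X)
    (hg : ∀ (U : X.affineOpens) (rs : List Γ(X, U.1)), LCI.IsKoszulRegularSeq Γ(X, U.1) rs →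
      𝓘.ideal U = Ideal.ofList rs → ∀ (V : X'.affineOpens) (e : V.1 ≤ g ⁻¹ᵁ U.1),
        LCI.IsKoszulRegularSeq Γ(X', V.1) (rs.map fun r => (g.appLE U.1 V.1 e).hom r))
    (b : B ⟶ X) (hb : BlowUp.IsBlowUp b 𝓘) :
    BlowUp.IsBlowUp (pullback.snd b g) (𝓘.comap g) := by
  refine isBlowUp_baseChange hb g (fun x => ?_) (pullback.fst b g) (pullback.snd b g)
    (IsPullback.of_hasPullback b g)
  by_cases hx : x ∈ 𝓘.support
  · obtain ⟨U, hxU, rs, hrs, hid⟩ := h𝓘 x hx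
    refine ⟨U, hxU, rs, hid, fun V' e => ?_⟩
    exact Groth.Agent.Lib.Helper7.BlowRegLfp.isH1Regular_of_isKoszulRegularSeq _
      (hg U rs hrs hid V' e)
  · obtain ⟨U, hxU, hid⟩ := exists_ideal_eq_top_of_notMem_support 𝓘 x hx
    refine ⟨U, hxU, [1], ?_, fun V' e => isH1Regular_map_one _⟩
    rw [hid, Ideal.ofList_singleton, Ideal.span_singleton_one]

end Groth.Agent.Lib.Helper7.BlowRegBCGeo
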