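import Mathlib
import Groth.Agent.Lib.Helper7.BlowRegChart
import Groth.Agent.Lib.Helper7.CMClosedPoint
import Groth.Agent.Lib.Helper12.CMCatB
import Groth.Agent.Lib.Helper18.Dehom.CM
import Groth.Agent.Lib.Helper21.CMKit
import Groth.Agent.Lib.Helper9.BlowRegN4

/-!
# The blow-up of a Cohen–Macaulay ring along a regular sequence is Cohen–Macaulay (helper7)

* `isCM_quotient_ofList`: a Cohen–Macaulay ring modulo a weakly regular sequence is Cohen–Macaulay.
* `isCM_affineAlgebra`: the charts `A[I/f_j]` of the blow-up of a Cohen–Macaulay ring `A` along a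
  weakly regular sequence `f` are Cohen–Macaulay rings.
* `stalk_isCM_of_isBlowUp`: the scheme version.
-/

set_option backward.isDefEq.respectTransparency false
set_option autoImplicit false
set_option maxHeartbeats 800000
set_option linter.unusedSectionVars false
set_option linter.unusedVariables false
universe u

namespace Groth.Agent.Lib.Helper7.BlowRegCM

open MvPolynomial Groth.Agent.Lib.Helper29.AffBlow Groth.Agent.Lib.Helper9.BlowProper
  Groth.Agent.Lib.Helper9.BlowRegN RingTheory.Sequence Pointwise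

section Quot

/-- `A/(x)` as a module over itself is weakly regular for the image of `rs` iff `A/xA` is. -/
theorem isWeaklyRegular_quotient_span_singleton {A : Type u} [CommRing A] (x : A) (rs : List A)
    (h : IsWeaklyRegular (QuotSMulTop x A) (rs.map (Ideal.Quotient.mk (Ideal.span {x})))) :
    IsWeaklyRegular (A ⧸ Ideal.span {x}) (rs.map (Ideal.Quotient.mk (Ideal.span {x}))) := by
  have heq : (x • (⊤ : Submodule A A)) = Ideal.span {x} := by
    rw [← Submodule.ideal_span_singleton_smul, smul_eq_mul, Ideal.mul_top]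
  let e : QuotSMulTop x A ≃ₗ[A] (A ⧸ Ideal.span {x}) := Submodule.quotEquivOfEq _ _ heq
  refine (e.toAddEquiv.isWeaklyRegular_congr (List.forall₂_same.mpr fun r _ z => ?_)).1 h
  obtain ⟨a, rfl⟩ := Ideal.Quotient.mk_surjective r
  have h1 : (Ideal.Quotient.mk (Ideal.span {x}) a) • z = a • z := by
    rw [← Ideal.Quotient.algebraMap_eq, algebraMap_smul]
  have h2 : (Ideal.Quotient.mk (Ideal.span {x}) a) • (e.toAddEquiv z) = a • (e.toAddEquiv z) := by
    rw [← Ideal.Quotient.algebraMap_eq, algebraMap_smul]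
  rw [h1, h2]
  exact e.map_smul a z

/-- a Cohen–Macaulay ring modulo a weakly regular sequence is a Cohen–Macaulay ring -/
theorem isCM_quotient_ofList : ∀ (n : ℕ) (A : Type u) [CommRing A]
    (hA : LocCoh.IsCohenMacaulayRing A) (xs : List A), xs.length = n → IsWeaklyRegular A xs →
    LocCoh.IsCohenMacaulayRing (A ⧸ Ideal.ofList xs) := by
  intro n
  induction n with
  | zero =>
    intro A _ hA xs hlen _
    obtain rfl := List.length_eq_zero_iff.1 hlen
    have e : A ≃+* (A ⧸ Ideal.ofList ([] : List A)) :=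
      (RingEquiv.quotientBot A).symm.trans (Ideal.quotEquivOfEq Ideal.ofList_nil.symm)
    exact Groth.Agent.Lib.Helper21.CMKit.isCM_of_ringEquiv e hA
  | succ n ih =>
    intro A _ hA xs hlen hreg
    match xs, hlen, hreg with
    | x :: rest, hlen, hreg =>
      rw [isWeaklyRegular_cons_iff'] at hreg
      obtain ⟨hxreg, hrest⟩ := hreg
      have hA' : LocCoh.IsCohenMacaulayRing (A ⧸ Ideal.span {x}) :=
        Groth.Agent.Lib.Helper18.Dehom.isCM_quotient_regular (hB := hA) x hxreg
      have hrest' := isWeaklyRegular_quotient_span_singleton x rest hrest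
      have key := ih (A ⧸ Ideal.span {x}) hA' (rest.map (Ideal.Quotient.mk (Ideal.span {x})))
        (by rw [List.length_map]; simpa using hlen) hrest'
      have e : ((A ⧸ Ideal.span {x}) ⧸
          Ideal.ofList (rest.map (Ideal.Quotient.mk (Ideal.span {x})))) ≃+*
          (A ⧸ Ideal.ofList (x :: rest)) :=
        (Ideal.quotEquivOfEq (Ideal.map_ofList _ _).symm).trans
          ((DoubleQuot.quotQuotEquivQuotSup (Ideal.span {x}) (Ideal.ofList rest)).trans
            (Ideal.quotEquivOfEq (Ideal.ofList_cons x rest).symm))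
      exact Groth.Agent.Lib.Helper21.CMKit.isCM_of_ringEquiv e key

end Quot

section Away

/-- a ring `T` such that `T_t` is Cohen–Macaulay is Cohen–Macaulay at the primes not containing
`t` -/
theorem isCM_atPrime_of_away {T : Type u} [CommRing T] (t : T) (S : Type u) [CommRing S]
    [Algebra T S] [IsLocalization.Away t S] (hS : LocCoh.IsCohenMacaulayRing S)
    (P : Ideal T) [P.IsPrime] (ht : t ∉ P) :
    LocCoh.IsCohenMacaulayLocalRing (Localization.AtPrime P) := by
  have hdisj : Disjoint (Submonoid.powers t : Set T) (P : Set T) :=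
    (Ideal.disjoint_powers_iff_notMem_of_isPrime _).mpr ht
  set P' : Ideal S := P.map (algebraMap T S) with hP'
  haveI hP'prime : P'.IsPrime :=
    IsLocalization.isPrime_of_isPrime_disjoint (Submonoid.powers t) _ P inferInstance hdisj
  have hcomap : P'.comap (algebraMap T S) = P :=
    IsLocalization.under_map_of_isPrime_disjoint (Submonoid.powers t) _ inferInstance hdisj
  haveI hreg : LocCoh.IsCohenMacaulayLocalRing (Localization.AtPrime P') :=
    hS.isCohenMacaulayLocalRing_localization P'
  haveI hloc : IsLocalization.AtPrime (Localization.AtPrime P') P := by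
    have := IsLocalization.isLocalization_isLocalization_atPrime_isLocalization
      (Submonoid.powers t) (Localization.AtPrime P') P'
    have heq : (P'.comap (algebraMap T S)).primeCompl = P.primeCompl := by
      ext x
      simp only [Ideal.mem_primeCompl_iff]
      rw [hcomap]
    change IsLocalization P.primeCompl _
    rw [← heq]
    exact this
  let e : Localization.AtPrime P' ≃ₐ[T] Localization.AtPrime P :=
    IsLocalization.algEquiv P.primeCompl _ _
  exact Groth.Agent.Lib.Helper7.FibreCM.isCM_of_ringEquiv e.toRingEquiv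

/-- a localization of a Cohen–Macaulay ring is Cohen–Macaulay -/
theorem isCM_of_isLocalization {R : Type u} [CommRing R] (M : Submonoid R) (S : Type u)
    [CommRing S] [Algebra R S] [IsLocalization M S] (hR : LocCoh.IsCohenMacaulayRing R) :
    LocCoh.IsCohenMacaulayRing S := by
  haveI : IsNoetherianRing R := by haveI := hR; infer_instance
  haveI : IsNoetherianRing S := IsLocalization.isNoetherianRing M S inferInstance
  refine { isCohenMacaulayLocalRing_localization := fun P hP => ?_ }
  haveI := IsLocalization.isLocalization_isLocalization_atPrime_isLocalization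
    M (Localization.AtPrime P) P
  haveI : (P.comap (algebraMap R S)).IsPrime := Ideal.comap_isPrime _ _
  haveI := hR.isCohenMacaulayLocalRing_localization (P.comap (algebraMap R S))
  let e : Localization.AtPrime (P.comap (algebraMap R S)) ≃ₐ[R] Localization.AtPrime P :=
    IsLocalization.algEquiv (P.comap (algebraMap R S)).primeCompl _ _
  exact Groth.Agent.Lib.Helper7.FibreCM.isCM_of_ringEquiv e.toRingEquiv

end Away

section Chart

variable {A : Type u} [CommRing A] {c : ℕ} {f : Fin c → A} {i₀ : Fin c}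

/-- **The chart `A[I/f_{i₀}]` of the blow-up of a Cohen–Macaulay ring along a quasi-regular
sequence with Cohen–Macaulay quotient is Cohen–Macaulay.** -/
theorem isCM_affineAlgebra (hA : LocCoh.IsCohenMacaulayRing A)
    (hq : CAlgX.IsQuasiRegular f) (hI : LocCoh.IsCohenMacaulayRing (A ⧸ II f)) :
    LocCoh.IsCohenMacaulayRing (BlowUp.affineAlgebra A (II f) (f i₀)) := by
  classical
  haveI : IsNoetherianRing A := by haveI := hA; infer_instance
  haveI : IsNoetherianRing (BlowUp.affineAlgebra A (II f) (f i₀)) :=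
    isNoetherianRing_of_surjective _ _ (ev f i₀).toRingHom (ev_surjective f i₀)
  set x' := algebraMap A (BlowUp.affineAlgebra A (II f) (f i₀)) (f i₀) with hx'
  have hxreg : IsSMulRegular (BlowUp.affineAlgebra A (II f) (f i₀)) x' :=
    (isRegular_iff_mem_nonZeroDivisors.2
      (algebraMap_mem_nonZeroDivisors A (II f) (f i₀))).left.isSMulRegular
  obtain ⟨e⟩ := Groth.Agent.Lib.Helper7.BlowRegChart.nonempty_algEquiv_quotient f i₀ hq
  have hJ : (II f).map (algebraMap A (BlowUp.affineAlgebra A (II f) (f i₀))) =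
      Ideal.span {x'} := map_algebraMap_eq_span (f_mem f i₀)
  have hpoly : LocCoh.IsCohenMacaulayRing (MvPolynomial (Idx i₀) (A ⧸ II f)) := by
    have h1 := Groth.Agent.Lib.Helper12.CMCat.isCM_mvPolynomial (A ⧸ II f) hI
      (Fintype.card (Idx i₀))
    exact Groth.Agent.Lib.Helper21.CMKit.isCM_of_ringEquiv
      (MvPolynomial.renameEquiv (A ⧸ II f) (Fintype.equivFin (Idx i₀))).symm.toRingEquiv h1
  have hquot : LocCoh.IsCohenMacaulayRing
      (BlowUp.affineAlgebra A (II f) (f i₀) ⧸ Ideal.span {x'}) :=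
    Groth.Agent.Lib.Helper21.CMKit.isCM_of_ringEquiv
      ((Ideal.quotEquivOfEq hJ.symm).trans e.toRingEquiv).symm hpoly
  refine { isCohenMacaulayLocalRing_localization := fun Q hQ => ?_ }
  by_cases hxQ : x' ∈ Q
  · set P : Ideal (BlowUp.affineAlgebra A (II f) (f i₀)) := Ideal.span {x'} with hP
    have hPQ : P ≤ Q := (Ideal.span_singleton_le_iff_mem _).2 hxQ
    set Qb : Ideal (BlowUp.affineAlgebra A (II f) (f i₀) ⧸ P) :=
      Q.map (Ideal.Quotient.mk P) with hQb
    have hcomap : Qb.comap (algebraMap (BlowUp.affineAlgebra A (II f) (f i₀))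
        (BlowUp.affineAlgebra A (II f) (f i₀) ⧸ P)) = Q := by
      change Qb.comap (Ideal.Quotient.mk P) = Q
      rw [hQb, Ideal.comap_map_of_surjective _ Ideal.Quotient.mk_surjective,
        ← RingHom.ker_eq_comap_bot, Ideal.mk_ker]
      exact sup_eq_left.2 hPQ
    haveI hQbprime : Qb.IsPrime := by
      apply Ideal.map_isPrime_of_surjective Ideal.Quotient.mk_surjective
      rw [Ideal.mk_ker]; exact hPQ
    have h1 := Groth.Agent.Lib.Helper7.CMClosedPoint.isCM_localization_of_quotient x' hxreg Qb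
      (hquot.isCohenMacaulayLocalRing_localization Qb)
    have h2 := Groth.Agent.Lib.Helper7.CMClosedPoint.isCM_localization_congr'
      (p := ⟨Qb.comap (algebraMap (BlowUp.affineAlgebra A (II f) (f i₀))
        (BlowUp.affineAlgebra A (II f) (f i₀) ⧸ P)), inferInstance⟩) (q := ⟨Q, hQ⟩)
      (PrimeSpectrum.ext hcomap)
    exact h2.1 h1
  · haveI := Groth.Agent.Lib.Helper9.BlowReg.isLocalization_away_affineAlgebra
      (A := A) (I := II f) (x := f i₀)
    have hS : LocCoh.IsCohenMacaulayRing (Localization.Away (f i₀)) :=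
      isCM_of_isLocalization (Submonoid.powers (f i₀)) _ hA
    exact isCM_atPrime_of_away x' (Localization.Away (f i₀)) hS Q hxQ

end Chart

section Scheme

open CategoryTheory CategoryTheory.Limits AlgebraicGeometry Opposite TopologicalSpace
open Groth.Agent.Lib.Helper29.EffCart Groth.Agent.Lib.Helper9.BlowExist
  Groth.Agent.Lib.Helper9.BlowPt

/-- sections over a Noetherian affine open all of whose stalks are Cohen–Macaulay form a
Cohen–Macaulay ring -/
theorem isCMRing_of_stalks {X : Scheme.{u}} {U : X.Opens} (hU : IsAffineOpen U)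
    [IsNoetherianRing Γ(X, U)]
    (h : ∀ x ∈ U, LocCoh.IsCohenMacaulayLocalRing (X.presheaf.stalk x)) :
    LocCoh.IsCohenMacaulayRing Γ(X, U) := by
  refine { isCohenMacaulayLocalRing_localization := fun P hP => ?_ }
  let y : Spec Γ(X, U) := ⟨P, hP⟩
  have hx : hU.fromSpec y ∈ U := by
    have : hU.fromSpec y ∈ Set.range hU.fromSpec := ⟨y, rfl⟩
    rw [hU.range_fromSpec] at this
    exact this
  have hy : hU.primeIdealOf ⟨hU.fromSpec y, hx⟩ = y := by
    apply hU.fromSpec.isOpenEmbedding.injective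
    exact hU.fromSpec_primeIdealOf ⟨hU.fromSpec y, hx⟩
  have h1 := (Groth.Agent.Lib.Helper7.CMClosedPoint.isCM_stalk_iff hU _ hx).1 (h _ hx)
  exact (Groth.Agent.Lib.Helper7.CMClosedPoint.isCM_localization_congr'
    (p := hU.primeIdealOf ⟨hU.fromSpec y, hx⟩) (q := y) hy).1 h1

/-- the stalks of an affine scheme-like open with Cohen–Macaulay coordinate ring are
Cohen–Macaulay -/
theorem isCM_stalk_of_isCMRing {X : Scheme.{u}} {U : X.Opens} (hU : IsAffineOpen U)
    (hA : LocCoh.IsCohenMacaulayRing Γ(X, U)) (p : X) (hp : p ∈ U) :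
    LocCoh.IsCohenMacaulayLocalRing (X.presheaf.stalk p) :=
  (Groth.Agent.Lib.Helper7.CMClosedPoint.isCM_stalk_iff hU p hp).2
    (hA.isCohenMacaulayLocalRing_localization _)

/-- the blow-up of a Cohen–Macaulay affine scheme along a weakly regular sequence has
Cohen–Macaulay stalks -/
theorem stalk_isCM_affine {A : Type u} [CommRing A] (hA : LocCoh.IsCohenMacaulayRing A)
    (xs : List A) (hxs : IsWeaklyRegular A xs)
    {W : Scheme.{u}} (b : W ⟶ Spec (CommRingCat.of A))
    (hb : BlowUp.IsBlowUp b (idealSheaf (Ideal.ofList xs))) (z : W) :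
    LocCoh.IsCohenMacaulayLocalRing (W.presheaf.stalk z) := by
  set f : Fin xs.length → A := xs.get with hf
  have hII : II f = Ideal.ofList xs := span_range_get xs
  have hb' : BlowUp.IsBlowUp b (idealSheaf (II f)) := by rw [hII]; exact hb
  have hIcm : LocCoh.IsCohenMacaulayRing (A ⧸ II f) :=
    Groth.Agent.Lib.Helper21.CMKit.isCM_of_ringEquiv (Ideal.quotEquivOfEq hII.symm)
      (isCM_quotient_ofList xs.length A hA xs rfl hxs)
  have hqr : CAlgX.IsQuasiRegular f := isQuasiRegular_of_isWeaklyRegular xs hxs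
  have hcov := genLocus_cover_of_span b hb'.1 (Set.range f) rfl
  have hz : z ∈ (⨆ a : Set.range f, genLocus (II f) a.1 b) := by rw [hcov]; trivial
  obtain ⟨⟨_, j, rfl⟩, hzj⟩ := Opens.mem_iSup.1 hz
  have hV : IsAffineOpen (genLocus (II f) (f j) b) := isAffineOpen_genLocus hb' (f j) (f_mem f j)
  obtain ⟨φ, -⟩ := exists_ringEquiv hb' (f j) (f_mem f j)
  have hB : LocCoh.IsCohenMacaulayRing (BlowUp.affineAlgebra A (II f) (f j)) :=
    isCM_affineAlgebra hA hqr hIcm
  haveI : IsNoetherianRing (BlowUp.affineAlgebra A (II f) (f j)) := by haveI := hB; infer_instance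
  haveI : IsNoetherianRing Γ(W, genLocus (II f) (f j) b) := isNoetherianRing_of_ringEquiv _ φ
  have hΓ : LocCoh.IsCohenMacaulayRing Γ(W, genLocus (II f) (f j) b) :=
    Groth.Agent.Lib.Helper21.CMKit.isCM_of_ringEquiv φ hB
  exact isCM_stalk_of_isCMRing hV hΓ z hzj

/-- **The blow-up of a locally Noetherian Cohen–Macaulay scheme along an ideal locally generated
by a weakly regular sequence has Cohen–Macaulay stalks.** -/
theorem stalk_isCM_of_isBlowUp {X Xt : Scheme.{u}} [IsLocallyNoetherian X]
    (hcm : ∀ x : X, LocCoh.IsCohenMacaulayLocalRing (X.presheaf.stalk x))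
    (𝓘 : X.IdealSheafData)
    (hI : ∀ x : X, ∃ U : X.affineOpens, x ∈ U.1 ∧ ∃ rs : List Γ(X, U.1),
      IsWeaklyRegular Γ(X, U.1) rs ∧ 𝓘.ideal U = Ideal.ofList rs)
    (π : Xt ⟶ X) (hπ : BlowUp.IsBlowUp π 𝓘) (z : Xt) :
    LocCoh.IsCohenMacaulayLocalRing (Xt.presheaf.stalk z) := by
  obtain ⟨U', hxU', rs, hwr, hideal⟩ := hI (π z)
  haveI : IsNoetherianRing Γ(X, U'.1) := IsLocallyNoetherian.component_noetherian U'
  have hA : LocCoh.IsCohenMacaulayRing Γ(X, U'.1) := isCMRing_of_stalks U'.2 (fun x _ => hcm x)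
  have h1 := isBlowUp_morphismRestrict hπ U'.1
  have h2 := isBlowUp_comp_iso h1 U'.2.isoSpec
  have h3 : (𝓘.comap U'.1.ι).comap U'.2.isoSpec.inv =
      idealSheaf (A := Γ(X, U'.1)) (𝓘.ideal U') := by
    rw [← Scheme.IdealSheafData.comap_comp, IsAffineOpen.isoSpec_inv_ι]
    exact comap_fromSpec 𝓘 U'
  rw [h3, hideal] at h2
  let z' : (π ⁻¹ᵁ U'.1 : Xt.Opens) := ⟨z, hxU'⟩
  haveI hz' := stalk_isCM_affine hA rs hwr ((π ∣_ U'.1) ≫ U'.2.isoSpec.hom) h2 z'
  exact Groth.Agent.Lib.Helper7.FibreCM.isCM_of_ringEquiv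
    ((Scheme.Opens.stalkIso (π ⁻¹ᵁ U'.1) z').commRingCatIsoToRingEquiv)

/-- outside the support, an ideal sheaf is locally generated by the weakly regular sequence `[1]` -/
theorem exists_one_of_notMem_support {X : Scheme.{u}} (𝓘 : X.IdealSheafData) (x : X)
    (hx : x ∉ 𝓘.support) :
    ∃ U : X.affineOpens, x ∈ U.1 ∧ ∃ rs : List Γ(X, U.1),
      IsWeaklyRegular Γ(X, U.1) rs ∧ 𝓘.ideal U = Ideal.ofList rs := by
  obtain ⟨U₀, hU₀, hxU₀, -⟩ := Opens.isBasis_iff_nbhd.mp X.isBasis_affineOpens
    (show x ∈ (⊤ : X.Opens) from trivial)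
  let U : X.affineOpens := ⟨U₀, hU₀⟩
  have h1 : x ∉ X.zeroLocus (U := U.1) (𝓘.ideal U) := fun h =>
    hx ((Scheme.IdealSheafData.mem_support_iff_of_mem (U := U) hxU₀).2 h)
  rw [Scheme.mem_zeroLocus_iff] at h1
  push_neg at h1
  obtain ⟨s, hs, hxs⟩ := h1
  refine ⟨X.affineBasicOpen (U := U) s, hxs, [1], ?_, ?_⟩
  · rw [isWeaklyRegular_cons_iff]
    exact ⟨IsSMulRegular.one _, IsWeaklyRegular.nil _ _⟩
  · rw [← 𝓘.map_ideal_basicOpen U s]
    have hu : IsUnit ((X.presheaf.map (homOfLE (X.basicOpen_le s)).op).hom s) := by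
      letI : Algebra Γ(X, U.1) Γ(X, X.basicOpen s) :=
        (X.presheaf.map (homOfLE (X.basicOpen_le s)).op).hom.toAlgebra
      haveI : IsLocalization.Away s Γ(X, X.basicOpen s) := hU₀.isLocalization_basicOpen s
      exact IsLocalization.Away.algebraMap_isUnit s
    rw [Ideal.eq_top_of_isUnit_mem _ (Ideal.mem_map_of_mem _ hs) hu]
    simp [Ideal.ofList]

end Scheme

end Groth.Agent.Lib.Helper7.BlowRegCM
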