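import Mathlib
import Groth.Agent.Lib.Helper7.BlowRegLfp
import Groth.Agent.Lib.Helper7.BlowRegCM
import Groth.Agent.Lib.Helper5.TransNbhdM
import Groth.Agent.Lib.Helper5.CIOpenA
import Groth.Agent.Lib.helper19.SmCodepth
import Groth.Agent.S2894
import Groth.Agent.S3829

/-!
# Blow-up of a smooth pair (helper7)

For `q : X ⟶ S` smooth and a closed immersion `i : Z ⟶ X` with `i ≫ q` smooth, the blow-up of `X`
along `Z` and its exceptional divisor are smooth over `S`.
-/

set_option backward.isDefEq.respectTransparency false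
set_option autoImplicit false
set_option maxHeartbeats 800000
universe u

open CategoryTheory CategoryTheory.Limits AlgebraicGeometry TopologicalSpace

namespace Groth.Agent.Lib.Helper7.BlowSmoothPair

open Groth.Agent.Lib.Helper29.EffCart RingTheory.Sequence

variable {Z X X' S : Scheme.{u}}

/-- a closed immersion of smooth `S`-schemes is a regular closed immersion -/
theorem isRegularClosedImmersion_of_smooth (q : X ⟶ S) [Smooth q] (i : Z ⟶ X)
    [IsClosedImmersion i] [Smooth (i ≫ q)] : Mor2.IsRegularClosedImmersion i := by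
  refine Groth.Agent.Lib.Helper5.TransNbhd.isRegularClosedImmersion_of_syntomic_into_smooth q i
    ⟨inferInstance, inferInstance, fun z => ?_⟩
  haveI := (Groth.Agent.Lib.Helper19.SmCodepth.flat_and_fibre_regular (i ≫ q) z
    ⟨⊤, trivial, inferInstance⟩).2
  exact Groth.Agent.Lib.Helper5.CIOpen.isCompleteIntersection_of_isRegularLocalRing _

/-- the ideal of a regular closed immersion is everywhere locally generated by a weakly regular
sequence -/
theorem exists_weaklyRegular (i : Z ⟶ X) (hi : Mor2.IsRegularClosedImmersion i) (x : X) :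
    ∃ U : X.affineOpens, x ∈ U.1 ∧ ∃ rs : List Γ(X, U.1),
      IsWeaklyRegular Γ(X, U.1) rs ∧ i.ker.ideal U = Ideal.ofList rs := by
  obtain ⟨hci, hreg⟩ := hi
  haveI := hci
  by_cases hx : x ∈ i.ker.support
  · have hx' : x ∈ Set.range i := by
      have h1 : (i.ker.support : Set X) = closure (Set.range i) := by
        rw [Scheme.Hom.support_ker]
      have h2 : x ∈ (i.ker.support : Set X) := hx
      rw [h1, i.isClosedEmbedding.isClosed_range.closure_eq] at h2
      exact h2
    obtain ⟨z, rfl⟩ := hx'
    obtain ⟨U, hU, hzU, rs, hrs, hI⟩ := hreg z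
    exact ⟨⟨U, hU⟩, hzU, rs, hrs.toIsWeaklyRegular, hI⟩
  · exact Groth.Agent.Lib.Helper7.BlowRegCM.exists_one_of_notMem_support i.ker x hx

/-- the blow-up along a regular closed immersion is locally of finite presentation -/
theorem lfp_of_isRegularClosedImmersion (i : Z ⟶ X) (hi : Mor2.IsRegularClosedImmersion i)
    (b : X' ⟶ X) (hb : BlowUp.IsBlowUp b i.ker) : LocallyOfFinitePresentation b := by
  refine Groth.Agent.Lib.Helper7.BlowRegLfp.lfp_of_regular i.ker b hb fun x => ?_
  obtain ⟨U, hxU, rs, hrs, hI⟩ := exists_weaklyRegular i hi x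
  exact ⟨U, hxU, rs, Groth.Agent.Lib.Helper7.BlowRegLfp.isH1Regular_of_isWeaklyRegular rs hrs, hI⟩

/-- a morphism from the exceptional divisor to the centre -/
theorem exists_exceptional_hom (i : Z ⟶ X) [IsClosedImmersion i] (b : X' ⟶ X) :
    ∃ g : (BlowUp.exceptional b i.ker).subscheme ⟶ Z,
      g ≫ i = (BlowUp.exceptional b i.ker).subschemeι ≫ b := by
  refine ⟨(i.ker.comapIso b).hom ≫ pullback.snd b i.ker.subschemeι ≫ inv i.toImage, ?_⟩
  have h2 : i.toImage ≫ i.ker.subschemeι = i := i.toImage_imageι
  have h3 : inv i.toImage ≫ i = i.ker.subschemeι := by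
    rw [IsIso.inv_comp_eq, h2]
  rw [Category.assoc, Category.assoc, h3, ← pullback.condition,
    Scheme.IdealSheafData.comapIso_hom_fst_assoc]

/-- **the blow-up of a smooth pair and its exceptional divisor are smooth** -/
theorem smooth_blowUp (q : X ⟶ S) [Smooth q] (i : Z ⟶ X) [IsClosedImmersion i]
    [Smooth (i ≫ q)] (b : X' ⟶ X) (hb : BlowUp.IsBlowUp b i.ker) :
    Smooth (b ≫ q) ∧ Smooth ((BlowUp.exceptional b i.ker).subschemeι ≫ b ≫ q) := by
  have hi := isRegularClosedImmersion_of_smooth q i
  haveI hlfp : LocallyOfFinitePresentation b := lfp_of_isRegularClosedImmersion i hi b hb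
  obtain ⟨g, hg⟩ := exists_exceptional_hom i b
  haveI hgs : Smooth g := Groth.Agent.S2894.result i hi b hb g hg
  have hE : Smooth ((BlowUp.exceptional b i.ker).subschemeι ≫ b ≫ q) := by
    rw [← Category.assoc, ← hg, Category.assoc]
    infer_instance
  refine ⟨?_, hE⟩
  haveI := hE
  -- local smoothness
  have hloc : ∀ x' : X', ∃ W : X'.Opens, x' ∈ W ∧ Smooth (W.ι ≫ b ≫ q) := by
    intro x'
    by_cases hx' : x' ∈ (BlowUp.exceptional b i.ker).support
    · obtain ⟨e, rfl⟩ : ∃ e, (BlowUp.exceptional b i.ker).subschemeι e = x' := by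
        have : x' ∈ Set.range (BlowUp.exceptional b i.ker).subschemeι := by
          rw [Scheme.IdealSheafData.range_subschemeι]; exact hx'
        exact this
      obtain ⟨U, hU, t, ht, hI⟩ := hb.1 ((BlowUp.exceptional b i.ker).subschemeι e)
      refine Groth.Agent.S3829.result (b ≫ q)
        ((BlowUp.exceptional b i.ker).subschemeι ≫ b ≫ q)
        (BlowUp.exceptional b i.ker).subschemeι rfl e ⟨⊤, trivial, inferInstance⟩
        ⟨U.1, U.2, hU, [t], ?_, ?_⟩
      · refine ⟨?_, ?_⟩
        · rw [isWeaklyRegular_cons_iff]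
          exact ⟨(isRegular_iff_mem_nonZeroDivisors.2 ht).left.isSMulRegular,
            IsWeaklyRegular.nil _ _⟩
        · intro htop
          have h1 : Ideal.ofList [t] = (⊤ : Ideal Γ(X', U.1)) := by
            have := htop.symm
            rwa [smul_eq_mul, Ideal.mul_top] at this
          rw [Ideal.ofList_singleton, ← hI] at h1
          have h2 := (Scheme.IdealSheafData.mem_support_iff_of_mem (U := U) hU).1 hx'
          rw [h1, Scheme.mem_zeroLocus_iff] at h2
          have h3 := h2 1 (Submodule.mem_top)
          rw [Scheme.basicOpen_of_isUnit _ isUnit_one] at h3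
          exact h3 hU
      · rw [Scheme.IdealSheafData.ker_subschemeι, hI, Ideal.ofList_singleton]
    · haveI : IsIso (b ∣_ i.ker.support.compl) := IsBlowUp.isIso_morphismRestrict hb
      refine ⟨b ⁻¹ᵁ i.ker.support.compl, ?_, ?_⟩
      · change b x' ∉ i.ker.support
        intro h
        apply hx'
        rw [Scheme.IdealSheafData.support_comap]
        exact h
      · rw [← Category.assoc, ← morphismRestrict_ι, Category.assoc]
        infer_instance
  choose W hxW hW using hloc
  have hsup : ⨆ x', W x' = ⊤ := by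
    rw [eq_top_iff]
    intro x _
    exact Opens.mem_iSup.2 ⟨x, hxW x⟩
  exact IsZariskiLocalAtSource.of_iSup_eq_top (P := @Smooth) W hsup hW

end Groth.Agent.Lib.Helper7.BlowSmoothPair
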