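import Groth.Agent.Lib.Helper7.AffineDimFormula
import Groth.Agent.Lib.Helper21.DepthKit2
import Mathlib.RingTheory.Ideal.AssociatedPrime.Localization

/-!
# Equidimensionality of Cohen–Macaulay affine algebras whose minimal primes lie in one maximal ideal
-/

set_option autoImplicit false
set_option linter.unusedVariables false
set_option linter.style.haveILetI false

namespace Groth.Agent.Lib.Helper7.CMEquidim

open Groth.Agent.Lib.Helper21.DepthKit

universe u w

variable {k : Type w} [Field k] (B : Type u) [CommRing B] [Algebra k B] [Algebra.FiniteType k B]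
  [LocCoh.IsCohenMacaulayRing B]

theorem annihilator_self (C : Type*) [CommRing C] : Module.annihilator C C = ⊥ := by
  rw [eq_bot_iff]
  intro a ha
  have := Module.mem_annihilator.1 ha (1 : C)
  rw [smul_eq_mul, mul_one] at this
  rw [this]; exact Submodule.zero_mem _

include k in
/-- In a Cohen–Macaulay affine algebra all of whose minimal primes lie in a maximal ideal `m`,
every minimal prime `P` has `dim B/P = dim B`. -/
theorem dim_quotient_minimalPrime (m : Ideal B) [hm : m.IsMaximal]
    (hmin : ∀ P ∈ minimalPrimes B, P ≤ m) (P : Ideal B) (hP : P ∈ minimalPrimes B) :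
    ringKrullDim (B ⧸ P) = ringKrullDim B := by
  haveI : IsNoetherianRing B := Algebra.FiniteType.isNoetherianRing k B
  haveI hPprime : P.IsPrime := hP.1.1
  have hdim : ringKrullDim (Localization.AtPrime m) = ringKrullDim B :=
    AffChain.ringKrullDim_localization_eq (k := k) B m hmin
  haveI hCM : LocCoh.IsCohenMacaulayLocalRing (Localization.AtPrime m) :=
    LocCoh.IsCohenMacaulayRing.isCohenMacaulayLocalRing_localization m
  have hsd := hCM.supportDim_eq_depth
  rw [Module.supportDim_self_eq_ringKrullDim] at hsd
  have hdisj : Disjoint (m.primeCompl : Set B) P := by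
    rw [Set.disjoint_left]; intro x hx hxP; exact hx (hmin P hP hxP)
  set Q := P.map (algebraMap B (Localization.AtPrime m)) with hQ
  haveI hQprime : Q.IsPrime :=
    IsLocalization.isPrime_of_isPrime_disjoint m.primeCompl (Localization.AtPrime m) P hPprime hdisj
  have hcomap : Q.comap (algebraMap B (Localization.AtPrime m)) = P :=
    IsLocalization.comap_map_of_isPrime_disjoint m.primeCompl (Localization.AtPrime m) hPprime hdisj
  have hPass : P ∈ associatedPrimes B B := by
    apply Module.associatedPrimes.minimalPrimes_annihilator_subset_associatedPrimes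
    rw [annihilator_self]; exact hP
  have hQass : Q ∈ associatedPrimes (Localization.AtPrime m) (Localization.AtPrime m) := by
    apply Module.associatedPrimes.mem_associatedPrimes_of_comap_mem_associatedPrimes_of_isLocalizedModule
      m.primeCompl (Algebra.linearMap B (Localization.AtPrime m))
    rw [hcomap]; exact hPass
  have h1 := depth_le_ringKrullDim_quotient_of_mem_associatedPrimes
    (A := Localization.AtPrime m) (M := Localization.AtPrime m) hQass
  have h2 : ringKrullDim (Localization.AtPrime m ⧸ Q) ≤ ringKrullDim (B ⧸ P) := by
    have e1 := AffChain.ringKrullDim_quotient_eq_coheight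
      (⟨Q, hQprime⟩ : PrimeSpectrum (Localization.AtPrime m))
    have e2 := AffChain.ringKrullDim_quotient_eq_coheight (⟨P, hPprime⟩ : PrimeSpectrum B)
    change ringKrullDim (Localization.AtPrime m ⧸ Q) = _ at e1
    change ringKrullDim (B ⧸ P) = _ at e2
    rw [e1, e2]
    have hmono : StrictMono (PrimeSpectrum.comap (algebraMap B (Localization.AtPrime m))) := by
      apply Monotone.strictMono_of_injective
      · intro x y hxy
        exact Ideal.comap_mono hxy
      · exact PrimeSpectrum.localization_comap_injective (Localization.AtPrime m) m.primeCompl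
    have h3 := Order.coheight_le_coheight_apply_of_strictMono _ hmono
      (⟨Q, hQprime⟩ : PrimeSpectrum (Localization.AtPrime m))
    have h4 : PrimeSpectrum.comap (algebraMap B (Localization.AtPrime m)) ⟨Q, hQprime⟩ =
        ⟨P, hPprime⟩ := by
      ext1
      exact hcomap
    rw [h4] at h3
    exact_mod_cast h3
  apply le_antisymm (ringKrullDim_quotient_le P)
  calc ringKrullDim B = ringKrullDim (Localization.AtPrime m) := hdim.symm
    _ = _ := hsd
    _ ≤ ringKrullDim (Localization.AtPrime m ⧸ Q) := h1
    _ ≤ _ := h2

end Groth.Agent.Lib.Helper7.CMEquidim
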