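import Groth.Agent.Lib.Helper21.TightKitB
import Groth.Prelude.Def_CAlg

/-!
# Systems of parameters of a Cohen–Macaulay quotient are regular
-/

set_option autoImplicit false
set_option linter.unusedVariables false
set_option linter.style.haveILetI false

universe u

namespace Groth.Agent.Lib.Helper7.IMCM

open IsLocalRing

variable {A : Type u} [CommRing A] [IsLocalRing A]

theorem radical_map_mk_eq (I J : Ideal A) [IsLocalRing (A ⧸ I)] (hJ : J ≤ maximalIdeal A)
    (h : ∀ (q : Ideal A) [q.IsPrime], J ≤ q → I ≤ q → q = maximalIdeal A) :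
    (J.map (Ideal.Quotient.mk I)).radical = maximalIdeal (A ⧸ I) := by
  haveI : IsLocalHom (Ideal.Quotient.mk I) :=
    IsLocalHom.of_surjective _ Ideal.Quotient.mk_surjective
  apply le_antisymm
  · rw [Ideal.IsPrime.radical_le_iff (maximalIdeal.isMaximal _).isPrime, Ideal.map_le_iff_le_comap]
    intro a ha
    rw [Ideal.mem_comap, mem_maximalIdeal, mem_nonunits_iff]
    intro hu
    have : IsUnit a := (isUnit_map_iff (Ideal.Quotient.mk I) a).1 hu
    exact (mem_maximalIdeal a).1 (hJ ha) this
  · rw [Ideal.radical_eq_sInf]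
    apply le_sInf
    rintro P ⟨hJP, hP⟩
    haveI := hP
    haveI hc : (P.comap (Ideal.Quotient.mk I)).IsPrime := Ideal.comap_isPrime _ P
    have h1 : J ≤ P.comap (Ideal.Quotient.mk I) := Ideal.map_le_iff_le_comap.1 hJP
    have h2 : I ≤ P.comap (Ideal.Quotient.mk I) := by
      intro a ha
      rw [Ideal.mem_comap, Ideal.Quotient.eq_zero_iff_mem.2 ha]
      exact Ideal.zero_mem _
    have h3 := h (P.comap (Ideal.Quotient.mk I)) h1 h2
    intro x hx
    obtain ⟨a, rfl⟩ := Ideal.Quotient.mk_surjective x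
    have ha : a ∈ maximalIdeal A := by
      rw [mem_maximalIdeal, mem_nonunits_iff]
      intro hu
      exact (mem_maximalIdeal _).1 hx (hu.map (Ideal.Quotient.mk I))
    rw [← h3] at ha
    exact ha

/-- If `A/I` is a Cohen–Macaulay local ring of dimension `l.length` and `I + (l)` is
`𝔪`-primary, then `l` is a weakly regular sequence on the `A`-module `A/I`. -/
theorem isWeaklyRegular_quot_of_CM (I : Ideal A) (hCM : LocCoh.IsCohenMacaulayLocalRing (A ⧸ I))
    (l : List A) (hl : ∀ a ∈ l, a ∈ maximalIdeal A)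
    (hdim : ringKrullDim (A ⧸ I) = (l.length : ℕ))
    (h : ∀ (q : Ideal A) [q.IsPrime], Ideal.ofList l ≤ q → I ≤ q → q = maximalIdeal A) :
    RingTheory.Sequence.IsWeaklyRegular (A ⧸ I) l := by
  haveI : IsNoetherianRing (A ⧸ I) := hCM.toIsNoetherian
  haveI : IsLocalRing (A ⧸ I) := hCM.toIsLocalRing
  have hCM' : LocCoh.IsCohenMacaulayModule (A ⧸ I) (A ⧸ I) := hCM.supportDim_eq_depth
  have hJ : Ideal.ofList l ≤ maximalIdeal A := by
    rw [Ideal.span_le]
    exact fun a ha => hl a ha
  have hrad := radical_map_mk_eq I (Ideal.ofList l) hJ h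
  rw [Ideal.map_ofList] at hrad
  have hn : Module.supportDim (A ⧸ I) (A ⧸ I) = (l.length : ℕ) := by
    rw [Module.supportDim_self_eq_ringKrullDim, hdim]
  have := Groth.Agent.Lib.Helper21.TightKit.isWeaklyRegular_of_radical hCM' l.length hn
    (l.map (Ideal.Quotient.mk I)) (by simp) hrad
  exact (RingTheory.Sequence.isWeaklyRegular_map_algebraMap_iff (A ⧸ I) (A ⧸ I) l).1 this

end Groth.Agent.Lib.Helper7.IMCM
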