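import Mathlib
import Groth.Agent.Lib.Helper7.IntMultCM

/-!
# A maximal regular sequence on a Cohen–Macaulay quotient `A/I`, with elements in `A`
-/

set_option autoImplicit false
set_option linter.unusedVariables false

universe u

namespace Groth.Agent.Lib.Helper7.CMRegList

open IsLocalRing

variable {A : Type u} [CommRing A] [IsLocalRing A]

/-- If `A/I` is Cohen–Macaulay of dimension `v`, there is a list of `v` elements of `𝔪_A` which
is a (weakly) regular sequence on the `A`-module `A/I`. -/
theorem exists_regular_list (I : Ideal A) (hCM : LocCoh.IsCohenMacaulayLocalRing (A ⧸ I)) (v : ℕ)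
    (hv : ringKrullDim (A ⧸ I) = v) :
    ∃ xs : List A, (∀ x ∈ xs, x ∈ maximalIdeal A) ∧ xs.length = v ∧
      RingTheory.Sequence.IsWeaklyRegular (A ⧸ I) xs := by
  classical
  haveI : IsNoetherianRing (A ⧸ I) := hCM.toIsNoetherian
  haveI : IsLocalRing (A ⧸ I) := hCM.toIsLocalRing
  let π := Ideal.Quotient.mk I
  have hsurj : Function.Surjective π := Ideal.Quotient.mk_surjective
  haveI : IsLocalHom π := IsLocalHom.of_surjective _ hsurj
  obtain ⟨s, hs, hcard⟩ :=
    Ideal.exists_finset_card_eq_height_of_isNoetherianRing (maximalIdeal (A ⧸ I))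
  have hcard' : s.card = v := by
    have h1 : ((maximalIdeal (A ⧸ I)).height : WithBot ℕ∞) = v := by
      rw [IsLocalRing.maximalIdeal_height_eq_ringKrullDim, hv]
    have h2 : (maximalIdeal (A ⧸ I)).height = v := by exact_mod_cast h1
    rw [h2] at hcard
    exact_mod_cast hcard
  have hlift : ∀ x : A ⧸ I, ∃ y : A, π y = x := fun x => hsurj x
  choose lift hlift' using hlift
  refine ⟨s.toList.map lift, ?_, by rw [List.length_map, Finset.length_toList, hcard'], ?_⟩
  · intro x hx
    rw [List.mem_map] at hx
    obtain ⟨y, hy, rfl⟩ := hx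
    rw [Finset.mem_toList] at hy
    have h1 : y ∈ maximalIdeal (A ⧸ I) := hs.1.2 (Ideal.subset_span hy)
    rw [mem_maximalIdeal, mem_nonunits_iff]
    intro hu
    have : IsUnit y := by
      rw [← hlift' y]
      exact hu.map π
    exact (mem_maximalIdeal y).1 h1 this
  · apply Groth.Agent.Lib.Helper7.IMCM.isWeaklyRegular_quot_of_CM I hCM
    · intro x hx
      rw [List.mem_map] at hx
      obtain ⟨y, hy, rfl⟩ := hx
      rw [Finset.mem_toList] at hy
      have h1 : y ∈ maximalIdeal (A ⧸ I) := hs.1.2 (Ideal.subset_span hy)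
      rw [mem_maximalIdeal, mem_nonunits_iff]
      intro hu
      have : IsUnit y := by
        rw [← hlift' y]
        exact hu.map π
      exact (mem_maximalIdeal y).1 h1 this
    · rw [List.length_map, Finset.length_toList, hcard', hv]
    · intro q hq hlq hIq
      have hker : RingHom.ker π ≤ q := by rw [Ideal.mk_ker]; exact hIq
      haveI hqm : (q.map π).IsPrime := Ideal.map_isPrime_of_surjective hsurj hker
      have h1 : Ideal.span (s : Set (A ⧸ I)) ≤ q.map π := by
        rw [Ideal.span_le]
        intro y hy
        rw [← hlift' y]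
        apply Ideal.mem_map_of_mem
        apply hlq
        apply Ideal.subset_span
        show lift y ∈ s.toList.map lift
        rw [List.mem_map]
        exact ⟨y, Finset.mem_toList.2 hy, rfl⟩
      have h2 : q.map π ≤ maximalIdeal (A ⧸ I) := IsLocalRing.le_maximalIdeal hqm.ne_top
      have h3 : maximalIdeal (A ⧸ I) ≤ q.map π := hs.2 ⟨hqm, h1⟩ h2
      have h4 : q.map π = maximalIdeal (A ⧸ I) := le_antisymm h2 h3
      have h5 : q = (q.map π).comap π := by
        rw [Ideal.comap_map_of_surjective π hsurj, ← RingHom.ker_eq_comap_bot]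
        exact (sup_eq_left.2 hker).symm
      rw [h5, h4]
      exact IsLocalRing.maximalIdeal_comap π

end Groth.Agent.Lib.Helper7.CMRegList
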