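import Groth.Agent.Lib.Helper7.StdGrUnmixed
import Groth.Agent.Lib.Helper21.DepthKit11
import Groth.Agent.Lib.Helper2.R0S1

/-!
# Associated primes of `B/bB` for a Cohen–Macaulay ring `B` and a regular element `b`
have height one.
-/

set_option autoImplicit false
set_option linter.unusedVariables false
set_option linter.style.haveILetI false

namespace Groth.Agent.Lib.Helper7.CMRegQ

open Groth.Agent.Lib.Helper21.DepthKit Groth.Agent.Lib.Helper2.R0S1 RingTheory.Sequence

universe u

theorem height_eq_one_of_mem_associatedPrimes {B : Type u} [CommRing B]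
    [LocCoh.IsCohenMacaulayRing B] (b : B) (hb : IsSMulRegular B b) (P : Ideal B)
    (hP : P ∈ associatedPrimes B (B ⧸ Ideal.span {b})) : P.height = 1 := by
  haveI hPprime : P.IsPrime := hP.isPrime
  have hsub : (Ideal.ofList [b] • ⊤ : Submodule B B) = Ideal.span {b} := by
    rw [Ideal.ofList_singleton]
    exact Ideal.mul_top _
  have hP' : P ∈ associatedPrimes B (B ⧸ (Ideal.ofList [b] • ⊤ : Submodule B B)) := by
    rw [hsub]; exact hP
  have hbP : b ∈ P := by
    have := IsAssociatedPrime.annihilator_le hP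
    rw [Submodule.annihilator_top, Ideal.annihilator_quotient] at this
    exact this (Ideal.mem_span_singleton_self b)
  have h0 := (depth_localization_eq_zero_iff
    (M := B ⧸ (Ideal.ofList [b] • ⊤ : Submodule B B)) P).2 hP'
  have hreg : IsWeaklyRegular B [b] := by
    rw [isWeaklyRegular_cons_iff]
    exact ⟨hb, IsWeaklyRegular.nil _ _⟩
  haveI : Nontrivial (LocalizedModule P.primeCompl B) := (locEquiv P).toEquiv.nontrivial
  have h1 := depth_localization_quot_ofList P [b] (by simpa using hbP) hreg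
  rw [h0, depth_congr (locEquiv P)] at h1
  haveI hCM := LocCoh.IsCohenMacaulayRing.isCohenMacaulayLocalRing_localization (R := B) P
  have h2 := hCM.supportDim_eq_depth
  rw [Module.supportDim_self_eq_ringKrullDim, IsLocalization.AtPrime.ringKrullDim_eq_height P,
    ← h1] at h2
  have h3 : P.height = (0 : ℕ∞) + (([b] : List B).length : ℕ∞) := by exact_mod_cast h2
  rw [h3]
  simp

/-- If `J ≤ p` and the image of `p` in `R/J` has height one, then `p` covers a minimal prime of
`J`. -/
theorem exists_minimalPrime_covBy {R : Type*} [CommRing R] (J p : Ideal R) [hp : p.IsPrime]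
    (hJp : J ≤ p) (hht : (p.map (Ideal.Quotient.mk J)).height = 1) :
    ∃ (q : Ideal R) (hq : q ∈ J.minimalPrimes),
      (⟨q, hq.1.1⟩ : PrimeSpectrum R) ⋖ ⟨p, hp⟩ := by
  have hsurj : Function.Surjective (Ideal.Quotient.mk J) := Ideal.Quotient.mk_surjective
  have hker : RingHom.ker (Ideal.Quotient.mk J) ≤ p := by rw [Ideal.mk_ker]; exact hJp
  have hcomap_map : ∀ r : Ideal R, J ≤ r → (r.map (Ideal.Quotient.mk J)).comap
      (Ideal.Quotient.mk J) = r := by
    intro r hr
    rw [Ideal.comap_map_of_surjective _ hsurj, ← RingHom.ker_eq_comap_bot, Ideal.mk_ker,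
      sup_eq_left.2 hr]
  haveI hPprime : (p.map (Ideal.Quotient.mk J)).IsPrime :=
    Ideal.map_isPrime_of_surjective hsurj hker
  obtain ⟨Q, hQmin, hQP⟩ := Ideal.exists_minimalPrimes_le
    (bot_le : (⊥ : Ideal (R ⧸ J)) ≤ p.map (Ideal.Quotient.mk J))
  haveI hQprime : Q.IsPrime := hQmin.1.1
  have hqmin : Q.comap (Ideal.Quotient.mk J) ∈ J.minimalPrimes := by
    rw [Ideal.minimalPrimes_eq_comap]; exact ⟨Q, hQmin, rfl⟩
  have hJq : J ≤ Q.comap (Ideal.Quotient.mk J) := hqmin.1.2
  have hqp : Q.comap (Ideal.Quotient.mk J) ≤ p := by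
    rw [← hcomap_map p hJp]
    exact Ideal.comap_mono hQP
  have hQ0 : Q.height = 0 := (Ideal.height_eq_zero_iff).2 hQmin
  have hne : Q.comap (Ideal.Quotient.mk J) ≠ p := by
    intro h
    have : Q = p.map (Ideal.Quotient.mk J) := by
      rw [← h, Ideal.map_comap_of_surjective _ hsurj]
    rw [← this, hQ0] at hht
    exact absurd hht (by simp)
  have hlt : Q.comap (Ideal.Quotient.mk J) < p := lt_of_le_of_ne hqp hne
  refine ⟨Q.comap (Ideal.Quotient.mk J), hqmin, ⟨hlt, ?_⟩⟩
  intro r hqr hrp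
  haveI := r.isPrime
  have hqr' : Q.comap (Ideal.Quotient.mk J) < r.asIdeal := hqr
  have hrp' : r.asIdeal < p := hrp
  have hJr : J ≤ r.asIdeal := hJq.trans hqr'.le
  have hkerr : RingHom.ker (Ideal.Quotient.mk J) ≤ r.asIdeal := by rw [Ideal.mk_ker]; exact hJr
  haveI hrbar : (r.asIdeal.map (Ideal.Quotient.mk J)).IsPrime :=
    Ideal.map_isPrime_of_surjective hsurj hkerr
  have hQr : Q ≤ r.asIdeal.map (Ideal.Quotient.mk J) := by
    rw [← Ideal.map_comap_of_surjective _ hsurj Q]
    exact Ideal.map_mono hqr'.le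
  have hrP : r.asIdeal.map (Ideal.Quotient.mk J) < p.map (Ideal.Quotient.mk J) := by
    refine lt_of_le_of_ne (Ideal.map_mono hrp'.le) ?_
    intro h
    have := congrArg (Ideal.comap (Ideal.Quotient.mk J)) h
    rw [hcomap_map _ hJr, hcomap_map p hJp] at this
    exact hrp'.ne this
  have h1 := Ideal.height_add_one_le_of_lt_of_isPrime hrP
  rw [hht] at h1
  have hr0 : (r.asIdeal.map (Ideal.Quotient.mk J)).height = 0 := by
    by_contra hne0
    have : 1 ≤ (r.asIdeal.map (Ideal.Quotient.mk J)).height := Order.one_le_iff_pos.2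
      (pos_iff_ne_zero.2 hne0)
    have h2 : (1 : ℕ∞) + 1 ≤ 1 := (add_le_add_left this 1).trans h1
    exact absurd h2 (by decide)
  have hrmin : r.asIdeal.map (Ideal.Quotient.mk J) ∈ minimalPrimes (R ⧸ J) :=
    (Ideal.height_eq_zero_iff).1 hr0
  have hle : r.asIdeal.map (Ideal.Quotient.mk J) ≤ Q := hrmin.2 ⟨hQprime, bot_le⟩ hQr
  have : r.asIdeal ≤ Q.comap (Ideal.Quotient.mk J) := by
    rw [← hcomap_map _ hJr]
    exact Ideal.comap_mono hle
  exact absurd (lt_of_lt_of_le hqr' this) (lt_irrefl _)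

/-- in a polynomial ring over a field, a prime covering another has height one more -/
theorem height_eq_add_one_of_covBy (K : Type u) [Field K] (m : ℕ)
    (q p : PrimeSpectrum (MvPolynomial (Fin m) K)) (hcov : q ⋖ p) :
    p.asIdeal.height = q.asIdeal.height + 1 := by
  haveI := q.isPrime
  haveI := p.isPrime
  have h1 := AffDim.mvPolynomial_height_add K m q.asIdeal
  have h2 := AffDim.mvPolynomial_height_add K m p.asIdeal
  have h3 := CatAff.dim_quotient_covBy_step (k := K) (MvPolynomial (Fin m) K) q p hcov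
  haveI : Nontrivial (MvPolynomial (Fin m) K ⧸ p.asIdeal) :=
    Ideal.Quotient.nontrivial_iff.2 (Ideal.IsPrime.ne_top inferInstance)
  have hd0 : (0 : WithBot ℕ∞) ≤ ringKrullDim (MvPolynomial (Fin m) K ⧸ p.asIdeal) :=
    ringKrullDim_nonneg_of_nontrivial
  have hdm : ringKrullDim (MvPolynomial (Fin m) K ⧸ p.asIdeal) ≤ (m : WithBot ℕ∞) := by
    refine (ringKrullDim_quotient_le p.asIdeal).trans ?_
    rw [MvPolynomial.ringKrullDim_of_isNoetherianRing, ringKrullDim_eq_zero_of_field]
    simp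
  obtain ⟨d₁, hd₁⟩ : ∃ d₁ : ℕ∞, (d₁ : WithBot ℕ∞) =
      ringKrullDim (MvPolynomial (Fin m) K ⧸ p.asIdeal) := by
    apply WithBot.ne_bot_iff_exists.1
    intro h
    rw [h] at hd0
    exact absurd hd0 (by simp)
  have hd₁top : d₁ ≠ ⊤ := by
    rintro rfl
    rw [← hd₁] at hdm
    have : ((⊤ : ℕ∞) : WithBot ℕ∞) ≤ ((m : ℕ∞) : WithBot ℕ∞) := hdm
    rw [WithBot.coe_le_coe] at this
    exact absurd this (by simp)
  rw [← h3, ← hd₁] at h1
  rw [← hd₁] at h2
  have e1 : q.asIdeal.height + (d₁ + 1) = (m : ℕ∞) := by exact_mod_cast h1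
  have e2 : p.asIdeal.height + d₁ = (m : ℕ∞) := by exact_mod_cast h2
  apply ENat.add_left_injective_of_ne_top hd₁top
  show p.asIdeal.height + d₁ = q.asIdeal.height + 1 + d₁
  rw [e2, ← e1]
  ring

end Groth.Agent.Lib.Helper7.CMRegQ
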