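import Groth.Agent.Lib.Helper7.CSACentralizer
import Mathlib.Data.Matrix.Composition
import Mathlib.LinearAlgebra.Matrix.Reindex

set_option autoImplicit false
set_option linter.style.haveILetI false
set_option linter.unusedSectionVars false

namespace Groth.Agent.Lib.Helper7.CSA

open scoped TensorProduct
open Matrix

section brauer

/-- auxiliary form with an abstract simple module -/
theorem end_brauer_aux (k : Type*) [Field k] (R' : Type*) [Ring R'] [Algebra k R']
    [Nontrivial R'] (M : Type*) [AddCommGroup M] [Module k M]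
    [Module R' M] [IsScalarTower k R' M] [Nontrivial M]
    (S : Type*) [AddCommGroup S] [Module k S] [Module R' S] [IsScalarTower k R' S]
    (n m : ℕ)
    (e₁ : M ≃ₗ[R'] (Fin n → S)) (e₂ : R' ≃ₗ[R'] (Fin m → S)) :
    n ≠ 0 ∧ m ≠ 0 ∧ Nonempty (Matrix (Fin m) (Fin m) (Module.End R' M) ≃ₐ[k]
      Matrix (Fin n) (Fin n) R'ᵐᵒᵖ) := by
  classical
  have hn : n ≠ 0 := by
    rintro rfl
    have : Subsingleton M := e₁.toEquiv.subsingleton
    exact not_subsingleton _ this
  have hm : m ≠ 0 := by
    rintro rfl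
    have : Subsingleton R' := e₂.toEquiv.subsingleton
    exact not_subsingleton _ this
  let E₁ : Module.End R' M ≃ₐ[k] Matrix (Fin n) (Fin n) (Module.End R' S) :=
    (e₁.conjAlgEquiv k).trans (endVecAlgEquivMatrixEnd (Fin n) k R' S)
  let E₂ : R'ᵐᵒᵖ ≃ₐ[k] Matrix (Fin m) (Fin m) (Module.End R' S) :=
    (AlgEquiv.moduleEndSelf k).trans
      ((e₂.conjAlgEquiv k).trans (endVecAlgEquivMatrixEnd (Fin m) k R' S))
  refine ⟨hn, hm, ⟨?_⟩⟩
  exact (E₁.mapMatrix (m := Fin m)).trans <|
    (compAlgEquiv (Fin m) (Fin n) (Module.End R' S) k).trans <|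
    (reindexAlgEquiv k (Module.End R' S) (Equiv.prodComm (Fin m) (Fin n))).trans <|
    (compAlgEquiv (Fin n) (Fin m) (Module.End R' S) k).symm.trans <|
    (E₂.symm.mapMatrix (m := Fin n))

/-- the endomorphism algebra of a module over a simple algebra is Brauer equivalent to the
opposite algebra -/
theorem end_brauer (k : Type*) [Field k] (R' : Type*) [Ring R'] [Algebra k R']
    [IsSimpleRing R'] [Module.Finite k R'] (M : Type*) [AddCommGroup M] [Module k M]
    [Module R' M] [IsScalarTower k R' M] [Module.Finite k M] [Nontrivial M] :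
    ∃ n m : ℕ, n ≠ 0 ∧ m ≠ 0 ∧ Nonempty (Matrix (Fin m) (Fin m) (Module.End R' M) ≃ₐ[k]
      Matrix (Fin n) (Fin n) R'ᵐᵒᵖ) := by
  classical
  have : IsArtinianRing R' := IsArtinianRing.of_finite k R'
  have : Module.Finite R' M := Module.Finite.of_restrictScalars_finite k R' M
  obtain ⟨S, hS⟩ := IsSemisimpleModule.exists_simple_submodule R' (M × R')
  have : IsSimpleModule R' S := hS
  have hiso : IsIsotypicOfType R' (M × R') S := IsSimpleRing.isIsotypic R' (M × R') S
  have h₁ : IsIsotypicOfType R' M S :=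
    hiso.of_injective (LinearMap.inl _ _ _) LinearMap.inl_injective
  have h₂ : IsIsotypicOfType R' R' S :=
    hiso.of_injective (LinearMap.inr _ _ _) LinearMap.inr_injective
  obtain ⟨n, ⟨e₁⟩⟩ := h₁.linearEquiv_fun
  obtain ⟨m, ⟨e₂⟩⟩ := h₂.linearEquiv_fun
  exact ⟨n, m, end_brauer_aux k R' M S n m e₁ e₂⟩

end brauer

end Groth.Agent.Lib.Helper7.CSA
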