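import Groth.Agent.Lib.Helper7.CSASkolem
import Mathlib.Algebra.Algebra.Subalgebra.Centralizer
import Mathlib.Algebra.Algebra.Opposite
import Mathlib.LinearAlgebra.Matrix.ToLin
import Mathlib.LinearAlgebra.Dimension.Constructions
import Mathlib.RingTheory.SimpleRing.Matrix
import Mathlib.Tactic.NoncommRing

/-!
# Centralizers in central simple algebras (helper7)
-/

set_option autoImplicit false

namespace Groth.Agent.Lib.Helper7.CSA

open scoped TensorProduct
open MulOpposite

namespace Rep

variable {k : Type*} [Field k] {R : Type*} [Ring R] [Algebra k R] {V : Type*} [AddCommGroup V]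
  [Module k V]

/-- the underlying element -/
def out {ρ : R →ₐ[k] Module.End k V} (x : Rep ρ) : V := x

/-- an element of the underlying space viewed in the module -/
def mk (ρ : R →ₐ[k] Module.End k V) (v : V) : Rep ρ := v

@[simp] lemma out_mk (ρ : R →ₐ[k] Module.End k V) (v : V) : (mk ρ v).out = v := rfl
@[simp] lemma mk_out {ρ : R →ₐ[k] Module.End k V} (x : Rep ρ) : mk ρ x.out = x := rfl
lemma smul_out {ρ : R →ₐ[k] Module.End k V} (r : R) (x : Rep ρ) :
    (r • x).out = ρ r x.out := rfl
lemma add_out {ρ : R →ₐ[k] Module.End k V} (x y : Rep ρ) : (x + y).out = x.out + y.out := rfl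
lemma zero_out {ρ : R →ₐ[k] Module.End k V} : (0 : Rep ρ).out = 0 := rfl
lemma ksmul_out {ρ : R →ₐ[k] Module.End k V} (c : k) (x : Rep ρ) :
    (c • x).out = c • x.out := rfl
lemma out_injective {ρ : R →ₐ[k] Module.End k V} : Function.Injective (out (ρ := ρ)) :=
  fun _ _ h => h

end Rep

section centEnd

variable {k : Type*} [Field k] {A : Type*} [Ring A] [Algebra k A] (B : Subalgebra k A)

/-- the bimodule `A` over `Bᵐᵒᵖ ⊗ A` -/
abbrev BiMod : Type _ := Rep (snRep B.val)

lemma biMod_smul_tmul (b : Bᵐᵒᵖ) (a : A) (x : BiMod B) :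
    ((b ⊗ₜ[k] a) • x).out = a * x.out * (b.unop : A) := by
  rw [Rep.smul_out, snRep_tmul]; rfl

/-- right multiplication by an element of the centralizer is an endomorphism of the bimodule -/
noncomputable def centToEnd (c : Subalgebra.centralizer k (B : Set A)) :
    Module.End (Bᵐᵒᵖ ⊗[k] A) (BiMod B) where
  toFun x := Rep.mk _ (x.out * (c : A))
  map_add' x y := by
    apply Rep.out_injective
    simp only [Rep.out_mk, Rep.add_out, add_mul]
  map_smul' r x := by
    apply Rep.out_injective
    simp only [RingHom.id_apply, Rep.out_mk]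
    induction r using TensorProduct.induction_on with
    | zero =>
      rw [Rep.smul_out, Rep.smul_out, map_zero, LinearMap.zero_apply, LinearMap.zero_apply,
        zero_mul]
    | tmul b a =>
      rw [biMod_smul_tmul, biMod_smul_tmul, Rep.out_mk]
      have hc := (Subalgebra.mem_centralizer_iff k).1 c.2 (b.unop : A) b.unop.2
      rw [mul_assoc (a * x.out), hc]
      noncomm_ring
    | add r s hr hs =>
      rw [Rep.smul_out, Rep.smul_out] at hr hs ⊢
      rw [map_add, LinearMap.add_apply, LinearMap.add_apply, add_mul, hr, hs]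

lemma centToEnd_apply (c : Subalgebra.centralizer k (B : Set A)) (x : BiMod B) :
    (centToEnd B c x).out = x.out * (c : A) := rfl

/-- the endomorphism algebra of the bimodule is the opposite of the centralizer -/
noncomputable def centEndAlgHom :
    (Subalgebra.centralizer k (B : Set A))ᵐᵒᵖ →ₐ[k] Module.End (Bᵐᵒᵖ ⊗[k] A) (BiMod B) where
  toFun c := centToEnd B c.unop
  map_one' := by
    ext x; apply Rep.out_injective
    simp [centToEnd_apply]
  map_mul' c₁ c₂ := by
    ext x; apply Rep.out_injective
    simp only [Module.End.mul_apply, centToEnd_apply, unop_mul, Subalgebra.coe_mul]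
    exact (mul_assoc _ _ _).symm
  map_zero' := by
    ext x; apply Rep.out_injective
    simp [centToEnd_apply, Rep.zero_out]
  map_add' c₁ c₂ := by
    ext x; apply Rep.out_injective
    simp only [LinearMap.add_apply, centToEnd_apply, unop_add, Subalgebra.coe_add, Rep.add_out]
    exact mul_add _ _ _
  commutes' r := by
    ext x; apply Rep.out_injective
    simp only [centToEnd_apply, Module.algebraMap_end_apply, Rep.ksmul_out]
    rw [MulOpposite.algebraMap_apply, unop_op, Subalgebra.coe_algebraMap, ← Algebra.commutes,
      Algebra.smul_def]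

lemma centEndAlgHom_bijective : Function.Bijective (centEndAlgHom B) := by
  constructor
  · intro c₁ c₂ h
    have h1 := congrArg Rep.out (LinearMap.congr_fun h (Rep.mk _ (1 : A)))
    change (Rep.mk _ (1 : A)).out * (c₁.unop : A) = (Rep.mk _ (1 : A)).out * (c₂.unop : A) at h1
    rw [Rep.out_mk, one_mul, one_mul] at h1
    exact unop_injective (Subtype.ext h1)
  · intro φ
    set e : BiMod B := Rep.mk _ (1 : A) with he
    set u : A := (φ e).out with hu
    have hφ : ∀ x : BiMod B, (φ x).out = x.out * u := by
      intro x
      have h1 := congrArg Rep.out (φ.map_smul ((op (1 : B)) ⊗ₜ[k] x.out) e)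
      rw [biMod_smul_tmul] at h1
      have h2 : ((op (1 : B)) ⊗ₜ[k] x.out) • e = x := by
        apply Rep.out_injective
        rw [biMod_smul_tmul, he, Rep.out_mk]
        simp
      rw [h2] at h1
      rw [h1]; simp [hu]
    have huC : u ∈ Subalgebra.centralizer k (B : Set A) := by
      rw [Subalgebra.mem_centralizer_iff]
      intro b hb
      have h1 := congrArg Rep.out (φ.map_smul ((op (⟨b, hb⟩ : B)) ⊗ₜ[k] (1 : A)) e)
      rw [biMod_smul_tmul] at h1
      have h2 : (((op (⟨b, hb⟩ : B)) ⊗ₜ[k] (1 : A)) • e).out = b := by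
        rw [biMod_smul_tmul, he, Rep.out_mk]; simp
      rw [hφ, h2] at h1
      simp only [unop_op, one_mul] at h1
      rw [h1]
    refine ⟨op ⟨u, huC⟩, ?_⟩
    ext x
    apply Rep.out_injective
    change x.out * u = (φ x).out
    exact (hφ x).symm

/-- `Cᵐᵒᵖ ≃ End` -/
noncomputable def centEndAlgEquiv :
    (Subalgebra.centralizer k (B : Set A))ᵐᵒᵖ ≃ₐ[k] Module.End (Bᵐᵒᵖ ⊗[k] A) (BiMod B) :=
  AlgEquiv.ofBijective (centEndAlgHom B) (centEndAlgHom_bijective B)

end centEnd

section abstract

/-- auxiliary form with an abstract simple module -/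
theorem end_simple_and_finrank_aux (k : Type*) [Field k] (R' : Type*) [Ring R'] [Algebra k R']
    [Module.Finite k R'] [Nontrivial R'] (M : Type*) [AddCommGroup M] [Module k M]
    [Module R' M] [IsScalarTower k R' M] [Module.Finite k M] [Nontrivial M]
    (S : Type*) [AddCommGroup S] [Module k S] [Module R' S] [IsScalarTower k R' S]
    [IsSimpleModule R' S] [Module.Finite k S] (n m : ℕ)
    (e₁ : M ≃ₗ[R'] (Fin n → S)) (e₂ : R' ≃ₗ[R'] (Fin m → S)) :
    IsSimpleRing (Module.End R' M) ∧
      Module.finrank k M ^ 2 = Module.finrank k R' * Module.finrank k (Module.End R' M) := by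
  classical
  have hn : n ≠ 0 := by
    rintro rfl
    have : Subsingleton M := e₁.toEquiv.subsingleton
    exact not_subsingleton _ this
  have hm : m ≠ 0 := by
    rintro rfl
    have : Subsingleton R' := e₂.toEquiv.subsingleton
    exact not_subsingleton _ this
  have : NeZero n := ⟨hn⟩
  let E₁ : Module.End R' M ≃ₐ[k] Matrix (Fin n) (Fin n) (Module.End R' S) :=
    (e₁.conjAlgEquiv k).trans (endVecAlgEquivMatrixEnd (Fin n) k R' S)
  let E₂ : Module.End R' R' ≃ₐ[k] Matrix (Fin m) (Fin m) (Module.End R' S) :=
    (e₂.conjAlgEquiv k).trans (endVecAlgEquivMatrixEnd (Fin m) k R' S)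
  constructor
  · have h0 : IsSimpleRing (Module.End R' S) := DivisionRing.isSimpleRing _
    have h1 : IsSimpleRing (Matrix (Fin n) (Fin n) (Module.End R' S)) := inferInstance
    exact IsSimpleRing.of_ringEquiv E₁.symm.toRingEquiv h1
  · set d := Module.finrank k (Module.End R' S) with hd
    set s := Module.finrank k S with hs
    have H1 : Module.finrank k (Module.End R' M) = n * n * d := by
      rw [E₁.toLinearEquiv.finrank_eq, Module.finrank_matrix, Fintype.card_fin]
    have H2 : Module.finrank k R' = m * m * d := by
      rw [(MulOpposite.opLinearEquiv k).finrank_eq,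
        ((AlgEquiv.moduleEndSelf k).trans E₂).toLinearEquiv.finrank_eq, Module.finrank_matrix,
        Fintype.card_fin]
    have H3 : Module.finrank k M = n * s := by
      have := (e₁.restrictScalars k).finrank_eq
      rw [Module.finrank_pi_fintype] at this
      simpa using this
    have H4 : Module.finrank k R' = m * s := by
      have := (e₂.restrictScalars k).finrank_eq
      rw [Module.finrank_pi_fintype] at this
      simpa using this
    have hmpos : 0 < m := Nat.pos_of_ne_zero hm
    have hsd : m * d = s := by
      have : m * (m * d) = m * s := by rw [← mul_assoc, ← H2, H4]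
      exact Nat.eq_of_mul_eq_mul_left hmpos this
    rw [H1, H2, H3, ← hsd]; ring

/-- endomorphism ring of a module over a finite-dimensional simple algebra -/
theorem end_simple_and_finrank (k : Type*) [Field k] (R' : Type*) [Ring R'] [Algebra k R']
    [IsSimpleRing R'] [Module.Finite k R'] (M : Type*) [AddCommGroup M] [Module k M]
    [Module R' M] [IsScalarTower k R' M] [Module.Finite k M] [Nontrivial M] :
    IsSimpleRing (Module.End R' M) ∧
      Module.finrank k M ^ 2 = Module.finrank k R' * Module.finrank k (Module.End R' M) := by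
  classical
  have : IsArtinianRing R' := IsArtinianRing.of_finite k R'
  have : Module.Finite R' M := Module.Finite.of_restrictScalars_finite k R' M
  obtain ⟨S, hS⟩ := IsSemisimpleModule.exists_simple_submodule R' (M × R')
  have : IsSimpleModule R' S := hS
  have hSfin : Module.Finite k S :=
    Module.Finite.of_injective (S.subtype.restrictScalars k) Subtype.val_injective
  have hiso : IsIsotypicOfType R' (M × R') S := IsSimpleRing.isIsotypic R' (M × R') S
  have h₁ : IsIsotypicOfType R' M S :=
    hiso.of_injective (LinearMap.inl _ _ _) LinearMap.inl_injective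
  have h₂ : IsIsotypicOfType R' R' S :=
    hiso.of_injective (LinearMap.inr _ _ _) LinearMap.inr_injective
  obtain ⟨n, ⟨e₁⟩⟩ := h₁.linearEquiv_fun
  obtain ⟨m, ⟨e₂⟩⟩ := h₂.linearEquiv_fun
  exact end_simple_and_finrank_aux k R' M S n m e₁ e₂

end abstract

section main

variable (k : Type*) [Field k] (A : Type*) [Ring A] [Algebra k A] [Algebra.IsCentral k A]
  [IsSimpleRing A] [FiniteDimensional k A] (B : Subalgebra k A) [IsSimpleRing B]

/-- the centralizer of a simple subalgebra of a central simple algebra is simple, with the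
dimension formula -/
theorem centralizer_simple_and_finrank :
    IsSimpleRing (Subalgebra.centralizer k (B : Set A)) ∧
    Module.finrank k A =
      Module.finrank k B * Module.finrank k (Subalgebra.centralizer k (B : Set A)) := by
  have : IsSimpleRing (Bᵐᵒᵖ ⊗[k] A) := isSimpleRing_tensor k Bᵐᵒᵖ A
  have hMnt : Nontrivial (BiMod B) := inferInstanceAs (Nontrivial A)
  obtain ⟨h1, h2⟩ := end_simple_and_finrank k (Bᵐᵒᵖ ⊗[k] A) (BiMod B)
  constructor
  · have h2' : IsSimpleRing (Subalgebra.centralizer k (B : Set A))ᵐᵒᵖ :=
      IsSimpleRing.of_ringEquiv (centEndAlgEquiv B).symm.toRingEquiv h1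
    have h3 : IsSimpleRing (Subalgebra.centralizer k (B : Set A))ᵐᵒᵖᵐᵒᵖ := inferInstance
    exact IsSimpleRing.of_ringEquiv (RingEquiv.opOp _).symm h3
  · have hC : Module.finrank k (Subalgebra.centralizer k (B : Set A)) =
        Module.finrank k (Module.End (Bᵐᵒᵖ ⊗[k] A) (BiMod B)) := by
      rw [(MulOpposite.opLinearEquiv k).finrank_eq, (centEndAlgEquiv B).toLinearEquiv.finrank_eq]
    have hR : Module.finrank k (Bᵐᵒᵖ ⊗[k] A) = Module.finrank k B * Module.finrank k A := by
      rw [Module.finrank_tensorProduct, ← (MulOpposite.opLinearEquiv k).finrank_eq]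
    have hM : Module.finrank k (BiMod B) = Module.finrank k A := rfl
    rw [hM, hR, ← hC] at h2
    have ha : 0 < Module.finrank k A := Module.finrank_pos
    have h3 : Module.finrank k A * Module.finrank k A = Module.finrank k A *
        (Module.finrank k B * Module.finrank k (Subalgebra.centralizer k (B : Set A))) := by
      rw [← pow_two, h2]; ring
    exact Nat.eq_of_mul_eq_mul_left ha h3

end main

end Groth.Agent.Lib.Helper7.CSA
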