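import Mathlib.Algebra.Central.Basic
import Mathlib.RingTheory.SimpleRing.Basic
import Mathlib.RingTheory.TensorProduct.Basic
import Mathlib.LinearAlgebra.TensorProduct.Basis
import Mathlib.LinearAlgebra.Basis.VectorSpace
import Mathlib.RingTheory.TwoSidedIdeal.Operations
import Mathlib.RingTheory.Flat.Basic

/-!
# Central simple algebras: the core descent lemma (helper7)
-/

set_option autoImplicit false

namespace Groth.Agent.Lib.Helper7.CSA

open scoped TensorProduct
open MulOpposite

section core

variable {k : Type*} [Field k] {K : Type*} [Ring K] [Algebra k K] [IsSimpleRing K]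
  [Algebra.IsCentral k K] {J : Type*}

/-- Core lemma: a sub-bimodule of a free bimodule over a central simple algebra is generated by
its elements with scalar coefficients. -/
theorem core (N : AddSubgroup (J →₀ K)) (hl : ∀ (c : K) x, x ∈ N → c • x ∈ N)
    (hr : ∀ (c : K) x, x ∈ N → op c • x ∈ N) :
    ∀ x ∈ N, x ∈ AddSubgroup.closure {z : J →₀ K | ∃ (v : J →₀ k) (c : K),
      v.mapRange (algebraMap k K) (map_zero _) ∈ N ∧
        z = op c • v.mapRange (algebraMap k K) (map_zero _)} := by
  classical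
  set G := AddSubgroup.closure {z : J →₀ K | ∃ (v : J →₀ k) (c : K),
      v.mapRange (algebraMap k K) (map_zero _) ∈ N ∧
        z = op c • v.mapRange (algebraMap k K) (map_zero _)} with hG
  have main : ∀ n : ℕ, ∀ x ∈ N, x.support.card = n → x ∈ G := by
    intro n
    induction n using Nat.strong_induction_on with
    | _ n ih =>
      intro x hxN hcard
      by_cases hx0 : x = 0
      · rw [hx0]; exact G.zero_mem
      let P : ℕ → Prop := fun m => ∃ y ∈ N, y ≠ 0 ∧ y.support ⊆ x.support ∧ y.support.card = m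
      have hP : ∃ m, P m := ⟨_, x, hxN, hx0, subset_rfl, rfl⟩
      obtain ⟨y, hyN, hy0, hysub, hycard⟩ := Nat.find_spec hP
      have hmin : ∀ y' ∈ N, y' ≠ 0 → y'.support ⊆ x.support →
          Nat.find hP ≤ y'.support.card :=
        fun y' h1 h2 h3 => Nat.find_min' hP ⟨y', h1, h2, h3, rfl⟩
      obtain ⟨j₀, hj₀⟩ : ∃ j₀, j₀ ∈ y.support := (Finsupp.support_nonempty_iff.2 hy0)
      let L : TwoSidedIdeal K := TwoSidedIdeal.mk'
        {b | ∃ y' ∈ N, y'.support ⊆ y.support ∧ y' j₀ = b}
        ⟨0, N.zero_mem, by simp, rfl⟩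
        (by
          rintro a b ⟨y₁, h1, h2, rfl⟩ ⟨y₂, h3, h4, rfl⟩
          refine ⟨y₁ + y₂, N.add_mem h1 h3, ?_, rfl⟩
          exact (Finsupp.support_add).trans (Finset.union_subset h2 h4))
        (by
          rintro a ⟨y₁, h1, h2, rfl⟩
          refine ⟨-y₁, N.neg_mem h1, ?_, rfl⟩
          rw [Finsupp.support_neg]; exact h2)
        (by
          rintro a b ⟨y₁, h1, h2, rfl⟩
          refine ⟨a • y₁, hl a y₁ h1, ?_, by simp⟩
          exact (Finsupp.support_smul).trans h2)
        (by
          rintro a b ⟨y₁, h1, h2, rfl⟩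
          refine ⟨op b • y₁, hr b y₁ h1, ?_, by simp⟩
          exact (Finsupp.support_smul).trans h2)
      have h1L : (1 : K) ∈ L := by
        refine IsSimpleRing.one_mem_of_ne_zero_mem L (Finsupp.mem_support_iff.1 hj₀) ?_
        rw [TwoSidedIdeal.mem_mk']
        exact ⟨y, hyN, subset_rfl, rfl⟩
      rw [TwoSidedIdeal.mem_mk'] at h1L
      obtain ⟨y', hy'N, hy'sub, hy'1⟩ := h1L
      have hy'0 : y' ≠ 0 := by
        intro h; rw [h] at hy'1; simp at hy'1
      have hy'supp : y'.support = y.support :=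
        Finset.eq_of_subset_of_card_le hy'sub
          (by rw [hycard]; exact hmin y' hy'N hy'0 (hy'sub.trans hysub))
      have hcomm : ∀ (c : K) (j : J), c * y' j = y' j * c := by
        intro c j
        set z := c • y' - op c • y' with hz
        have hzN : z ∈ N := N.sub_mem (hl c y' hy'N) (hr c y' hy'N)
        have hzj : ∀ i, z i = c * y' i - y' i * c := by
          intro i; simp [hz]
        have hzsub : z.support ⊆ y.support.erase j₀ := by
          intro i hi
          rw [Finsupp.mem_support_iff, hzj] at hi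
          rw [Finset.mem_erase]
          constructor
          · rintro rfl; apply hi; rw [hy'1]; simp
          · rw [← hy'supp, Finsupp.mem_support_iff]; intro h0; apply hi; rw [h0]; simp
        by_contra hne
        have hz0 : z ≠ 0 := by
          intro h
          apply hne
          have := hzj j
          rw [h] at this
          exact (sub_eq_zero.1 this.symm)
        have h1 := hmin z hzN hz0 ((hzsub.trans (Finset.erase_subset _ _)).trans hysub)
        have hlt : z.support.card < y.support.card :=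
          lt_of_le_of_lt (Finset.card_le_card hzsub) (Finset.card_erase_lt_of_mem hj₀)
        omega
      have hscal : ∀ j, ∃ a : k, y' j = algebraMap k K a := by
        intro j
        have : y' j ∈ Subalgebra.center k K := by
          rw [Subalgebra.mem_center_iff]; intro c; exact hcomm c j
        exact (Algebra.IsCentral.mem_center_iff k).1 this
      choose a ha using hscal
      have hinj : Function.Injective (algebraMap k K) := (algebraMap k K).injective
      let v : J →₀ k := Finsupp.onFinset y'.support a (by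
        intro j hj
        rw [Finsupp.mem_support_iff]
        intro h0
        apply hj
        apply hinj
        rw [← ha j, h0, map_zero])
      have hv : v.mapRange (algebraMap k K) (map_zero _) = y' := by
        ext j; simp [v, ha j]
      set x' := x - op (x j₀) • y' with hx'
      have hx'N : x' ∈ N := N.sub_mem hxN (hr _ _ hy'N)
      have hx'sub : x'.support ⊆ x.support.erase j₀ := by
        intro i hi
        rw [Finsupp.mem_support_iff] at hi
        rw [Finset.mem_erase]
        constructor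
        · rintro rfl; apply hi; simp [hx', hy'1]
        · by_contra hix
          apply hi
          have h1 : x i = 0 := by rwa [Finsupp.mem_support_iff, not_not] at hix
          have h2 : y' i = 0 := by
            have : i ∉ y'.support := fun h => hix (hysub (hy'supp ▸ h))
            rwa [Finsupp.mem_support_iff, not_not] at this
          simp [hx', h1, h2]
      have hx'card : x'.support.card < n := by
        rw [← hcard]
        exact lt_of_le_of_lt (Finset.card_le_card hx'sub)
          (Finset.card_erase_lt_of_mem (hysub hj₀))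
      have hx'G : x' ∈ G := ih _ hx'card x' hx'N rfl
      have hgen : op (x j₀) • y' ∈ G :=
        AddSubgroup.subset_closure ⟨v, x j₀, by rw [hv]; exact hy'N, by rw [hv]⟩
      have hxx : x = x' + op (x j₀) • y' := by rw [hx']; abel
      rw [hxx]; exact G.add_mem hx'G hgen
  exact fun x hx => main _ x hx rfl

end core

section tensor

variable {k : Type*} [Field k] {A : Type*} [Ring A] [Algebra k A]
  {K : Type*} [Ring K] [Algebra k K] {J : Type*}

/-- coordinates of an element of `A ⊗ K` in a basis of `A` -/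
noncomputable def coord (𝔟 : Module.Basis J k A) : A ⊗[k] K ≃ₗ[k] (J →₀ K) :=
  haveI := Classical.decEq J
  TensorProduct.equivFinsuppOfBasisLeft 𝔟

lemma coord_tmul_apply (𝔟 : Module.Basis J k A) (a : A) (b : K) (j : J) :
    coord 𝔟 (a ⊗ₜ[k] b) j = 𝔟.repr a j • b := by
  classical
  simp only [coord]
  convert TensorProduct.equivFinsuppOfBasisLeft_apply_tmul_apply 𝔟 a b j

lemma coord_mul_left (𝔟 : Module.Basis J k A) (c : K) (x : A ⊗[k] K) :
    coord 𝔟 ((1 ⊗ₜ c) * x) = c • coord 𝔟 x := by
  induction x using TensorProduct.induction_on with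
  | zero => simp
  | tmul a b =>
    ext j
    rw [Algebra.TensorProduct.tmul_mul_tmul, one_mul, coord_tmul_apply, Finsupp.smul_apply,
      coord_tmul_apply, smul_eq_mul, mul_smul_comm]
  | add x y hx hy => rw [mul_add, map_add, map_add, hx, hy, smul_add]

lemma coord_mul_right (𝔟 : Module.Basis J k A) (c : K) (x : A ⊗[k] K) :
    coord 𝔟 (x * (1 ⊗ₜ c)) = op c • coord 𝔟 x := by
  induction x using TensorProduct.induction_on with
  | zero => simp
  | tmul a b =>
    ext j
    rw [Algebra.TensorProduct.tmul_mul_tmul, mul_one, coord_tmul_apply, Finsupp.smul_apply,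
      coord_tmul_apply, MulOpposite.smul_eq_mul_unop, unop_op, smul_mul_assoc]
  | add x y hx hy => rw [add_mul, map_add, map_add, hx, hy, smul_add]

lemma coord_tmul_one (𝔟 : Module.Basis J k A) (a : A) :
    coord (K := K) 𝔟 (a ⊗ₜ[k] 1) = (𝔟.repr a).mapRange (algebraMap k K) (map_zero _) := by
  ext j
  rw [coord_tmul_apply, Finsupp.mapRange_apply, Algebra.algebraMap_eq_smul_one]

/-- Tensor version of the core lemma. -/
theorem tensor_core [IsSimpleRing K] [Algebra.IsCentral k K] (I : AddSubgroup (A ⊗[k] K))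
    (hl : ∀ (c : K) x, x ∈ I → (1 ⊗ₜ c) * x ∈ I) (hr : ∀ (c : K) x, x ∈ I → x * (1 ⊗ₜ c) ∈ I) :
    ∀ x ∈ I, x ∈ AddSubgroup.closure
      {z | ∃ (a : A) (c : K), a ⊗ₜ[k] (1 : K) ∈ I ∧ z = a ⊗ₜ[k] c} := by
  classical
  let 𝔟 := Module.Basis.ofVectorSpace k A
  let ψ := coord (K := K) 𝔟
  let N : AddSubgroup (_ →₀ K) := I.map ψ.toAddMonoidHom
  have hN : ∀ z, z ∈ N ↔ ψ.symm z ∈ I := by
    intro z
    constructor
    · rintro ⟨w, hw, rfl⟩
      change ψ.symm (ψ w) ∈ I
      rw [ψ.symm_apply_apply]; exact hw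
    · intro h
      exact ⟨ψ.symm z, h, ψ.apply_symm_apply z⟩
  have hlN : ∀ (c : K) z, z ∈ N → c • z ∈ N := by
    rintro c _ ⟨w, hw, rfl⟩
    refine ⟨(1 ⊗ₜ c) * w, hl c w hw, ?_⟩
    exact coord_mul_left 𝔟 c w
  have hrN : ∀ (c : K) z, z ∈ N → op c • z ∈ N := by
    rintro c _ ⟨w, hw, rfl⟩
    refine ⟨w * (1 ⊗ₜ c), hr c w hw, ?_⟩
    exact coord_mul_right 𝔟 c w
  intro x hx
  have h := core (k := k) N hlN hrN (ψ x) ⟨x, hx, rfl⟩
  have hxx : x = ψ.symm (ψ x) := (ψ.symm_apply_apply x).symm
  rw [hxx]
  refine AddSubgroup.closure_induction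
    (p := fun z _ => ψ.symm z ∈ AddSubgroup.closure
      {z | ∃ (a : A) (c : K), a ⊗ₜ[k] (1 : K) ∈ I ∧ z = a ⊗ₜ[k] c}) ?_ ?_ ?_ ?_ h
  · rintro z ⟨v, c, hvN, rfl⟩
    apply AddSubgroup.subset_closure
    have h1 : ψ ((𝔟.repr.symm v) ⊗ₜ[k] (1 : K)) =
        v.mapRange (algebraMap k K) (map_zero _) := by
      rw [coord_tmul_one, LinearEquiv.apply_symm_apply]
    refine ⟨𝔟.repr.symm v, c, ?_, ?_⟩
    · rw [hN, ← h1, ψ.symm_apply_apply] at hvN
      exact hvN
    · rw [LinearEquiv.symm_apply_eq, ← h1]
      have := coord_mul_right (K := K) 𝔟 c ((𝔟.repr.symm v) ⊗ₜ[k] (1 : K))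
      rw [Algebra.TensorProduct.tmul_mul_tmul, mul_one, one_mul] at this
      exact this.symm
  · simp
  · intro a b _ _ ha hb
    rw [map_add]; exact AddSubgroup.add_mem _ ha hb
  · intro a _ ha
    rw [map_neg]; exact AddSubgroup.neg_mem _ ha

/-- the additive subgroup underlying a two-sided ideal -/
def addSubgroupOf {R : Type*} [NonUnitalNonAssocRing R] (I : TwoSidedIdeal R) : AddSubgroup R where
  carrier := I
  add_mem' := I.add_mem
  zero_mem' := I.zero_mem
  neg_mem' := I.neg_mem

/-- elements of a two-sided ideal of `A ⊗ K`, `K` central simple, are sums of `a ⊗ c` with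
`a ⊗ 1` in the ideal -/
theorem mem_closure_of_mem_twoSidedIdeal [IsSimpleRing K] [Algebra.IsCentral k K]
    (I : TwoSidedIdeal (A ⊗[k] K)) (x : A ⊗[k] K) (hx : x ∈ I) :
    x ∈ AddSubgroup.closure
      {z | ∃ (a : A) (c : K), a ⊗ₜ[k] (1 : K) ∈ I ∧ z = a ⊗ₜ[k] c} :=
  tensor_core (addSubgroupOf I) (fun c x hx => I.mul_mem_left _ _ hx)
    (fun c x hx => I.mul_mem_right _ _ hx) x hx

/-- `A ⊗ K` is simple when `A` is simple and `K` is central simple. -/
theorem isSimpleRing_tensor (k : Type*) [Field k] (A : Type*) [Ring A] [Algebra k A]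
    [IsSimpleRing A] (K : Type*) [Ring K] [Algebra k K] [IsSimpleRing K]
    [Algebra.IsCentral k K] : IsSimpleRing (A ⊗[k] K) := by
  have : Nontrivial (A ⊗[k] K) :=
    Algebra.TensorProduct.nontrivial_of_algebraMap_injective_of_flat_left (R := k) A K
      (algebraMap k K).injective
  refine IsSimpleRing.of_eq_bot_or_eq_top fun I => ?_
  by_cases hI : I = ⊥
  · exact Or.inl hI
  right
  have hex : ∃ a : A, a ≠ 0 ∧ a ⊗ₜ[k] (1 : K) ∈ I := by
    by_contra hcon
    push Not at hcon
    apply hI
    rw [eq_bot_iff]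
    intro x hx
    have h := mem_closure_of_mem_twoSidedIdeal I x hx
    have hS : {z : A ⊗[k] K | ∃ (a : A) (c : K), a ⊗ₜ[k] (1 : K) ∈ I ∧ z = a ⊗ₜ[k] c} ⊆ {0} := by
      rintro z ⟨a, c, ha, rfl⟩
      by_cases ha0 : a = 0
      · simp [ha0]
      · exact absurd ha (hcon a ha0)
    have h2 := AddSubgroup.closure_mono hS h
    rw [AddSubgroup.closure_singleton_zero, AddSubgroup.mem_bot] at h2
    rw [h2]; exact TwoSidedIdeal.zero_mem _
  obtain ⟨a, ha0, haI⟩ := hex
  let L : TwoSidedIdeal A := TwoSidedIdeal.mk' {a | a ⊗ₜ[k] (1 : K) ∈ I}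
    (by simp [I.zero_mem])
    (by intro a b ha hb; simp only [Set.mem_setOf_eq] at *; rw [TensorProduct.add_tmul]; exact I.add_mem ha hb)
    (by intro a ha; simp only [Set.mem_setOf_eq] at *; rw [TensorProduct.neg_tmul]; exact I.neg_mem ha)
    (by
      intro a b hb
      simp only [Set.mem_setOf_eq] at *
      have : (a * b) ⊗ₜ[k] (1 : K) = (a ⊗ₜ 1) * (b ⊗ₜ 1) := by
        rw [Algebra.TensorProduct.tmul_mul_tmul, one_mul]
      rw [this]; exact I.mul_mem_left _ _ hb)
    (by
      intro a b ha
      simp only [Set.mem_setOf_eq] at *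
      have : (a * b) ⊗ₜ[k] (1 : K) = (a ⊗ₜ 1) * (b ⊗ₜ 1) := by
        rw [Algebra.TensorProduct.tmul_mul_tmul, one_mul]
      rw [this]; exact I.mul_mem_right _ _ ha)
  have h1 : (1 : A) ∈ L := by
    refine IsSimpleRing.one_mem_of_ne_zero_mem L ha0 ?_
    rw [TwoSidedIdeal.mem_mk']; exact haI
  rw [TwoSidedIdeal.mem_mk'] at h1
  rw [eq_top_iff]
  intro x _
  have : x = x * ((1 : A) ⊗ₜ[k] (1 : K)) := by
    rw [← Algebra.TensorProduct.one_def, mul_one]
  rw [this]; exact I.mul_mem_left _ _ h1

end tensor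

end Groth.Agent.Lib.Helper7.CSA
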