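import Groth.Agent.Lib.Helper7.CSASplitting
import Mathlib.Algebra.Central.Matrix
import Mathlib.Algebra.Central.TensorProduct
import Mathlib.FieldTheory.IsSepClosed
import Mathlib.RingTheory.Flat.Basic
import Mathlib.LinearAlgebra.Dual.Lemmas
import Mathlib.RingTheory.Congruence.Basic

set_option autoImplicit false
set_option linter.style.haveILetI false
set_option linter.unusedSectionVars false

namespace Groth.Agent.Lib.Helper7.CSA

open scoped TensorProduct

section descent

variable (k : Type*) [Field k] (K : Type*) [Field K] [Algebra k K]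
  (A : Type*) [Ring A] [Algebra k A]

lemma includeRight_injective' :
    Function.Injective (Algebra.TensorProduct.includeRight : A →ₐ[k] K ⊗[k] A) :=
  Algebra.TensorProduct.includeRight_injective (FaithfulSMul.algebraMap_injective k K)

/-- centrality descends along a field extension -/
theorem isCentral_of_baseChange [Algebra.IsCentral K (K ⊗[k] A)] : Algebra.IsCentral k A := by
  refine ⟨fun z hz => ?_⟩
  have hz' : (1 : K) ⊗ₜ[k] z ∈ Subalgebra.center K (K ⊗[k] A) := by
    have := Algebra.TensorProduct.includeRight_map_center_le k K A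
      (Subalgebra.mem_map.2 ⟨z, hz, rfl⟩)
    rw [Subalgebra.mem_center_iff] at this ⊢
    exact this
  obtain ⟨c, hc⟩ := Algebra.mem_bot.1 (Algebra.IsCentral.out hz')
  rw [Algebra.TensorProduct.algebraMap_apply] at hc
  by_contra hzb
  have hzb' : z ∉ Subalgebra.toSubmodule (⊥ : Subalgebra k A) := hzb
  obtain ⟨f, hfz, hf⟩ := Submodule.exists_dual_map_eq_bot_of_notMem hzb' inferInstance
  have hf1 : f 1 = 0 := by
    have : f 1 ∈ (Subalgebra.toSubmodule (⊥ : Subalgebra k A)).map f :=
      Submodule.mem_map_of_mem (one_mem (⊥ : Subalgebra k A))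
    rw [hf] at this
    exact (Submodule.mem_bot k).1 this
  have h1 := congrArg (fun t => TensorProduct.rid k K (LinearMap.lTensor K f t)) hc
  simp only [LinearMap.lTensor_tmul, TensorProduct.rid_tmul, hf1, zero_smul] at h1
  -- h1 : 0 = f z • 1
  apply hfz
  have h2 : algebraMap k K (f z) = 0 := by rw [Algebra.algebraMap_eq_smul_one]; exact h1.symm
  exact (FaithfulSMul.algebraMap_injective k K) (by rw [h2, map_zero])

/-- simplicity descends along a field extension -/
theorem isSimpleRing_of_baseChange [IsSimpleRing (K ⊗[k] A)] : IsSimpleRing A := by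
  have hinj := includeRight_injective' k K A
  haveI : Nontrivial A := by
    by_contra h
    rw [not_nontrivial_iff_subsingleton] at h
    have : Subsingleton (K ⊗[k] A) := by
      refine ⟨fun x y => ?_⟩
      have h0 : ∀ t : K ⊗[k] A, t = 0 := by
        intro t
        induction t using TensorProduct.induction_on with
        | zero => rfl
        | tmul a b => rw [Subsingleton.elim b 0, TensorProduct.tmul_zero]
        | add a b ha hb => rw [ha, hb, add_zero]
      rw [h0 x, h0 y]
    exact not_subsingleton (K ⊗[k] A) this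
  refine IsSimpleRing.of_eq_bot_or_eq_top fun I => ?_
  by_cases hI : I = ⊤
  · exact Or.inr hI
  left
  let q : A →ₐ[k] I.ringCon.Quotient := I.ringCon.mkₐ k
  have hq : ∀ x, q x = 0 ↔ x ∈ I := by
    intro x
    rw [TwoSidedIdeal.mem_iff]
    change (I.ringCon.mk' x = I.ringCon.mk' 0) ↔ _
    exact RingCon.eq _
  haveI : Nontrivial I.ringCon.Quotient := by
    refine ⟨⟨q 1, 0, fun h => hI ?_⟩⟩
    rw [hq] at h
    rw [eq_top_iff]
    intro x _
    have := I.mul_mem_left x 1 h
    rwa [mul_one] at this
  let F : K ⊗[k] A →ₐ[K] K ⊗[k] I.ringCon.Quotient :=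
    Algebra.TensorProduct.map (AlgHom.id K K) q
  haveI : Nontrivial (K ⊗[k] I.ringCon.Quotient) :=
    (includeRight_injective' k K I.ringCon.Quotient).nontrivial
  have hF : Function.Injective F :=
    (IsSimpleRing.injective_ringHom_or_subsingleton_codomain F.toRingHom).resolve_right
      (not_subsingleton _)
  rw [eq_bot_iff]
  intro x hx
  have h1 : F ((1 : K) ⊗ₜ[k] x) = 0 := by
    change (AlgHom.id K K 1) ⊗ₜ[k] q x = 0
    rw [(hq x).2 hx, TensorProduct.tmul_zero]
  have h2 : (1 : K) ⊗ₜ[k] x = 0 := hF (by rw [h1, map_zero])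
  have h3 : x = 0 := hinj (by
    change (1 : K) ⊗ₜ[k] x = (1 : K) ⊗ₜ[k] (0 : A)
    rw [h2, TensorProduct.tmul_zero])
  rw [h3]; exact TwoSidedIdeal.zero_mem _

/-- centrality transfers along algebra isomorphisms (universe polymorphic) -/
theorem isCentral_of_algEquiv' {R : Type*} [CommSemiring R] {B C : Type*} [Semiring B] [Semiring C]
    [Algebra R B] [Algebra R C] [Algebra.IsCentral R B] (e : C ≃ₐ[R] B) : Algebra.IsCentral R C := by
  refine ⟨fun z hz => ?_⟩
  rw [Subalgebra.mem_center_iff] at hz
  have hez : e z ∈ Subalgebra.center R B := by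
    rw [Subalgebra.mem_center_iff]
    intro b
    have := congrArg e (hz (e.symm b))
    rwa [map_mul, map_mul, e.apply_symm_apply] at this
  obtain ⟨c, hc⟩ := Algebra.mem_bot.1 (Algebra.IsCentral.out hez)
  refine Algebra.mem_bot.2 ⟨c, e.injective ?_⟩
  rw [e.commutes, hc]

/-- an algebra split by a field extension is central simple of finite dimension -/
theorem csa_of_splits
    (h : ∃ n : ℕ, n ≠ 0 ∧ Nonempty (K ⊗[k] A ≃ₐ[K] Matrix (Fin n) (Fin n) K)) :
    Algebra.IsCentral k A ∧ IsSimpleRing A ∧ FiniteDimensional k A := by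
  classical
  obtain ⟨n, hn, ⟨e⟩⟩ := h
  haveI : Nonempty (Fin n) := ⟨⟨0, Nat.pos_of_ne_zero hn⟩⟩
  haveI : Algebra.IsCentral K (K ⊗[k] A) := isCentral_of_algEquiv' e
  haveI : IsSimpleRing (K ⊗[k] A) := IsSimpleRing.of_ringEquiv e.symm.toRingEquiv inferInstance
  refine ⟨isCentral_of_baseChange k K A, isSimpleRing_of_baseChange k K A, ?_⟩
  have h1 : Module.finrank K (K ⊗[k] A) = Module.finrank k A := Module.finrank_baseChange
  have h2 : Module.finrank K (K ⊗[k] A) = n * n := by
    rw [e.toLinearEquiv.finrank_eq, Module.finrank_matrix]; simp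
  have h3 : 0 < Module.finrank k A := by
    rw [← h1, h2]; exact Nat.mul_pos (Nat.pos_of_ne_zero hn) (Nat.pos_of_ne_zero hn)
  exact Module.finite_of_finrank_pos h3

end descent

end Groth.Agent.Lib.Helper7.CSA
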