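import Groth.Agent.Lib.Helper7.CSACentralizer
import Mathlib.LinearAlgebra.FiniteDimensional.Basic

/-!
# Subalgebras of finite-dimensional division algebras (helper7)
-/

set_option autoImplicit false

namespace Groth.Agent.Lib.Helper7.CSA

open scoped TensorProduct

section division

variable {k : Type*} [Field k] {D : Type*} [DivisionRing D] [Algebra k D] [FiniteDimensional k D]

/-- inverses stay in a subalgebra of a finite-dimensional division algebra -/
lemma exists_mul_eq_one_of_ne_zero (L : Subalgebra k D) {x : L} (hx : x ≠ 0) :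
    ∃ y : L, x * y = 1 := by
  let f : L →ₗ[k] L := LinearMap.mulLeft k x
  have hinj : Function.Injective f := by
    intro a b hab
    have h1 : (x : D) * (a : D) = (x : D) * (b : D) := congrArg Subtype.val hab
    have hx' : (x : D) ≠ 0 := fun h => hx (Subtype.ext h)
    exact Subtype.ext (mul_left_cancel₀ hx' h1)
  obtain ⟨y, hy⟩ := (LinearMap.injective_iff_surjective.1 hinj) 1
  exact ⟨y, hy⟩

/-- a subalgebra of a finite-dimensional division algebra is a simple ring -/
theorem isSimpleRing_subalgebra (L : Subalgebra k D) : IsSimpleRing L := by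
  refine IsSimpleRing.of_eq_bot_or_eq_top fun I => ?_
  by_cases hI : I = ⊥
  · exact Or.inl hI
  right
  have hex : ∃ x ∈ I, x ≠ 0 := by
    by_contra hcon
    push Not at hcon
    apply hI
    rw [eq_bot_iff]
    intro x hx
    rw [hcon x hx]; exact TwoSidedIdeal.zero_mem _
  obtain ⟨x, hxI, hx0⟩ := hex
  obtain ⟨y, hy⟩ := exists_mul_eq_one_of_ne_zero L hx0
  rw [eq_top_iff]
  intro z _
  have : z = x * y * z := by rw [hy, one_mul]
  rw [this]
  exact I.mul_mem_right _ _ (I.mul_mem_right _ _ hxI)

end division

section maxcomm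

variable {k : Type*} [Field k] {D : Type*} [DivisionRing D] [Algebra k D] [Algebra.IsCentral k D]
  [FiniteDimensional k D]

/-- a maximal commutative subalgebra is its own centralizer -/
theorem centralizer_eq_of_maximal_comm (L : Subalgebra k D)
    (hcomm : ∀ x ∈ L, ∀ y ∈ L, x * y = y * x)
    (hmax : ∀ L' : Subalgebra k D, (∀ x ∈ L', ∀ y ∈ L', x * y = y * x) → L ≤ L' → L' = L) :
    Subalgebra.centralizer k (L : Set D) = L := by
  apply le_antisymm
  · intro x hx
    set s : Set D := (L : Set D) ∪ {x} with hs
    have hss : s ⊆ Set.centralizer s := by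
      intro a ha b hb
      rcases ha with ha | ha <;> rcases hb with hb | hb
      · exact hcomm b hb a ha
      · rw [Set.mem_singleton_iff] at hb; subst hb
        exact ((Subalgebra.mem_centralizer_iff k).1 hx a ha).symm
      · rw [Set.mem_singleton_iff] at ha; subst ha
        exact (Subalgebra.mem_centralizer_iff k).1 hx b hb
      · rw [Set.mem_singleton_iff] at ha hb; subst ha; subst hb; rfl
    have h1 : Algebra.adjoin k s ≤ Subalgebra.centralizer k (Set.centralizer s) :=
      Algebra.adjoin_le_centralizer_centralizer k s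
    have h2 : Subalgebra.centralizer k (Set.centralizer s) ≤ Subalgebra.centralizer k s :=
      Subalgebra.centralizer_le k _ _ hss
    have hcomm' : ∀ a ∈ Algebra.adjoin k s, ∀ b ∈ Algebra.adjoin k s, a * b = b * a := by
      intro a ha b hb
      have ha' := h1 ha
      have hb' : b ∈ Set.centralizer s := h2 (h1 hb)
      exact ((Subalgebra.mem_centralizer_iff k).1 ha' b hb').symm
    have hle : L ≤ Algebra.adjoin k s := fun a ha => Algebra.subset_adjoin (Or.inl ha)
    have := hmax _ hcomm' hle
    rw [← this]
    exact Algebra.subset_adjoin (Or.inr rfl)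
  · intro x hx
    rw [Subalgebra.mem_centralizer_iff]
    intro y hy
    exact hcomm y hy x hx

theorem finrank_eq_sq_of_maximal_comm (L : Subalgebra k D)
    (hcomm : ∀ x ∈ L, ∀ y ∈ L, x * y = y * x)
    (hmax : ∀ L' : Subalgebra k D, (∀ x ∈ L', ∀ y ∈ L', x * y = y * x) → L ≤ L' → L' = L) :
    Module.finrank k D = Module.finrank k L ^ 2 := by
  haveI : IsSimpleRing L := isSimpleRing_subalgebra L
  have h := (centralizer_simple_and_finrank k D L).2
  rw [centralizer_eq_of_maximal_comm L hcomm hmax] at h
  rw [h, pow_two]

end maxcomm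

end Groth.Agent.Lib.Helper7.CSA
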