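import Groth.Agent.Lib.Helper7.CSACore
import Mathlib.RingTheory.SimpleModule.WedderburnArtin
import Mathlib.LinearAlgebra.FiniteDimensional.Lemmas
import Mathlib.RingTheory.Artinian.Module
import Mathlib.Algebra.Algebra.Bilinear

/-!
# Skolem–Noether (helper7)
-/

set_option autoImplicit false

namespace Groth.Agent.Lib.Helper7.CSA

open scoped TensorProduct
open MulOpposite

section rep

variable {k : Type*} [Field k] {R : Type*} [Ring R] [Algebra k R] {V : Type*} [AddCommGroup V]
  [Module k V]

/-- the module attached to a representation -/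
def Rep (_ρ : R →ₐ[k] Module.End k V) : Type _ := V

namespace Rep

variable (ρ : R →ₐ[k] Module.End k V)

instance : AddCommGroup (Rep ρ) := inferInstanceAs (AddCommGroup V)
instance : Module k (Rep ρ) := inferInstanceAs (Module k V)
instance : Module R (Rep ρ) := Module.compHom V ρ.toRingHom

lemma smul_def (r : R) (v : Rep ρ) : r • v = ρ r v := rfl

instance : IsScalarTower k R (Rep ρ) := ⟨fun c r v => by
  change ρ (c • r) v = c • ρ r v
  rw [map_smul]; rfl⟩

instance [Module.Finite k V] : Module.Finite k (Rep ρ) := inferInstanceAs (Module.Finite k V)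

end Rep

end rep

section sn

variable {k : Type*} [Field k] {A : Type*} [Ring A] [Algebra k A] {B : Type*} [Ring B]
  [Algebra k B]

/-- right multiplication through `h` as an algebra map from the opposite algebra -/
def rmulHom (h : B →ₐ[k] A) : Bᵐᵒᵖ →ₐ[k] Module.End k A where
  toFun b := LinearMap.mulRight k (h b.unop)
  map_one' := by ext; simp
  map_mul' x y := by ext a; simp [mul_assoc]
  map_zero' := by ext; simp
  map_add' x y := by ext a; simp [mul_add]
  commutes' r := by ext a; simp [Algebra.commutes, Algebra.smul_def]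

/-- the representation of `Bᵐᵒᵖ ⊗ A` on `A` attached to `h : B → A` -/
noncomputable def snRep (h : B →ₐ[k] A) : Bᵐᵒᵖ ⊗[k] A →ₐ[k] Module.End k A :=
  Algebra.TensorProduct.lift (rmulHom h) (Algebra.lmul k A) (fun b a => by
    ext x; simp [rmulHom, mul_assoc])

lemma snRep_tmul (h : B →ₐ[k] A) (b : Bᵐᵒᵖ) (a x : A) :
    snRep h (b ⊗ₜ[k] a) x = a * x * h b.unop := by
  simp [snRep, rmulHom]

/-- from an `R`-linear bijection between the two module structures to a conjugating unit -/
lemma exists_unit_of_bijective (f g : B →ₐ[k] A)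
    (φ : Rep (snRep g) →ₗ[Bᵐᵒᵖ ⊗[k] A] Rep (snRep f)) (hφ : Function.Bijective φ) :
    ∃ x : Aˣ, ∀ b : B, f b = (x : A) * g b * (x⁻¹ : Aˣ) := by
  -- φ as a function A → A
  let φ' : A → A := fun y => φ y
  have hlin : ∀ (a y : A) (b : B), φ' (a * y * g b) = a * φ' y * f b := by
    intro a y b
    have h1 := φ.map_smul ((op b) ⊗ₜ[k] a) (y : Rep (snRep g))
    rw [Rep.smul_def, Rep.smul_def, snRep_tmul, snRep_tmul] at h1
    exact h1
  set u : A := φ' 1 with hu
  have hφu : ∀ y, φ' y = y * u := by
    intro y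
    have := hlin y 1 1
    simpa using this
  obtain ⟨y₀, hy⟩ := hφ.2 (1 : A)
  let y : A := y₀
  have hyu : y * u = 1 := by rw [← hφu]; exact hy
  have huy : u * y = 1 := by
    apply hφ.1
    change φ' (u * y) = φ' 1
    rw [hφu, mul_assoc, hyu, mul_one]
  have hcomm : ∀ b, g b * u = u * f b := by
    intro b
    have h1 := hlin 1 1 b
    rw [one_mul, one_mul, one_mul, hφu] at h1
    exact h1
  refine ⟨⟨y, u, hyu, huy⟩, fun b => ?_⟩
  change f b = y * g b * u
  rw [mul_assoc, hcomm, ← mul_assoc, hyu, one_mul]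

/-- **Skolem–Noether.** -/
theorem skolem_noether (k : Type*) [Field k] (A : Type*) [Ring A] [Algebra k A]
    [Algebra.IsCentral k A] [IsSimpleRing A] [FiniteDimensional k A]
    (B : Type*) [Ring B] [Algebra k B] [IsSimpleRing B] (f g : B →ₐ[k] A) :
    ∃ x : Aˣ, ∀ b : B, f b = (x : A) * g b * (x⁻¹ : Aˣ) := by
  classical
  have hfinj : Function.Injective f :=
    (IsSimpleRing.injective_ringHom_or_subsingleton_codomain f.toRingHom).resolve_right
      (not_subsingleton A)
  have : Module.Finite k B := Module.Finite.of_injective f.toLinearMap hfinj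
  have : IsSimpleRing (Bᵐᵒᵖ ⊗[k] A) := isSimpleRing_tensor k Bᵐᵒᵖ A
  have : IsArtinianRing (Bᵐᵒᵖ ⊗[k] A) := IsArtinianRing.of_finite k _
  set R := Bᵐᵒᵖ ⊗[k] A with hR
  let M₁ := Rep (snRep f)
  let M₂ := Rep (snRep g)
  have : Module.Finite R M₁ := Module.Finite.of_restrictScalars_finite k R M₁
  have : Module.Finite R M₂ := Module.Finite.of_restrictScalars_finite k R M₂
  have : Nontrivial (M₁ × M₂) := inferInstanceAs (Nontrivial (A × A))
  obtain ⟨S, hS⟩ := IsSemisimpleModule.exists_simple_submodule R (M₁ × M₂)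
  have hiso : IsIsotypicOfType R (M₁ × M₂) S := IsSimpleRing.isIsotypic R (M₁ × M₂) S
  have h₁ : IsIsotypicOfType R M₁ S :=
    hiso.of_injective (LinearMap.inl R M₁ M₂) LinearMap.inl_injective
  have h₂ : IsIsotypicOfType R M₂ S :=
    hiso.of_injective (LinearMap.inr R M₁ M₂) LinearMap.inr_injective
  obtain ⟨n₁, ⟨e₁⟩⟩ := h₁.linearEquiv_fun
  obtain ⟨n₂, ⟨e₂⟩⟩ := h₂.linearEquiv_fun
  rcases le_total n₁ n₂ with h | h
  · -- surjection M₂ → M₁
    let p : (Fin n₂ → S) →ₗ[R] (Fin n₁ → S) := LinearMap.funLeft R S (Fin.castLE h)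
    have hp : Function.Surjective p :=
      LinearMap.funLeft_surjective_of_injective R S _ (Fin.castLE_injective h)
    let φ : M₂ →ₗ[R] M₁ := e₁.symm.toLinearMap ∘ₗ p ∘ₗ e₂.toLinearMap
    have hφs : Function.Surjective φ :=
      e₁.symm.surjective.comp (hp.comp e₂.surjective)
    have hφi : Function.Injective φ := by
      have := (LinearMap.injective_iff_surjective_of_finrank_eq_finrank
        (f := φ.restrictScalars k) (show Module.finrank k M₂ = Module.finrank k M₁ from rfl)).2 hφs
      exact this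
    exact exists_unit_of_bijective f g φ ⟨hφi, hφs⟩
  · let p : (Fin n₁ → S) →ₗ[R] (Fin n₂ → S) := LinearMap.funLeft R S (Fin.castLE h)
    have hp : Function.Surjective p :=
      LinearMap.funLeft_surjective_of_injective R S _ (Fin.castLE_injective h)
    let φ : M₁ →ₗ[R] M₂ := e₂.symm.toLinearMap ∘ₗ p ∘ₗ e₁.toLinearMap
    have hφs : Function.Surjective φ :=
      e₂.symm.surjective.comp (hp.comp e₁.surjective)
    have hφi : Function.Injective φ := by
      have := (LinearMap.injective_iff_surjective_of_finrank_eq_finrank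
        (f := φ.restrictScalars k) (show Module.finrank k M₁ = Module.finrank k M₂ from rfl)).2 hφs
      exact this
    obtain ⟨x, hx⟩ := exists_unit_of_bijective g f φ ⟨hφi, hφs⟩
    refine ⟨x⁻¹, fun b => ?_⟩
    rw [hx b]
    simp [mul_assoc]

end sn

end Groth.Agent.Lib.Helper7.CSA
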