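import Mathlib.LinearAlgebra.Matrix.Module
import Mathlib.Data.Matrix.Basis
import Mathlib.Algebra.Algebra.Equiv
import Mathlib.Data.Matrix.Basic
import Mathlib.Algebra.Algebra.Pi
import Mathlib.Algebra.Field.Basic

/-!
# Uniqueness of the division algebra in a matrix algebra (helper7)

If `Matrix ι ι D ≃ₐ[k] Matrix ι' ι' D'` for division `k`-algebras `D`, `D'` and nonempty finite
index types, then `D ≃ₐ[k] D'`.  Entirely elementary: column vectors, semilinear bijection,
and right multiplications.
-/

set_option autoImplicit false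
set_option linter.unusedSectionVars false

namespace Groth.Agent.Lib.Helper7.CSA

open Matrix Matrix.Module

section general

variable {D : Type*} [Ring D] {ι : Type*} [Fintype ι] [DecidableEq ι]

/-- right multiplication by a scalar on column vectors -/
def rmulVec (d : D) : (ι → D) →+ (ι → D) where
  toFun v i := v i * d
  map_zero' := by ext; simp
  map_add' v w := by ext; simp [add_mul]

@[simp] lemma rmulVec_apply (d : D) (v : ι → D) (i : ι) : rmulVec d v i = v i * d := rfl

lemma rmulVec_smul (d : D) (M : Matrix ι ι D) (v : ι → D) :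
    rmulVec d (M • v) = M • rmulVec d v := by
  ext i; simp [Finset.sum_mul, mul_assoc]

lemma rmulVec_mul (a b : D) (v : ι → D) : rmulVec (a * b) v = rmulVec b (rmulVec a v) := by
  ext i; simp [mul_assoc]

lemma rmulVec_add (a b : D) (v : ι → D) : rmulVec (a + b) v = rmulVec a v + rmulVec b v := by
  ext i; simp [mul_add]

lemma rmulVec_one (v : ι → D) : rmulVec (1 : D) v = v := by
  ext i; simp

lemma rmulVec_inj (i₀ : ι) {a b : D} (h : ∀ v : ι → D, rmulVec a v = rmulVec b v) : a = b := by
  have := congrFun (h (Pi.single i₀ 1)) i₀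
  simpa using this

/-- the matrix whose `i₀`-th column is `v` and whose other columns vanish -/
def colMat (i₀ : ι) (v : ι → D) : Matrix ι ι D := Matrix.of fun i j => if j = i₀ then v i else 0

@[simp] lemma colMat_apply (i₀ : ι) (v : ι → D) (i j : ι) :
    colMat i₀ v i j = if j = i₀ then v i else 0 := rfl

lemma colMat_smul (i₀ : ι) (v w : ι → D) : colMat i₀ v • w = rmulVec (w i₀) v := by
  ext i
  simp [Finset.sum_ite_eq']

lemma colMat_smul_single (i₀ : ι) (v : ι → D) : colMat i₀ v • (Pi.single i₀ 1 : ι → D) = v := by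
  rw [colMat_smul]; ext i; simp

lemma mul_colMat (N : Matrix ι ι D) (i₀ : ι) (v : ι → D) :
    N * colMat i₀ v = colMat i₀ (N • v) := by
  ext i j
  simp only [Matrix.mul_apply, colMat_apply, Matrix.Module.smul_apply, smul_eq_mul]
  split_ifs with h
  · rfl
  · simp

lemma colMat_add (i₀ : ι) (v w : ι → D) : colMat i₀ (v + w) = colMat i₀ v + colMat i₀ w := by
  ext i j
  simp only [colMat_apply, Matrix.add_apply, Pi.add_apply]
  split_ifs <;> simp

lemma colMat_single (i₀ : ι) : colMat i₀ (Pi.single i₀ (1 : D)) = Matrix.single i₀ i₀ 1 := by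
  ext i j
  simp only [colMat_apply, Matrix.single_apply, Pi.single_apply]
  by_cases h1 : j = i₀ <;> by_cases h2 : i = i₀
  · subst h1; subst h2; simp
  · subst h1; simp [h2, Ne.symm h2]
  · subst h2; simp [h1, Ne.symm h1]
  · simp [h1, h2, Ne.symm h1, Ne.symm h2]

/-- an additive endomorphism of column vectors commuting with all matrices is a right
multiplication -/
lemma endo_eq_rmulVec (i₀ : ι) (g : (ι → D) →+ (ι → D))
    (hg : ∀ (M : Matrix ι ι D) (v : ι → D), g (M • v) = M • g v) (v : ι → D) :
    g v = rmulVec (g (Pi.single i₀ 1) i₀) v := by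
  conv_lhs => rw [← colMat_smul_single i₀ v]
  rw [hg, colMat_smul]

lemma exists_smul_single_ne_zero {M : Matrix ι ι D} (hM : M ≠ 0) :
    ∃ w : ι → D, M • w ≠ 0 := by
  by_contra h
  push Not at h
  apply hM
  ext i j
  have := congrFun (h (Pi.single j 1)) i
  simpa [Pi.single_apply] using this

end general

section division

variable {D : Type*} [DivisionRing D] {ι : Type*} [Fintype ι] [DecidableEq ι]

/-- matrices act transitively on nonzero column vectors over a division ring -/
lemma exists_smul_eq {v : ι → D} (hv : v ≠ 0) (u : ι → D) : ∃ N : Matrix ι ι D, N • v = u := by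
  obtain ⟨j, hj⟩ : ∃ j, v j ≠ 0 := by
    by_contra h
    push Not at h
    exact hv (funext h)
  refine ⟨colMat j (fun i => u i * (v j)⁻¹), ?_⟩
  rw [colMat_smul]
  ext i
  simp [mul_assoc, inv_mul_cancel₀ hj]

variable {D' : Type*} [DivisionRing D'] {ι' : Type*} [Fintype ι'] [DecidableEq ι']

/-- a ring isomorphism of matrix rings over division rings is induced by a semilinear bijection
of the column spaces -/
theorem exists_semilinear [Nonempty ι] (e : Matrix ι ι D ≃+* Matrix ι' ι' D') :
    ∃ φ : (ι → D) ≃+ (ι' → D'), ∀ (N : Matrix ι ι D) (v : ι → D), φ (N • v) = e N • φ v := by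
  classical
  let i₀ : ι := Classical.arbitrary ι
  set E : Matrix ι ι D := Matrix.single i₀ i₀ 1 with hE
  have hE0 : E ≠ 0 := by
    intro h
    have := congrFun (congrFun h i₀) i₀
    simp [hE] at this
  have hEE : E * E = E := by simp [hE]
  have heE0 : e E ≠ 0 := fun h => hE0 (by simpa using h)
  obtain ⟨w₀, hw₀⟩ := exists_smul_single_ne_zero heE0
  set w' : ι' → D' := e E • w₀ with hw'
  have hEw' : e E • w' = w' := by rw [hw', ← mul_smul, ← map_mul, hEE]
  let φ₀ : (ι → D) →+ (ι' → D') :=
    { toFun := fun v => e (colMat i₀ v) • w'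
      map_zero' := by
        have : colMat i₀ (0 : ι → D) = 0 := by ext i j; simp
        rw [this, map_zero, zero_smul]
      map_add' := fun v w => by rw [colMat_add, map_add, add_smul] }
  have hφ₀ : ∀ (N : Matrix ι ι D) (v : ι → D), φ₀ (N • v) = e N • φ₀ v := by
    intro N v
    change e (colMat i₀ (N • v)) • w' = e N • (e (colMat i₀ v) • w')
    rw [← mul_colMat, map_mul, mul_smul]
  have hφ₀1 : φ₀ (Pi.single i₀ 1) = w' := by
    change e (colMat i₀ (Pi.single i₀ 1)) • w' = w'
    rw [colMat_single]; exact hEw'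
  have hinj : Function.Injective φ₀ := by
    rw [injective_iff_map_eq_zero]
    intro v hv
    by_contra hv0
    obtain ⟨N, hN⟩ := exists_smul_eq hv0 (Pi.single i₀ (1 : D))
    have : φ₀ (Pi.single i₀ 1) = 0 := by rw [← hN, hφ₀, hv, smul_zero]
    rw [hφ₀1] at this
    exact hw₀ this
  have hsurj : Function.Surjective φ₀ := by
    intro u
    obtain ⟨N', hN'⟩ := exists_smul_eq (v := w') hw₀ u
    refine ⟨e.symm N' • Pi.single i₀ 1, ?_⟩
    rw [hφ₀, e.apply_symm_apply, hφ₀1, hN']
  exact ⟨AddEquiv.ofBijective φ₀ ⟨hinj, hsurj⟩, hφ₀⟩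

end division

section transfer

variable {D : Type*} [Ring D] {ι : Type*} [Fintype ι] [DecidableEq ι]
variable {D' : Type*} [Ring D'] {ι' : Type*} [Fintype ι'] [DecidableEq ι']

/-- a semilinear bijection of column spaces transports right multiplications to right
multiplications -/
lemma exists_rmulVec [Nonempty ι'] (e : Matrix ι ι D ≃+* Matrix ι' ι' D')
    (φ : (ι → D) ≃+ (ι' → D'))
    (hφ : ∀ (N : Matrix ι ι D) (v : ι → D), φ (N • v) = e N • φ v) (d : D) :
    ∃ d' : D', ∀ v, φ (rmulVec d v) = rmulVec d' (φ v) := by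
  let j₀ : ι' := Classical.arbitrary ι'
  have hφs : ∀ (N' : Matrix ι' ι' D') (w : ι' → D'), φ.symm (N' • w) = e.symm N' • φ.symm w := by
    intro N' w
    apply φ.injective
    rw [hφ, φ.apply_symm_apply, φ.apply_symm_apply, e.apply_symm_apply]
  let g : (ι' → D') →+ (ι' → D') :=
    (φ.toAddMonoidHom.comp (rmulVec d)).comp φ.symm.toAddMonoidHom
  have hg : ∀ (M : Matrix ι' ι' D') (w : ι' → D'), g (M • w) = M • g w := by
    intro M w
    change φ (rmulVec d (φ.symm (M • w))) = M • φ (rmulVec d (φ.symm w))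
    rw [hφs, rmulVec_smul, hφ, e.apply_symm_apply]
  refine ⟨g (Pi.single j₀ 1) j₀, fun v => ?_⟩
  have := endo_eq_rmulVec j₀ g hg (φ v)
  rw [← this]
  change φ (rmulVec d v) = φ (rmulVec d (φ.symm (φ v)))
  rw [φ.symm_apply_apply]

end transfer

section main

variable (k : Type*) [CommSemiring k]
variable {D : Type*} [DivisionRing D] [Algebra k D] {ι : Type*} [Fintype ι] [DecidableEq ι]
variable {D' : Type*} [DivisionRing D'] [Algebra k D'] {ι' : Type*} [Fintype ι'] [DecidableEq ι']

lemma algebraMap_smul_eq_rmulVec (c : k) (v : ι → D) :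
    (algebraMap k (Matrix ι ι D) c) • v = rmulVec (algebraMap k D c) v := by
  rw [Matrix.algebraMap_eq_diagonal]
  ext i
  have : (algebraMap k (ι → D) c) = fun _ => algebraMap k D c := rfl
  rw [this, diagonal_const_smul]
  simp [Algebra.commutes]

/-- **Uniqueness of the division algebra** underlying a matrix algebra. -/
theorem matrix_divisionRing_algEquiv [Nonempty ι] [Nonempty ι']
    (e : Matrix ι ι D ≃ₐ[k] Matrix ι' ι' D') : Nonempty (D ≃ₐ[k] D') := by
  classical
  obtain ⟨φ, hφ⟩ := exists_semilinear (e : Matrix ι ι D ≃+* Matrix ι' ι' D')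
  have hφs : ∀ (N' : Matrix ι' ι' D') (w : ι' → D'),
      φ.symm (N' • w) = (e : Matrix ι ι D ≃+* Matrix ι' ι' D').symm N' • φ.symm w := by
    intro N' w
    apply φ.injective
    rw [hφ, φ.apply_symm_apply, φ.apply_symm_apply, RingEquiv.apply_symm_apply]
  choose F hF using exists_rmulVec (e : Matrix ι ι D ≃+* Matrix ι' ι' D') φ hφ
  choose G hG using exists_rmulVec (e : Matrix ι ι D ≃+* Matrix ι' ι' D').symm φ.symm hφs
  let i₀ : ι := Classical.arbitrary ι
  let j₀ : ι' := Classical.arbitrary ι'
  have huniq : ∀ a b : D', (∀ v, rmulVec a (φ v) = rmulVec b (φ v)) → a = b := by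
    intro a b h
    apply rmulVec_inj j₀
    intro w
    have := h (φ.symm w)
    rwa [φ.apply_symm_apply] at this
  refine ⟨{ toFun := F, invFun := G, left_inv := ?_, right_inv := ?_, map_mul' := ?_,
            map_add' := ?_, commutes' := ?_ }⟩
  · intro d
    apply rmulVec_inj i₀
    intro v
    have h1 := hG (F d) (φ v)
    rw [← hF, φ.symm_apply_apply, φ.symm_apply_apply] at h1
    exact h1.symm
  · intro d'
    apply huniq
    intro v
    rw [← hF, ← φ.symm_apply_apply v, ← hG, φ.apply_symm_apply, φ.apply_symm_apply]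
  · intro a b
    apply huniq
    intro v
    rw [← hF, rmulVec_mul, hF, hF, ← rmulVec_mul]
  · intro a b
    apply huniq
    intro v
    rw [← hF, rmulVec_add, map_add, hF, hF, ← rmulVec_add]
  · intro c
    apply huniq
    intro v
    rw [← hF, ← algebraMap_smul_eq_rmulVec, hφ, ← algebraMap_smul_eq_rmulVec]
    congr 1
    exact e.commutes c

end main

end Groth.Agent.Lib.Helper7.CSA
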