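import Groth.Agent.Lib.Helper7.CSADivision
import Mathlib.FieldTheory.JacobsonNoether
import Mathlib.FieldTheory.SeparableDegree
import Mathlib.FieldTheory.Separable

/-!
# Separable maximal subfields of central division algebras (helper7)
-/

set_option autoImplicit false
set_option linter.style.haveILetI false

namespace Groth.Agent.Lib.Helper7.CSA

open scoped TensorProduct

section dc

variable (k : Type*) [Field k] (A : Type*) [Ring A] [Algebra k A] [Algebra.IsCentral k A]
  [IsSimpleRing A] [FiniteDimensional k A] (B : Subalgebra k A) [IsSimpleRing B]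

/-- **Double centralizer theorem.** -/
theorem double_centralizer :
    Subalgebra.centralizer k
      ((Subalgebra.centralizer k (B : Set A) : Subalgebra k A) : Set A) = B := by
  obtain ⟨h1, h2⟩ := centralizer_simple_and_finrank k A B
  set C := Subalgebra.centralizer k (B : Set A) with hC
  haveI : IsSimpleRing C := h1
  obtain ⟨_, h4⟩ := centralizer_simple_and_finrank k A C
  set CC := Subalgebra.centralizer k (C : Set A) with hCC
  have hpos : 0 < Module.finrank k C := Module.finrank_pos
  have heq : Module.finrank k B = Module.finrank k CC := by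
    have : Module.finrank k C * Module.finrank k B = Module.finrank k C * Module.finrank k CC := by
      rw [← h4, mul_comm, ← h2]
    exact Nat.eq_of_mul_eq_mul_left hpos this
  have hle : B ≤ CC := Subalgebra.le_centralizer_centralizer k
  have := Submodule.eq_of_le_of_finrank_eq (S₁ := Subalgebra.toSubmodule B)
    (S₂ := Subalgebra.toSubmodule CC) hle heq
  exact (Subalgebra.toSubmodule_injective this).symm

end dc

section sep

variable {k : Type*} [Field k] {D : Type*} [DivisionRing D] [Algebra k D] [FiniteDimensional k D]

/-- the field structure on a commutative subalgebra -/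
@[reducible] noncomputable def commField (L : Subalgebra k D)
    (hL : ∀ x ∈ L, ∀ y ∈ L, x * y = y * x) : Field L :=
  letI : CommRing L :=
    { (inferInstance : Ring L) with mul_comm := fun a b => Subtype.ext (hL a a.2 b b.2) }
  fieldOfFiniteDimensional k L

/-- the division ring structure on a subalgebra -/
@[reducible] noncomputable def subDivisionRing (C : Subalgebra k D) : DivisionRing C :=
  divisionRingOfFiniteDimensional k C

/-- the algebra structure on a larger subalgebra whose elements commute with the smaller one -/
@[reducible] noncomputable def inclAlgebra (L M : Subalgebra k D)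
    (hL : ∀ x ∈ L, ∀ y ∈ L, x * y = y * x) (hLM : L ≤ M)
    (hc : ∀ x ∈ L, ∀ y ∈ M, x * y = y * x) :
    letI := commField L hL; Algebra L M :=
  letI := commField L hL
  RingHom.toAlgebra' (Subalgebra.inclusion hLM).toRingHom (fun a b => Subtype.ext (hc a a.2 b b.2))

/-- separability of an element of a subalgebra can be tested in the ambient algebra -/
lemma isSeparable_coe_iff (L : Subalgebra k D) (x : L) :
    IsSeparable k (x : D) ↔ IsSeparable k x := by
  unfold IsSeparable
  have := minpoly.algHom_eq L.val Subtype.val_injective x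
  rw [← this]; rfl

/-- adjoining to a commutative subalgebra an element of its centralizer stays commutative -/
lemma adjoin_comm (L : Subalgebra k D) (hL : ∀ x ∈ L, ∀ y ∈ L, x * y = y * x) {x : D}
    (hx : x ∈ Subalgebra.centralizer k (L : Set D)) :
    ∀ a ∈ Algebra.adjoin k ((L : Set D) ∪ {x}), ∀ b ∈ Algebra.adjoin k ((L : Set D) ∪ {x}),
      a * b = b * a := by
  set s : Set D := (L : Set D) ∪ {x} with hs
  have hss : s ⊆ Set.centralizer s := by
    intro a ha b hb
    rcases ha with ha | ha <;> rcases hb with hb | hb
    · exact hL b hb a ha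
    · rw [Set.mem_singleton_iff] at hb; subst hb
      exact ((Subalgebra.mem_centralizer_iff k).1 hx a ha).symm
    · rw [Set.mem_singleton_iff] at ha; subst ha
      exact (Subalgebra.mem_centralizer_iff k).1 hx b hb
    · rw [Set.mem_singleton_iff] at ha hb; subst ha; subst hb; rfl
  have h1 : Algebra.adjoin k s ≤ Subalgebra.centralizer k (Set.centralizer s) :=
    Algebra.adjoin_le_centralizer_centralizer k s
  have h2 : Subalgebra.centralizer k (Set.centralizer s) ≤ Subalgebra.centralizer k s :=
    Subalgebra.centralizer_le k _ _ hss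
  intro a ha b hb
  have ha' := h1 ha
  have hb' : b ∈ Set.centralizer s := h2 (h1 hb)
  exact ((Subalgebra.mem_centralizer_iff k).1 ha' b hb').symm

/-- key step: a separable commutative subalgebra which is not its own centralizer can be
strictly enlarged -/
theorem exists_larger_separable [Algebra.IsCentral k D] (L : Subalgebra k D)
    (hL : ∀ x ∈ L, ∀ y ∈ L, x * y = y * x) (hsep : ∀ x ∈ L, IsSeparable k x)
    (hne : Subalgebra.centralizer k (L : Set D) ≠ L) :
    ∃ E : Subalgebra k D, L < E ∧ (∀ x ∈ E, ∀ y ∈ E, x * y = y * x) ∧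
      (∀ x ∈ E, IsSeparable k x) := by
  classical
  haveI : IsSimpleRing L := isSimpleRing_subalgebra L
  have hCC := double_centralizer k D L
  set C := Subalgebra.centralizer k (L : Set D) with hC
  have hLC : L ≤ C := fun x hx => (Subalgebra.mem_centralizer_iff k).2 (fun y hy => hL y hy x hx)
  have hcLC : ∀ x ∈ L, ∀ y ∈ C, x * y = y * x :=
    fun x hx y hy => ((Subalgebra.mem_centralizer_iff k).1 hy x hx)
  letI := commField L hL
  letI := subDivisionRing C
  letI := inclAlgebra L C hL hLC hcLC
  haveI : IsScalarTower k L C := IsScalarTower.of_algebraMap_eq (fun c => rfl)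
  haveI : Module.Finite L C := Module.Finite.of_restrictScalars_finite k L C
  haveI : Algebra.IsAlgebraic L C := Algebra.IsAlgebraic.of_finite L C
  haveI : Algebra.IsCentral L C := ⟨fun z hz => by
    rw [Subalgebra.mem_center_iff] at hz
    have hzL : (z : D) ∈ L := by
      rw [← hCC, Subalgebra.mem_centralizer_iff]
      intro y hy
      exact congrArg Subtype.val (hz ⟨y, hy⟩)
    exact Algebra.mem_bot.2 ⟨⟨z, hzL⟩, Subtype.ext rfl⟩⟩
  have hbt : (⊥ : Subalgebra L C) ≠ ⊤ := by
    intro h
    apply hne
    apply le_antisymm _ hLC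
    intro y hy
    have hmem : (⟨y, hy⟩ : C) ∈ (⊥ : Subalgebra L C) := by rw [h]; trivial
    obtain ⟨l, hl⟩ := Algebra.mem_bot.1 hmem
    have h3 := congrArg Subtype.val hl
    change (l : D) = y at h3
    rw [← h3]; exact l.2
  obtain ⟨x, hx1, hx2⟩ := JacobsonNoether.exists_separable_and_not_isCentral' hbt
  have hE := adjoin_comm L hL x.2
  set E := Algebra.adjoin k ((L : Set D) ∪ {(x : D)}) with hEdef
  have hLE : L ≤ E := fun a ha => Algebra.subset_adjoin (Or.inl ha)
  have hxE : (x : D) ∈ E := Algebra.subset_adjoin (Or.inr rfl)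
  have hEC : E ≤ C := by
    apply Algebra.adjoin_le
    rintro a (ha | ha)
    · exact hLC ha
    · rw [Set.mem_singleton_iff] at ha; rw [ha]; exact x.2
  refine ⟨E, lt_of_le_of_ne hLE ?_, hE, ?_⟩
  · intro h
    apply hx1
    have hxL : (x : D) ∈ L := by rw [h]; exact hxE
    exact Algebra.mem_bot.2 ⟨⟨x, hxL⟩, Subtype.ext rfl⟩
  letI := commField E hE
  letI := inclAlgebra L E hL hLE (fun a ha b hb => hE a (hLE ha) b hb)
  haveI : IsScalarTower k L E := IsScalarTower.of_algebraMap_eq (fun c => rfl)
  let f : E →ₐ[L] C :=
    { (Subalgebra.inclusion hEC).toRingHom with commutes' := fun l => rfl }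
  have hf : Function.Injective f := Subalgebra.inclusion_injective hEC
  have hx' : IsSeparable L (⟨x, hxE⟩ : E) := by
    unfold IsSeparable
    rw [← minpoly.algHom_eq f hf]
    exact hx2
  have hall : ∀ (y : D) (hy : y ∈ E), IsSeparable L (⟨y, hy⟩ : E) := by
    intro y hy
    induction hy using Algebra.adjoin_induction with
    | mem y hy =>
      rcases hy with hy | hy
      · exact isSeparable_algebraMap (⟨y, hy⟩ : L)
      · rw [Set.mem_singleton_iff] at hy; subst hy; exact hx'
    | algebraMap c => exact isSeparable_algebraMap (algebraMap k L c)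
    | add a b ha hb iha ihb =>
      have h := Field.isSeparable_add iha ihb
      exact h
    | mul a b ha hb iha ihb =>
      have h := Field.isSeparable_mul iha ihb
      exact h
  haveI : Algebra.IsSeparable k L := ⟨fun l => (isSeparable_coe_iff L l).1 (hsep l l.2)⟩
  intro y hy
  rw [isSeparable_coe_iff E ⟨y, hy⟩]
  exact IsSeparable.of_algebra_isSeparable_of_isSeparable k (hall y hy)

/-- **Existence of separable maximal subfields.** -/
theorem exists_separable_maximal_comm [Algebra.IsCentral k D] :
    ∃ L : Subalgebra k D, (∀ x ∈ L, ∀ y ∈ L, x * y = y * x) ∧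
      Subalgebra.centralizer k (L : Set D) = L ∧ (∀ x ∈ L, IsSeparable k x) := by
  classical
  let P : ℕ → Prop := fun n => ∃ L : Subalgebra k D, (∀ x ∈ L, ∀ y ∈ L, x * y = y * x) ∧
    (∀ x ∈ L, IsSeparable k x) ∧ Module.finrank k D - Module.finrank k L = n
  have hP : ∃ n, P n := by
    refine ⟨_, ⊥, ?_, ?_, rfl⟩
    · intro x hx y hy
      obtain ⟨a, rfl⟩ := Algebra.mem_bot.1 hx
      exact Algebra.commutes a y
    · intro x hx
      obtain ⟨a, rfl⟩ := Algebra.mem_bot.1 hx
      exact isSeparable_algebraMap a
  obtain ⟨L, hL, hsep, hn⟩ := Nat.find_spec hP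
  refine ⟨L, hL, ?_, hsep⟩
  by_contra hne
  obtain ⟨E, hLE, hE, hEsep⟩ := exists_larger_separable L hL hsep hne
  have h1 : Module.finrank k L < Module.finrank k E :=
    Submodule.finrank_lt_finrank_of_lt (s := Subalgebra.toSubmodule L)
      (t := Subalgebra.toSubmodule E) hLE
  have h2 : Module.finrank k E ≤ Module.finrank k D :=
    Submodule.finrank_le (Subalgebra.toSubmodule E)
  have h3 : Module.finrank k D - Module.finrank k E < Nat.find hP := by
    rw [← hn]; omega
  exact Nat.find_min hP h3 ⟨E, hE, hEsep, rfl⟩

end sep

end Groth.Agent.Lib.Helper7.CSA
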