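import Groth.Agent.Lib.Helper7.CSACore
import Mathlib.LinearAlgebra.Matrix.ToLin
import Mathlib.LinearAlgebra.Dimension.Constructions
import Mathlib.LinearAlgebra.Dimension.Free
import Mathlib.LinearAlgebra.FiniteDimensional.Lemmas
import Mathlib.RingTheory.TensorProduct.Maps
import Mathlib.LinearAlgebra.FreeModule.Finite.Matrix
import Mathlib.Data.Matrix.Basis

/-!
# A splitting criterion for central simple algebras (helper7)
-/

set_option autoImplicit false
set_option linter.style.haveILetI false
set_option linter.unusedSectionVars false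

namespace Groth.Agent.Lib.Helper7.CSA

open scoped TensorProduct
open Matrix

section split

variable (k : Type*) [Field k] (A : Type*) [Ring A] [Algebra k A] [Algebra.IsCentral k A]
  [IsSimpleRing A] [FiniteDimensional k A]
  (K : Type*) [Field K] [Algebra k K]
  (V : Type*) [AddCommGroup V] [Module K V] [Module k V] [IsScalarTower k K V] [Module.Finite K V]

/-- **Splitting criterion**: if a central simple `k`-algebra `A` acts on a `K`-vector space `V`
by `K`-linear maps and `(dim_K V)^2 = dim_k A`, then `K ⊗ A` is a matrix algebra over `K`. -/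
theorem splits_of_module (ρ : A →ₐ[k] Module.End K V)
    (hdim : Module.finrank K V ^ 2 = Module.finrank k A) :
    ∃ n : ℕ, n ≠ 0 ∧ Nonempty (K ⊗[k] A ≃ₐ[K] Matrix (Fin n) (Fin n) K) := by
  classical
  have hApos : 0 < Module.finrank k A := Module.finrank_pos
  have hVpos : 0 < Module.finrank K V := by
    rcases Nat.eq_zero_or_pos (Module.finrank K V) with h | h
    · rw [h] at hdim; simp at hdim; omega
    · exact h
  haveI : Nontrivial V := Module.nontrivial_of_finrank_pos hVpos
  let F : K ⊗[k] A →ₐ[K] Module.End K V :=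
    Algebra.TensorProduct.lift (Algebra.ofId K (Module.End K V)) ρ (fun c a => by
      rw [Algebra.ofId_apply]
      exact Algebra.commute_algebraMap_left c (ρ a))
  haveI : IsSimpleRing (K ⊗[k] A) := isSimpleRing_tensor k K A
  have hinj : Function.Injective F :=
    (IsSimpleRing.injective_ringHom_or_subsingleton_codomain F.toRingHom).resolve_right
      (not_subsingleton _)
  have h1 : Module.finrank K (K ⊗[k] A) = Module.finrank k A := Module.finrank_baseChange
  have h2 : Module.finrank K (Module.End K V) = Module.finrank K V * Module.finrank K V :=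
    Module.finrank_linearMap K K V V
  have hfr : Module.finrank K (K ⊗[k] A) = Module.finrank K (Module.End K V) := by
    rw [h1, h2, ← hdim, pow_two]
  have hbij : Function.Bijective F :=
    ⟨hinj, (LinearMap.injective_iff_surjective_of_finrank_eq_finrank (f := F.toLinearMap)
      hfr).1 hinj⟩
  let b := Module.finBasis K V
  exact ⟨Module.finrank K V, hVpos.ne', ⟨(AlgEquiv.ofBijective F hbij).trans (algEquivMatrix b)⟩⟩

end split

section ext

variable (k : Type*) [Field k] (A : Type*) [Ring A] [Algebra k A] [Algebra.IsCentral k A]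
  [IsSimpleRing A] [FiniteDimensional k A]

/-- splitting passes to field extensions -/
theorem splits_of_algHom (K N : Type*) [Field K] [Field N] [Algebra k K] [Algebra k N]
    (φ : K →ₐ[k] N)
    (h : ∃ n : ℕ, n ≠ 0 ∧ Nonempty (K ⊗[k] A ≃ₐ[K] Matrix (Fin n) (Fin n) K)) :
    ∃ n : ℕ, n ≠ 0 ∧ Nonempty (N ⊗[k] A ≃ₐ[N] Matrix (Fin n) (Fin n) N) := by
  classical
  obtain ⟨n, hn, ⟨e⟩⟩ := h
  let ρ : A →ₐ[k] Module.End N (Fin n → N) :=
    ((Matrix.toLinAlgEquiv' (R := N) (n := Fin n)).toAlgHom.restrictScalars k).comp
      (φ.mapMatrix.comp ((e.restrictScalars k).toAlgHom.comp Algebra.TensorProduct.includeRight))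
  apply splits_of_module k A N (Fin n → N) ρ
  have h1 : Module.finrank K (K ⊗[k] A) = Module.finrank k A := Module.finrank_baseChange
  have h2 : Module.finrank K (K ⊗[k] A) = n * n := by
    rw [e.toLinearEquiv.finrank_eq, Module.finrank_matrix]; simp
  rw [Module.finrank_fin_fun, ← h1, h2, pow_two]

end ext

section cancel

variable (k : Type*) [Field k] (A : Type*) [Ring A] [Algebra k A] [Algebra.IsCentral k A]
  [IsSimpleRing A] [FiniteDimensional k A]
  (K : Type*) [Field K] [Algebra k K]
  (n : Type*) [Fintype n] [DecidableEq n] [Nonempty n]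

/-- module form of cancellation: from a `K`-linear action of `Matrix n n A` on `W` to a
`K`-linear action of `A` on a subspace `V` with `dim W = |n| * dim V` -/
theorem exists_module_of_matrix_module (W : Type*) [AddCommGroup W] [Module K W] [Module k W]
    [IsScalarTower k K W] [Module.Finite K W] (ρ : Matrix n n A →ₐ[k] Module.End K W) :
    ∃ (V : Submodule K W) (_ : A →ₐ[k] Module.End K V),
      Module.finrank K W = Fintype.card n * Module.finrank K V := by
  classical
  let i₀ : n := Classical.arbitrary n
  let E : n → n → Module.End K W := fun i j => ρ (single i j 1)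
  have hEE : ∀ i j l, E i j * E j l = E i l := by
    intro i j l
    change ρ _ * ρ _ = ρ _
    rw [← map_mul, single_mul_single_same, one_mul]
  have hEE0 : ∀ i j j' l, j ≠ j' → E i j * E j' l = 0 := by
    intro i j j' l h
    change ρ _ * ρ _ = 0
    rw [← map_mul, single_mul_single_of_ne _ _ _ _ h, map_zero]
  have hsum : ∑ i, E i i = 1 := by
    change ∑ i, ρ (single i i 1) = 1
    rw [← map_sum, sum_single_one, map_one]
  let V : Submodule K W := LinearMap.range (E i₀ i₀)
  have hV : ∀ v : V, E i₀ i₀ (v : W) = v := by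
    rintro ⟨v, w, rfl⟩
    change (E i₀ i₀ * E i₀ i₀) w = E i₀ i₀ w
    rw [hEE]
  -- the action of A on V
  have hmaps : ∀ (a : A) (v : W), v ∈ V → ρ (single i₀ i₀ a) v ∈ V := by
    intro a v _
    refine ⟨ρ (single i₀ i₀ a) v, ?_⟩
    change (ρ (single i₀ i₀ 1) * ρ (single i₀ i₀ a)) v = _
    rw [← map_mul, single_mul_single_same, one_mul]
  let ρA : A →ₐ[k] Module.End K V :=
    { toFun := fun a => (ρ (single i₀ i₀ a)).restrict (hmaps a)
      map_one' := by
        ext v
        exact hV v
      map_mul' := fun a b => by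
        ext v
        change ρ (single i₀ i₀ (a * b)) (v : W) = ρ (single i₀ i₀ a) (ρ (single i₀ i₀ b) (v : W))
        rw [← single_mul_single_same (i := i₀) (j := i₀) (k := i₀) (c := a) (d := b), map_mul]; rfl
      map_zero' := by
        ext v
        change ρ (single i₀ i₀ (0 : A)) (v : W) = 0
        rw [single_zero, map_zero]; rfl
      map_add' := fun a b => by
        ext v
        change ρ (single i₀ i₀ (a + b)) (v : W) = _
        rw [single_add, map_add]; rfl
      commutes' := fun c => by
        ext v
        change ρ (single i₀ i₀ (algebraMap k A c)) (v : W) = ((algebraMap k (Module.End K V) c) v : W)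
        have h1 : single i₀ i₀ (algebraMap k A c) = c • single i₀ i₀ (1 : A) := by
          rw [smul_single, Algebra.smul_def, mul_one]
        rw [h1, map_smul, LinearMap.smul_apply, hV v, Module.algebraMap_end_apply]
        rfl }
  refine ⟨V, ρA, ?_⟩
  -- the decomposition W ≃ (n → V)
  let toF : W →ₗ[K] (n → V) :=
    LinearMap.pi fun i => (E i₀ i).codRestrict V (fun w => ⟨E i₀ i w, by
      change (E i₀ i₀ * E i₀ i) w = _
      rw [hEE]⟩)
  let invF : (n → V) →ₗ[K] W :=
    ∑ i, (E i i₀).comp (V.subtype.comp (LinearMap.proj i))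
  have h1 : ∀ w, invF (toF w) = w := by
    intro w
    change (∑ i, (E i i₀).comp (V.subtype.comp (LinearMap.proj i))) (toF w) = w
    rw [LinearMap.sum_apply]
    have : ∀ i, ((E i i₀).comp (V.subtype.comp (LinearMap.proj i))) (toF w) = (E i i) w := by
      intro i
      change E i i₀ (E i₀ i w) = _
      change (E i i₀ * E i₀ i) w = _
      rw [hEE]
    simp_rw [this]
    rw [← LinearMap.sum_apply, hsum]; rfl
  have h2 : ∀ v, toF (invF v) = v := by
    intro v
    ext j
    change E i₀ j ((∑ i, (E i i₀).comp (V.subtype.comp (LinearMap.proj i))) v) = (v j : W)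
    rw [LinearMap.sum_apply, map_sum]
    have : ∀ i, E i₀ j (((E i i₀).comp (V.subtype.comp (LinearMap.proj i))) v) =
        if i = j then (v j : W) else 0 := by
      intro i
      change (E i₀ j * E i i₀) (v i : W) = _
      by_cases h : i = j
      · subst h; rw [hEE, hV, if_pos rfl]
      · rw [hEE0 _ _ _ _ (Ne.symm h), if_neg h]; rfl
    simp_rw [this]
    rw [Finset.sum_ite_eq' Finset.univ j]; simp
  let eqv : W ≃ₗ[K] (n → V) := LinearEquiv.ofLinearMap toF invF
    (LinearMap.ext h2) (LinearMap.ext h1)
  rw [eqv.finrank_eq, Module.finrank_pi_fintype]; simp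

/-- **Cancellation**: if `K` splits a matrix algebra over `A`, it splits `A`. -/
theorem splits_of_splits_matrix
    (h : ∃ s : ℕ, s ≠ 0 ∧ Nonempty (K ⊗[k] Matrix n n A ≃ₐ[K] Matrix (Fin s) (Fin s) K)) :
    ∃ s : ℕ, s ≠ 0 ∧ Nonempty (K ⊗[k] A ≃ₐ[K] Matrix (Fin s) (Fin s) K) := by
  classical
  obtain ⟨s, hs, ⟨e⟩⟩ := h
  let ρ : Matrix n n A →ₐ[k] Module.End K (Fin s → K) :=
    ((Matrix.toLinAlgEquiv' (R := K) (n := Fin s)).toAlgHom.restrictScalars k).comp
      ((e.restrictScalars k).toAlgHom.comp Algebra.TensorProduct.includeRight)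
  obtain ⟨V, ρA, hdim⟩ := exists_module_of_matrix_module k A K n (Fin s → K) ρ
  apply splits_of_module k A K V ρA
  have h1 : Module.finrank K (K ⊗[k] Matrix n n A) = Module.finrank k (Matrix n n A) :=
    Module.finrank_baseChange
  have h2 : Module.finrank K (K ⊗[k] Matrix n n A) = s * s := by
    rw [e.toLinearEquiv.finrank_eq, Module.finrank_matrix]; simp
  have h3 : Module.finrank k (Matrix n n A) =
      Fintype.card n * Fintype.card n * Module.finrank k A := Module.finrank_matrix k A n n
  rw [Module.finrank_fin_fun] at hdim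
  have hc : 0 < Fintype.card n := Fintype.card_pos
  have h4 : (Fintype.card n * Fintype.card n) * Module.finrank K V ^ 2 =
      (Fintype.card n * Fintype.card n) * Module.finrank k A := by
    rw [← h3, ← h1, h2]
    generalize Module.finrank K V = v at hdim
    subst hdim; ring
  exact Nat.eq_of_mul_eq_mul_left (Nat.mul_pos hc hc) h4

end cancel

end Groth.Agent.Lib.Helper7.CSA
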