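import Groth.Agent.Lib.Helper7.CSASplit
import Groth.Agent.Lib.Helper7.CSASkolem
import Groth.Agent.Lib.Helper7.CSACentralizer
import Mathlib.Data.Matrix.Basis
import Groth.Agent.Lib.Helper7.CSASeparable
import Mathlib.FieldTheory.IsAlgClosed.AlgebraicClosure
import Mathlib.FieldTheory.IsAlgClosed.Basic
import Mathlib.FieldTheory.Normal.Closure
import Mathlib.FieldTheory.Galois.Basic
import Mathlib.FieldTheory.SeparableClosure

set_option autoImplicit false
set_option linter.style.haveILetI false
set_option linter.unusedSectionVars false

namespace Groth.Agent.Lib.Helper7.CSA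

open scoped TensorProduct

section central

variable {k : Type*} [Field k] {A : Type*} [Ring A] [Algebra k A] [Algebra.IsCentral k A]
  {D : Type*} [Ring D] [Algebra k D] {n : Type*} [Fintype n] [DecidableEq n] [Nonempty n]

/-- if a matrix algebra over `D` is central, so is `D` -/
theorem isCentral_of_matrix (e : A ≃ₐ[k] Matrix n n D) : Algebra.IsCentral k D := by
  refine ⟨fun z hz => ?_⟩
  rw [Subalgebra.mem_center_iff] at hz
  let i₀ : n := Classical.arbitrary n
  have hM : ∀ N : Matrix n n D, N * Matrix.scalar n z = Matrix.scalar n z * N := by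
    intro N
    exact (Matrix.scalar_commute z (fun r => (hz r).symm) N).symm
  have hc : e.symm (Matrix.scalar n z) ∈ Subalgebra.center k A := by
    rw [Subalgebra.mem_center_iff]
    intro a
    apply e.injective
    rw [map_mul, map_mul, e.apply_symm_apply]
    exact hM (e a)
  obtain ⟨c, hc'⟩ := Algebra.mem_bot.1 (Algebra.IsCentral.out hc)
  have h2 : Matrix.scalar n z = algebraMap k (Matrix n n D) c := by
    rw [← e.apply_symm_apply (Matrix.scalar n z), ← hc', e.commutes]
  have h3 := congrFun (congrFun h2 i₀) i₀
  rw [Matrix.algebraMap_matrix_apply] at h3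
  simp at h3
  exact Algebra.mem_bot.2 ⟨c, h3.symm⟩

end central

section rightModule

variable {k : Type*} [Field k] {D : Type*} [Ring D] [Algebra k D]
  {K : Type*} [Field K] [Algebra k K] (ι : K →ₐ[k] D) (n : Type*) [Fintype n] [DecidableEq n]

/-- right multiplication of column vectors by `K` through `ι` -/
def rightRep : K →ₐ[k] Module.End k (n → D) where
  toFun c :=
    { toFun := fun v i => v i * ι c
      map_add' := fun v w => by ext i; simp [add_mul]
      map_smul' := fun a v => by ext i; simp }
  map_one' := by
    refine LinearMap.ext fun v => funext fun i => ?_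
    simp
  map_mul' c c' := by
    refine LinearMap.ext fun v => funext fun i => ?_
    change v i * ι (c * c') = v i * ι c' * ι c
    rw [mul_comm c c', map_mul, mul_assoc]
  map_zero' := by
    refine LinearMap.ext fun v => funext fun i => ?_
    simp
  map_add' c c' := by
    refine LinearMap.ext fun v => funext fun i => ?_
    simp [mul_add]
  commutes' c := by
    refine LinearMap.ext fun v => funext fun i => ?_
    simp [Algebra.commutes, Algebra.smul_def]

/-- column vectors as a right `K`-vector space -/
abbrev RVec : Type _ := Rep (rightRep ι n)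

lemma rvec_smul_out (c : K) (v : RVec ι n) (i : n) : (c • v).out i = v.out i * ι c := rfl

/-- matrices act `K`-linearly on the left -/
def leftRep : Matrix n n D →ₐ[k] Module.End K (RVec ι n) where
  toFun M :=
    { toFun := fun v => Rep.mk _ (M.mulVec v.out)
      map_add' := fun v w => by
        apply Rep.out_injective
        simp [Rep.add_out, Matrix.mulVec_add]
      map_smul' := fun c v => by
        apply Rep.out_injective
        ext i
        simp only [Rep.out_mk, RingHom.id_apply, rvec_smul_out, Matrix.mulVec, dotProduct,
          Finset.sum_mul, mul_assoc] }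
  map_one' := by
    ext v; apply Rep.out_injective; simp
  map_mul' M N := by
    ext v; apply Rep.out_injective
    simp [Matrix.mulVec_mulVec]
  map_zero' := by
    ext v; apply Rep.out_injective; simp [Rep.zero_out]
  map_add' M N := by
    ext v; apply Rep.out_injective; simp [Rep.add_out, Matrix.add_mulVec]
  commutes' c := by
    ext v; apply Rep.out_injective
    ext i
    simp [Matrix.algebraMap_eq_diagonal, Matrix.mulVec_diagonal, Rep.ksmul_out, Algebra.smul_def]

end rightModule

section main

universe u v

variable (k : Type u) [Field k] (A : Type v) [Ring A] [Algebra k A] [Algebra.IsCentral k A]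
  [IsSimpleRing A] [FiniteDimensional k A]

/-- a field `K` mapping to a division algebra `D` with `dim D = [K:k]^2` splits every algebra
isomorphic to a matrix algebra over `D` -/
theorem splits_matrix_of_subfield {D : Type*} [Ring D] [Algebra k D]
    [FiniteDimensional k D] (K : Type*) [Field K] [Algebra k K] [FiniteDimensional k K]
    (ι : K →ₐ[k] D) (hdim : Module.finrank k D = Module.finrank k K ^ 2)
    (n : Type*) [Fintype n] [DecidableEq n] [Nonempty n] (e : A ≃ₐ[k] Matrix n n D) :
    ∃ m : ℕ, m ≠ 0 ∧ Nonempty (K ⊗[k] A ≃ₐ[K] Matrix (Fin m) (Fin m) K) := by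
  haveI : Module.Finite k (RVec ι n) := inferInstanceAs (Module.Finite k (n → D))
  haveI : Module.Finite K (RVec ι n) := Module.Finite.of_restrictScalars_finite k K (RVec ι n)
  apply splits_of_module k A K (RVec ι n) ((leftRep ι n).comp e.toAlgHom)
  have h1 : Module.finrank k K * Module.finrank K (RVec ι n) = Module.finrank k (RVec ι n) :=
    Module.finrank_mul_finrank k K (RVec ι n)
  have h2 : Module.finrank k (RVec ι n) = Fintype.card n * Module.finrank k D := by
    change Module.finrank k (n → D) = _
    rw [Module.finrank_pi_fintype]; simp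
  have h3 : Module.finrank k A = Fintype.card n * Fintype.card n * Module.finrank k D := by
    rw [e.toLinearEquiv.finrank_eq, Module.finrank_matrix]
  have hr : 0 < Module.finrank k K := Module.finrank_pos
  have h4 : Module.finrank K (RVec ι n) = Fintype.card n * Module.finrank k K := by
    apply Nat.eq_of_mul_eq_mul_left hr
    rw [h1, h2, hdim]; ring
  rw [h4, h3, hdim]; ring

/-- **Every central simple algebra has a finite separable splitting field.** -/
theorem exists_finite_separable_splitting :
    ∃ (k' : Type u) (_ : Field k') (_ : Algebra k k'), FiniteDimensional k k' ∧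
      Algebra.IsSeparable k k' ∧
      ∃ n : ℕ, n ≠ 0 ∧ Nonempty (k' ⊗[k] A ≃ₐ[k'] Matrix (Fin n) (Fin n) k') := by
  classical
  haveI : IsArtinianRing A := IsArtinianRing.of_finite k A
  obtain ⟨n, hn, D, _, _, _, ⟨e⟩⟩ := IsSimpleRing.exists_algEquiv_matrix_divisionRing_finite k A
  haveI : Nonempty (Fin n) := ⟨⟨0, Nat.pos_of_ne_zero hn.out⟩⟩
  haveI : Algebra.IsCentral k D := isCentral_of_matrix e
  obtain ⟨L, hL, hC, hsep⟩ := exists_separable_maximal_comm (k := k) (D := D)
  have hdimD : Module.finrank k D = Module.finrank k L ^ 2 := by
    haveI : IsSimpleRing L := isSimpleRing_subalgebra L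
    have h := (centralizer_simple_and_finrank k D L).2
    rw [hC] at h; rw [h, pow_two]
  letI := commField L hL
  haveI : Algebra.IsSeparable k L := ⟨fun l => (isSeparable_coe_iff L l).1 (hsep l l.2)⟩
  haveI : Algebra.IsAlgebraic k L := Algebra.IsAlgebraic.of_finite k L
  let f : L →ₐ[k] AlgebraicClosure k := IsAlgClosed.lift
  let g : L ≃ₐ[k] f.fieldRange := AlgEquiv.ofInjectiveField f
  let ι : f.fieldRange →ₐ[k] D := L.val.comp g.symm.toAlgHom
  haveI : FiniteDimensional k f.fieldRange := Module.Finite.equiv g.toLinearEquiv
  refine ⟨f.fieldRange, inferInstance, inferInstance, inferInstance, ?_, ?_⟩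
  · exact AlgEquiv.Algebra.isSeparable g
  · exact splits_matrix_of_subfield k A f.fieldRange ι
      (by rw [hdimD, g.toLinearEquiv.finrank_eq]) (Fin n) e

end main

section galois

universe u v

/-- a finite separable extension embeds into a finite Galois extension (in the same universe) -/
theorem exists_galois_over (k : Type u) [Field k] (k' : Type u) [Field k'] [Algebra k k']
    [FiniteDimensional k k'] [Algebra.IsSeparable k k'] :
    ∃ (N : Type u) (_ : Field N) (_ : Algebra k N), FiniteDimensional k N ∧ IsGalois k N ∧
      Nonempty (k' →ₐ[k] N) := by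
  haveI : IsAlgClosure k (AlgebraicClosure k') :=
    ⟨inferInstance, Algebra.IsAlgebraic.trans k k' (AlgebraicClosure k')⟩
  haveI : Normal k (AlgebraicClosure k') := IsAlgClosure.normal _ _
  let N := IntermediateField.normalClosure k k' (AlgebraicClosure k')
  haveI hsepf : ∀ f : k' →ₐ[k] AlgebraicClosure k', Algebra.IsSeparable k f.fieldRange :=
    fun f => AlgEquiv.Algebra.isSeparable (AlgEquiv.ofInjectiveField f)
  haveI : Algebra.IsSeparable k N := by
    change Algebra.IsSeparable k
      (⨆ f : k' →ₐ[k] AlgebraicClosure k', f.fieldRange : IntermediateField k _)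
    exact IntermediateField.isSeparable_iSup k (AlgebraicClosure k')
  refine ⟨N, inferInstance, inferInstance, inferInstance, ⟨⟩, ⟨IsScalarTower.toAlgHom k k' N⟩⟩

end galois

end Groth.Agent.Lib.Helper7.CSA
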