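import Groth.Agent.Lib.Helper7.NoetherNormInt
import Mathlib.RingTheory.IntegralClosure.GoingDown
import Mathlib.RingTheory.UniqueFactorizationDomain.Ideal
import Mathlib.RingTheory.Polynomial.UniqueFactorization
import Mathlib.RingTheory.KrullDimension.NonZeroDivisors
import Mathlib.RingTheory.Polynomial.RationalRoot

/-!
# Saturated chains of primes in affine domains have length equal to the dimension
-/

set_option autoImplicit false
set_option linter.unusedVariables false
set_option linter.style.haveILetI false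
set_option maxSynthPendingDepth 3

namespace Groth.Agent.Lib.Helper7.CatAff

open MvPolynomial Polynomial

universe u v

variable {k : Type u} [Field k]

theorem finSuccEquiv_rename_succ (n : ℕ) (p : MvPolynomial (Fin n) k) :
    finSuccEquiv k n (rename Fin.succ p) = Polynomial.C p := by
  induction p using MvPolynomial.induction_on with
  | C a => simp [finSuccEquiv_apply]
  | add p q hp hq => simp [hp, hq]
  | mul_X p i hp => simp [hp, finSuccEquiv_X_succ]

/-- The quotient of a polynomial ring in `n + 1` variables by a nonzero prime element has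
dimension `n`. -/
theorem dim_quotient_principal (n : ℕ) (f : MvPolynomial (Fin (n + 1)) k) (hf : f ≠ 0)
    (hprime : (Ideal.span {f}).IsPrime) :
    ringKrullDim (MvPolynomial (Fin (n + 1)) k ⧸ Ideal.span {f}) = n := by
  set I := Ideal.span {f} with hI
  have hfI : f ∈ I := Ideal.mem_span_singleton_self f
  have hint := NNInt.hom2_isIntegral f I hf hfI
  have hinj : Function.Injective (NNInt.hom2 f I) := by
    rw [injective_iff_map_eq_zero]
    intro p hp
    rw [NNInt.hom2_apply, Ideal.Quotient.eq_zero_iff_mem, hI, Ideal.mem_span_singleton'] at hp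
    obtain ⟨h, hh⟩ := hp
    -- apply `T` and `finSuccEquiv`
    have h1 : rename Fin.succ p = (NNInt.T f) h * (NNInt.T f) f := by
      rw [← map_mul, hh, AlgEquiv.apply_symm_apply]
    have h2 : Polynomial.C p = finSuccEquiv k n ((NNInt.T f) h) * finSuccEquiv k n ((NNInt.T f) f) := by
      rw [← map_mul, ← h1]
      rw [finSuccEquiv_rename_succ]
    set F := finSuccEquiv k n ((NNInt.T f) f) with hF
    set H := finSuccEquiv k n ((NNInt.T f) h) with hH
    have hFunit := NNInt.T_leadingcoeff_isUnit f hf
    have hF0 : F ≠ 0 := by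
      intro h0
      rw [← hF, h0, Polynomial.leadingCoeff_zero] at hFunit
      exact not_isUnit_zero hFunit
    by_cases hH0 : H = 0
    · rw [hH0, zero_mul, Polynomial.C_eq_zero] at h2
      exact h2
    · exfalso
      have hdeg := congrArg Polynomial.natDegree h2
      rw [Polynomial.natDegree_C, Polynomial.natDegree_mul hH0 hF0] at hdeg
      have hFdeg : F.natDegree = 0 := by omega
      -- then `F` is a unit, so `f` is a unit, contradiction
      have hFC : F = Polynomial.C F.leadingCoeff := by
        rw [Polynomial.leadingCoeff, hFdeg]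
        exact Polynomial.eq_C_of_natDegree_eq_zero hFdeg
      have hFu : IsUnit F := by
        rw [hFC]
        exact Polynomial.isUnit_C.2 hFunit
      have hTf : IsUnit ((NNInt.T f) f) := by
        have := hFu.map (finSuccEquiv k n).symm
        rwa [hF, AlgEquiv.symm_apply_apply] at this
      have hfu : IsUnit f := by
        have := hTf.map (NNInt.T f).symm
        rwa [AlgEquiv.symm_apply_apply] at this
      exact hprime.ne_top (Ideal.eq_top_of_isUnit_mem _ hfI hfu)
  rw [NNInt.ringKrullDim_eq_of_injective_isIntegral (NNInt.hom2 f I).toRingHom hinj hint,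
    NNInt.ringKrullDim_mvPolynomial_fin]

/-- In an affine domain, the quotient by a minimal nonzero prime drops the dimension by one. -/
theorem dim_quotient_of_covBy (A : Type v) [CommRing A] [IsDomain A] [Algebra k A]
    [Algebra.FiniteType k A] (p : Ideal A) [p.IsPrime] (hp0 : p ≠ ⊥)
    (hcov : ∀ J : Ideal A, J.IsPrime → J ≠ ⊥ → J ≤ p → J = p) :
    ringKrullDim (A ⧸ p) + 1 = ringKrullDim A := by
  obtain ⟨d, g, hginj, hgfin⟩ := exists_finite_inj_algHom_of_fg k A
  algebraize [g.toRingHom]
  haveI : FaithfulSMul (MvPolynomial (Fin d) k) A :=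
    (faithfulSMul_iff_algebraMap_injective _ A).2 hginj
  haveI : Module.Finite (MvPolynomial (Fin d) k) A := hgfin
  haveI : Algebra.IsIntegral (MvPolynomial (Fin d) k) A := Algebra.IsIntegral.of_finite _ _
  have hdimA : ringKrullDim A = d := by
    rw [NNInt.ringKrullDim_eq_of_injective_isIntegral (algebraMap (MvPolynomial (Fin d) k) A)
      hginj (algebraMap_isIntegral_iff.2 inferInstance), NNInt.ringKrullDim_mvPolynomial_fin]
  set q := p.under (MvPolynomial (Fin d) k) with hq
  have hq0 : q ≠ ⊥ := Ideal.under_ne_bot _ hp0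
  have hqcov : ∀ J : Ideal (MvPolynomial (Fin d) k), J.IsPrime → J ≠ ⊥ → J ≤ q → J = q := by
    intro J hJ hJ0 hJq
    by_contra hne
    have hlt : J < q := lt_of_le_of_ne hJq hne
    obtain ⟨P', hP'lt, hP'prime, hP'over⟩ := Ideal.exists_ideal_lt_liesOver_of_lt (p := J) p hlt
    have hP'0 : P' ≠ ⊥ := Ideal.ne_bot_of_liesOver_of_ne_bot hJ0 P'
    exact hP'lt.ne (hcov P' hP'prime hP'0 hP'lt.le)
  obtain ⟨f, hfq, hfprime⟩ := Ideal.IsPrime.exists_mem_prime_of_ne_bot (inferInstance : q.IsPrime) hq0
  have hf0 : f ≠ 0 := hfprime.ne_zero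
  have hspan_prime : (Ideal.span {f}).IsPrime := (Ideal.span_singleton_prime hf0).2 hfprime
  have hspan : Ideal.span {f} = q :=
    hqcov _ hspan_prime (by rwa [Ne, Ideal.span_singleton_eq_bot])
      ((Ideal.span_singleton_le_iff_mem _).2 hfq)
  -- `d` is positive
  obtain ⟨n, rfl⟩ : ∃ n, d = n + 1 := by
    rcases Nat.eq_zero_or_pos d with rfl | hd
    · exfalso
      have hC := MvPolynomial.eq_C_of_isEmpty f
      have hc0 : MvPolynomial.coeff 0 f ≠ 0 := by
        intro h0
        rw [h0, map_zero] at hC
        exact hf0 hC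
      apply hfprime.not_isUnit
      rw [hC]
      exact (hc0.isUnit).map MvPolynomial.C
    · exact ⟨d - 1, by omega⟩
  have hdimq : ringKrullDim (MvPolynomial (Fin (n + 1)) k ⧸ q) = n := by
    rw [← hspan]
    exact dim_quotient_principal n f hf0 hspan_prime
  have hdimp : ringKrullDim (A ⧸ p) = ringKrullDim (MvPolynomial (Fin (n + 1)) k ⧸ q) :=
    NNInt.ringKrullDim_eq_of_injective_isIntegral
      (algebraMap (MvPolynomial (Fin (n + 1)) k ⧸ q) (A ⧸ p))
      (FaithfulSMul.algebraMap_injective _ _) (algebraMap_isIntegral_iff.2 inferInstance)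
  rw [hdimp, hdimq, hdimA]
  norm_cast

/-- Step: if `q ⋖ p₁` are primes of an affine algebra, `dim A/q = dim A/p₁ + 1`. -/
theorem dim_quotient_covBy_step (A : Type v) [CommRing A] [Algebra k A] [Algebra.FiniteType k A]
    (q p₁ : PrimeSpectrum A) (hcov : q ⋖ p₁) :
    ringKrullDim (A ⧸ p₁.asIdeal) + 1 = ringKrullDim (A ⧸ q.asIdeal) := by
  haveI := q.isPrime
  haveI := p₁.isPrime
  have hle : q.asIdeal ≤ p₁.asIdeal := hcov.lt.le
  set P := p₁.asIdeal.map (Ideal.Quotient.mk q.asIdeal) with hP
  have hker : RingHom.ker (Ideal.Quotient.mk q.asIdeal) ≤ p₁.asIdeal := by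
    rw [Ideal.mk_ker]; exact hle
  haveI hPprime : P.IsPrime := Ideal.map_isPrime_of_surjective Ideal.Quotient.mk_surjective hker
  have hcomapP : P.comap (Ideal.Quotient.mk q.asIdeal) = p₁.asIdeal := by
    rw [hP, Ideal.comap_map_of_surjective _ Ideal.Quotient.mk_surjective,
      ← RingHom.ker_eq_comap_bot, Ideal.mk_ker]
    exact sup_eq_left.2 hle
  have hP0 : P ≠ ⊥ := by
    intro h0
    have : p₁.asIdeal ≤ q.asIdeal := by
      rw [← hcomapP, h0, ← RingHom.ker_eq_comap_bot, Ideal.mk_ker]
    exact hcov.lt.not_ge this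
  have hPcov : ∀ J : Ideal (A ⧸ q.asIdeal), J.IsPrime → J ≠ ⊥ → J ≤ P → J = P := by
    intro J hJ hJ0 hJP
    set J' : PrimeSpectrum A := ⟨J.comap (Ideal.Quotient.mk q.asIdeal), Ideal.comap_isPrime _ _⟩
      with hJ'
    have h1 : q < J' := by
      refine lt_of_le_of_ne ?_ ?_
      · change q.asIdeal ≤ J.comap _
        intro a ha
        rw [Ideal.mem_comap, Ideal.Quotient.eq_zero_iff_mem.2 ha]
        exact J.zero_mem
      · intro heq
        apply hJ0
        have : J.comap (Ideal.Quotient.mk q.asIdeal) = q.asIdeal :=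
          (congrArg PrimeSpectrum.asIdeal heq).symm
        rw [← Ideal.map_comap_of_surjective _ Ideal.Quotient.mk_surjective J, this,
          Ideal.map_quotient_self]
    have h2 : J' ≤ p₁ := by
      change J.comap _ ≤ p₁.asIdeal
      rw [← hcomapP]
      exact Ideal.comap_mono hJP
    have h3 : J' = p₁ := by
      by_contra hne
      exact hcov.2 h1 (lt_of_le_of_ne h2 hne)
    have h4 : J.comap (Ideal.Quotient.mk q.asIdeal) = p₁.asIdeal := congrArg PrimeSpectrum.asIdeal h3
    rw [← Ideal.map_comap_of_surjective _ Ideal.Quotient.mk_surjective J, h4]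
  have hKL := dim_quotient_of_covBy (k := k) (A ⧸ q.asIdeal) P hP0 hPcov
  rw [← hKL, ringKrullDim_eq_of_ringEquiv (DoubleQuot.quotQuotEquivQuotOfLE hle)]

theorem length_eq_dim_aux (A : Type v) [CommRing A] [Algebra k A] [Algebra.FiniteType k A] :
    ∀ (n : ℕ) (c : LTSeries (PrimeSpectrum A)), c.length = n → c.last.asIdeal.IsMaximal →
      (∀ (i : ℕ) (hi : i < c.length), c ⟨i, by omega⟩ ⋖ c ⟨i + 1, by omega⟩) →
      (n : WithBot ℕ∞) = ringKrullDim (A ⧸ c.head.asIdeal) := by
  intro n
  induction n with
  | zero =>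
    intro c hlen hmax _
    have hhl : c.head = c.last := by
      unfold RelSeries.head RelSeries.last
      congr 1
      ext
      simp [hlen]
    rw [hhl, ringKrullDim_eq_zero_of_isField
      ((Ideal.Quotient.maximal_ideal_iff_isField_quotient _).1 hmax)]
    rfl
  | succ n ih =>
    intro c hlen hmax hsat
    have hne : c.length ≠ 0 := by omega
    have htail : ∀ (i : ℕ) (hi : i < (c.tail hne).length + 1),
        (c.tail hne) ⟨i, hi⟩ = c ⟨i + 1, by
          have : (c.tail hne).length = c.length - 1 := rfl
          omega⟩ := by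
      intro i hi
      rfl
    have ih' := ih (c.tail hne) (by
        have : (c.tail hne).length = c.length - 1 := rfl
        omega) (by rw [RelSeries.last_tail]; exact hmax) (by
        intro i hi
        have hl : (c.tail hne).length = c.length - 1 := rfl
        rw [htail, htail]
        exact hsat (i + 1) (by omega))
    have hhead : (c.tail hne).head = c ⟨1, by omega⟩ := htail 0 (by omega)
    rw [hhead] at ih'
    have hcov : c.head ⋖ c ⟨1, by omega⟩ := hsat 0 (by omega)
    have hstep := dim_quotient_covBy_step (k := k) A c.head (c ⟨1, by omega⟩) hcov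
    rw [← hstep, ← ih']
    norm_cast

theorem length_eq_dim (A : Type v) [CommRing A] [IsDomain A] [Algebra k A]
    [Algebra.FiniteType k A] (c : LTSeries (PrimeSpectrum A)) (h0 : c.head.asIdeal = ⊥)
    (hmax : c.last.asIdeal.IsMaximal) (hsat : ∀ i : Fin c.length, c i.castSucc ⋖ c i.succ) :
    (c.length : WithBot ℕ∞) = ringKrullDim A := by
  have h := length_eq_dim_aux (k := k) A c.length c rfl hmax (fun i hi => hsat ⟨i, hi⟩)
  rw [h, h0]
  exact ringKrullDim_eq_of_ringEquiv (RingEquiv.quotientBot A)

end Groth.Agent.Lib.Helper7.CatAff
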