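import Groth.Agent.Lib.Helper7.SpecConn

/-!
# Connectedness in codimension `d - 1` (Hartshorne)

`A` Noetherian with connected spectrum, `depth A_p ≥ 2` whenever `ht p ≥ d`.  Then any two minimal
primes are linked by a chain of minimal primes, consecutive members lying in a common prime of
height `≤ d - 1`.
-/

set_option autoImplicit false
set_option linter.unusedVariables false
set_option linter.style.haveILetI false

universe u

namespace Groth.Agent.Lib.Helper7.CodimConn

open Groth.Agent.Lib.Helper7.SpecConn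

variable (A : Type u) [CommRing A]

/-- the linking relation among minimal primes -/
def Link (d : ℕ) (p p' : Ideal A) : Prop :=
  p' ∈ minimalPrimes A ∧ ∃ (q : Ideal A) (_ : q.IsPrime), p ≤ q ∧ p' ≤ q ∧ q.height + 1 ≤ (d : ℕ∞)

variable [IsNoetherianRing A] [ConnectedSpace (PrimeSpectrum A)] (d : ℕ)
  (h : ∀ (p : Ideal A) [p.IsPrime], (d : ℕ∞) ≤ p.height →
    (2 : ℕ∞) ≤ LocCoh.depth (Localization.AtPrime p) (Localization.AtPrime p))

include h in
theorem reflTransGen_link (p' p'' : Ideal A) (hp' : p' ∈ minimalPrimes A)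
    (hp'' : p'' ∈ minimalPrimes A) : Relation.ReflTransGen (Link A d) p' p'' := by
  classical
  by_contra hcon
  have hfin : (minimalPrimes A).Finite := minimalPrimes.finite_of_isNoetherianRing A
  set S1 : Finset (Ideal A) :=
    hfin.toFinset.filter (fun p => Relation.ReflTransGen (Link A d) p' p) with hS1
  set S2 : Finset (Ideal A) :=
    hfin.toFinset.filter (fun p => ¬ Relation.ReflTransGen (Link A d) p' p) with hS2
  set I1 : Ideal A := S1.inf id with hI1
  set I2 : Ideal A := S2.inf id with hI2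
  have hp'S1 : p' ∈ S1 := Finset.mem_filter.2 ⟨hfin.mem_toFinset.2 hp', Relation.ReflTransGen.refl⟩
  have hp''S2 : p'' ∈ S2 := Finset.mem_filter.2 ⟨hfin.mem_toFinset.2 hp'', hcon⟩
  have hmem1 : ∀ p ∈ S1, I1 ≤ p := fun p hp => (Finset.inf_le hp : S1.inf id ≤ id p)
  have hmem2 : ∀ p ∈ S2, I2 ≤ p := fun p hp => (Finset.inf_le hp : S2.inf id ≤ id p)
  -- (a) every prime contains `I1` or `I2`
  have ha : ∀ P : Ideal A, P.IsPrime → I1 ≤ P ∨ I2 ≤ P := by
    intro P hP
    obtain ⟨p, hp, hpP⟩ := Ideal.exists_minimalPrimes_le (I := ⊥) (J := P) bot_le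
    by_cases hr : Relation.ReflTransGen (Link A d) p' p
    · left
      exact (hmem1 p (Finset.mem_filter.2 ⟨hfin.mem_toFinset.2 hp, hr⟩)).trans hpP
    · right
      exact (hmem2 p (Finset.mem_filter.2 ⟨hfin.mem_toFinset.2 hp, hr⟩)).trans hpP
  -- (b)
  have hb1 : ∀ P : Ideal A, P.IsPrime → I1 ≤ P → ∃ p ∈ S1, p ≤ P := by
    intro P hP hle
    rw [hI1, Ideal.IsPrime.inf_le' hP] at hle
    exact hle
  have hb2 : ∀ P : Ideal A, P.IsPrime → I2 ≤ P → ∃ p ∈ S2, p ≤ P := by
    intro P hP hle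
    rw [hI2, Ideal.IsPrime.inf_le' hP] at hle
    exact hle
  -- (c) a prime containing both
  have hc : ∃ P : PrimeSpectrum A, I1 ≤ P.asIdeal ∧ I2 ≤ P.asIdeal := by
    have hpre : _root_.IsPreconnected (Set.univ : Set (PrimeSpectrum A)) := isPreconnected_univ
    rw [isPreconnected_closed_iff] at hpre
    have := hpre (PrimeSpectrum.zeroLocus (I1 : Set A)) (PrimeSpectrum.zeroLocus (I2 : Set A))
      (PrimeSpectrum.isClosed_zeroLocus _) (PrimeSpectrum.isClosed_zeroLocus _)
      (by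
        intro P _
        rcases ha P.asIdeal P.isPrime with h1 | h1
        · left; exact (PrimeSpectrum.mem_zeroLocus _ _).2 h1
        · right; exact (PrimeSpectrum.mem_zeroLocus _ _).2 h1)
      ⟨⟨p', hp'.1.1⟩, trivial, (PrimeSpectrum.mem_zeroLocus _ _).2 (hmem1 p' hp'S1)⟩
      ⟨⟨p'', hp''.1.1⟩, trivial, (PrimeSpectrum.mem_zeroLocus _ _).2 (hmem2 p'' hp''S2)⟩
    obtain ⟨P, -, hP1, hP2⟩ := this
    exact ⟨P, (PrimeSpectrum.mem_zeroLocus _ _).1 hP1, (PrimeSpectrum.mem_zeroLocus _ _).1 hP2⟩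
  obtain ⟨P, hP1, hP2⟩ := hc
  haveI := P.isPrime
  obtain ⟨q, hq, hqP⟩ := Ideal.exists_minimalPrimes_le (I := I1 ⊔ I2) (J := P.asIdeal)
    (sup_le hP1 hP2)
  haveI hqp : q.IsPrime := hq.1.1
  have hq1 : I1 ≤ q := le_sup_left.trans hq.1.2
  have hq2 : I2 ≤ q := le_sup_right.trans hq.1.2
  obtain ⟨p1, hp1S, hp1q⟩ := hb1 q hqp hq1
  obtain ⟨p2, hp2S, hp2q⟩ := hb2 q hqp hq2
  have hp1 := Finset.mem_filter.1 hp1S
  have hp2 := Finset.mem_filter.1 hp2S
  have hp1min : p1 ∈ minimalPrimes A := hfin.mem_toFinset.1 hp1.1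
  have hp2min : p2 ∈ minimalPrimes A := hfin.mem_toFinset.1 hp2.1
  -- (e)
  have he : (d : ℕ∞) ≤ q.height := by
    by_contra hlt
    apply hp2.2
    refine hp1.2.tail ⟨hp2min, q, hqp, hp1q, hp2q, ?_⟩
    rw [not_le] at hlt
    exact Order.add_one_le_of_lt hlt
  have hdepth := h q he
  -- (f)
  set B := Localization.AtPrime q with hB
  have hconn := isConnected_punctured B hdepth
  have hpre := hconn.2
  rw [isPreconnected_closed_iff] at hpre
  let φ : PrimeSpectrum B → PrimeSpectrum A := PrimeSpectrum.comap (algebraMap A B)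
  have hφc : Continuous φ := PrimeSpectrum.continuous_comap (algebraMap A B)
  have hφle : ∀ x : PrimeSpectrum B, (φ x).asIdeal ≤ q := by
    intro x
    have : φ x ∈ Set.range (PrimeSpectrum.comap (algebraMap A B)) := ⟨x, rfl⟩
    rw [PrimeSpectrum.localization_comap_range B q.primeCompl] at this
    intro a ha
    by_contra haq
    exact Set.disjoint_left.1 this haq ha
  have hφmax : ∀ x : PrimeSpectrum B, (φ x).asIdeal = q →
      x.asIdeal = IsLocalRing.maximalIdeal B := by
    intro x hx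
    have h1 : φ x = φ ⟨IsLocalRing.maximalIdeal B, (IsLocalRing.maximalIdeal.isMaximal B).isPrime⟩ := by
      ext1
      rw [hx]
      exact (Localization.AtPrime.under_maximalIdeal (I := q)).symm
    have := PrimeSpectrum.localization_comap_injective B q.primeCompl h1
    rw [this]
  have hlift : ∀ p : Ideal A, p.IsPrime → p ≤ q → ∃ x : PrimeSpectrum B, (φ x).asIdeal = p := by
    intro p hp hpq
    have : (⟨p, hp⟩ : PrimeSpectrum A) ∈ Set.range (PrimeSpectrum.comap (algebraMap A B)) := by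
      rw [PrimeSpectrum.localization_comap_range B q.primeCompl]
      show Disjoint (q.primeCompl : Set A) p
      rw [Set.disjoint_left]
      intro a ha hap
      exact ha (hpq hap)
    obtain ⟨x, hx⟩ := this
    exact ⟨x, congrArg PrimeSpectrum.asIdeal hx⟩
  have hp12 : p1 ≠ p2 := by
    intro heq
    exact hp2.2 (heq ▸ hp1.2)
  have hne1 : p1 ≠ q := by
    intro heq
    apply hp12
    have : p1 ≤ p2 := hp1min.2 ⟨hp2min.1.1, bot_le⟩ (heq ▸ hp2q)
    exact le_antisymm this (heq ▸ hp2q)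
  have hne2 : p2 ≠ q := by
    intro heq
    apply hp12
    have : p2 ≤ p1 := hp2min.2 ⟨hp1min.1.1, bot_le⟩ (heq ▸ hp1q)
    exact le_antisymm (heq ▸ hp1q) this
  obtain ⟨x1, hx1⟩ := hlift p1 hp1min.1.1 hp1q
  obtain ⟨x2, hx2⟩ := hlift p2 hp2min.1.1 hp2q
  have key := hpre (φ ⁻¹' PrimeSpectrum.zeroLocus (I1 : Set A))
    (φ ⁻¹' PrimeSpectrum.zeroLocus (I2 : Set A))
    ((PrimeSpectrum.isClosed_zeroLocus _).preimage hφc)
    ((PrimeSpectrum.isClosed_zeroLocus _).preimage hφc)
    (by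
      intro x _
      rcases ha (φ x).asIdeal (φ x).isPrime with h1 | h1
      · left; exact (PrimeSpectrum.mem_zeroLocus _ _).2 h1
      · right; exact (PrimeSpectrum.mem_zeroLocus _ _).2 h1)
    ⟨x1, by
      intro hmax
      apply hne1
      rw [← hx1]
      show (x1.asIdeal).comap (algebraMap A B) = q
      rw [hmax]
      exact Localization.AtPrime.under_maximalIdeal (I := q),
      (PrimeSpectrum.mem_zeroLocus _ _).2 (by rw [hx1]; exact hmem1 p1 hp1S)⟩
    ⟨x2, by
      intro hmax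
      apply hne2
      rw [← hx2]
      show (x2.asIdeal).comap (algebraMap A B) = q
      rw [hmax]
      exact Localization.AtPrime.under_maximalIdeal (I := q),
      (PrimeSpectrum.mem_zeroLocus _ _).2 (by rw [hx2]; exact hmem2 p2 hp2S)⟩
  obtain ⟨x, hxs, hxt1, hxt2⟩ := key
  apply hxs
  apply hφmax
  have h1 : I1 ⊔ I2 ≤ (φ x).asIdeal :=
    sup_le ((PrimeSpectrum.mem_zeroLocus _ _).1 hxt1) ((PrimeSpectrum.mem_zeroLocus _ _).1 hxt2)
  exact le_antisymm (hφle x) (hq.2 ⟨(φ x).isPrime, h1⟩ (hφle x))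

end Groth.Agent.Lib.Helper7.CodimConn
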