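import Mathlib
import Groth.Prelude.Def_FSch3
import Groth.Agent.Lib.Helper12.FComplA
import Groth.Agent.Lib.Helper12.FComplC
import Groth.Agent.Lib.Helper5.ComplIso
import Groth.Agent.Lib.Helper5.ComplKaehler

/-!
# Completions for cofinal ideals; finiteness of the completion of a local homomorphism with finite
closed fibre (helper7)
-/

set_option autoImplicit false
set_option linter.style.haveILetI false
set_option linter.unusedSectionVars false
universe u

namespace Groth.Agent.Lib.Helper7.ComplCofinal
open IsLocalRing FSch TensorProduct Groth.Agent.Lib.Helper12.FComplA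

section Cofinal

variable {S : Type u} [CommRing S] (I K : Ideal S)

/-- if `I ≤ K` and `K ^ k ≤ I`, the `I`-adic and `K`-adic completions agree -/
theorem complMap_id_bijective (h : I.map (RingHom.id S) ≤ K) (k : ℕ) (hk : K ^ k ≤ I) :
    Function.Bijective (complMap I K (RingHom.id S) h) := by
  have hk' : ∀ j : ℕ, K ^ ((k + 1) * j) ≤ I ^ j := by
    intro j
    rw [pow_mul]
    exact Ideal.pow_right_mono ((Ideal.pow_le_pow_right (Nat.le_succ k)).trans hk) j
  have hj : ∀ j : ℕ, j ≤ (k + 1) * j := fun j => Nat.le_mul_of_pos_left j (Nat.succ_pos k)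
  constructor
  · rw [injective_iff_map_eq_zero]
    intro x hx
    apply AdicCompletion.ext_evalₐ
    intro j
    rw [map_zero]
    obtain ⟨s, hs⟩ := Ideal.Quotient.mk_surjective (AdicCompletion.evalₐ I ((k + 1) * j) x)
    have h1 := evalₐ_complMap I K (RingHom.id S) h ((k + 1) * j) x
    rw [hx, map_zero, ← hs, Ideal.quotientMap_mk, RingHom.id_apply] at h1
    have h2 : s ∈ I ^ j := hk' j (Ideal.Quotient.eq_zero_iff_mem.1 h1.symm)
    rw [← Groth.Agent.Lib.Helper5.ComplIso.factor_evalₐ I (hj j) x, ← hs,
      Ideal.Quotient.factor_mk]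
    exact Ideal.Quotient.eq_zero_iff_mem.2 h2
  · intro y
    obtain ⟨f, rfl⟩ := AdicCompletion.mk_surjective K S y
    have hg : AdicCompletion.IsAdicCauchy I S (fun j => f ((k + 1) * j)) := by
      intro a b hab
      have h1 := f.2 (Nat.mul_le_mul_left (k + 1) hab)
      rw [SModEq.sub_mem] at h1 ⊢
      simp only [smul_eq_mul, Ideal.mul_top] at h1 ⊢
      exact hk' a h1
    let g : AdicCompletion.AdicCauchySequence I S := ⟨fun j => f ((k + 1) * j), hg⟩
    refine ⟨AdicCompletion.mk I S g, ?_⟩
    apply AdicCompletion.ext_evalₐ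
    intro j
    rw [evalₐ_complMap, AdicCompletion.evalₐ_mk, AdicCompletion.evalₐ_mk, Ideal.quotientMap_mk,
      RingHom.id_apply, Ideal.Quotient.eq]
    have h1 := f.2 (hj j)
    rw [SModEq.sub_mem] at h1
    simp only [smul_eq_mul, Ideal.mul_top] at h1
    have := (K ^ j).neg_mem h1
    rwa [neg_sub] at this

end Cofinal

section Fibre

variable (R S : Type u) [CommRing R] [CommRing S] [IsLocalRing R] [IsLocalRing S] [Algebra R S]

/-- the surjection `κ(m) ⊗ S → S/mS` -/
noncomputable def fibreToQuot :
    (maximalIdeal R).Fiber S →ₐ[R] S ⧸ (maximalIdeal R).map (algebraMap R S) :=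
  Algebra.TensorProduct.lift
    ((Ideal.quotientMapₐ ((maximalIdeal R).map (algebraMap R S)) (Algebra.ofId R S)
        Ideal.le_comap_map).comp
      (AlgEquiv.ofBijective
        (IsScalarTower.toAlgHom R (R ⧸ maximalIdeal R) (maximalIdeal R).ResidueField)
        (Ideal.bijective_algebraMap_quotient_residueField _)).symm.toAlgHom)
    (IsScalarTower.toAlgHom R S _)
    (fun _ _ => Commute.all _ _)

theorem fibreToQuot_surjective : Function.Surjective (fibreToQuot R S) := by
  intro q
  obtain ⟨s, rfl⟩ := Ideal.Quotient.mk_surjective q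
  refine ⟨1 ⊗ₜ s, ?_⟩
  rw [fibreToQuot, Algebra.TensorProduct.lift_tmul, map_one, one_mul]
  rfl

variable {R S}

theorem finite_quot (hfib : Module.Finite (maximalIdeal R).ResidueField ((maximalIdeal R).Fiber S)) :
    Module.Finite R (S ⧸ (maximalIdeal R).map (algebraMap R S)) := by
  haveI : Module.Finite R ((maximalIdeal R).Fiber S) :=
    Module.Finite.trans (maximalIdeal R).ResidueField _
  exact Module.Finite.of_surjective (fibreToQuot R S).toLinearMap (fibreToQuot_surjective R S)

theorem exists_pow_le (hfib : Module.Finite (maximalIdeal R).ResidueField ((maximalIdeal R).Fiber S)) :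
    ∃ k : ℕ, maximalIdeal S ^ k ≤ (maximalIdeal R).map (algebraMap R S) := by
  haveI : IsArtinianRing ((maximalIdeal R).Fiber S) :=
    IsArtinianRing.of_finite (maximalIdeal R).ResidueField _
  haveI : IsArtinianRing (S ⧸ (maximalIdeal R).map (algebraMap R S)) :=
    (fibreToQuot_surjective R S).isArtinianRing
  obtain ⟨k, hk⟩ := IsArtinianRing.isNilpotent_jacobson_bot
    (R := S ⧸ (maximalIdeal R).map (algebraMap R S))
  refine ⟨k, ?_⟩
  have h1 : (maximalIdeal S).map (Ideal.Quotient.mk ((maximalIdeal R).map (algebraMap R S))) ≤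
      (⊥ : Ideal (S ⧸ (maximalIdeal R).map (algebraMap R S))).jacobson := by
    rw [Ideal.map_le_iff_le_comap]
    intro x hx
    rw [Ideal.mem_comap, Ideal.jacobson, Ideal.mem_sInf]
    rintro M ⟨-, hM⟩
    have hmax : (M.comap (Ideal.Quotient.mk ((maximalIdeal R).map (algebraMap R S)))).IsMaximal :=
      Ideal.comap_isMaximal_of_surjective _ Ideal.Quotient.mk_surjective
    have := IsLocalRing.eq_maximalIdeal hmax
    have hx' : x ∈ M.comap (Ideal.Quotient.mk ((maximalIdeal R).map (algebraMap R S))) := by
      rw [this]; exact hx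
    exact hx'
  have h2 : (maximalIdeal S ^ k).map
      (Ideal.Quotient.mk ((maximalIdeal R).map (algebraMap R S))) = ⊥ := by
    rw [Ideal.map_pow, eq_bot_iff, ← Ideal.zero_eq_bot, ← hk]
    exact Ideal.pow_right_mono h1 k
  rw [Ideal.map_eq_bot_iff_le_ker, Ideal.mk_ker] at h2
  exact h2

end Fibre

section Finite

variable {R S : Type u} [CommRing R] [CommRing S] [Algebra R S] (I : Ideal R) (K : Ideal S)

/-- the completion of `R → S` is finite when `S/IS` is finite over `R` and the `IS`-adic and
`K`-adic topologies of `S` agree -/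
theorem complMap_finite (hI : I.FG) (hK : K.FG)
    (hT : Module.Finite R (S ⧸ I.map (algebraMap R S)))
    (k : ℕ) (hk : K ^ k ≤ I.map (algebraMap R S))
    (h : I.map (algebraMap R S) ≤ K) :
    (complMap I K (algebraMap R S) h).Finite := by
  letI : Algebra (AdicCompletion I R) (AdicCompletion K S) :=
    (complMap I K (algebraMap R S) h).toAlgebra
  have hφ : ∀ a : AdicCompletion I R, algebraMap (AdicCompletion I R) (AdicCompletion K S) a =
      complMap I K (algebraMap R S) h a := fun _ => rfl
  change Module.Finite (AdicCompletion I R) (AdicCompletion K S)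
  haveI : IsPrecomplete (I.map (algebraMap R (AdicCompletion I R))) (AdicCompletion I R) :=
    (IsPrecomplete.map_algebraMap_iff).2 (AdicCompletion.isAdicComplete hI).toIsPrecomplete
  haveI : IsHausdorff (K.map (algebraMap S (AdicCompletion K S))) (AdicCompletion K S) :=
    (IsHausdorff.map_algebraMap_iff).2 inferInstance
  haveI : IsHausdorff (I.map (algebraMap R (AdicCompletion I R))) (AdicCompletion K S) :=
    IsHausdorff.of_map (J := K.map (algebraMap S (AdicCompletion K S)))
      (Groth.Agent.Lib.Helper12.FComplC.map_complMap_le I K (algebraMap R S) h)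
  apply Groth.Agent.Lib.Helper5.ComplKaehler.finite_of_finite_quotient
    (I.map (algebraMap R (AdicCompletion I R)))
  -- generators of `S/IS`
  obtain ⟨r, t, ht⟩ := Module.Finite.exists_fin (R := R) (M := S ⧸ I.map (algebraMap R S))
  choose s hs using fun i => Ideal.Quotient.mk_surjective (t i)
  -- `IS Ŝ ⊆ Î Ŝ`
  have hsub : ∀ z : AdicCompletion K S,
      z ∈ (I.map (algebraMap R S)).map (algebraMap S (AdicCompletion K S)) →
      z ∈ (I.map (algebraMap R (AdicCompletion I R)) • ⊤ :
        Submodule (AdicCompletion I R) (AdicCompletion K S)) := by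
    intro z hz
    rw [Ideal.smul_top_eq_map, Submodule.restrictScalars_mem, Ideal.map_map]
    rw [Ideal.map_map] at hz
    have : (algebraMap (AdicCompletion I R) (AdicCompletion K S)).comp
        (algebraMap R (AdicCompletion I R)) =
        (algebraMap S (AdicCompletion K S)).comp (algebraMap R S) :=
      RingHom.ext fun a => complMap_algebraMap I K (algebraMap R S) h a
    rw [this]
    exact hz
  have hclaim : ∀ x : AdicCompletion K S, ∃ c : Fin r → AdicCompletion I R,
      x - ∑ i, c i • algebraMap S (AdicCompletion K S) (s i) ∈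
        (I.map (algebraMap R (AdicCompletion I R)) • ⊤ :
          Submodule (AdicCompletion I R) (AdicCompletion K S)) := by
    intro x
    obtain ⟨a, ha⟩ := exists_sub_algebraMap_mem K hK k x
    have h1 : Ideal.Quotient.mk (I.map (algebraMap R S)) a ∈
        Submodule.span R (Set.range t) := by rw [ht]; trivial
    obtain ⟨c, hc⟩ := (Submodule.mem_span_range_iff_exists_fun R).1 h1
    refine ⟨fun i => algebraMap R (AdicCompletion I R) (c i), ?_⟩
    have h2 : a - ∑ i, algebraMap R S (c i) * s i ∈ I.map (algebraMap R S) := by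
      rw [← Ideal.Quotient.eq, ← hc, map_sum]
      refine Finset.sum_congr rfl fun i _ => ?_
      rw [map_mul, hs, Algebra.smul_def]
      rfl
    have h3 : x - ∑ i, algebraMap R (AdicCompletion I R) (c i) •
        algebraMap S (AdicCompletion K S) (s i) =
        (x - algebraMap S (AdicCompletion K S) a) +
        algebraMap S (AdicCompletion K S) (a - ∑ i, algebraMap R S (c i) * s i) := by
      rw [map_sub, map_sum]
      have : ∀ i, algebraMap R (AdicCompletion I R) (c i) •
          algebraMap S (AdicCompletion K S) (s i) =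
          algebraMap S (AdicCompletion K S) (algebraMap R S (c i) * s i) := by
        intro i
        rw [Algebra.smul_def, hφ, complMap_algebraMap, map_mul]
      simp only [this]
      ring
    rw [h3]
    refine Submodule.add_mem _ (hsub _ ?_) (hsub _ (Ideal.mem_map_of_mem _ h2))
    rw [← Ideal.map_pow] at ha
    exact Ideal.map_mono hk ha
  let f : (Fin r → AdicCompletion I R) →ₗ[AdicCompletion I R] AdicCompletion K S :=
    Fintype.linearCombination (AdicCompletion I R)
      (fun i => algebraMap S (AdicCompletion K S) (s i))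
  refine Module.Finite.of_surjective
    ((I.map (algebraMap R (AdicCompletion I R)) • ⊤ :
      Submodule (AdicCompletion I R) (AdicCompletion K S)).mkQ ∘ₗ f) ?_
  intro q
  obtain ⟨x, rfl⟩ := Submodule.mkQ_surjective _ q
  obtain ⟨c, hc⟩ := hclaim x
  refine ⟨c, ?_⟩
  rw [LinearMap.comp_apply, Submodule.mkQ_apply, Submodule.mkQ_apply, eq_comm,
    Submodule.Quotient.eq]
  exact hc

end Finite

end Groth.Agent.Lib.Helper7.ComplCofinal
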