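import Mathlib
import Groth.Agent.Lib.helper19.CompletionNoetherian
import Groth.Agent.Lib.Helper22.CplLocGlob2
import Groth.Agent.Lib.Helper17.UnramBaseChange

/-!
# Dimension of the `J`-adic completion of a Noetherian ring, `J` in the Jacobson radical

* `ringKrullDim_eq_of_flat_of_maximal`: a flat map of Noetherian rings `B → B'` such that the
  maximal ideals of `B'` are exactly the extensions of maximal ideals of `B` preserves dimension.
* `ringKrullDim_quotient_adicCompletion`: `dim Â/𝔞Â = dim A/𝔞`.
* `supportDim_adicCompletion_eq`: `dim_Â M̂ = dim_A M` for finite `M`.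
-/

set_option autoImplicit false
universe u

namespace Groth.Agent.Lib.Helper7.ComplDim

section General

variable {B B' : Type*} [CommRing B] [CommRing B'] [IsNoetherianRing B] [IsNoetherianRing B']
  [Algebra B B'] [Module.Flat B B']

theorem height_eq_of_map_eq (m : Ideal B) [m.IsPrime] (n : Ideal B') [n.IsPrime]
    (hcomap : n.comap (algebraMap B B') = m) (hmap : m.map (algebraMap B B') = n) :
    n.height = m.height := by
  haveI : n.LiesOver m := ⟨hcomap.symm⟩
  have h := Ideal.height_eq_height_add_of_liesOver_of_hasGoingDown m n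
  have hbot : n.map (Ideal.Quotient.mk (m.map (algebraMap B B'))) = ⊥ := by
    rw [hmap]; exact Ideal.map_quotient_self _
  haveI : Nontrivial (B' ⧸ m.map (algebraMap B B')) := by
    rw [hmap]; exact Ideal.Quotient.nontrivial_iff.mpr Ideal.IsPrime.ne_top'
  rw [hbot, Ideal.height_bot, add_zero] at h
  exact h

theorem ringKrullDim_eq_of_flat_of_maximal
    (h1 : ∀ (n : Ideal B') [n.IsMaximal], (n.comap (algebraMap B B')).IsMaximal ∧
      (n.comap (algebraMap B B')).map (algebraMap B B') = n)
    (h2 : ∀ (m : Ideal B) [m.IsMaximal], m.map (algebraMap B B') ≠ ⊤) :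
    ringKrullDim B' = ringKrullDim B := by
  rcases subsingleton_or_nontrivial B with hB | hB
  · haveI : Subsingleton B' := by
      refine ⟨fun x y => ?_⟩
      have h10 : (1 : B') = 0 := by
        rw [← map_one (algebraMap B B'), Subsingleton.elim (1 : B) 0, map_zero]
      rw [← mul_one x, ← mul_one y, h10, mul_zero, mul_zero]
    rw [ringKrullDim_eq_bot_of_subsingleton, ringKrullDim_eq_bot_of_subsingleton]
  · obtain ⟨m0, hm0⟩ := Ideal.exists_maximal B
    haveI : Nontrivial B' := by
      by_contra hnt
      rw [not_nontrivial_iff_subsingleton] at hnt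
      exact h2 m0 (Subsingleton.elim _ _)
    rw [← Ideal.sup_isMaximal_height_eq_ringKrullDim, ← Ideal.sup_isMaximal_height_eq_ringKrullDim,
      WithBot.coe_inj]
    apply le_antisymm
    · refine iSup_le fun n => iSup_le fun hn => ?_
      haveI := hn
      obtain ⟨hmax, hmap⟩ := h1 n
      haveI := hmax
      rw [height_eq_of_map_eq _ n rfl hmap]
      exact le_iSup_of_le (n.comap (algebraMap B B')) (le_iSup_of_le hmax le_rfl)
    · refine iSup_le fun m => iSup_le fun hm => ?_
      haveI := hm
      obtain ⟨n, hn, hmn⟩ := Ideal.exists_le_maximal _ (h2 m)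
      haveI := hn
      obtain ⟨hmax, hmap⟩ := h1 n
      have hcomap : n.comap (algebraMap B B') = m :=
        (hm.eq_of_le hmax.ne_top (Ideal.map_le_iff_le_comap.mp hmn)).symm
      rw [← height_eq_of_map_eq m n hcomap (by rw [← hcomap]; exact hmap)]
      exact le_iSup_of_le n (le_iSup_of_le hn le_rfl)

end General

section Completion

variable (A : Type u) [CommRing A] [IsNoetherianRing A] (J : Ideal A)

local notation "Â" => AdicCompletion J A

/-- the extension of a maximal ideal containing `J` to the completion is proper -/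
theorem map_ne_top_of_le (m : Ideal A) [hm : m.IsMaximal] (hJ : J ≤ m) :
    m.map (algebraMap A Â) ≠ ⊤ := by
  intro htop
  have h1 : (m.map (algebraMap A Â)).map (AdicCompletion.evalOneₐ J).toRingHom = ⊤ := by
    rw [htop]
    exact Ideal.map_top _
  rw [Ideal.map_map, AdicCompletion.evalOneₐ_comp_algebraMap_eq_mk] at h1
  have h2 : m.map (Ideal.Quotient.mk J) ≠ ⊤ := by
    intro h
    have h3 := congrArg (Ideal.comap (Ideal.Quotient.mk J)) h
    rw [Ideal.comap_map_of_surjective _ Ideal.Quotient.mk_surjective, Ideal.comap_top,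
      ← RingHom.ker_eq_comap_bot, Ideal.mk_ker, sup_eq_left.mpr hJ] at h3
    exact hm.ne_top h3
  exact h2 h1

variable (𝔞 : Ideal A)

theorem ringKrullDim_quotient_adicCompletion (hJ : J ≤ Ideal.jacobson ⊥) :
    ringKrullDim (Â ⧸ 𝔞.map (algebraMap A Â)) = ringKrullDim (A ⧸ 𝔞) := by
  haveI : IsNoetherianRing Â := Groth.Agent.Lib.helper19.isNoetherianRing_adicCompletion A J
  haveI : Module.Flat A Â := AdicCompletion.flat_of_isNoetherian J
  haveI : Module.Flat (A ⧸ 𝔞) (Â ⧸ 𝔞.map (algebraMap A Â)) :=
    Module.Flat.of_linearEquiv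
      (Algebra.TensorProduct.quotIdealMapEquivQuotTensor Â 𝔞).toLinearEquiv
  have hcomp : (algebraMap (A ⧸ 𝔞) (Â ⧸ 𝔞.map (algebraMap A Â))).comp (Ideal.Quotient.mk 𝔞) =
      (Ideal.Quotient.mk (𝔞.map (algebraMap A Â))).comp (algebraMap A Â) := by
    ext x
    rfl
  refine ringKrullDim_eq_of_flat_of_maximal ?_ ?_
  · intro n' hn'
    set n : Ideal Â := n'.comap (Ideal.Quotient.mk (𝔞.map (algebraMap A Â))) with hn
    haveI hnmax : n.IsMaximal := Ideal.comap_isMaximal_of_surjective _ Ideal.Quotient.mk_surjective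
    set m : Ideal A := n.comap (algebraMap A Â) with hm
    haveI hmmax : m.IsMaximal := Groth.Agent.Lib.Helper22.CplLocGlob.comap_isMaximal A J n
    have hmn : m.map (algebraMap A Â) = n :=
      Groth.Agent.Lib.Helper5.RegCompletion.map_comap_eq_of_isMaximal A J n
    have h𝔞n : 𝔞.map (algebraMap A Â) ≤ n := by
      intro x hx
      rw [hn, Ideal.mem_comap, Ideal.Quotient.eq_zero_iff_mem.mpr hx]
      exact zero_mem _
    have h𝔞m : 𝔞 ≤ m := Ideal.map_le_iff_le_comap.mp h𝔞n
    set P : Ideal (A ⧸ 𝔞) := n'.comap (algebraMap (A ⧸ 𝔞) (Â ⧸ 𝔞.map (algebraMap A Â))) with hP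
    have hPm : P.comap (Ideal.Quotient.mk 𝔞) = m := by
      rw [hP, Ideal.comap_comap, hcomp, ← Ideal.comap_comap]
    have hPeq : P = m.map (Ideal.Quotient.mk 𝔞) := by
      rw [← hPm, Ideal.map_comap_of_surjective _ Ideal.Quotient.mk_surjective]
    refine ⟨?_, ?_⟩
    · rw [hPeq]
      exact Ideal.IsMaximal.map_of_surjective_of_ker_le Ideal.Quotient.mk_surjective
        (by rw [Ideal.mk_ker]; exact h𝔞m)
    · rw [hPeq, Ideal.map_map, hcomp, ← Ideal.map_map, hmn, hn,
        Ideal.map_comap_of_surjective _ Ideal.Quotient.mk_surjective]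
  · intro m' hm'
    set m : Ideal A := m'.comap (Ideal.Quotient.mk 𝔞) with hm
    haveI hmmax : m.IsMaximal := Ideal.comap_isMaximal_of_surjective _ Ideal.Quotient.mk_surjective
    have hJm : J ≤ m := hJ.trans (sInf_le ⟨bot_le, hmmax⟩)
    have h𝔞m : 𝔞 ≤ m := by
      intro x hx
      rw [hm, Ideal.mem_comap, Ideal.Quotient.eq_zero_iff_mem.mpr hx]
      exact zero_mem _
    have hm' : m' = m.map (Ideal.Quotient.mk 𝔞) := by
      rw [hm, Ideal.map_comap_of_surjective _ Ideal.Quotient.mk_surjective]
    rw [hm', Ideal.map_map, hcomp, ← Ideal.map_map]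
    intro htop
    have h3 := congrArg (Ideal.comap (Ideal.Quotient.mk (𝔞.map (algebraMap A Â)))) htop
    rw [Ideal.comap_map_of_surjective _ Ideal.Quotient.mk_surjective, Ideal.comap_top,
      ← RingHom.ker_eq_comap_bot, Ideal.mk_ker, sup_eq_left.mpr (Ideal.map_mono h𝔞m)] at h3
    exact map_ne_top_of_le A J m hJm h3

variable (M : Type u) [AddCommGroup M] [Module A M] [Module.Finite A M]

open TensorProduct in
theorem support_baseChange_eq_zeroLocus {B : Type*} [CommRing B] [Algebra A B] :
    Module.support B (B ⊗[A] M) =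
      PrimeSpectrum.zeroLocus ((Module.annihilator A M).map (algebraMap A B) : Set B) := by
  apply Set.Subset.antisymm
  · rw [Module.support_eq_zeroLocus]
    apply PrimeSpectrum.zeroLocus_anti_mono
    rw [SetLike.coe_subset_coe, Ideal.map_le_iff_le_comap]
    intro a ha
    rw [Ideal.mem_comap, Module.mem_annihilator]
    rw [Module.mem_annihilator] at ha
    intro t
    induction t using TensorProduct.induction_on with
    | zero => simp
    | tmul n m =>
      rw [TensorProduct.smul_tmul', algebraMap_smul, TensorProduct.smul_tmul, ha,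
        TensorProduct.tmul_zero]
    | add x y hx hy => rw [smul_add, hx, hy, add_zero]
  · intro q' hq'
    apply Groth.Agent.Lib.Helper17.UnramBaseChange.mem_support_baseChange q'
    rw [Module.support_eq_zeroLocus, PrimeSpectrum.mem_zeroLocus, SetLike.coe_subset_coe]
    rw [PrimeSpectrum.mem_zeroLocus, SetLike.coe_subset_coe] at hq'
    exact Ideal.map_le_iff_le_comap.mp hq'

theorem supportDim_adicCompletion_eq (hJ : J ≤ Ideal.jacobson ⊥) :
    Module.supportDim Â (AdicCompletion J M) = Module.supportDim A M := by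
  rw [Module.supportDim_eq_ringKrullDim_quotient_annihilator (R := A),
    ← ringKrullDim_quotient_adicCompletion A J _ hJ,
    ← Module.supportDim_eq_of_equiv (AdicCompletion.ofTensorProductEquivOfFiniteNoetherian J M),
    ringKrullDim_quotient, Module.supportDim, support_baseChange_eq_zeroLocus]

end Completion

end Groth.Agent.Lib.Helper7.ComplDim
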