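import Groth.Agent.Lib.Helper7.TopDimComponents
import Mathlib.AlgebraicGeometry.Noetherian

/-!
# Irreducible components of locally Noetherian schemes have nonempty interior
-/

set_option autoImplicit false

universe u

namespace Groth.Agent.Lib.Helper7.TopDimComp

open TopologicalSpace Topology AlgebraicGeometry

/-- In a space with finitely many irreducible components, each irreducible component contains a
nonempty open subset. -/
theorem exists_isOpen_subset_of_finite {W : Type*} [TopologicalSpace W]
    (hfin : (irreducibleComponents W).Finite) (Z : Set W) (hZ : Z ∈ irreducibleComponents W) :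
    ∃ V : Set W, IsOpen V ∧ V.Nonempty ∧ V ⊆ Z := by
  refine ⟨(⋃₀ (irreducibleComponents W \ {Z}))ᶜ, ?_, ?_, ?_⟩
  · rw [Set.sUnion_eq_biUnion, isOpen_compl_iff]
    exact hfin.sdiff.isClosed_biUnion fun W' hW' => isClosed_of_mem_irreducibleComponents W' hW'.1
  · have h := closure_sUnion_irreducibleComponents_sdiff_singleton hfin Z hZ
    by_contra hne
    rw [Set.not_nonempty_iff_eq_empty] at hne
    rw [hne, closure_empty] at h
    exact hZ.1.nonempty.ne_empty h.symm
  · have h := closure_sUnion_irreducibleComponents_sdiff_singleton hfin Z hZ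
    intro x hx
    rw [← h]
    exact subset_closure hx

/-- An irreducible component of a locally Noetherian scheme contains a nonempty open subset. -/
theorem exists_isOpen_subset_component (X : Scheme.{u}) [IsLocallyNoetherian X] (X' : Set X)
    (hX' : X' ∈ irreducibleComponents (X : Type u)) :
    ∃ V : Set X, IsOpen V ∧ V.Nonempty ∧ V ⊆ X' := by
  obtain ⟨y, hy⟩ := hX'.1.nonempty
  obtain ⟨W, hW, hyW, -⟩ := exists_isAffineOpen_mem_and_subset (x := y) (U := ⊤) trivial
  haveI : IsNoetherianRing Γ(X, W) := IsLocallyNoetherian.component_noetherian ⟨W, hW⟩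
  haveI : NoetherianSpace ↥W := noetherianSpace_of_isAffineOpen W hW
  have hemb : IsOpenEmbedding (Subtype.val : ↥W → X) := W.isOpen.isOpenEmbedding_subtypeVal
  have hZ : (Subtype.val : ↥W → X) ⁻¹' X' ∈ irreducibleComponents ↥W :=
    preimage_mem_irreducibleComponents hX' hemb ⟨y, hy, ⟨⟨y, hyW⟩, rfl⟩⟩
  obtain ⟨V, hVo, hVne, hVsub⟩ := exists_isOpen_subset_of_finite
    NoetherianSpace.finite_irreducibleComponents _ hZ
  refine ⟨Subtype.val '' V, hemb.isOpenMap V hVo, hVne.image _, ?_⟩
  rintro _ ⟨v, hv, rfl⟩
  exact hVsub hv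

end Groth.Agent.Lib.Helper7.TopDimComp
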