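import Mathlib

/-!
# Helper7 — CoprodTensor: if a commutative `R`-algebra `A` is the coproduct of finitely many
subalgebras `B i`, then `A ≅ B i₀ ⊗[R] (⨂[R] j ≠ i₀, B j)` as `B i₀`-algebras.
-/

set_option autoImplicit false

namespace Groth.Agent.Lib.Helper7.CoprodTensor

open TensorProduct

universe u v

variable {R : Type u} {A : Type v} [CommRing R] [CommRing A] [Algebra R A]
  {ι : Type} [Fintype ι] [DecidableEq ι] (B : ι → Subalgebra R A)

/-- the complementary tensor product -/
abbrev Compl (i₀ : ι) : Type (max u v) := ⨂[R] j : {j : ι // j ≠ i₀}, B j.1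

/-- the tensor product model -/
abbrev T (i₀ : ι) : Type (max u v) := B i₀ ⊗[R] Compl B i₀

/-- the product multilinear map on the complementary factors -/
noncomputable def prodMulti (i₀ : ι) :
    MultilinearMap R (fun j : {j : ι // j ≠ i₀} => B j.1) A :=
  (MultilinearMap.mkPiAlgebra R {j : ι // j ≠ i₀} A).compLinearMap
    (fun j => (B j.1).val.toLinearMap)

theorem prodMulti_apply (i₀ : ι) (x : ∀ j : {j : ι // j ≠ i₀}, B j.1) :
    prodMulti B i₀ x = ∏ j, (x j : A) := by
  simp [prodMulti]

/-- the product map on the complementary factors -/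
noncomputable def prodCompl (i₀ : ι) : Compl B i₀ →ₐ[R] A :=
  PiTensorProduct.liftAlgHom (prodMulti B i₀)
    (by rw [prodMulti_apply]; simp)
    (fun x y => by
      rw [prodMulti_apply, prodMulti_apply, prodMulti_apply, ← Finset.prod_mul_distrib]
      rfl)

theorem prodCompl_tprod (i₀ : ι) (x : ∀ j : {j : ι // j ≠ i₀}, B j.1) :
    prodCompl B i₀ (PiTensorProduct.tprod R x) = ∏ j, (x j : A) := by
  show (PiTensorProduct.lift (prodMulti B i₀)) (PiTensorProduct.tprod R x) = _
  rw [PiTensorProduct.lift.tprod, prodMulti_apply]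

theorem prodCompl_single (i₀ : ι) (j : {j : ι // j ≠ i₀}) (b : B j.1) :
    prodCompl B i₀ (PiTensorProduct.singleAlgHom (R := R)
      (A := fun j : {j : ι // j ≠ i₀} => B j.1) j b) = (b : A) := by
  classical
  rw [PiTensorProduct.singleAlgHom_apply, prodCompl_tprod]
  rw [Finset.prod_eq_single j]
  · simp
  · intro k _ hk
    simp [MonoidHom.mulSingle_apply, Pi.mulSingle_eq_of_ne hk]
  · intro h
    exact absurd (Finset.mem_univ j) h

/-- the multiplication map `B i₀ ⊗ ⨂_{j ≠ i₀} B j → A` -/
noncomputable def mulMap (i₀ : ι) : T B i₀ →ₐ[R] A :=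
  Algebra.TensorProduct.productMap (B i₀).val (prodCompl B i₀)

/-- the structure maps into the tensor model -/
noncomputable def inc (i₀ : ι) (j : ι) : B j →ₐ[R] T B i₀ :=
  if h : j = i₀ then
    (Algebra.TensorProduct.includeLeft : B i₀ →ₐ[R] T B i₀).comp
      (Subalgebra.inclusion (le_of_eq (by rw [h])))
  else
    (Algebra.TensorProduct.includeRight : Compl B i₀ →ₐ[R] T B i₀).comp
      (PiTensorProduct.singleAlgHom (R := R) (A := fun j : {j : ι // j ≠ i₀} => B j.1)
        (⟨j, h⟩ : {j : ι // j ≠ i₀}))

theorem mulMap_inc (i₀ j : ι) (b : B j) : mulMap B i₀ (inc B i₀ j b) = (b : A) := by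
  unfold inc
  split_ifs with h
  · subst h
    simp [mulMap]
  · simp only [mulMap, AlgHom.coe_comp, Function.comp_apply,
      Algebra.TensorProduct.includeRight_apply, Algebra.TensorProduct.productMap_apply_tmul,
      map_one, one_mul]
    exact prodCompl_single B i₀ ⟨j, h⟩ b


section Iso

variable (hco : ∀ (C : Type (max u v)) [CommRing C] [Algebra R C] (φ : ∀ i, B i →ₐ[R] C),
      ∃! ψ : A →ₐ[R] C, ∀ i (x : B i), ψ x = φ i x)

include hco in
/-- **a coproduct of subalgebras is the tensor product of one factor with the rest** -/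
theorem exists_algEquiv (i₀ : ι) :
    ∃ e : T B i₀ ≃ₐ[R] A, ∀ (b : B i₀) (t : T B i₀), e (b • t) = (b : A) * e t := by
  obtain ⟨ψ, hψ, -⟩ := hco (T B i₀) (inc B i₀)
  have h1 : (mulMap B i₀).comp ψ = AlgHom.id R A := by
    obtain ⟨ψ', -, huniq⟩ := hco (ULift.{u} A)
      (fun i => (ULift.algEquiv (R := R) (A := A)).symm.toAlgHom.comp (B i).val)
    have e1 := huniq ((ULift.algEquiv (R := R) (A := A)).symm.toAlgHom.comp
      ((mulMap B i₀).comp ψ)) (fun i x => by
        simp only [AlgHom.coe_comp, Function.comp_apply, hψ, mulMap_inc]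
        rfl)
    have e2 := huniq ((ULift.algEquiv (R := R) (A := A)).symm.toAlgHom) (fun i x => rfl)
    ext a
    have := congrArg (fun f : A →ₐ[R] ULift.{u} A => ULift.algEquiv (R := R) (f a))
      (e1.trans e2.symm)
    simpa using this
  have h2 : ψ.comp (mulMap B i₀) = AlgHom.id R (T B i₀) := by
    apply Algebra.TensorProduct.ext
    · ext b
      simp only [mulMap, AlgHom.coe_comp, Function.comp_apply,
        Algebra.TensorProduct.includeLeft_apply, Algebra.TensorProduct.productMap_apply_tmul,
        map_one, mul_one, Subalgebra.coe_val, AlgHom.coe_id, id_eq]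
      rw [hψ i₀ b]
      simp [inc]
    · apply PiTensorProduct.algHom_ext
      intro j
      ext b
      simp only [mulMap, AlgHom.coe_comp, Function.comp_apply,
        Algebra.TensorProduct.includeRight_apply, Algebra.TensorProduct.productMap_apply_tmul,
        map_one, one_mul, AlgHom.coe_id, id_eq, AlgHom.coe_restrictScalars']
      rw [prodCompl_single, hψ j.1 b]
      simp [inc, j.2]
  refine ⟨AlgEquiv.ofAlgHom (mulMap B i₀) ψ h1 h2, fun b t => ?_⟩
  show mulMap B i₀ (b • t) = (b : A) * mulMap B i₀ t
  induction t using TensorProduct.induction_on with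
  | zero => simp
  | tmul b' c =>
    rw [TensorProduct.smul_tmul', smul_eq_mul]
    simp only [mulMap, Algebra.TensorProduct.productMap_apply_tmul, map_mul, Subalgebra.coe_val,
      mul_assoc]
  | add x y hx hy => rw [smul_add, map_add, map_add, hx, hy, mul_add]

end Iso

end Groth.Agent.Lib.Helper7.CoprodTensor
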