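import Mathlib
import Groth.Agent.Lib.Helper7.RegularFree
import Groth.Agent.Lib.Helper7.NoetherNormInt
import Groth.Agent.Lib.Helper21.DepthKit4

/-!
# Helper7 — RegFiniteFree: a regular local ring `A`, finite and injective over a regular local ring
`R`, is a free `R`-module.
-/

set_option autoImplicit false
set_option linter.style.haveILetI false

namespace Groth.Agent.Lib.Helper7.RegFiniteFree

open IsLocalRing RingTheory.Sequence
open Groth.Agent.Lib.Helper21.DepthKit

universe u v

section SameUniverse

variable (R A : Type u) [CommRing R] [IsLocalRing R] [CommRing A] [IsLocalRing A]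
  [Algebra R A] [Algebra.IsIntegral R A] [IsLocalHom (algebraMap R A)]

/-- the closed fibre of an integral local homomorphism has dimension zero -/
theorem ringKrullDim_closedFibre :
    ringKrullDim (A ⧸ (maximalIdeal R).map (algebraMap R A)) = 0 := by
  have hle : (maximalIdeal R).map (algebraMap R A) ≤ maximalIdeal A :=
    ((IsLocalRing.local_hom_TFAE (algebraMap R A)).out 0 2).1 ‹IsLocalHom (algebraMap R A)›
  haveI : Nontrivial (A ⧸ (maximalIdeal R).map (algebraMap R A)) :=
    Ideal.Quotient.nontrivial_iff.2 (fun h => (maximalIdeal.isMaximal A).ne_top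
      (top_le_iff.1 (h ▸ hle)))
  rw [← ringKrullDimZero_iff_ringKrullDim_eq_zero,
    Ideal.krullDimLE_zero_quotient_iff_forall_minimalPrimes_isMaximal]
  intro Q hQ
  haveI := hQ.1.1
  apply Ideal.isMaximal_of_isIntegral_of_isMaximal_comap (R := R) Q
  have h1 : maximalIdeal R ≤ Q.comap (algebraMap R A) :=
    Ideal.map_le_iff_le_comap.1 hQ.1.2
  have h2 : Q.comap (algebraMap R A) ≠ ⊤ := (Ideal.comap_isPrime _ Q).ne_top
  rw [← (maximalIdeal.isMaximal R).eq_of_le h2 h1]
  exact maximalIdeal.isMaximal R

end SameUniverse

section Free

variable (R A : Type u) [CommRing R] [IsRegularLocalRing R] [CommRing A] [IsRegularLocalRing A]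
  [Algebra R A] [Module.Finite R A]

/-- **a regular local ring finite and injective over a regular local ring is free** -/
theorem free_of_finite_injective (hinj : Function.Injective (algebraMap R A)) :
    Module.Free R A := by
  haveI : FaithfulSMul R A := (faithfulSMul_iff_algebraMap_injective R A).2 hinj
  haveI : Algebra.IsIntegral R A := inferInstance
  haveI : IsLocalHom (algebraMap R A) := inferInstance
  obtain ⟨d, hd⟩ := Groth.Agent.Lib.Helper7.RegularFree.exists_dim (A := R)
  have hdA : ringKrullDim A = d := by
    rw [Groth.Agent.Lib.Helper7.NNInt.ringKrullDim_eq_of_injective_isIntegral (algebraMap R A) hinj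
      (algebraMap_isIntegral_iff.2 inferInstance), hd]
  obtain ⟨rs, hlen, hspan, hmem, -⟩ :=
    Groth.Agent.Lib.helper11.RegularSop.exists_regular_sop (A := R) d hd
  have hCM : LocCoh.IsCohenMacaulayModule A A :=
    Groth.Agent.Lib.Helper7.RegularFree.isCM_of_free (A := A) A
  set xs := rs.map (algebraMap R A) with hxs
  have hxmem : ∀ x ∈ xs, x ∈ maximalIdeal A := by
    intro x hx
    obtain ⟨r, hr, rfl⟩ := List.mem_map.1 hx
    have hle : (maximalIdeal R).map (algebraMap R A) ≤ maximalIdeal A :=
      ((IsLocalRing.local_hom_TFAE (algebraMap R A)).out 0 2).1 ‹IsLocalHom (algebraMap R A)›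
    exact hle (Ideal.mem_map_of_mem _ (hmem r hr))
  have hI : (Ideal.ofList xs • ⊤ : Submodule A A) = (maximalIdeal R).map (algebraMap R A) := by
    rw [hxs, ← Ideal.map_ofList, hspan, smul_eq_mul, Ideal.mul_top]
  have hdrop : Module.supportDim A (A ⧸ (Ideal.ofList xs • ⊤ : Submodule A A)) + xs.length =
      Module.supportDim A A := by
    rw [hI, Module.supportDim_quotient_eq_ringKrullDim, ringKrullDim_closedFibre R A,
      Module.supportDim_self_eq_ringKrullDim, hdA, hxs, List.length_map, hlen, zero_add]
  have hregA : IsWeaklyRegular A xs := isWeaklyRegular_of_supportDim_drop xs A hCM hxmem hdrop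
  have hregR : IsWeaklyRegular A rs := (isWeaklyRegular_map_algebraMap_iff A A rs).1 hregA
  haveI : Nontrivial A := inferInstance
  exact Groth.Agent.Lib.Helper7.RegularFree.free_of_depth (A := R) A d hd
    ((natCast_le_depth_iff (A := R) (M := A) d).2 ⟨rs, hlen, hmem, hregR⟩)

end Free


section Mixed

variable (R : Type u) (A : Type v) [CommRing R] [IsRegularLocalRing R] [CommRing A]
  [IsRegularLocalRing A] [Algebra R A] [Module.Finite R A]

/-- the same in mixed universes -/
theorem free_of_finite_injective' (hinj : Function.Injective (algebraMap R A)) :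
    Module.Free R A := by
  let R' : Subring A := (algebraMap R A).range
  let e : R ≃+* R' := RingEquiv.ofBijective (algebraMap R A).rangeRestrict
    ⟨fun x y h => hinj (congrArg Subtype.val h), (algebraMap R A).rangeRestrict_surjective⟩
  haveI : IsRegularLocalRing R' := IsRegularLocalRing.of_ringEquiv e
  letI : Algebra R R' := (algebraMap R A).rangeRestrict.toAlgebra
  haveI : IsScalarTower R R' A := IsScalarTower.of_algebraMap_eq (fun x => rfl)
  haveI : Module.Finite R' A := Module.Finite.of_restrictScalars_finite R R' A
  haveI : Module.Free R' A :=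
    free_of_finite_injective R' A (Subtype.val_injective)
  letI σ : R' →+* R := e.symm.toRingHom
  letI σ' : R →+* R' := e.toRingHom
  haveI : RingHomInvPair σ σ' := RingHomInvPair.of_ringEquiv e.symm
  haveI : RingHomInvPair σ' σ := RingHomInvPair.symm σ σ'
  let e₂ : A ≃ₛₗ[σ] A :=
    { toFun := id
      invFun := id
      map_add' := fun _ _ => rfl
      map_smul' := fun r a => by
        show r • a = (e.symm r) • a
        rw [Algebra.smul_def, Algebra.smul_def]
        congr 1
        have : ((e (e.symm r) : R') : A) = algebraMap R A (e.symm r) := rfl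
        rw [← this, e.apply_symm_apply]
        rfl
      left_inv := fun _ => rfl
      right_inv := fun _ => rfl }
  exact Module.Free.of_equiv e₂

end Mixed

end Groth.Agent.Lib.Helper7.RegFiniteFree
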