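import Mathlib

/-!
# Helper7 — TensorFree: over a local ring, if `M ⊗ N` is free (with `M`, `N` finite, `N ≠ 0`)
then `M` is free.
-/

set_option autoImplicit false

namespace Groth.Agent.Lib.Helper7.TensorFree

open TensorProduct IsLocalRing Module

variable {R : Type*} [CommRing R] [IsLocalRing R]
  {M N : Type*} [AddCommGroup M] [Module R M] [AddCommGroup N] [Module R N]
  [Module.Finite R M] [Module.Finite R N]

local notation "k" => ResidueField R

/-- lifting a basis of the fibre -/
theorem exists_lift_basis (M : Type*) [AddCommGroup M] [Module R M] [Module.Finite R M] :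
    ∃ (a : ℕ) (x : Fin a → M) (b : Basis (Fin a) k (k ⊗[R] M)),
      (∀ i, (1 : k) ⊗ₜ[R] x i = b i) ∧ Submodule.span R (Set.range x) = ⊤ := by
  let b := Module.finBasis k (k ⊗[R] M)
  have hs := TensorProduct.mk_surjective R M k (IsLocalRing.residue_surjective)
  choose x hx using fun i => hs (b i)
  exact ⟨_, x, b, hx, IsLocalRing.span_eq_top_of_tmul_eq_basis x b hx⟩

theorem free_of_free_tensor [Module.Free R (M ⊗[R] N)] [Nontrivial N] : Module.Free R M := by
  obtain ⟨a, x, bM, hx, hxs⟩ := exists_lift_basis (R := R) M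
  obtain ⟨b, y, bN, hy, hys⟩ := exists_lift_basis (R := R) N
  have hb : 0 < b := by
    by_contra h
    have hb0 : b = 0 := by omega
    subst hb0
    have : Subsingleton (k ⊗[R] N) := by
      refine ⟨fun u v => ?_⟩
      rw [← bN.sum_repr u, ← bN.sum_repr v]
      simp
    have h2 : Subsingleton N := (IsLocalRing.subsingleton_tensorProduct (R := R)).1 this
    exact not_subsingleton N h2
  let e := TensorProduct.AlgebraTensorModule.distribBaseChange R k M N
  let bP : Basis (Fin a × Fin b) k (k ⊗[R] (M ⊗[R] N)) := (bM.tensorProduct bN).map e.symm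
  let z : Fin a × Fin b → M ⊗[R] N := fun p => x p.1 ⊗ₜ y p.2
  have hz : ∀ p, (1 : k) ⊗ₜ[R] z p = bP p := by
    rintro ⟨i, j⟩
    simp only [bP, z, Basis.map_apply, Basis.tensorProduct_apply]
    rw [← hx, ← hy, TensorProduct.AlgebraTensorModule.distribBaseChange_symm_tmul, mul_one]
  have hzs : Submodule.span R (Set.range z) = ⊤ :=
    IsLocalRing.span_eq_top_of_tmul_eq_basis z bP hz
  have hcard : Fintype.card (Fin a × Fin b) = Module.finrank R (M ⊗[R] N) := by
    rw [← Module.finrank_baseChange (R := k) (S := R) (M' := M ⊗[R] N),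
      Module.finrank_eq_card_basis bP]
  have hli : LinearIndependent R z :=
    linearIndependent_of_top_le_span_of_card_eq_finrank hzs.ge hcard
  have hli2 : LinearIndependent R (fun i : Fin a => z (i, ⟨0, hb⟩)) :=
    hli.comp (fun i : Fin a => (i, (⟨0, hb⟩ : Fin b))) (fun i j h => (Prod.ext_iff.1 h).1)
  have hli3 : LinearIndependent R x :=
    LinearIndependent.of_comp ((TensorProduct.mk R M N).flip (y ⟨0, hb⟩)) hli2
  exact Module.Free.of_basis (Basis.mk hli3 hxs.ge)

end Groth.Agent.Lib.Helper7.TensorFree
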