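import Mathlib
import Groth.Agent.Lib.Helper7.CoprodTensor
import Groth.Agent.Lib.Helper7.TensorFree
import Groth.Agent.Lib.Helper7.RegFiniteFree
import Groth.Agent.Lib.Helper22.TowerPts3

/-!
# Helper7 — CoprodRegular: if a regular local ring `A`, finite and injective over a regular local
ring `R`, is the coproduct (tensor product) of finitely many `R`-subalgebras `B i`, then every `B i`
is a free `R`-module and a regular local ring.
-/

set_option autoImplicit false
set_option linter.style.haveILetI false

namespace Groth.Agent.Lib.Helper7.CoprodRegular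

open TensorProduct
open Groth.Agent.Lib.Helper7.CoprodTensor

universe u v

variable {R : Type u} {A : Type v} [CommRing R] [IsRegularLocalRing R] [CommRing A]
  [IsRegularLocalRing A] [Algebra R A] [Module.Finite R A]
  {ι : Type} [Fintype ι] [DecidableEq ι] (B : ι → Subalgebra R A)

theorem free_and_regular (hinj : Function.Injective (algebraMap R A))
    (hco : ∀ (C : Type (max u v)) [CommRing C] [Algebra R C] (φ : ∀ i, B i →ₐ[R] C),
      ∃! ψ : A →ₐ[R] C, ∀ i (x : B i), ψ x = φ i x) (i₀ : ι) :
    Module.Free R (B i₀) ∧ IsRegularLocalRing (B i₀) := by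
  haveI : Module.Free R A :=
    Groth.Agent.Lib.Helper7.RegFiniteFree.free_of_finite_injective' R A hinj
  obtain ⟨e, he⟩ := exists_algEquiv B hco i₀
  haveI : IsNoetherian R A := isNoetherian_of_isNoetherianRing_of_finite R A
  haveI hfin : ∀ j, Module.Finite R (B j) := fun j =>
    inferInstanceAs (Module.Finite R (B j).toSubmodule)
  haveI : Module.Finite R (Compl B i₀) := inferInstance
  haveI hTfree : Module.Free R (T B i₀) := Module.Free.of_equiv e.symm.toLinearEquiv
  haveI : Nontrivial (Compl B i₀) := by
    refine not_subsingleton_iff_nontrivial.1 (fun h => ?_)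
    have hT : ∀ t : T B i₀, t = 0 := by
      intro t
      induction t using TensorProduct.induction_on with
      | zero => rfl
      | tmul b c => rw [Subsingleton.elim c 0, TensorProduct.tmul_zero]
      | add x y hx hy => rw [hx, hy, add_zero]
    have : (1 : A) = 0 := by
      rw [← e.apply_symm_apply 1, hT (e.symm 1), map_zero]
    exact one_ne_zero this
  haveI hBfree : Module.Free R (B i₀) :=
    Groth.Agent.Lib.Helper7.TensorFree.free_of_free_tensor (M := B i₀) (N := Compl B i₀)
  haveI : Module.Free R (Compl B i₀ ⊗[R] B i₀) :=
    Module.Free.of_equiv (TensorProduct.comm R (B i₀) (Compl B i₀))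
  haveI hCfree : Module.Free R (Compl B i₀) :=
    Groth.Agent.Lib.Helper7.TensorFree.free_of_free_tensor (M := Compl B i₀) (N := B i₀)
  haveI : Module.Free (B i₀) (T B i₀) := inferInstance
  let e' : T B i₀ ≃ₗ[B i₀] A :=
    { e.toLinearEquiv with
      map_smul' := fun b t => by
        show e (b • t) = b • e t
        rw [he, Algebra.smul_def]
        rfl }
  haveI : Module.Free (B i₀) A := Module.Free.of_equiv e'
  haveI : Algebra.IsIntegral R A := inferInstance
  haveI : Algebra.IsIntegral (B i₀) A := Algebra.IsIntegral.tower_top R
  haveI : FaithfulSMul (B i₀) A :=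
    (faithfulSMul_iff_algebraMap_injective _ _).2 Subtype.val_injective
  haveI : IsLocalHom (algebraMap (B i₀) A) := inferInstance
  haveI : IsLocalRing (B i₀) := (algebraMap (B i₀) A).domain_isLocalRing
  have hflat : (algebraMap (B i₀) A).Flat := by
    show Module.Flat (B i₀) A
    infer_instance
  exact ⟨hBfree, Groth.Agent.Lib.Helper22.TowerPts.isRegularLocalRing_of_flat_isLocalHom
    (B i₀) A (algebraMap (B i₀) A) hflat inferInstance⟩

end Groth.Agent.Lib.Helper7.CoprodRegular
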