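import Mathlib.RingTheory.Unramified.Finite
import Mathlib.RingTheory.Trace.Defs
import Mathlib.RingTheory.Etale.Basic

/-!
# The trace pairing of a finite free unramified algebra is perfect

For a finite free, formally unramified `R`-algebra `S` of (essentially) finite type, with
separability idempotent `e = ∑ xᵢ ⊗ yᵢ`, every `a : S` satisfies `a = ∑ Tr(a xᵢ) yᵢ`.  Hence the
trace form is nondegenerate and every `R`-linear form on `S` is `Tr(x ·)` for some `x`.
-/

set_option autoImplicit false
set_option linter.unusedVariables false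

namespace Groth.Agent.Lib.Helper7.TracePerfect

open TensorProduct

variable {R S : Type*} [CommRing R] [CommRing S] [Algebra R S]

/-- `s ⊗ t ↦ f s • t`. -/
noncomputable def evalLeft (f : S →ₗ[R] R) : S ⊗[R] S →ₗ[R] S :=
  TensorProduct.lift ((LinearMap.lsmul R S) ∘ₗ f)

@[simp] theorem evalLeft_tmul (f : S →ₗ[R] R) (s t : S) : evalLeft f (s ⊗ₜ[R] t) = f s • t := by
  simp [evalLeft]

/-- `s ⊗ t ↦ f t • s`. -/
noncomputable def evalRight (f : S →ₗ[R] R) : S ⊗[R] S →ₗ[R] S :=
  TensorProduct.lift (((LinearMap.lsmul R S) ∘ₗ f).flip)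

@[simp] theorem evalRight_tmul (f : S →ₗ[R] R) (s t : S) : evalRight f (s ⊗ₜ[R] t) = f t • s := by
  simp [evalRight]

variable [Module.Free R S] [Module.Finite R S]

/-- `s ⊗ t ↦ Tr(a s) • t`. -/
noncomputable def Θ (a : S) : S ⊗[R] S →ₗ[R] S :=
  evalLeft ((Algebra.trace R S) ∘ₗ (LinearMap.mulLeft R a))

@[simp] theorem Θ_tmul (a s t : S) : Θ (R := R) a (s ⊗ₜ[R] t) = Algebra.trace R S (a * s) • t := by
  simp [Θ]

theorem trace_eq_sum_coord {ι : Type*} [Fintype ι] [DecidableEq ι] (b : Module.Basis ι R S) (x : S) :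
    Algebra.trace R S x = ∑ j, b.coord j (x * b j) := by
  rw [Algebra.trace_eq_matrix_trace b, Matrix.trace]
  refine Finset.sum_congr rfl fun j _ => ?_
  rw [Matrix.diag_apply, Algebra.leftMulMatrix_eq_repr_mul, Module.Basis.coord_apply]

theorem Θ_eq_sum {ι : Type*} [Fintype ι] [DecidableEq ι] (b : Module.Basis ι R S) (a : S)
    (w : S ⊗[R] S) :
    Θ (R := R) a w = ∑ j, evalLeft (b.coord j) (((a * b j) ⊗ₜ[R] (1 : S)) * w) := by
  induction w using TensorProduct.induction_on with
  | zero => simp
  | tmul s t =>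
    simp only [Θ_tmul, Algebra.TensorProduct.tmul_mul_tmul, one_mul, evalLeft_tmul]
    rw [trace_eq_sum_coord b, Finset.sum_smul]
    refine Finset.sum_congr rfl fun j _ => ?_
    congr 2
    ring
  | add x y hx hy =>
    simp only [map_add, mul_add, Finset.sum_add_distrib, hx, hy]

theorem sum_evalLeft_eq {ι : Type*} [Fintype ι] [DecidableEq ι] (b : Module.Basis ι R S) (a : S)
    (w : S ⊗[R] S) :
    ∑ j, evalLeft (b.coord j) (((1 : S) ⊗ₜ[R] (a * b j)) * w) = a * Algebra.TensorProduct.lmul' R w := by
  induction w using TensorProduct.induction_on with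
  | zero => simp
  | tmul s t =>
    simp only [Algebra.TensorProduct.tmul_mul_tmul, one_mul, evalLeft_tmul,
      Algebra.TensorProduct.lmul'_apply_tmul]
    have h : ∀ j, b.coord j s • (a * b j * t) = a * (b.coord j s • b j) * t := by
      intro j
      rw [Algebra.smul_def, Algebra.smul_def]
      ring
    simp only [h]
    rw [← Finset.sum_mul, ← Finset.mul_sum]
    have h2 : ∑ j, b.coord j s • b j = s := by
      simpa [Module.Basis.coord_apply] using b.sum_repr s
    rw [h2, mul_assoc]
  | add x y hx hy =>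
    simp only [map_add, mul_add, Finset.sum_add_distrib, hx, hy]

variable [Algebra.FormallyUnramified R S] [Algebra.EssFiniteType R S]

theorem Θ_elem (a : S) : Θ (R := R) a (Algebra.FormallyUnramified.elem R S) = a := by
  classical
  let b := Module.Free.chooseBasis R S
  rw [Θ_eq_sum b]
  simp only [← Algebra.FormallyUnramified.one_tmul_mul_elem]
  rw [sum_evalLeft_eq b, Algebra.FormallyUnramified.lmul_elem, mul_one]

/-- The trace form is nondegenerate. -/
theorem eq_zero_of_trace_mul_eq_zero (a : S) (h : ∀ s, Algebra.trace R S (a * s) = 0) : a = 0 := by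
  rw [← Θ_elem (R := R) a]
  have : Θ (R := R) a = 0 := by
    apply TensorProduct.ext'
    intro s t
    simp [h s]
  rw [this, LinearMap.zero_apply]

/-- Every linear form is represented by the trace form. -/
theorem exists_trace_mul_eq (φ : S →ₗ[R] R) : ∃ x : S, ∀ a, Algebra.trace R S (x * a) = φ a := by
  refine ⟨evalRight φ (Algebra.FormallyUnramified.elem R S), fun a => ?_⟩
  have h : ((Algebra.trace R S) ∘ₗ (LinearMap.mulRight R a)) ∘ₗ evalRight φ = φ ∘ₗ Θ (R := R) a := by
    apply TensorProduct.ext'
    intro s t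
    simp only [LinearMap.comp_apply, evalRight_tmul, LinearMap.mulRight_apply, Θ_tmul, map_smul,
      smul_eq_mul]
    rw [mul_comm s a, mul_comm]
  have := LinearMap.congr_fun h (Algebra.FormallyUnramified.elem R S)
  simp only [LinearMap.comp_apply, LinearMap.mulRight_apply, Θ_elem] at this
  exact this

end Groth.Agent.Lib.Helper7.TracePerfect
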