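import Groth.Prelude.Def_QFDual
import Groth.Agent.Lib.Helper7.TracePerfect
import Mathlib.RingTheory.Localization.NormTrace
import Mathlib.RingTheory.Localization.Module
import Mathlib.Algebra.Module.LocalizedModule.IsLocalization

/-!
# The Dedekind complementary module is `Hom_A(B, A)`
-/

set_option autoImplicit false
set_option linter.unusedVariables false

namespace Groth.Agent.Lib.Helper7.DedCompl

open scoped nonZeroDivisors

universe u
variable {A K B L : Type u} [CommRing A] [CommRing K] [CommRing B] [CommRing L]
  [Algebra A K] [Algebra A B] [Algebra B L] [Algebra K L] [Algebra A L]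
  [IsScalarTower A K L] [IsScalarTower A B L]

/-- If `Tr(x b) = 0` for all `b` in (the image of) `B`, then `x = 0`. -/
theorem eq_zero_of_trace_eq_zero (h : QFDual.IsDedekindDefined A K B L) (x : L)
    (hx : ∀ b : B, Algebra.trace K L (x * algebraMap B L b) = 0) : x = 0 := by
  have := h.isFractionRing
  have := h.isLocalization
  have := h.etale
  have := h.free
  have := h.finiteKL
  apply TracePerfect.eq_zero_of_trace_mul_eq_zero (R := K) x
  intro l
  obtain ⟨⟨b, s⟩, hbs⟩ := IsLocalization.surj (Algebra.algebraMapSubmonoid B A⁰) l
  obtain ⟨s0, hs0, hs0eq⟩ := s.2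
  have hk0 : IsUnit (algebraMap A K s0) := IsLocalization.map_units K (⟨s0, hs0⟩ : A⁰)
  have e1 : algebraMap B L s = algebraMap K L (algebraMap A K s0) := by
    rw [← hs0eq, ← IsScalarTower.algebraMap_apply A B L, ← IsScalarTower.algebraMap_apply A K L]
  have e2 : Algebra.trace K L (x * l) * algebraMap A K s0 = 0 := by
    rw [mul_comm, ← smul_eq_mul, ← map_smul, Algebra.smul_def, ← e1, mul_left_comm, mul_comm _ l]
    simp only at hbs
    rw [hbs, hx]
  exact (hk0.mul_left_eq_zero).1 e2

section fwd

variable (h : QFDual.IsDedekindDefined A K B L)

theorem exists_of_mem (x : QFDual.complementary A K B L) (b : B) :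
    ∃ a : A, algebraMap A K a = Algebra.trace K L ((x : L) * algebraMap B L b) :=
  x.2 b

/-- the functional `b ↦ Tr(x b) ∈ A`. -/
noncomputable def fwdFun (x : QFDual.complementary A K B L) (b : B) : A :=
  (exists_of_mem x b).choose

theorem fwdFun_spec (x : QFDual.complementary A K B L) (b : B) :
    algebraMap A K (fwdFun x b) = Algebra.trace K L ((x : L) * algebraMap B L b) :=
  (exists_of_mem x b).choose_spec

include h in
theorem algebraMap_injective : Function.Injective (algebraMap A K) := by
  haveI := h.isFractionRing
  exact IsFractionRing.injective A K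

/-- `x ↦ (b ↦ Tr(x b))`, as a `B`-linear map. -/
noncomputable def toOmega : QFDual.complementary A K B L →ₗ[B] Disc.Omega A B where
  toFun x := ⟨{ toFun := fwdFun x
                map_add' := fun b c => by
                  apply algebraMap_injective h
                  rw [map_add, fwdFun_spec, fwdFun_spec, fwdFun_spec, map_add, mul_add, map_add]
                map_smul' := fun a b => by
                  apply algebraMap_injective h
                  have e1 : algebraMap B L (a • b) =
                      algebraMap K L (algebraMap A K a) * algebraMap B L b := by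
                    rw [Algebra.smul_def a b, RingHom.map_mul, ← IsScalarTower.algebraMap_apply A B L,
                      IsScalarTower.algebraMap_apply A K L]
                  rw [RingHom.id_apply, smul_eq_mul, RingHom.map_mul, fwdFun_spec, fwdFun_spec, e1,
                    mul_left_comm, ← Algebra.smul_def, map_smul, smul_eq_mul] }⟩
  map_add' x y := by
    apply Disc.Omega.ext
    ext b
    apply algebraMap_injective h
    change algebraMap A K (fwdFun (x + y) b) = algebraMap A K (fwdFun x b + fwdFun y b)
    rw [map_add, fwdFun_spec, fwdFun_spec, fwdFun_spec, Submodule.coe_add, add_mul, map_add]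
  map_smul' c x := by
    apply Disc.Omega.ext
    ext b
    apply algebraMap_injective h
    change algebraMap A K (fwdFun (c • x) b) = algebraMap A K (fwdFun x (c * b))
    rw [fwdFun_spec, fwdFun_spec, Submodule.coe_smul, Algebra.smul_def, RingHom.map_mul]
    congr 1
    ring

theorem toOmega_spec (x : QFDual.complementary A K B L) (b : B) :
    algebraMap A K ((toOmega h x).toLinearMap b) =
      Algebra.trace K L ((x : L) * algebraMap B L b) :=
  fwdFun_spec x b

theorem toOmega_injective : Function.Injective (toOmega h) := by
  rw [← LinearMap.ker_eq_bot, LinearMap.ker_eq_bot']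
  intro x hx
  apply Subtype.ext
  apply eq_zero_of_trace_eq_zero h
  intro b
  rw [← toOmega_spec h, hx]
  simp

theorem toOmega_surjective : Function.Surjective (toOmega h) := by
  have := h.isFractionRing
  have := h.isLocalization
  have := h.etale
  have := h.free
  have := h.finiteKL
  intro φ
  let φK : L →ₗ[K] K :=
    IsLocalizedModule.mapExtendScalars A⁰ (IsScalarTower.toAlgHom A B L).toLinearMap
      (Algebra.linearMap A K) K φ.toLinearMap
  have hφK : ∀ b : B, φK (algebraMap B L b) = algebraMap A K (φ.toLinearMap b) := by
    intro b
    have := IsLocalizedModule.map_apply A⁰ (IsScalarTower.toAlgHom A B L).toLinearMap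
      (Algebra.linearMap A K) φ.toLinearMap b
    exact this
  obtain ⟨x, hx⟩ := TracePerfect.exists_trace_mul_eq (R := K) φK
  have hxmem : x ∈ QFDual.complementary A K B L := by
    intro b
    rw [hx, hφK]
    exact ⟨_, rfl⟩
  refine ⟨⟨x, hxmem⟩, ?_⟩
  apply Disc.Omega.ext
  ext b
  apply algebraMap_injective h
  rw [toOmega_spec, ← hφK, ← hx]

/-- The equivalence. -/
noncomputable def equiv : QFDual.complementary A K B L ≃ₗ[B] Disc.Omega A B :=
  LinearEquiv.ofBijective (toOmega h) ⟨toOmega_injective h, toOmega_surjective h⟩

theorem equiv_spec (x : QFDual.complementary A K B L) (b : B) :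
    algebraMap A K ((equiv h x).toLinearMap b) =
      Algebra.trace K L ((x : L) * algebraMap B L b) :=
  toOmega_spec h x b

end fwd


section different

variable (h : QFDual.IsDedekindDefined A K B L) [Module.Finite A B] [Module.Free A B]

include h in
theorem trace_algebraMap (b : B) :
    Algebra.trace K L (algebraMap B L b) = algebraMap A K (Algebra.trace A B b) := by
  have := h.isFractionRing
  have := h.isLocalization
  exact Algebra.trace_localization A A⁰ b

include h in
theorem one_mem_complementary : (1 : L) ∈ QFDual.complementary A K B L := by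
  intro b
  rw [one_mul, trace_algebraMap h]
  exact ⟨_, rfl⟩

include h in
theorem dedekindDifferent_eq :
    QFDual.dedekindDifferent A K B L =
      Submodule.map (Algebra.linearMap B L) (QFDual.different B (Disc.Omega.trace A B)) := by
  ext x
  constructor
  · intro hx
    obtain ⟨b0, hb0⟩ := hx 1 (one_mem_complementary h)
    rw [mul_one] at hb0
    refine ⟨b0, ?_, hb0⟩
    rw [SetLike.mem_coe, QFDual.mem_different_iff]
    intro φ
    obtain ⟨c, hc⟩ := hx ((equiv h).symm φ) ((equiv h).symm φ).2
    refine ⟨c, ?_⟩
    apply Disc.Omega.ext
    ext z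
    apply algebraMap_injective h
    have hφ : φ = equiv h ((equiv h).symm φ) := ((equiv h).apply_symm_apply φ).symm
    have e1 : algebraMap A K ((c • Disc.Omega.trace A B).toLinearMap z) =
        Algebra.trace K L (x * ((equiv h).symm φ : L) * algebraMap B L z) := by
      change algebraMap A K (Algebra.trace A B (c * z)) = _
      rw [← trace_algebraMap h, RingHom.map_mul, hc]
    have e2 : algebraMap A K ((b0 • φ).toLinearMap z) =
        Algebra.trace K L (x * ((equiv h).symm φ : L) * algebraMap B L z) := by
      rw [Disc.Omega.smul_toLinearMap_apply]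
      conv_lhs => rw [hφ]
      rw [equiv_spec, RingHom.map_mul, hb0]
      congr 1
      ring
    rw [e1, e2]
  · rintro ⟨b, hb, rfl⟩
    rw [SetLike.mem_coe, QFDual.mem_different_iff] at hb
    intro y hy
    obtain ⟨c, hc⟩ := hb (equiv h ⟨y, hy⟩)
    refine ⟨c, ?_⟩
    rw [← sub_eq_zero]
    apply eq_zero_of_trace_eq_zero h
    intro z
    rw [sub_mul, map_sub, sub_eq_zero, ← RingHom.map_mul, trace_algebraMap h]
    have e1 : Algebra.trace A B (c * z) = (c • Disc.Omega.trace A B).toLinearMap z := rfl
    rw [e1, hc, Disc.Omega.smul_toLinearMap_apply, equiv_spec, RingHom.map_mul]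
    change Algebra.trace K L (y * (algebraMap B L b * algebraMap B L z)) =
      Algebra.trace K L (algebraMap B L b * y * algebraMap B L z)
    congr 1
    ring

end different

end Groth.Agent.Lib.Helper7.DedCompl
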