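import Groth.Prelude.Def_QFDual
import Mathlib.RingTheory.Support
import Mathlib.RingTheory.LocalRing.Module
import Mathlib.LinearAlgebra.Dual.Lemmas
import Mathlib.RingTheory.LocalRing.ResidueField.Ideal
import Mathlib.RingTheory.Trace.Defs
import Mathlib.RingTheory.PicardGroup

/-!
# The different of a finite free algebra under base change
-/

set_option autoImplicit false
set_option linter.unusedVariables false

namespace Groth.Agent.Lib.Helper7.DiffBC

open TensorProduct

universe u
variable {A B A' B' : Type u} [CommRing A] [CommRing B] [CommRing A'] [CommRing B']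
  [Algebra A B] [Module.Finite A B] [Module.Free A B]
  [Algebra A A'] [Algebra B B'] [Algebra A' B'] [Algebra A B']
  [IsScalarTower A A' B'] [IsScalarTower A B B']
  [Module.Finite A' B'] [Module.Free A' B']

theorem trace_algebraMap (hB : Algebra.IsPushout A A' B B') (x : B) :
    Algebra.trace A' B' (algebraMap B B' x) = algebraMap A A' (Algebra.trace A B x) := by
  classical
  let b := Module.Free.chooseBasis A B
  let b' := hB.out.basis b
  rw [Algebra.trace_eq_matrix_trace b, Algebra.trace_eq_matrix_trace b']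
  simp only [Matrix.trace, Matrix.diag, map_sum]
  refine Finset.sum_congr rfl fun i _ => ?_
  rw [Algebra.leftMulMatrix_eq_repr_mul, Algebra.leftMulMatrix_eq_repr_mul]
  have : algebraMap B B' x * b' i = (IsScalarTower.toAlgHom A B B').toLinearMap (x * b i) := by
    change _ * hB.out.basis b i = _
    rw [hB.out.basis_apply]
    simp
  rw [this, hB.out.basis_repr_comp_apply]

theorem bcFin_trace (hB : Algebra.IsPushout A A' B B') :
    QFDual.bcFin hB (Disc.Omega.trace A B) = Disc.Omega.trace A' B' := by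
  apply Disc.Omega.ext
  refine hB.out.algHom_ext _ _ fun x => ?_
  change (QFDual.bcFin hB (Disc.Omega.trace A B)).toLinearMap (algebraMap B B' x) =
    Algebra.trace A' B' (algebraMap B B' x)
  rw [QFDual.bcFin_apply_algebraMap, trace_algebraMap hB]
  rfl

theorem omega_induction (hB : Algebra.IsPushout A A' B B') {P : Disc.Omega A' B' → Prop}
    (h0 : P 0) (hσ : ∀ φ, P (QFDual.bcFin hB φ))
    (hsmul : ∀ (a' : A') φ', P φ' → P (algebraMap A' B' a' • φ'))
    (hadd : ∀ φ₁ φ₂, P φ₁ → P φ₂ → P (φ₁ + φ₂)) (φ' : Disc.Omega A' B') : P φ' := by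
  have := hB.out.dual.inductionOn φ'.toLinearMap (fun ψ => P ⟨ψ⟩) h0 (fun φ => hσ ⟨φ⟩) ?_ ?_
  · exact this
  · intro a' ψ hψ
    have h := hsmul a' ⟨ψ⟩ hψ
    have e : (algebraMap A' B' a' • (⟨ψ⟩ : Disc.Omega A' B')) = ⟨a' • ψ⟩ := by
      apply Disc.Omega.ext
      ext x
      rw [Disc.Omega.smul_toLinearMap_apply, ← Algebra.smul_def, map_smul]
      rfl
    rw [e] at h
    exact h
  · intro ψ₁ ψ₂ h₁ h₂
    exact hadd ⟨ψ₁⟩ ⟨ψ₂⟩ h₁ h₂

theorem map_different_le (hB : Algebra.IsPushout A A' B B') :
    Ideal.map (algebraMap B B') (QFDual.different B (Disc.Omega.trace A B)) ≤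
      QFDual.different B' (Disc.Omega.trace A' B') := by
  rw [Ideal.map_le_iff_le_comap]
  intro b hb
  rw [Ideal.mem_comap, QFDual.mem_different_iff]
  rw [QFDual.mem_different_iff] at hb
  intro φ'
  induction φ' using omega_induction hB with
  | h0 => exact ⟨0, by simp⟩
  | hσ φ =>
    obtain ⟨c, hc⟩ := hb φ
    refine ⟨algebraMap B B' c, ?_⟩
    rw [← bcFin_trace hB, ← LinearMap.map_smulₛₗ, ← LinearMap.map_smulₛₗ, hc]
  | hsmul a' φ' ih =>
    obtain ⟨c', hc'⟩ := ih
    exact ⟨algebraMap A' B' a' * c', by rw [mul_smul, hc', smul_comm]⟩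
  | hadd φ₁ φ₂ h₁ h₂ =>
    obtain ⟨c₁, h₁⟩ := h₁
    obtain ⟨c₂, h₂⟩ := h₂
    exact ⟨c₁ + c₂, by rw [add_smul, h₁, h₂, smul_add]⟩

/-- `toLinearMap` as an additive map. -/
def toLinAddHom : Disc.Omega A B →+ (B →ₗ[A] A) where
  toFun := Disc.Omega.toLinearMap
  map_zero' := rfl
  map_add' _ _ := rfl

instance finite_omega : Module.Finite B (Disc.Omega A B) := by
  classical
  let b := Module.Free.chooseBasis A B
  refine ⟨⟨Finset.univ.image (fun i => (⟨b.coord i⟩ : Disc.Omega A B)), ?_⟩⟩
  rw [eq_top_iff]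
  intro φ _
  have : φ = ∑ i, algebraMap A B (φ.toLinearMap (b i)) • (⟨b.coord i⟩ : Disc.Omega A B) := by
    apply Disc.Omega.ext
    apply b.ext
    intro j
    change _ = toLinAddHom (∑ i, algebraMap A B (φ.toLinearMap (b i)) • (⟨b.coord i⟩ : Disc.Omega A B)) (b j)
    rw [map_sum, LinearMap.sum_apply]
    have : ∀ i, (toLinAddHom (algebraMap A B (φ.toLinearMap (b i)) • (⟨b.coord i⟩ : Disc.Omega A B))) (b j)
        = if i = j then φ.toLinearMap (b i) else 0 := by
      intro i
      change (b.coord i) (algebraMap A B (φ.toLinearMap (b i)) * b j) = _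
      rw [← Algebra.smul_def, map_smul, Module.Basis.coord_apply, Module.Basis.repr_self,
        Finsupp.single_apply]
      split_ifs with h h' h'
      · simp
      · exact absurd h.symm h'
      · exact absurd h'.symm h
      · simp
    simp only [this, Finset.sum_ite_eq', Finset.mem_univ, if_true]
  rw [this]
  refine Submodule.sum_mem _ fun i _ => Submodule.smul_mem _ _ (Submodule.subset_span ?_)
  simp


theorem different_le_prime (hB : Algebra.IsPushout A A' B B') (q' : Ideal B') [q'.IsPrime]
    (hq' : Ideal.map (algebraMap B B') (QFDual.different B (Disc.Omega.trace A B)) ≤ q') :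
    QFDual.different B' (Disc.Omega.trace A' B') ≤ q' := by
  classical
  intro d' hd'
  by_contra hd'q
  set q : Ideal B := q'.comap (algebraMap B B') with hq
  have h𝔇q : QFDual.different B (Disc.Omega.trace A B) ≤ q := Ideal.map_le_iff_le_comap.1 hq'
  set τ := Disc.Omega.trace A B with hτ
  set P : Submodule B (Disc.Omega A B) := Submodule.span B {τ} with hP
  have hsupp : (⟨q, inferInstance⟩ : PrimeSpectrum B) ∈ Module.support B (Disc.Omega A B ⧸ P) := by
    rw [Module.support_eq_zeroLocus, PrimeSpectrum.mem_zeroLocus, Submodule.annihilator_quotient]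
    exact h𝔇q
  rw [Module.mem_support_iff_nontrivial_residueField_tensorProduct] at hsupp
  change Nontrivial (q.ResidueField ⊗[B] (Disc.Omega A B ⧸ P)) at hsupp
  obtain ⟨v, hv⟩ := exists_ne (0 : q.ResidueField ⊗[B] (Disc.Omega A B ⧸ P))
  obtain ⟨ℓ, hℓ⟩ : ∃ ℓ : Module.Dual q.ResidueField (q.ResidueField ⊗[B] (Disc.Omega A B ⧸ P)),
      ℓ v ≠ 0 := by
    by_contra h
    push_neg at h
    exact hv ((Module.forall_dual_apply_eq_zero_iff q.ResidueField v).1 h)
  let lam : Disc.Omega A B →ₗ[B] q.ResidueField :=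
    (ℓ.restrictScalars B) ∘ₗ (TensorProduct.mk B q.ResidueField (Disc.Omega A B ⧸ P) 1) ∘ₗ P.mkQ
  have hlam : ∀ n, lam n = ℓ ((1 : q.ResidueField) ⊗ₜ[B] P.mkQ n) := fun n => rfl
  have hlamτ : lam τ = 0 := by
    rw [hlam, (Submodule.mkQ_apply P τ), (Submodule.Quotient.mk_eq_zero P).2
      (Submodule.mem_span_singleton_self τ), tmul_zero, map_zero]
  let ι : q.ResidueField →+* q'.ResidueField :=
    Ideal.ResidueField.map q q' (algebraMap B B') rfl
  have hι : ∀ r : B, ι (algebraMap B q.ResidueField r) =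
      algebraMap B' q'.ResidueField (algebraMap B B' r) := fun r =>
    Ideal.ResidueField.map_algebraMap q q' (algebraMap B B') rfl r
  -- the `A`-linear map `Dual A B → κ'`
  let gA : Module.Dual A B →ₗ[A] q'.ResidueField :=
    { toFun := fun ψ => ι (lam ⟨ψ⟩)
      map_add' := fun ψ₁ ψ₂ => by
        have : (⟨ψ₁ + ψ₂⟩ : Disc.Omega A B) = ⟨ψ₁⟩ + ⟨ψ₂⟩ := rfl
        rw [this, map_add, map_add]
      map_smul' := fun a ψ => by
        have : (⟨a • ψ⟩ : Disc.Omega A B) = algebraMap A B a • ⟨ψ⟩ := by
          apply Disc.Omega.ext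
          ext x
          rw [Disc.Omega.smul_toLinearMap_apply, ← Algebra.smul_def, map_smul]
          rfl
        rw [this, map_smul, Algebra.smul_def, map_mul, hι, RingHom.id_apply, Algebra.smul_def,
          IsScalarTower.algebraMap_apply A B' q'.ResidueField,
          IsScalarTower.algebraMap_apply A B B'] }
  have hgA : ∀ ψ, gA ψ = ι (lam ⟨ψ⟩) := fun ψ => rfl
  let lam' : Module.Dual A' B' →ₗ[A'] q'.ResidueField := hB.out.dual.lift gA
  have hlam' : ∀ ψ : Module.Dual A B, lam' (hB.out.toDual ψ) = ι (lam ⟨ψ⟩) := fun ψ =>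
    hB.out.dual.lift_eq gA ψ
  -- `B'`-linearity of `lam'`
  have key : ∀ (b' : B') (ψ' : Module.Dual A' B'),
      lam' (ψ' ∘ₗ LinearMap.mulLeft A' b') = algebraMap B' q'.ResidueField b' * lam' ψ' := by
    intro b'
    induction b' using hB.out.inductionOn with
    | zero =>
      intro ψ'
      have : ψ' ∘ₗ LinearMap.mulLeft A' (0 : B') = 0 := by
        ext x; simp
      rw [this, map_zero, map_zero, zero_mul]
    | tmul b =>
      intro ψ'
      change lam' (ψ' ∘ₗ LinearMap.mulLeft A' (algebraMap B B' b)) =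
        algebraMap B' q'.ResidueField (algebraMap B B' b) * lam' ψ'
      induction ψ' using hB.out.dual.inductionOn with
      | zero => simp
      | tmul φ =>
        have e : hB.out.toDual φ ∘ₗ LinearMap.mulLeft A' (algebraMap B B' b) =
            hB.out.toDual (φ ∘ₗ LinearMap.mulLeft A b) := by
          refine hB.out.algHom_ext _ _ fun x => ?_
          change hB.out.toDual φ (algebraMap B B' b * algebraMap B B' x) =
            hB.out.toDual (φ ∘ₗ LinearMap.mulLeft A b) ((IsScalarTower.toAlgHom A B B').toLinearMap x)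
          rw [IsBaseChange.toDual_comp_apply, ← map_mul]
          exact IsBaseChange.toDual_comp_apply hB.out φ (b * x)
        rw [e, hlam', hlam']
        have : (⟨φ ∘ₗ LinearMap.mulLeft A b⟩ : Disc.Omega A B) = b • ⟨φ⟩ := rfl
        rw [this, map_smul, Algebra.smul_def, map_mul, hι]
      | smul a' ψ' ih =>
        have : (a' • ψ') ∘ₗ LinearMap.mulLeft A' (algebraMap B B' b) =
            a' • (ψ' ∘ₗ LinearMap.mulLeft A' (algebraMap B B' b)) := by
          ext x; simp
        rw [this, map_smul, map_smul, ih, mul_smul_comm]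
      | add ψ₁ ψ₂ h₁ h₂ =>
        rw [LinearMap.add_comp, map_add, map_add, h₁, h₂, mul_add]
    | smul a' b' ih =>
      intro ψ'
      have : ψ' ∘ₗ LinearMap.mulLeft A' (a' • b') = a' • (ψ' ∘ₗ LinearMap.mulLeft A' b') := by
        ext x; simp
      rw [this, map_smul, ih, Algebra.smul_def a' b', map_mul, Algebra.smul_def,
        ← IsScalarTower.algebraMap_apply A' B' q'.ResidueField, mul_assoc]
    | add b₁ b₂ h₁ h₂ =>
      intro ψ'
      have : ψ' ∘ₗ LinearMap.mulLeft A' (b₁ + b₂) =
          ψ' ∘ₗ LinearMap.mulLeft A' b₁ + ψ' ∘ₗ LinearMap.mulLeft A' b₂ := by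
        ext x; simp [add_mul]
      rw [this, map_add, h₁, h₂, map_add, add_mul]
  -- `lam'` vanishes
  have hd'ne : algebraMap B' q'.ResidueField d' ≠ 0 := by
    rw [Ne, Ideal.algebraMap_residueField_eq_zero]
    exact hd'q
  have hτ' : (Disc.Omega.trace A' B').toLinearMap = hB.out.toDual τ.toLinearMap := by
    rw [← bcFin_trace hB]
    rfl
  have hzero : ∀ ψ' : Module.Dual A' B', lam' ψ' = 0 := by
    intro ψ'
    obtain ⟨c', hc'⟩ := (QFDual.mem_different_iff B' _ d').1 hd' ⟨ψ'⟩
    have h1 : (Disc.Omega.trace A' B').toLinearMap ∘ₗ LinearMap.mulLeft A' c' =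
        ψ' ∘ₗ LinearMap.mulLeft A' d' := congrArg Disc.Omega.toLinearMap hc'
    have h2 := congrArg lam' h1
    rw [key, key, hτ', hlam', hlamτ, map_zero, mul_zero] at h2
    exact (mul_eq_zero.1 h2.symm).resolve_left hd'ne
  have hlamzero : ∀ n : Disc.Omega A B, lam n = 0 := by
    intro n
    have := hzero (hB.out.toDual n.toLinearMap)
    rw [hlam'] at this
    exact (map_eq_zero ι).1 this
  refine hℓ ?_
  have hall : ∀ w : q.ResidueField ⊗[B] (Disc.Omega A B ⧸ P), ℓ w = 0 := by
    intro w
    induction w using TensorProduct.induction_on with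
    | zero => simp
    | tmul k m =>
      obtain ⟨n, rfl⟩ := P.mkQ_surjective m
      have : k ⊗ₜ[B] P.mkQ n = k • ((1 : q.ResidueField) ⊗ₜ[B] P.mkQ n) := by
        rw [smul_tmul', smul_eq_mul, mul_one]
      rw [this, map_smul, ← hlam, hlamzero, smul_zero]
    | add x y hx hy => rw [map_add, hx, hy, add_zero]
  exact hall v

theorem main (hB : Algebra.IsPushout A A' B B') :
    Ideal.map (algebraMap B B') (QFDual.different B (Disc.Omega.trace A B)) ≤
        QFDual.different B' (Disc.Omega.trace A' B') ∧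
      (Ideal.map (algebraMap B B') (QFDual.different B (Disc.Omega.trace A B))).radical =
        (QFDual.different B' (Disc.Omega.trace A' B')).radical := by
  refine ⟨map_different_le hB, le_antisymm (Ideal.radical_mono (map_different_le hB)) ?_⟩
  rw [Ideal.radical_le_radical_iff, Ideal.radical_eq_sInf]
  refine le_sInf fun J hJ => ?_
  haveI := hJ.2
  exact different_le_prime hB J hJ.1


/-- `B`-linear maps out of `Hom_A(B, A)` into a `B'`-module extend to `B'`-linear maps out of
`Hom_{A'}(B', A')` (i.e. the latter is the base change of the former along `B → B'`). -/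
theorem exists_lift (hB : Algebra.IsPushout A A' B B') {Q : Type*} [AddCommGroup Q]
    [Module A Q] [Module A' Q] [Module B Q] [Module B' Q]
    [IsScalarTower A A' Q] [IsScalarTower A' B' Q] [IsScalarTower B B' Q] [IsScalarTower A B Q]
    (ψ : Disc.Omega A B →ₗ[B] Q) :
    ∃ ψ' : Disc.Omega A' B' →ₗ[B'] Q, ∀ n, ψ' (QFDual.bcFin hB n) = ψ n := by
  classical
  let gA : Module.Dual A B →ₗ[A] Q :=
    { toFun := fun f => ψ ⟨f⟩
      map_add' := fun f₁ f₂ => by
        have : (⟨f₁ + f₂⟩ : Disc.Omega A B) = ⟨f₁⟩ + ⟨f₂⟩ := rfl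
        rw [this, map_add]
      map_smul' := fun a f => by
        have : (⟨a • f⟩ : Disc.Omega A B) = algebraMap A B a • ⟨f⟩ := by
          apply Disc.Omega.ext
          ext x
          rw [Disc.Omega.smul_toLinearMap_apply, ← Algebra.smul_def, map_smul]
          rfl
        rw [this, map_smul, algebraMap_smul, RingHom.id_apply] }
  let lam' : Module.Dual A' B' →ₗ[A'] Q := hB.out.dual.lift gA
  have hlam' : ∀ f : Module.Dual A B, lam' (hB.out.toDual f) = ψ ⟨f⟩ := fun f =>
    hB.out.dual.lift_eq gA f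
  have key : ∀ (b' : B') (ψ' : Module.Dual A' B'),
      lam' (ψ' ∘ₗ LinearMap.mulLeft A' b') = b' • lam' ψ' := by
    intro b'
    induction b' using hB.out.inductionOn with
    | zero =>
      intro ψ'
      have : ψ' ∘ₗ LinearMap.mulLeft A' (0 : B') = 0 := by
        ext x; simp
      rw [this, map_zero, zero_smul]
    | tmul b =>
      intro ψ'
      change lam' (ψ' ∘ₗ LinearMap.mulLeft A' (algebraMap B B' b)) =
        (algebraMap B B' b) • lam' ψ'
      induction ψ' using hB.out.dual.inductionOn with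
      | zero => simp
      | tmul φ =>
        have e : hB.out.toDual φ ∘ₗ LinearMap.mulLeft A' (algebraMap B B' b) =
            hB.out.toDual (φ ∘ₗ LinearMap.mulLeft A b) := by
          refine hB.out.algHom_ext _ _ fun x => ?_
          change hB.out.toDual φ (algebraMap B B' b * algebraMap B B' x) =
            hB.out.toDual (φ ∘ₗ LinearMap.mulLeft A b) ((IsScalarTower.toAlgHom A B B').toLinearMap x)
          rw [IsBaseChange.toDual_comp_apply, ← map_mul]
          exact IsBaseChange.toDual_comp_apply hB.out φ (b * x)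
        rw [e, hlam', hlam']
        have : (⟨φ ∘ₗ LinearMap.mulLeft A b⟩ : Disc.Omega A B) = b • ⟨φ⟩ := rfl
        rw [this, map_smul, algebraMap_smul]
      | smul a' ψ' ih =>
        have : (a' • ψ') ∘ₗ LinearMap.mulLeft A' (algebraMap B B' b) =
            a' • (ψ' ∘ₗ LinearMap.mulLeft A' (algebraMap B B' b)) := by
          ext x; simp
        rw [this, map_smul, map_smul, ih, ← algebraMap_smul B' a', ← algebraMap_smul B' a',
          smul_smul, smul_smul, mul_comm]
      | add ψ₁ ψ₂ h₁ h₂ =>
        rw [LinearMap.add_comp, map_add, map_add, h₁, h₂, smul_add]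
    | smul a' b' ih =>
      intro ψ'
      have : ψ' ∘ₗ LinearMap.mulLeft A' (a' • b') = a' • (ψ' ∘ₗ LinearMap.mulLeft A' b') := by
        ext x; simp
      rw [this, map_smul, ih, smul_assoc]
    | add b₁ b₂ h₁ h₂ =>
      intro ψ'
      have : ψ' ∘ₗ LinearMap.mulLeft A' (b₁ + b₂) =
          ψ' ∘ₗ LinearMap.mulLeft A' b₁ + ψ' ∘ₗ LinearMap.mulLeft A' b₂ := by
        ext x; simp [add_mul]
      rw [this, map_add, h₁, h₂, add_smul]
  refine ⟨{ toFun := fun φ' => lam' φ'.toLinearMap
            map_add' := fun φ₁ φ₂ => by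
              rw [Disc.Omega.add_toLinearMap, map_add]
            map_smul' := fun b' φ' => key b' φ'.toLinearMap }, fun n => ?_⟩
  exact hlam' n.toLinearMap

theorem apply_trace_mem_different [Module.Invertible B (Disc.Omega A B)]
    (ψ : Disc.Omega A B →ₗ[B] B) :
    ψ (Disc.Omega.trace A B) ∈ QFDual.different B (Disc.Omega.trace A B) := by
  rw [QFDual.mem_different_iff]
  intro m
  refine ⟨ψ m, ?_⟩
  have h := congrArg (TensorProduct.lift ((LinearMap.lsmul B (Disc.Omega A B)) ∘ₗ ψ))
    (Module.Invertible.tmul_comm (R := B) (m₁ := m) (m₂ := Disc.Omega.trace A B))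
  simpa using h

theorem map_different_eq_of_invertible (hB : Algebra.IsPushout A A' B B')
    [Module.Invertible B (Disc.Omega A B)] :
    Ideal.map (algebraMap B B') (QFDual.different B (Disc.Omega.trace A B)) =
      QFDual.different B' (Disc.Omega.trace A' B') := by
  refine le_antisymm (map_different_le hB) ?_
  intro d' hd'
  set J := Ideal.map (algebraMap B B') (QFDual.different B (Disc.Omega.trace A B)) with hJ
  have claim : ∀ (ψ : Module.Dual B (Disc.Omega A B)) (n : Disc.Omega A B),
      d' * algebraMap B B' (ψ n) ∈ J := by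
    intro ψ n
    obtain ⟨c', hc'⟩ := (QFDual.mem_different_iff B' _ d').1 hd' (QFDual.bcFin hB n)
    obtain ⟨ψ', hψ'⟩ := exists_lift hB ((Algebra.linearMap B B') ∘ₗ ψ)
    have h1 := congrArg ψ' hc'
    rw [map_smul, map_smul, ← bcFin_trace hB, hψ', hψ'] at h1
    simp only [LinearMap.comp_apply, Algebra.linearMap_apply, smul_eq_mul] at h1
    rw [← h1]
    exact Ideal.mul_mem_left _ _ (Ideal.mem_map_of_mem _ (apply_trace_mem_different ψ))
  have hall : ∀ t : Module.Dual B (Disc.Omega A B) ⊗[B] Disc.Omega A B,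
      d' * algebraMap B B' (contractLeft B (Disc.Omega A B) t) ∈ J := by
    intro t
    induction t using TensorProduct.induction_on with
    | zero => simp
    | tmul ψ n =>
      rw [contractLeft_apply]
      exact claim ψ n
    | add x y hx hy =>
      rw [map_add, map_add, mul_add]
      exact J.add_mem hx hy
  obtain ⟨t, ht⟩ := (Module.Invertible.bijective (R := B) (M := Disc.Omega A B)).2 1
  have := hall t
  rwa [ht, map_one, mul_one] at this


theorem exists_apply_trace_eq [Module.Invertible B (Disc.Omega A B)] {d : B}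
    (hd : d ∈ QFDual.different B (Disc.Omega.trace A B)) :
    ∃ ψ : Disc.Omega A B →ₗ[B] B, ψ (Disc.Omega.trace A B) = d := by
  have hall : ∀ t : Module.Dual B (Disc.Omega A B) ⊗[B] Disc.Omega A B,
      ∃ ψ : Disc.Omega A B →ₗ[B] B, ψ (Disc.Omega.trace A B) =
        d * contractLeft B (Disc.Omega A B) t := by
    intro t
    induction t using TensorProduct.induction_on with
    | zero => exact ⟨0, by simp⟩
    | tmul χ n =>
      obtain ⟨c, hc⟩ := (QFDual.mem_different_iff B _ d).1 hd n
      refine ⟨c • χ, ?_⟩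
      rw [contractLeft_apply, LinearMap.smul_apply, smul_eq_mul, ← smul_eq_mul, ← map_smul, hc,
        map_smul, smul_eq_mul]
    | add x y hx hy =>
      obtain ⟨ψ₁, h₁⟩ := hx
      obtain ⟨ψ₂, h₂⟩ := hy
      exact ⟨ψ₁ + ψ₂, by rw [LinearMap.add_apply, h₁, h₂, map_add, mul_add]⟩
  obtain ⟨t, ht⟩ := (Module.Invertible.bijective (R := B) (M := Disc.Omega A B)).2 1
  obtain ⟨ψ, hψ⟩ := hall t
  exact ⟨ψ, by rw [hψ, ht, mul_one]⟩

theorem mem_differentSet_iff (b : B) :
    b ∈ Disc.differentSet A B ↔ b ∈ QFDual.different B (Disc.Omega.trace A B) := by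
  rw [QFDual.mem_different_iff]
  constructor
  · intro hb m
    obtain ⟨c, hc⟩ := hb m.toLinearMap
    refine ⟨c, ?_⟩
    apply Disc.Omega.ext
    ext x
    exact (hc x).symm
  · intro hb φ
    obtain ⟨c, hc⟩ := hb ⟨φ⟩
    refine ⟨c, fun x => ?_⟩
    have := congrArg (fun m : Disc.Omega A B => m.toLinearMap x) hc
    exact this.symm

end Groth.Agent.Lib.Helper7.DiffBC
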