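import Groth.Prelude.Def_Disc
import Mathlib.RingTheory.Unramified.Locus
import Mathlib.RingTheory.Kaehler.Basic
import Mathlib.RingTheory.Support
import Mathlib.LinearAlgebra.Matrix.Charpoly.LinearMap

/-!
# The zero locus of the Noether different is the ramification locus
-/

set_option autoImplicit false
set_option linter.unusedVariables false

namespace Groth.Agent.Lib.Helper7.NoetherRam

open TensorProduct

universe u v
variable {A : Type u} {B : Type v} [CommRing A] [CommRing B] [Algebra A B]

/-- `B ⊗[A] B` acts on `Ω[B⁄A]` through the multiplication map. -/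
theorem smul_eq_lmul'_smul (t : B ⊗[A] B) (ω : Ω[B⁄A]) :
    t • ω = (Algebra.TensorProduct.lmul' A t) • ω := by
  have h1 : t - algebraMap B (B ⊗[A] B) (Algebra.TensorProduct.lmul' A t) ∈
      KaehlerDifferential.ideal A B := by
    change _ ∈ RingHom.ker _
    rw [RingHom.mem_ker, map_sub]
    simp [Algebra.TensorProduct.algebraMap_apply]
  have h2 : (t - algebraMap B (B ⊗[A] B) (Algebra.TensorProduct.lmul' A t)) • ω = 0 :=
    Ideal.Cotangent.smul_eq_zero_of_mem h1 ω
  rw [sub_smul, sub_eq_zero] at h2
  rw [h2, algebraMap_smul]

theorem le_iff_mem_support [Algebra.FiniteType A B] (q : PrimeSpectrum B) :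
    Disc.noetherDifferent A B ≤ q.asIdeal ↔ q ∈ Module.support B Ω[B⁄A] := by
  rw [Module.mem_support_iff_of_finite]
  have hsurj : Function.Surjective (Algebra.TensorProduct.lmul' (S := B) A) := fun b =>
    ⟨b ⊗ₜ 1, by simp⟩
  constructor
  · intro hD b hb
    rw [Module.mem_annihilator] at hb
    set J := KaehlerDifferential.ideal A B with hJ
    have hJfg : J.FG := KaehlerDifferential.ideal_fg A B
    haveI : Module.Finite (B ⊗[A] B) J := Module.Finite.iff_fg.2 hJfg
    set t : B ⊗[A] B := algebraMap B (B ⊗[A] B) b with ht
    let f : Module.End (B ⊗[A] B) J := algebraMap (B ⊗[A] B) (Module.End (B ⊗[A] B) J) t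
    have hrange : LinearMap.range f ≤ J • (⊤ : Submodule (B ⊗[A] B) J) := by
      rintro _ ⟨j, rfl⟩
      have h1 : KaehlerDifferential.fromIdeal A B (t • j) = 0 := by
        rw [map_smul, smul_eq_lmul'_smul]
        have : Algebra.TensorProduct.lmul' A t = b := by
          simp [ht, Algebra.TensorProduct.algebraMap_apply]
        rw [this]
        exact hb _
      have h2 : t • j ∈ LinearMap.ker (KaehlerDifferential.fromIdeal A B) := h1
      have h3 : LinearMap.ker (KaehlerDifferential.fromIdeal A B) =
          J • (⊤ : Submodule (B ⊗[A] B) J) := Submodule.ker_mkQ _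
      rw [h3] at h2
      exact h2
    obtain ⟨p, hmonic, -, hcoeff, hp⟩ :=
      LinearMap.exists_monic_and_natDegree_eq_and_coeff_mem_pow_and_aeval_eq_zero
        (B ⊗[A] B) f J hrange
    have hann : Polynomial.aeval t p ∈ Submodule.annihilator J := by
      rw [Submodule.mem_annihilator]
      intro j hj
      have h1 : (Polynomial.aeval f p) ⟨j, hj⟩ = 0 := by rw [hp]; rfl
      rw [Polynomial.aeval_algebraMap_apply, Module.algebraMap_end_apply] at h1
      exact congrArg Subtype.val h1
    have hmem : Algebra.TensorProduct.lmul' A (Polynomial.aeval t p) ∈ q.asIdeal :=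
      hD (Ideal.mem_map_of_mem _ hann)
    have hmap : p.map (Algebra.TensorProduct.lmul' (S := B) A).toRingHom =
        Polynomial.X ^ p.natDegree := by
      ext k
      rw [Polynomial.coeff_map, Polynomial.coeff_X_pow]
      split_ifs with hk
      · subst hk
        rw [Polynomial.Monic.coeff_natDegree hmonic, map_one]
      · rcases lt_or_gt_of_ne hk with hk | hk
        · have h1 := hcoeff k
          have h2 : J ^ (p.natDegree - k) ≤ J := Ideal.pow_le_self (by omega)
          exact h2 h1
        · rw [Polynomial.coeff_eq_zero_of_natDegree_lt hk, map_zero]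
    have heval : Algebra.TensorProduct.lmul' A (Polynomial.aeval t p) = b ^ p.natDegree := by
      rw [Polynomial.coe_aeval_eq_eval]
      have h1 : (Algebra.TensorProduct.lmul' (S := B) A).toRingHom (Polynomial.eval t p) =
          Polynomial.eval ((Algebra.TensorProduct.lmul' (S := B) A).toRingHom t)
            (p.map (Algebra.TensorProduct.lmul' (S := B) A).toRingHom) := by
        rw [Polynomial.eval_map, Polynomial.eval₂_at_apply]
      have h2 : (Algebra.TensorProduct.lmul' (S := B) A).toRingHom t = b := by
        simp [ht, Algebra.TensorProduct.algebraMap_apply]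
      rw [hmap, h2, Polynomial.eval_pow, Polynomial.eval_X] at h1
      exact h1
    rw [heval] at hmem
    exact q.isPrime.mem_of_pow_mem _ hmem
  · intro hAnn d hd
    unfold Disc.noetherDifferent at hd
    rw [Ideal.mem_map_iff_of_surjective _ hsurj] at hd
    obtain ⟨a, ha, rfl⟩ := hd
    apply hAnn
    rw [Module.mem_annihilator]
    intro ω
    obtain ⟨j, rfl⟩ := KaehlerDifferential.fromIdeal_surjective A B ω
    rw [← smul_eq_lmul'_smul, ← map_smul]
    have : a • j = 0 := by
      apply Subtype.ext
      exact (Submodule.mem_annihilator.1 ha) j.1 j.2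
    rw [this, map_zero]

theorem zeroLocus_eq [Algebra.FiniteType A B] :
    {q : PrimeSpectrum B | Disc.noetherDifferent A B ≤ q.asIdeal} =
      (Algebra.unramifiedLocus A B)ᶜ := by
  rw [Algebra.unramifiedLocus_eq_compl_support, compl_compl]
  ext q
  exact le_iff_mem_support q

end Groth.Agent.Lib.Helper7.NoetherRam
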