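import Groth.Prelude.Def_Disc
import Groth.Agent.S2215
import Groth.Agent.Lib.Helper7.NoetherRam

/-!
# The different and the Noether different of a finite free algebra have the same radical

`𝔑 ⊆ 𝔇` and `b ∈ 𝔇 → b² ∈ 𝔑`.
-/

set_option autoImplicit false
set_option linter.unusedVariables false

namespace Groth.Agent.Lib.Helper7.DiffRam

open TensorProduct
open Groth.Agent.S2215 (P P_tmul P_add P_zero P_sum P_add_right P_mul_right P_mul_left
  eq_sum_basis P_injective mem_ann_iff trace_eq_sum apply_trace sum_toLinearMap)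

universe u v
variable {A : Type u} {B : Type v} [CommRing A] [CommRing B] [Algebra A B]

/-- `B`-linearity of the pairing for `ξ` in the annihilator of the diagonal ideal. -/
lemma P_smul {ξ : B ⊗[A] B}
    (hξ : ξ ∈ Submodule.annihilator (RingHom.ker (Algebra.TensorProduct.lmul' (S := B) A)))
    (b : B) (l : Disc.Omega A B) : P ξ (b • l) = b * P ξ l := by
  rw [← P_mul_left, ← (mem_ann_iff ξ).1 hξ b, P_mul_right]

/-- The `B`-linear map attached to `ξ ∈ Ann J`. -/
noncomputable def Φ (ξ : B ⊗[A] B)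
    (hξ : ξ ∈ Submodule.annihilator (RingHom.ker (Algebra.TensorProduct.lmul' (S := B) A))) :
    Disc.Omega A B →ₗ[B] B where
  toFun l := P ξ l
  map_add' := P_add_right ξ
  map_smul' b l := by rw [RingHom.id_apply, P_smul hξ, smul_eq_mul]

variable [Module.Finite A B] [Module.Free A B]

lemma lmul'_eq_P_trace {ξ : B ⊗[A] B}
    (hξ : ξ ∈ Submodule.annihilator (RingHom.ker (Algebra.TensorProduct.lmul' (S := B) A))) :
    Algebra.TensorProduct.lmul' (S := B) A ξ = P ξ (Disc.Omega.trace A B) := by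
  classical
  exact (apply_trace (Module.Free.chooseBasis A B) (Φ ξ hξ) ξ (fun l => rfl)).symm

lemma trace_eq_sum_coord {ι : Type*} [Fintype ι] [DecidableEq ι] (β : Module.Basis ι A B) (v : B) :
    Algebra.trace A B v = ∑ k, β.coord k (v * β k) := by
  have h := congrArg (fun m : Disc.Omega A B => m.toLinearMap v) (trace_eq_sum β)
  simp only [sum_toLinearMap, LinearMap.sum_apply, Disc.Omega.smul_toLinearMap_apply] at h
  rw [show Algebra.trace A B v = (Disc.Omega.trace A B).toLinearMap v from rfl, h]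
  exact Finset.sum_congr rfl fun k _ => by rw [mul_comm]

/-- For `ξ ∈ Ann J`: `Tr (P ξ l) = l (μ ξ)`. -/
lemma trace_P_eq {ξ : B ⊗[A] B}
    (hξ : ξ ∈ Submodule.annihilator (RingHom.ker (Algebra.TensorProduct.lmul' (S := B) A)))
    (l : Disc.Omega A B) :
    Algebra.trace A B (P ξ l) = l.toLinearMap (Algebra.TensorProduct.lmul' (S := B) A ξ) := by
  classical
  let β := Module.Free.chooseBasis A B
  let H : Module.Free.ChooseBasisIndex A B → (B ⊗[A] B →ₗ[A] A) := fun k =>
    (LinearMap.mul' A A) ∘ₗ (TensorProduct.map l.toLinearMap (β.coord k))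
  have hH : ∀ k u v, H k (u ⊗ₜ[A] v) = l.toLinearMap u * β.coord k v := by
    intro k u v
    simp [H]
  have c1 : ∀ ξ : B ⊗[A] B, ∑ k, H k (ξ * ((1 : B) ⊗ₜ[A] β k)) = Algebra.trace A B (P ξ l) := by
    intro ξ
    induction ξ using TensorProduct.induction_on with
    | zero => simp [P_zero]
    | tmul u v =>
      simp only [Algebra.TensorProduct.tmul_mul_tmul, mul_one, hH, P_tmul, map_smul, smul_eq_mul]
      rw [trace_eq_sum_coord β v, Finset.mul_sum]
    | add x y hx hy =>
      simp only [add_mul, map_add, Finset.sum_add_distrib, hx, hy, P_add]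
  have c2 : ∀ ξ : B ⊗[A] B, ∑ k, H k (ξ * (β k ⊗ₜ[A] (1 : B))) =
      l.toLinearMap (Algebra.TensorProduct.lmul' (S := B) A ξ) := by
    intro ξ
    induction ξ using TensorProduct.induction_on with
    | zero => simp
    | tmul u v =>
      simp only [Algebra.TensorProduct.tmul_mul_tmul, mul_one, hH,
        Algebra.TensorProduct.lmul'_apply_tmul]
      conv_rhs => rw [← β.sum_repr v, Finset.mul_sum, map_sum]
      refine Finset.sum_congr rfl fun k _ => ?_
      rw [mul_smul_comm, map_smul, smul_eq_mul, mul_comm]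
      rfl
    | add x y hx hy =>
      simp only [add_mul, map_add, Finset.sum_add_distrib, hx, hy]
  rw [← c1, ← c2]
  refine Finset.sum_congr rfl fun k _ => ?_
  rw [(mem_ann_iff ξ).1 hξ (β k)]

/-- `𝔑 ⊆ 𝔇`. -/
theorem noetherDifferent_subset_differentSet :
    (Disc.noetherDifferent A B : Set B) ⊆ Disc.differentSet A B := by
  have hsurj : Function.Surjective (Algebra.TensorProduct.lmul' (S := B) A) := fun b =>
    ⟨b ⊗ₜ[A] 1, by simp⟩
  intro d hd
  rw [SetLike.mem_coe, Disc.noetherDifferent, Ideal.mem_map_iff_of_surjective _ hsurj] at hd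
  obtain ⟨ξ, hξ, rfl⟩ := hd
  intro φ
  refine ⟨P ξ ⟨φ⟩, fun x => ?_⟩
  have hξx : ξ * (x ⊗ₜ[A] (1 : B)) ∈
      Submodule.annihilator (RingHom.ker (Algebra.TensorProduct.lmul' (S := B) A)) :=
    Ideal.mul_mem_right _ _ hξ
  have h := trace_P_eq hξx ⟨φ⟩
  rw [P_mul_left, P_smul hξ, map_mul (Algebra.TensorProduct.lmul' (S := B) A),
    Algebra.TensorProduct.lmul'_apply_tmul, mul_one] at h
  rw [mul_comm (P ξ ⟨φ⟩) x, h]

/-- `b ∈ 𝔇 → b² ∈ 𝔑`. -/
theorem sq_mem_noetherDifferent {b : B} (hb : b ∈ Disc.differentSet A B) :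
    b * b ∈ Disc.noetherDifferent A B := by
  classical
  let β := Module.Free.chooseBasis A B
  -- `b • l = c • τ`
  have hbl : ∀ l : Disc.Omega A B, ∃ c : B, b • l = c • Disc.Omega.trace A B := by
    intro l
    obtain ⟨c, hc⟩ := hb l.toLinearMap
    refine ⟨c, ?_⟩
    apply Disc.Omega.ext
    ext x
    exact hc x
  choose c hc using fun k => hb (β.coord k)
  let ξ : B ⊗[A] B := ∑ k, c k ⊗ₜ[A] β k
  have hPξ : ∀ x : B, P ξ (x • Disc.Omega.trace A B) = b * x := by
    intro x
    simp only [ξ, P_sum, P_tmul, Disc.Omega.smul_toLinearMap_apply]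
    conv_rhs => rw [← β.sum_repr (b * x)]
    refine Finset.sum_congr rfl fun k _ => ?_
    have := hc k x
    rw [show (Disc.Omega.trace A B).toLinearMap (x * c k) = Algebra.trace A B (c k * x) by
      rw [mul_comm]; rfl, ← this]
    rfl
  obtain ⟨ξ', hξ'def⟩ : ∃ ξ' : B ⊗[A] B, ξ' = ξ * (b ⊗ₜ[A] (1 : B)) := ⟨_, rfl⟩
  have hP' : ∀ (l : Disc.Omega A B) (c : B), b • l = c • Disc.Omega.trace A B →
      P ξ' l = b * c := by
    intro l c hlc
    rw [hξ'def, P_mul_left, hlc, hPξ]
  have hξ' : ξ' ∈ Submodule.annihilator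
      (RingHom.ker (Algebra.TensorProduct.lmul' (S := B) A)) := by
    rw [mem_ann_iff]
    intro s
    apply P_injective β
    intro l
    obtain ⟨cl, hcl⟩ := hbl l
    rw [P_mul_right, P_mul_left, hP' l cl hcl]
    have h2 : b • (s • l) = (s * cl) • Disc.Omega.trace A B := by
      rw [smul_smul, mul_comm, ← smul_smul, hcl, smul_smul]
    rw [hP' (s • l) (s * cl) h2]
    ring
  have hμ : Algebra.TensorProduct.lmul' (S := B) A ξ' = b * b := by
    rw [lmul'_eq_P_trace hξ', hP' _ b rfl]
  rw [← hμ]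
  exact Ideal.mem_map_of_mem _ hξ'

/-- A prime contains the different iff it contains the Noether different. -/
theorem differentSet_subset_iff (q : Ideal B) [q.IsPrime] :
    Disc.differentSet A B ⊆ q ↔ Disc.noetherDifferent A B ≤ q := by
  constructor
  · intro h d hd
    exact h (noetherDifferent_subset_differentSet hd)
  · intro h b hb
    have := h (sq_mem_noetherDifferent hb)
    rcases Ideal.IsPrime.mem_or_mem ‹q.IsPrime› this with h1 | h1 <;> exact h1

theorem differentSet_subset_iff_not_unramifiedAt (q : Ideal B) [hq : q.IsPrime] :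
    Disc.differentSet A B ⊆ q ↔ ¬Algebra.IsUnramifiedAt A q := by
  rw [differentSet_subset_iff]
  have h1 := NoetherRam.le_iff_mem_support (A := A) (B := B) ⟨q, hq⟩
  have h2 := Algebra.unramifiedLocus_eq_compl_support (R := A) (A := B)
  have h3 : (⟨q, hq⟩ : PrimeSpectrum B) ∈ Algebra.unramifiedLocus A B ↔
      Algebra.IsUnramifiedAt A q := Iff.rfl
  rw [← h3, h2, Set.mem_compl_iff, not_not]
  exact h1

end Groth.Agent.Lib.Helper7.DiffRam
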