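import Groth.Agent.Lib.Helper7.Hartogs
import Groth.Agent.Lib.Helper21.DepthKit8
import Groth.Agent.Lib.Helper2.R0S1

/-!
# Hartogs' lemma on `Spec B` in terms of ideal depth
-/

set_option autoImplicit false
set_option linter.unusedVariables false
set_option linter.style.haveILetI false

universe u

namespace Groth.Agent.Lib.Helper7.Hartogs

open AlgebraicGeometry CategoryTheory Opposite TopologicalSpace RingTheory.Sequence
open Groth.Agent.Lib.Helper21.DepthKit
open scoped Pointwise

section regular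

variable {B : Type u} [CommRing B] [IsNoetherianRing B]

/-- from ideal depth `≥ 2` to a regular pair in elementwise form -/
theorem exists_regular_pair (J : Ideal B) (hdepth : (2 : ℕ∞) ≤ LocCoh.idealDepth J B) :
    ∃ a ∈ J, ∃ b ∈ J, IsSMulRegular B a ∧ ∀ u, b * u ∈ Ideal.span {a} → u ∈ Ideal.span {a} := by
  by_cases hJ : J • (⊤ : Submodule B B) = ⊤
  · have h1 : (1 : B) ∈ J := by
      rw [smul_eq_mul, Ideal.mul_top] at hJ
      rw [hJ]; exact Submodule.mem_top
    refine ⟨1, h1, 1, h1, fun x y h => by simpa using h, fun u _ => ?_⟩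
    rw [Ideal.span_singleton_one]; exact Submodule.mem_top
  · have h2 : ((2 : ℕ) : ℕ∞) ≤ LocCoh.idealDepth J B := hdepth
    obtain ⟨rs, hlen, hmem, hreg⟩ := (natCast_le_idealDepth_iff J hJ 2).1 h2
    match rs, hlen, hmem, hreg with
    | [a, b], _, hmem, hreg =>
      rw [isWeaklyRegular_cons_iff, isWeaklyRegular_cons_iff] at hreg
      obtain ⟨ha, hb, -⟩ := hreg
      refine ⟨a, hmem a (by simp), b, hmem b (by simp), ha, ?_⟩
      rw [isSMulRegular_quotient_iff_mem_of_smul_mem] at hb
      intro u hu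
      have h3 : b • u ∈ a • (⊤ : Submodule B B) := by
        rw [Submodule.mem_smul_pointwise_iff_exists]
        obtain ⟨w, hw⟩ := Ideal.mem_span_singleton'.1 hu
        exact ⟨w, trivial, by rw [smul_eq_mul, smul_eq_mul, ← hw, mul_comm]⟩
      obtain ⟨w, -, hw⟩ := (Submodule.mem_smul_pointwise_iff_exists _ _ _).1 (hb u h3)
      exact Ideal.mem_span_singleton'.2 ⟨w, by rw [← hw, smul_eq_mul, mul_comm]⟩

end regular

section spec

variable (B : Type u) [CommRing B] [IsNoetherianRing B]

theorem spec_bijective_res (J : Ideal B) (hdepth : (2 : ℕ∞) ≤ LocCoh.idealDepth J B)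
    (U : (Spec (CommRingCat.of B)).Opens)
    (hU : ∀ x : PrimeSpectrum B, x ∈ U ↔ ¬ J ≤ x.asIdeal) :
    Function.Bijective (res (X := Spec (CommRingCat.of B)) (le_top : U ≤ ⊤)) := by
  obtain ⟨a₀, ha₀, b₀, hb₀, hareg₀, hbreg₀⟩ := exists_regular_pair J hdepth
  let e : Γ(Spec (CommRingCat.of B), ⊤) ≃+* B :=
    (Scheme.ΓSpecIso (CommRingCat.of B)).commRingCatIsoToRingEquiv
  let I : Ideal Γ(Spec (CommRingCat.of B), ⊤) := J.comap e.toRingHom
  have hbasic : ∀ c : Γ(Spec (CommRingCat.of B), ⊤),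
      (Spec (CommRingCat.of B)).basicOpen c = PrimeSpectrum.basicOpen (e c) :=
    fun c => basicOpen_eq_of_affine' c
  have hesymm : ∀ r : B, e (e.symm r) = r := e.apply_symm_apply
  refine bijective_res (isAffineOpen_top _) I U le_top ?_ ?_ (e.symm a₀) (e.symm b₀) ?_ ?_ ?_ ?_
  · intro c hc x hx
    rw [hbasic] at hx
    exact (hU x).2 (fun hle => hx (hle hc))
  · intro x hx
    obtain ⟨c₀, hc₀, hcx⟩ := SetLike.not_le_iff_exists.1 ((hU x).1 hx)
    refine ⟨e.symm c₀, ?_, ?_⟩
    · show e (e.symm c₀) ∈ J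
      rw [hesymm]; exact hc₀
    · rw [hbasic, hesymm]
      exact hcx
  · show e (e.symm a₀) ∈ J
    rw [hesymm]; exact ha₀
  · show e (e.symm b₀) ∈ J
    rw [hesymm]; exact hb₀
  · intro x y hxy
    have hxy' : e.symm a₀ * x = e.symm a₀ * y := hxy
    have := congrArg e hxy'
    rw [map_mul, map_mul, hesymm] at this
    exact e.injective (hareg₀ this)
  · intro u hu
    obtain ⟨w, hw⟩ := Ideal.mem_span_singleton'.1 hu
    have h1 : b₀ * e u ∈ Ideal.span {a₀} := by
      rw [Ideal.mem_span_singleton']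
      refine ⟨e w, ?_⟩
      have := congrArg e hw
      rw [map_mul, map_mul, hesymm, hesymm] at this
      exact this
    obtain ⟨v, hv⟩ := Ideal.mem_span_singleton'.1 (hbreg₀ _ h1)
    rw [Ideal.mem_span_singleton']
    refine ⟨e.symm v, ?_⟩
    apply e.injective
    rw [map_mul, hesymm, hesymm, hv]

end spec

end Groth.Agent.Lib.Helper7.Hartogs
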