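import Groth.Agent.Lib.Helper7.DifferentRam
import Groth.Agent.Lib.Helper7.TracePerfect
import Mathlib.RingTheory.Discriminant
import Mathlib.RingTheory.Smooth.Fiber
import Mathlib.RingTheory.Finiteness.ModuleFinitePresentation

/-!
# A finite free algebra is étale iff its discriminant is a unit
-/

set_option autoImplicit false
set_option linter.unusedVariables false

namespace Groth.Agent.Lib.Helper7.EtaleDiscr

universe u v
variable {A : Type u} {B : Type v} [CommRing A] [CommRing B] [Algebra A B]

theorem isUnit_discr_of_etale {ι : Type*} [Fintype ι] [DecidableEq ι] (b : Module.Basis ι A B)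
    [Algebra.Etale A B] : IsUnit (Algebra.discr A b) := by
  haveI : Module.Finite A B := Module.Finite.of_basis b
  haveI : Module.Free A B := Module.Free.of_basis b
  have hx : ∀ j, ∃ x : B, ∀ a, Algebra.trace A B (x * a) = b.coord j a := fun j =>
    TracePerfect.exists_trace_mul_eq (b.coord j)
  choose x hx using hx
  rw [Algebra.discr_def]
  let N : Matrix ι ι A := Matrix.of fun k j => b.equivFun (x j) k
  apply Matrix.isUnit_det_of_right_inverse (B := N)
  ext i j
  have h1 := congrFun (Algebra.traceMatrix_of_basis_mulVec b (x j)) i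
  have h2 : (Algebra.traceMatrix A b * N) i j = (Algebra.traceMatrix A b).mulVec (b.equivFun (x j)) i := by
    simp [Matrix.mul_apply, Matrix.mulVec, dotProduct, N]
  rw [h2, h1, hx]
  simp [Matrix.one_apply, Finsupp.single_apply, eq_comm]

theorem exists_trace_eq_of_isUnit_discr {ι : Type*} [Fintype ι] [DecidableEq ι]
    (b : Module.Basis ι A B) (h : IsUnit (Algebra.discr A b)) (φ : B →ₗ[A] A) :
    ∃ c : B, ∀ x, φ x = Algebra.trace A B (c * x) := by
  rw [Algebra.discr_def] at h
  let M := Algebra.traceMatrix A b
  let w : ι → A := M⁻¹.mulVec (fun i => φ (b i))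
  let c : B := b.equivFun.symm w
  have h1 := Algebra.traceMatrix_of_basis_mulVec b c
  have h2 : M.mulVec (b.equivFun c) = fun i => φ (b i) := by
    simp only [c, LinearEquiv.apply_symm_apply, w, Matrix.mulVec_mulVec]
    rw [Matrix.mul_nonsing_inv _ h, Matrix.one_mulVec]
  refine ⟨c, fun x => ?_⟩
  have h3 : φ = (Algebra.trace A B) ∘ₗ (LinearMap.mulLeft A c) := by
    apply b.ext
    intro i
    have := congrFun (h2.symm.trans h1) i
    simpa using this
  rw [h3]
  rfl

theorem etale_of_isUnit_discr {ι : Type*} [Fintype ι] [DecidableEq ι] (b : Module.Basis ι A B)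
    (h : IsUnit (Algebra.discr A b)) : Algebra.Etale A B := by
  haveI : Module.Finite A B := Module.Finite.of_basis b
  haveI : Module.Free A B := Module.Free.of_basis b
  have h1 : (1 : B) ∈ Disc.differentSet A B := by
    intro φ
    obtain ⟨c, hc⟩ := exists_trace_eq_of_isUnit_discr b h φ
    exact ⟨c, fun x => by rw [one_mul]; exact hc x⟩
  have h2 : Disc.noetherDifferent A B = ⊤ := by
    rw [Ideal.eq_top_iff_one]
    simpa using DiffRam.sq_mem_noetherDifferent h1
  have h3 : Algebra.unramifiedLocus A B = Set.univ := by
    have := NoetherRam.zeroLocus_eq (A := A) (B := B)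
    rw [h2] at this
    rw [← compl_compl (Algebra.unramifiedLocus A B), ← this, Set.compl_univ_iff]
    ext q
    simp only [Set.mem_setOf_eq, Set.mem_empty_iff_false, iff_false, top_le_iff]
    exact q.isPrime.ne_top
  haveI : Algebra.FormallyUnramified A B := Algebra.unramifiedLocus_eq_univ_iff.1 h3
  haveI : Module.FinitePresentation A B := Module.finitePresentation_of_projective A B
  exact Algebra.Etale.of_formallyUnramified_of_flat

theorem etale_iff_isUnit_discr {ι : Type*} [Fintype ι] [DecidableEq ι] (b : Module.Basis ι A B) :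
    Algebra.Etale A B ↔ IsUnit (Algebra.discr A b) :=
  ⟨fun _ => isUnit_discr_of_etale b, etale_of_isUnit_discr b⟩

end Groth.Agent.Lib.Helper7.EtaleDiscr
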