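import Groth.Agent.Lib.Helper7.HartogsScheme
import Mathlib.AlgebraicGeometry.Morphisms.Flat
import Mathlib.RingTheory.Regular.Flat

/-!
# Depth and schematic density under flat morphisms

* `depth_le_of_flat`: `depth A ≤ depth B` for a flat local homomorphism `A → B`.
* `depth_stalk_le_of_flat`: the scheme version.
* `injective_res_preimage_of_flat`: the preimage of a schematically dense open under a flat
  morphism to a locally Noetherian scheme is schematically dense.
-/

set_option autoImplicit false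
set_option linter.unusedVariables false
set_option linter.style.haveILetI false

universe u

namespace Groth.Agent.Lib.Helper7.FlatDepth

open AlgebraicGeometry CategoryTheory Opposite TopologicalSpace RingTheory.Sequence
open Groth.Agent.Lib.Helper21.DepthKit

section alg

variable {A B : Type u} [CommRing A] [CommRing B] [IsLocalRing A] [IsLocalRing B]

theorem depth_le_of_flat (φ : A →+* B) [IsLocalHom φ] (hφ : φ.Flat) :
    LocCoh.depth A A ≤ LocCoh.depth B B := by
  classical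
  letI := φ.toAlgebra
  haveI : Module.Flat A B := hφ
  unfold LocCoh.depth LocCoh.idealDepth
  have h1 : ¬ (IsLocalRing.maximalIdeal A • (⊤ : Submodule A A) = ⊤) := by
    rw [smul_eq_mul, Ideal.mul_top]
    exact (IsLocalRing.maximalIdeal.isMaximal A).ne_top
  have h2 : ¬ (IsLocalRing.maximalIdeal B • (⊤ : Submodule B B) = ⊤) := by
    rw [smul_eq_mul, Ideal.mul_top]
    exact (IsLocalRing.maximalIdeal.isMaximal B).ne_top
  rw [if_neg h1, if_neg h2]
  refine iSup₂_le fun rs hrs => ?_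
  refine le_iSup₂_of_le (rs.map (algebraMap A B)) ⟨hrs.1.of_flat, ?_⟩ ?_
  · intro r hr
    obtain ⟨r₀, hr₀, rfl⟩ := List.mem_map.1 hr
    have := hrs.2 r₀ hr₀
    rw [IsLocalRing.mem_maximalIdeal, mem_nonunits_iff] at this ⊢
    intro hu
    exact this ((isUnit_map_iff φ r₀).1 hu)
  · rw [List.length_map]

end alg

section scheme

variable {X Y : Scheme.{u}} (f : X ⟶ Y) [Flat f]

theorem depth_stalk_le_of_flat (x : X) :
    LocCoh.depth (Y.presheaf.stalk (f x)) (Y.presheaf.stalk (f x)) ≤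
      LocCoh.depth (X.presheaf.stalk x) (X.presheaf.stalk x) :=
  depth_le_of_flat (f.stalkMap x).hom (Flat.stalkMap f x)

end scheme

section dense

open Groth.Agent.Lib.Helper7.Hartogs

variable {X Y : Scheme.{u}} [IsLocallyNoetherian Y] (f : X ⟶ Y) [Flat f] (V : Y.Opens)
  (hV : ∀ W : Y.Opens, Function.Injective (res (inf_le_left : W ⊓ V ≤ W)))

include hV in
/-- affine-local step -/
theorem eq_zero_of_res_preimage_eq_zero {W₀ : Y.Opens} (hW₀ : IsAffineOpen W₀) {W' : X.Opens}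
    (hW' : IsAffineOpen W') (e : W' ≤ f ⁻¹ᵁ W₀) (b : Γ(X, W'))
    (hb : res (inf_le_left : W' ⊓ f ⁻¹ᵁ V ≤ W') b = 0) : b = 0 := by
  haveI : IsNoetherianRing Γ(Y, W₀) := IsLocallyNoetherian.component_noetherian ⟨W₀, hW₀⟩
  let φ : Γ(Y, W₀) →+* Γ(X, W') := (f.appLE W₀ W' e).hom
  have hφ : φ.Flat := HasRingHomProperty.appLE (P := @Flat) f inferInstance ⟨W₀, hW₀⟩ ⟨W', hW'⟩ e
  -- the ideal of `r` with `φ r * b = 0`
  let J : Ideal Γ(Y, W₀) := (Ideal.span {b}).annihilator.comap φ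
  have hJ : ∀ r, r ∈ J ↔ φ r * b = 0 := by
    intro r
    show φ r ∈ (Ideal.span {b}).annihilator ↔ _
    rw [Submodule.mem_annihilator_span_singleton, smul_eq_mul]
  -- powers of functions with `D(c) ≤ V` lie in `J`
  have hpow : ∀ c : Γ(Y, W₀), Y.basicOpen c ≤ V → ∃ n : ℕ, c ^ n ∈ J := by
    intro c hc
    have hle : X.basicOpen (φ c) ≤ W' ⊓ f ⁻¹ᵁ V := by
      have h1 : X.basicOpen (φ c) = W' ⊓ f ⁻¹ᵁ (Y.basicOpen c) := Scheme.basicOpen_appLE f W' W₀ e c
      rw [h1]
      exact inf_le_inf_left _ (fun x hx => hc hx)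
    have h2 : res (X.basicOpen_le (φ c)) b = 0 := by
      have := congrArg (res hle) hb
      rw [res_res, map_zero] at this
      exact this
    haveI := hW'.isLocalization_basicOpen (φ c)
    rw [← algebraMap_eq_res, IsLocalization.map_eq_zero_iff (Submonoid.powers (φ c))] at h2
    obtain ⟨⟨_, n, rfl⟩, hn⟩ := h2
    refine ⟨n, (hJ _).2 ?_⟩
    rw [map_pow]
    exact hn
  -- `J` contains a regular element
  have hreg : ∃ r₀ ∈ J, IsSMulRegular Γ(Y, W₀) r₀ := by
    by_contra hcon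
    push_neg at hcon
    obtain ⟨q, hq, hJq⟩ := exists_le_associatedPrime_of_forall_not_isSMulRegular
      (M := Γ(Y, W₀)) J hcon
    obtain ⟨hqp, r, hr⟩ := isAssociatedPrime_iff.1 hq
    have hJr : ∀ j ∈ J, j * r = 0 := by
      intro j hj
      have : j ∈ (⊥ : Submodule Γ(Y, W₀) Γ(Y, W₀)).colon {r} := hr ▸ hJq hj
      rw [Submodule.mem_colon_singleton, Submodule.mem_bot] at this
      exact this
    have hr0 : r = 0 := by
      apply hV W₀
      rw [map_zero]
      apply TopCat.Sheaf.eq_of_locally_eq' Y.sheaf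
        (fun c : {c : Γ(Y, W₀) // Y.basicOpen c ≤ V} => Y.basicOpen c.1) (W₀ ⊓ V)
        (fun c => homOfLE (le_inf (Y.basicOpen_le c.1) c.2))
      · rintro x ⟨hxW, hxV⟩
        obtain ⟨c, hcV, hxc⟩ := hW₀.exists_basicOpen_le ⟨x, hxV⟩ hxW
        exact Opens.mem_iSup.2 ⟨⟨c, hcV⟩, hxc⟩
      · rintro ⟨c, hc⟩
        show res (le_inf (Y.basicOpen_le c) hc) (res inf_le_left r) =
          res (le_inf (Y.basicOpen_le c) hc) 0
        rw [res_res, map_zero]
        obtain ⟨n, hn⟩ := hpow c hc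
        have h3 := congrArg (res (Y.basicOpen_le c)) (hJr _ hn)
        rw [map_mul, map_pow, map_zero] at h3
        have hu : IsUnit (res (Y.basicOpen_le c) c) := RingedSpace.isUnit_res_basicOpen _ c
        exact (hu.pow n).mul_left_cancel (by rw [h3, mul_zero])
    apply hqp.ne_top
    rw [hr, hr0, Ideal.eq_top_iff_one, Submodule.mem_colon_singleton, smul_zero]
    exact Submodule.zero_mem _
  obtain ⟨r₀, hr₀J, hr₀⟩ := hreg
  -- `φ r₀` is regular on `Γ(X, W')` by flatness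
  letI := φ.toAlgebra
  haveI : Module.Flat Γ(Y, W₀) Γ(X, W') := hφ
  have h4 : IsWeaklyRegular Γ(Y, W₀) [r₀] := by
    rw [isWeaklyRegular_cons_iff]
    exact ⟨hr₀, IsWeaklyRegular.nil _ _⟩
  have h5 := h4.of_flat (S := Γ(X, W'))
  rw [List.map_cons, List.map_nil, isWeaklyRegular_cons_iff] at h5
  apply h5.1
  show φ r₀ • b = φ r₀ • 0
  rw [smul_eq_mul, smul_zero]
  exact (hJ r₀).1 hr₀J

include hV in
/-- the preimage of a schematically dense open under a flat morphism to a locally Noetherian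
scheme is schematically dense. -/
theorem injective_res_preimage_of_flat (V' : X.Opens) :
    Function.Injective (res (inf_le_left : V' ⊓ f ⁻¹ᵁ V ≤ V')) := by
  rw [injective_iff_map_eq_zero]
  intro b hb
  let ι := {W : X.affineOpens × Y.affineOpens //
    (W.1 : X.Opens) ≤ V' ∧ (W.1 : X.Opens) ≤ f ⁻¹ᵁ (W.2 : Y.Opens)}
  apply TopCat.Sheaf.eq_of_locally_eq' X.sheaf (fun W : ι => (W.1.1 : X.Opens)) V'
    (fun W => homOfLE W.2.1)
  · intro x hx
    obtain ⟨W₀, hW₀, hxW₀, -⟩ := exists_isAffineOpen_mem_and_subset (U := (⊤ : Y.Opens))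
      (x := f x) trivial
    have hx' : x ∈ V' ⊓ f ⁻¹ᵁ W₀ := ⟨hx, hxW₀⟩
    obtain ⟨W', hW', hxW', hW'le⟩ := exists_isAffineOpen_mem_and_subset hx'
    exact Opens.mem_iSup.2 ⟨⟨(⟨W', hW'⟩, ⟨W₀, hW₀⟩), ⟨fun y hy => (hW'le hy).1,
      fun y hy => (hW'le hy).2⟩⟩, hxW'⟩
  · rintro ⟨⟨⟨W', hW'⟩, ⟨W₀, hW₀⟩⟩, h1, h2⟩
    show res h1 b = res h1 0
    rw [map_zero]
    apply eq_zero_of_res_preimage_eq_zero f V hV hW₀ hW' h2
    rw [res_res]
    have h3 : res ((inf_le_left : W' ⊓ f ⁻¹ᵁ V ≤ W').trans h1) b =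
        res (inf_le_inf_right _ h1 : W' ⊓ f ⁻¹ᵁ V ≤ V' ⊓ f ⁻¹ᵁ V) (res inf_le_left b) := by
      rw [res_res]
    rw [h3, hb, map_zero]

end dense

end Groth.Agent.Lib.Helper7.FlatDepth
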