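import Groth.Agent.S2848
import Groth.Agent.Lib.Helper7.FlatDepth
import Mathlib.AlgebraicGeometry.Morphisms.Affine

/-!
# Extending morphisms into schemes affine over the base across a locus of depth `≥ 2`

`S` a scheme, `U ⊆ S` open with `depth 𝒪_{S,s} ≥ 2` for `s ∉ U`, `g : T ⟶ S` flat with `T` locally
Noetherian, `f : Y ⟶ S` affine.  Then every `S`-morphism `g⁻¹U ⟶ Y` extends uniquely to an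
`S`-morphism `T ⟶ Y`.

* `depth_of_flat`: the depth hypothesis lifts to `T`.
* `eq_of_res_eq`: uniqueness.
* `exists_extension`: existence.
-/

set_option autoImplicit false
set_option linter.unusedVariables false
set_option linter.style.haveILetI false

universe u

namespace Groth.Agent.Lib.Helper7.ExtendAffine

open AlgebraicGeometry CategoryTheory CategoryTheory.Limits Opposite TopologicalSpace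

variable {S T Y : Scheme.{u}} (g : T ⟶ S) (f : Y ⟶ S) (U : S.Opens)

theorem depth_of_flat [Flat g]
    (hU : ∀ s : S, s ∉ U → (2 : ℕ∞) ≤ LocCoh.depth (S.presheaf.stalk s) (S.presheaf.stalk s))
    (x : T) (hx : x ∉ g ⁻¹ᵁ U) :
    (2 : ℕ∞) ≤ LocCoh.depth (T.presheaf.stalk x) (T.presheaf.stalk x) :=
  (hU (g x) hx).trans (FlatDepth.depth_stalk_le_of_flat g x)

variable [IsLocallyNoetherian T] [Flat g] [IsAffineHom f]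
  (hU : ∀ s : S, s ∉ U → (2 : ℕ∞) ≤ LocCoh.depth (S.presheaf.stalk s) (S.presheaf.stalk s))

include hU

/-- Local uniqueness. -/
theorem eq_of_res_eq_of_affine {W : S.Opens} (hW : IsAffineOpen W) (hgW : g ⁻¹ᵁ W = ⊤)
    (ψ ψ' : T ⟶ Y) (h1 : ψ ≫ f = g) (h2 : ψ' ≫ f = g)
    (hres : (g ⁻¹ᵁ U).ι ≫ ψ = (g ⁻¹ᵁ U).ι ≫ ψ') : ψ = ψ' := by
  haveI : IsAffine ↑(f ⁻¹ᵁ W) := hW.preimage f
  have hr : ∀ χ : T ⟶ Y, χ ≫ f = g → Set.range χ ⊆ Set.range (f ⁻¹ᵁ W).ι := by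
    intro χ hχ
    rintro _ ⟨x, rfl⟩
    rw [Scheme.Opens.range_ι]
    show f (χ x) ∈ W
    have : f (χ x) = g x := by rw [← hχ]; rfl
    rw [this]
    have hx : x ∈ g ⁻¹ᵁ W := by rw [hgW]; trivial
    exact hx
  let ψ₀ := IsOpenImmersion.lift (f ⁻¹ᵁ W).ι ψ (hr ψ h1)
  let ψ₀' := IsOpenImmersion.lift (f ⁻¹ᵁ W).ι ψ' (hr ψ' h2)
  have e : ψ₀ ≫ (f ⁻¹ᵁ W).ι = ψ := IsOpenImmersion.lift_fac _ _ _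
  have e' : ψ₀' ≫ (f ⁻¹ᵁ W).ι = ψ' := IsOpenImmersion.lift_fac _ _ _
  obtain ⟨k, -, huniq⟩ := Groth.Agent.S2848.result T ↑(f ⁻¹ᵁ W) (g ⁻¹ᵁ U)
    (depth_of_flat g U hU) ((g ⁻¹ᵁ U).ι ≫ ψ₀)
  have h0 : ψ₀' = ψ₀ := by
    rw [huniq ψ₀ rfl]
    apply huniq
    rw [← cancel_mono (f ⁻¹ᵁ W).ι, Category.assoc, Category.assoc, e, e', hres]
  rw [← e, ← e', h0]

/-- Local existence. -/
theorem exists_extension_of_affine {W : S.Opens} (hW : IsAffineOpen W) (hgW : g ⁻¹ᵁ W = ⊤)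
    (ψU : ((g ⁻¹ᵁ U : T.Opens) : Scheme.{u}) ⟶ Y) (hψU : ψU ≫ f = (g ⁻¹ᵁ U).ι ≫ g) :
    ∃ ψ : T ⟶ Y, ψ ≫ f = g ∧ (g ⁻¹ᵁ U).ι ≫ ψ = ψU := by
  haveI : IsAffine ↑(f ⁻¹ᵁ W) := hW.preimage f
  haveI : IsAffine ↑W := hW
  have hgx : ∀ x : T, g x ∈ W := by
    intro x
    have hx : x ∈ g ⁻¹ᵁ W := by rw [hgW]; trivial
    exact hx
  have hr : Set.range ψU ⊆ Set.range (f ⁻¹ᵁ W).ι := by
    rintro _ ⟨x, rfl⟩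
    rw [Scheme.Opens.range_ι]
    show f (ψU x) ∈ W
    have : f (ψU x) = g ((g ⁻¹ᵁ U).ι x) := by
      change (ψU ≫ f) x = ((g ⁻¹ᵁ U).ι ≫ g) x
      rw [hψU]
    rw [this]
    exact hgx _
  let ψU' := IsOpenImmersion.lift (f ⁻¹ᵁ W).ι ψU hr
  have hψU' : ψU' ≫ (f ⁻¹ᵁ W).ι = ψU := IsOpenImmersion.lift_fac _ _ _
  obtain ⟨ψ', hψ', -⟩ := Groth.Agent.S2848.result T ↑(f ⁻¹ᵁ W) (g ⁻¹ᵁ U)
    (depth_of_flat g U hU) ψU'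
  have hgr : Set.range g ⊆ Set.range W.ι := by
    rintro _ ⟨x, rfl⟩
    rw [Scheme.Opens.range_ι]
    exact hgx x
  let g' := IsOpenImmersion.lift W.ι g hgr
  have hg' : g' ≫ W.ι = g := IsOpenImmersion.lift_fac _ _ _
  have key : ψ' ≫ (f ∣_ W) = g' := by
    obtain ⟨k, -, huniq⟩ := Groth.Agent.S2848.result T ↑W (g ⁻¹ᵁ U)
      (depth_of_flat g U hU) ((g ⁻¹ᵁ U).ι ≫ g')
    rw [huniq g' rfl]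
    apply huniq
    rw [← cancel_mono W.ι, Category.assoc, Category.assoc, Category.assoc, morphismRestrict_ι, hg',
      ← Category.assoc, hψ', ← Category.assoc, hψU', hψU]
  refine ⟨ψ' ≫ (f ⁻¹ᵁ W).ι, ?_, by rw [← Category.assoc, hψ', hψU']⟩
  rw [Category.assoc, ← morphismRestrict_ι, ← Category.assoc, key, hg']

omit hU [IsLocallyNoetherian T] [Flat g] [IsAffineHom f] in
theorem exists_affineOpen_mem (s : S) : ∃ W : S.Opens, IsAffineOpen W ∧ s ∈ W := by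
  obtain ⟨W, hW, hs, -⟩ := Opens.isBasis_iff_nbhd.mp (S.isBasis_affineOpens)
    (show s ∈ (⊤ : S.Opens) from trivial)
  exact ⟨W, hW, hs⟩

omit hU [IsLocallyNoetherian T] [Flat g] [IsAffineHom f] in
theorem exists_lift {T' : Scheme.{u}} (j : T' ⟶ T) :
    ∃ r : ((((j ≫ g) ⁻¹ᵁ U : T'.Opens)) : Scheme.{u}) ⟶ ((g ⁻¹ᵁ U : T.Opens) : Scheme.{u}),
      r ≫ (g ⁻¹ᵁ U).ι = ((j ≫ g) ⁻¹ᵁ U).ι ≫ j := by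
  refine ⟨IsOpenImmersion.lift (g ⁻¹ᵁ U).ι (((j ≫ g) ⁻¹ᵁ U).ι ≫ j) ?_,
    IsOpenImmersion.lift_fac _ _ _⟩
  rintro _ ⟨y, rfl⟩
  rw [Scheme.Opens.range_ι]
  exact y.2

/-- Uniqueness. -/
theorem eq_of_res_eq (ψ ψ' : T ⟶ Y) (h1 : ψ ≫ f = g) (h2 : ψ' ≫ f = g)
    (hres : (g ⁻¹ᵁ U).ι ≫ ψ = (g ⁻¹ᵁ U).ι ≫ ψ') : ψ = ψ' := by
  apply Scheme.hom_ext_of_forall
  intro x
  obtain ⟨W, hW, hxW⟩ := exists_affineOpen_mem (S := S) (g x)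
  refine ⟨g ⁻¹ᵁ W, hxW, ?_⟩
  refine eq_of_res_eq_of_affine ((g ⁻¹ᵁ W).ι ≫ g) f U hU hW ?_ _ _
    (by rw [Category.assoc, h1]) (by rw [Category.assoc, h2]) ?_
  · rw [Scheme.Hom.comp_preimage, Scheme.Opens.ι_preimage_self]
  · obtain ⟨r, hr⟩ := exists_lift g U (g ⁻¹ᵁ W).ι
    rw [← Category.assoc, ← Category.assoc, ← hr, Category.assoc, Category.assoc, hres]

omit hU [IsLocallyNoetherian T] [Flat g] [IsAffineHom f] in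
theorem exists_lift' {T' : Scheme.{u}} (j : T' ⟶ T) (g' : T' ⟶ S) (hg' : j ≫ g = g') :
    ∃ r : (((g' ⁻¹ᵁ U : T'.Opens)) : Scheme.{u}) ⟶ ((g ⁻¹ᵁ U : T.Opens) : Scheme.{u}),
      r ≫ (g ⁻¹ᵁ U).ι = (g' ⁻¹ᵁ U).ι ≫ j := by
  subst hg'
  exact exists_lift g U j

/-- Local extensions on the preimages of affine opens of the base. -/
theorem exists_local_extension (ψU : ((g ⁻¹ᵁ U : T.Opens) : Scheme.{u}) ⟶ Y)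
    (hψU : ψU ≫ f = (g ⁻¹ᵁ U).ι ≫ g) (W : S.affineOpens) :
    ∃ ψ : ((g ⁻¹ᵁ W.1 : T.Opens) : Scheme.{u}) ⟶ Y, ψ ≫ f = (g ⁻¹ᵁ W.1).ι ≫ g ∧
      ∀ r : (((((g ⁻¹ᵁ W.1).ι ≫ g) ⁻¹ᵁ U : (g ⁻¹ᵁ W.1).toScheme.Opens)) : Scheme.{u}) ⟶
          ((g ⁻¹ᵁ U : T.Opens) : Scheme.{u}),
        r ≫ (g ⁻¹ᵁ U).ι = (((g ⁻¹ᵁ W.1).ι ≫ g) ⁻¹ᵁ U).ι ≫ (g ⁻¹ᵁ W.1).ι →
        (((g ⁻¹ᵁ W.1).ι ≫ g) ⁻¹ᵁ U).ι ≫ ψ = r ≫ ψU := by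
  obtain ⟨r₀, hr₀⟩ := exists_lift g U (g ⁻¹ᵁ W.1).ι
  obtain ⟨ψ, h1, h2⟩ := exists_extension_of_affine ((g ⁻¹ᵁ W.1).ι ≫ g) f U hU W.2
    (by rw [Scheme.Hom.comp_preimage, Scheme.Opens.ι_preimage_self]) (r₀ ≫ ψU)
    (by rw [Category.assoc, hψU, ← Category.assoc, hr₀, Category.assoc])
  refine ⟨ψ, h1, fun r hr => ?_⟩
  have : r = r₀ := by rw [← cancel_mono (g ⁻¹ᵁ U).ι, hr, hr₀]
  rw [h2, this]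

/-- Existence. -/
theorem exists_extension (ψU : ((g ⁻¹ᵁ U : T.Opens) : Scheme.{u}) ⟶ Y)
    (hψU : ψU ≫ f = (g ⁻¹ᵁ U).ι ≫ g) :
    ∃ ψ : T ⟶ Y, ψ ≫ f = g ∧ (g ⁻¹ᵁ U).ι ≫ ψ = ψU := by
  choose ψi h1 h2 using exists_local_extension g f U hU ψU hψU
  have hcov : IsOpenCover (fun W : S.affineOpens => g ⁻¹ᵁ W.1) := by
    rw [IsOpenCover, eq_top_iff]
    intro x _
    obtain ⟨W, hW, hxW⟩ := exists_affineOpen_mem (S := S) (g x)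
    exact Opens.mem_iSup.2 ⟨⟨W, hW⟩, hxW⟩
  have hcompat : ∀ W W' : S.affineOpens,
      pullback.fst (g ⁻¹ᵁ W.1).ι (g ⁻¹ᵁ W'.1).ι ≫ ψi W =
        pullback.snd (g ⁻¹ᵁ W.1).ι (g ⁻¹ᵁ W'.1).ι ≫ ψi W' := by
    intro W W'
    have hc : pullback.fst (g ⁻¹ᵁ W.1).ι (g ⁻¹ᵁ W'.1).ι ≫ (g ⁻¹ᵁ W.1).ι =
        pullback.snd (g ⁻¹ᵁ W.1).ι (g ⁻¹ᵁ W'.1).ι ≫ (g ⁻¹ᵁ W'.1).ι := pullback.condition
    haveI : IsLocallyNoetherian (pullback (g ⁻¹ᵁ W.1).ι (g ⁻¹ᵁ W'.1).ι) :=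
      isLocallyNoetherian_of_isOpenImmersion
        (pullback.fst (g ⁻¹ᵁ W.1).ι (g ⁻¹ᵁ W'.1).ι ≫ (g ⁻¹ᵁ W.1).ι)
    let gP : pullback (g ⁻¹ᵁ W.1).ι (g ⁻¹ᵁ W'.1).ι ⟶ S :=
      pullback.fst (g ⁻¹ᵁ W.1).ι (g ⁻¹ᵁ W'.1).ι ≫ (g ⁻¹ᵁ W.1).ι ≫ g
    haveI : Flat gP := by dsimp only [gP]; infer_instance
    obtain ⟨r₁, hr₁⟩ := exists_lift' ((g ⁻¹ᵁ W.1).ι ≫ g) U
      (pullback.fst (g ⁻¹ᵁ W.1).ι (g ⁻¹ᵁ W'.1).ι) gP rfl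
    obtain ⟨r₂, hr₂⟩ := exists_lift' ((g ⁻¹ᵁ W'.1).ι ≫ g) U
      (pullback.snd (g ⁻¹ᵁ W.1).ι (g ⁻¹ᵁ W'.1).ι) gP
      (by dsimp only [gP]; rw [← Category.assoc, ← hc, Category.assoc])
    obtain ⟨q₁, hq₁⟩ := exists_lift g U (g ⁻¹ᵁ W.1).ι
    obtain ⟨q₂, hq₂⟩ := exists_lift g U (g ⁻¹ᵁ W'.1).ι
    refine eq_of_res_eq gP f U hU _ _ ?_ ?_ ?_
    · rw [Category.assoc, h1]
    · rw [Category.assoc, h1, ← Category.assoc, ← hc, Category.assoc]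
    · rw [← Category.assoc, ← hr₁, Category.assoc, h2 W q₁ hq₁, ← Category.assoc (gP ⁻¹ᵁ U).ι,
        ← hr₂, Category.assoc, h2 W' q₂ hq₂, ← Category.assoc, ← Category.assoc]
      congr 1
      rw [← cancel_mono (g ⁻¹ᵁ U).ι, Category.assoc, Category.assoc, hq₁, hq₂, ← Category.assoc,
        ← Category.assoc, hr₁, hr₂, Category.assoc, Category.assoc, hc]
  let 𝒰 : T.OpenCover := T.openCoverOfIsOpenCover _ hcov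
  let ψ : T ⟶ Y := 𝒰.glueMorphisms ψi hcompat
  have e2 : ∀ W : S.affineOpens, (g ⁻¹ᵁ W.1).ι ≫ ψ = ψi W := fun W =>
    Scheme.Cover.ι_glueMorphisms 𝒰 ψi hcompat W
  refine ⟨ψ, ?_, ?_⟩
  · refine 𝒰.hom_ext _ _ fun W => ?_
    show (g ⁻¹ᵁ W.1).ι ≫ ψ ≫ f = (g ⁻¹ᵁ W.1).ι ≫ g
    rw [← Category.assoc, e2, h1]
  · refine Scheme.Cover.hom_ext (𝒰.pullback₁ (g ⁻¹ᵁ U).ι) _ _ fun W => ?_
    show pullback.fst (g ⁻¹ᵁ U).ι (g ⁻¹ᵁ W.1).ι ≫ (g ⁻¹ᵁ U).ι ≫ ψ =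
      pullback.fst (g ⁻¹ᵁ U).ι (g ⁻¹ᵁ W.1).ι ≫ ψU
    have hc : pullback.fst (g ⁻¹ᵁ U).ι (g ⁻¹ᵁ W.1).ι ≫ (g ⁻¹ᵁ U).ι =
        pullback.snd (g ⁻¹ᵁ U).ι (g ⁻¹ᵁ W.1).ι ≫ (g ⁻¹ᵁ W.1).ι := pullback.condition
    obtain ⟨q, hq⟩ := exists_lift g U (g ⁻¹ᵁ W.1).ι
    have hr : Set.range (pullback.snd (g ⁻¹ᵁ U).ι (g ⁻¹ᵁ W.1).ι) ⊆
        Set.range (((g ⁻¹ᵁ W.1).ι ≫ g) ⁻¹ᵁ U).ι := by
      rintro _ ⟨y, rfl⟩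
      rw [Scheme.Opens.range_ι]
      show g ((g ⁻¹ᵁ W.1).ι (pullback.snd (g ⁻¹ᵁ U).ι (g ⁻¹ᵁ W.1).ι y)) ∈ U
      have e : (g ⁻¹ᵁ W.1).ι (pullback.snd (g ⁻¹ᵁ U).ι (g ⁻¹ᵁ W.1).ι y) =
          (g ⁻¹ᵁ U).ι (pullback.fst (g ⁻¹ᵁ U).ι (g ⁻¹ᵁ W.1).ι y) := by
        change (pullback.snd (g ⁻¹ᵁ U).ι (g ⁻¹ᵁ W.1).ι ≫ (g ⁻¹ᵁ W.1).ι) y =
          (pullback.fst (g ⁻¹ᵁ U).ι (g ⁻¹ᵁ W.1).ι ≫ (g ⁻¹ᵁ U).ι) y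
        rw [hc]
      rw [e]
      exact (pullback.fst (g ⁻¹ᵁ U).ι (g ⁻¹ᵁ W.1).ι y).2
    let q' := IsOpenImmersion.lift (((g ⁻¹ᵁ W.1).ι ≫ g) ⁻¹ᵁ U).ι
      (pullback.snd (g ⁻¹ᵁ U).ι (g ⁻¹ᵁ W.1).ι) hr
    have hq' : q' ≫ (((g ⁻¹ᵁ W.1).ι ≫ g) ⁻¹ᵁ U).ι = pullback.snd (g ⁻¹ᵁ U).ι (g ⁻¹ᵁ W.1).ι :=
      IsOpenImmersion.lift_fac _ _ _
    have e1 : q' ≫ q = pullback.fst (g ⁻¹ᵁ U).ι (g ⁻¹ᵁ W.1).ι := by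
      rw [← cancel_mono (g ⁻¹ᵁ U).ι, Category.assoc, hq, ← Category.assoc, hq', hc]
    rw [← Category.assoc, hc, Category.assoc, e2, ← hq', Category.assoc, h2 W q hq,
      ← Category.assoc, e1]

end Groth.Agent.Lib.Helper7.ExtendAffine
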