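import Groth.Agent.Lib.Helper7.ExtendAffine
import Groth.Prelude.Def_FEt
import Mathlib.AlgebraicGeometry.Morphisms.Finite
import Mathlib.AlgebraicGeometry.Morphisms.Etale

/-!
# Restriction of finite étale covers to an open with complement of depth `≥ 2` is fully faithful
-/

set_option autoImplicit false
set_option linter.unusedVariables false
set_option linter.style.haveILetI false

universe u

namespace Groth.Agent.Lib.Helper7.ExtendFEt

open AlgebraicGeometry CategoryTheory CategoryTheory.Limits Opposite TopologicalSpace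
open Groth.Agent.Lib.Helper7.ExtendAffine

variable {X : Scheme.{u}} [IsLocallyNoetherian X] (U : X.Opens)
  (h : ∀ x : X, x ∉ U → (2 : ℕ∞) ≤ LocCoh.depth (X.presheaf.stalk x) (X.presheaf.stalk x))

include h

theorem full_restrict : (FEt.restrict U.ι).Full := by
  refine ⟨fun {A B} φ => ?_⟩
  have hA : IsFinite A.hom ∧ Etale A.hom := A.prop
  have hB : IsFinite B.hom ∧ Etale B.hom := B.prop
  let fA : A.left ⟶ X := A.hom
  let fB : B.left ⟶ X := B.hom
  haveI : IsFinite fA := hA.1
  haveI : Etale fA := hA.2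
  haveI : IsFinite fB := hB.1
  haveI : Etale fB := hB.2
  haveI : IsLocallyNoetherian A.left := LocallyOfFiniteType.isLocallyNoetherian fA
  let φl : pullback fA U.ι ⟶ pullback fB U.ι := φ.left
  have hφ : φl ≫ pullback.snd fB U.ι = pullback.snd fA U.ι := Over.w φ.hom
  let e₁ := pullbackRestrictIsoRestrict fA U
  have he₁ : e₁.inv ≫ pullback.fst fA U.ι = (fA ⁻¹ᵁ U).ι :=
    pullbackRestrictIsoRestrict_inv_fst fA U
  have he₁' : e₁.hom ≫ (fA ⁻¹ᵁ U).ι = pullback.fst fA U.ι :=
    pullbackRestrictIsoRestrict_hom_ι fA U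
  obtain ⟨ψ₀, h1, h2⟩ := exists_extension fA fB U h
    (e₁.inv ≫ φl ≫ pullback.fst fB U.ι) (by
      rw [Category.assoc, Category.assoc, pullback.condition, ← Category.assoc φl, hφ,
        ← pullback.condition, ← Category.assoc, he₁])
  have hψ₁ : pullback.fst fA U.ι ≫ ψ₀ = φl ≫ pullback.fst fB U.ι := by
    rw [← he₁', Category.assoc, h2, Iso.hom_inv_id_assoc]
  refine ⟨MorphismProperty.Over.homMk ψ₀ h1 trivial, ?_⟩
  apply MorphismProperty.Over.Hom.ext
  simp only [FEt.restrict, MorphismProperty.Over.pullback_map_left]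
  apply pullback.hom_ext
  · rw [pullback.lift_fst]
    exact hψ₁
  · rw [pullback.lift_snd]
    exact hφ.symm

theorem faithful_restrict : (FEt.restrict U.ι).Faithful := by
  refine ⟨fun {A B} a b hab => ?_⟩
  have hA : IsFinite A.hom ∧ Etale A.hom := A.prop
  have hB : IsFinite B.hom ∧ Etale B.hom := B.prop
  let fA : A.left ⟶ X := A.hom
  let fB : B.left ⟶ X := B.hom
  haveI : IsFinite fA := hA.1
  haveI : Etale fA := hA.2
  haveI : IsFinite fB := hB.1
  haveI : Etale fB := hB.2
  haveI : IsLocallyNoetherian A.left := LocallyOfFiniteType.isLocallyNoetherian fA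
  have hl : pullback.fst fA U.ι ≫ a.left = pullback.fst fA U.ι ≫ b.left := by
    have := congrArg (fun φ => φ.left ≫ pullback.fst B.hom U.ι) hab
    simp only [FEt.restrict, MorphismProperty.Over.pullback_map_left] at this
    exact (pullback.lift_fst _ _ _).symm.trans (this.trans (pullback.lift_fst _ _ _))
  have he₁ : (pullbackRestrictIsoRestrict fA U).inv ≫ pullback.fst fA U.ι =
      (fA ⁻¹ᵁ U).ι := pullbackRestrictIsoRestrict_inv_fst fA U
  have h4 : a.left = b.left := eq_of_res_eq fA fB U h a.left b.left (Over.w a.hom)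
    (Over.w b.hom) (by rw [← he₁, Category.assoc, Category.assoc, hl])
  exact MorphismProperty.Over.Hom.ext h4

end Groth.Agent.Lib.Helper7.ExtendFEt
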