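import Groth.Agent.Lib.Helper7.ExtendFEt
import Groth.Agent.Lib.Helper7.SpecConn
import Mathlib.RingTheory.RingHom.Etale
import Mathlib.RingTheory.RingHom.Finite

/-!
# Sections of finite étale covers over an open with complement of depth `≥ 2`
-/

set_option autoImplicit false
set_option linter.unusedVariables false
set_option linter.style.haveILetI false

universe u

namespace Groth.Agent.Lib.Helper7.ExtendFEt

open AlgebraicGeometry CategoryTheory CategoryTheory.Limits Opposite TopologicalSpace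
open Groth.Agent.Lib.Helper7.ExtendAffine Groth.Agent.Lib.Helper7.Hartogs

/-- the depth hypothesis for the punctured spectrum of a local ring of depth `≥ 2` -/
theorem depth_punctured (A : Type u) [CommRing A] [IsLocalRing A]
    (hA : (2 : ℕ∞) ≤ LocCoh.depth A A) :
    ∀ x : (Spec (CommRingCat.of A) : Scheme.{u}), x ∉ FEt.puncturedSpec A →
      (2 : ℕ∞) ≤ LocCoh.depth ((Spec (CommRingCat.of A)).presheaf.stalk x)
        ((Spec (CommRingCat.of A)).presheaf.stalk x) := by
  intro x hx
  have hx' : x = IsLocalRing.closedPoint A := by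
    by_contra hne
    exact hx hne
  rw [Groth.Agent.Lib.Helper7.SpecConn.depth_stalk_Spec A x]
  subst hx'
  have e : A ≃+* Localization.AtPrime (IsLocalRing.closedPoint A).asIdeal :=
    (IsLocalization.atUnits A (IsLocalRing.closedPoint A).asIdeal.primeCompl
      (S := Localization.AtPrime (IsLocalRing.closedPoint A).asIdeal)
      (fun a ha => IsLocalRing.notMem_maximalIdeal.mp ha)).toRingEquiv
  rw [← depth_eq_of_ringEquiv e]
  exact hA

theorem isIso_appTop_of_isIso {X Y : Scheme.{u}} (f : X ⟶ Y) [IsIso f] : IsIso f.appTop :=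
  inferInstanceAs (IsIso (f.app ⊤))

section

variable {S T : Scheme.{u}} (g : T ⟶ S) [Flat g] [IsLocallyNoetherian T] (U : S.Opens)
  (hU : ∀ s : S, s ∉ U → (2 : ℕ∞) ≤ LocCoh.depth (S.presheaf.stalk s) (S.presheaf.stalk s))

include hU

theorem bijective_appTop_ι :
    Function.Bijective ((g ⁻¹ᵁ U).ι.appTop.hom : Γ(T, ⊤) → Γ(((g ⁻¹ᵁ U : T.Opens) : Scheme.{u}), ⊤)) := by
  have h0 := bijective_res_of_depth (g ⁻¹ᵁ U) (depth_of_flat g U hU) ⊤
  have e : (⊤ : T.Opens) ⊓ (g ⁻¹ᵁ U) = (g ⁻¹ᵁ U).ι ''ᵁ ⊤ := by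
    rw [(g ⁻¹ᵁ U).ι_image_top, top_inf_eq]
  have key : ∀ (V₁ V₂ : T.Opens) (e : V₁ = V₂) (h₁ : V₁ ≤ ⊤) (h₂ : V₂ ≤ ⊤),
      Function.Bijective (res h₁) → Function.Bijective (res h₂) := by
    intro V₁ V₂ e h₁ h₂ h
    subst e
    exact h
  exact key _ _ e _ le_top h0

theorem isIso_appTop_fst : IsIso (pullback.fst g U.ι).appTop := by
  have he : (pullbackRestrictIsoRestrict g U).hom ≫ (g ⁻¹ᵁ U).ι = pullback.fst g U.ι :=
    pullbackRestrictIsoRestrict_hom_ι g U
  rw [← he, Scheme.Hom.comp_appTop]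
  haveI : IsIso (g ⁻¹ᵁ U).ι.appTop :=
    (ConcreteCategory.isIso_iff_bijective _).2 (bijective_appTop_ι g U hU)
  haveI : IsIso (pullbackRestrictIsoRestrict g U).hom.appTop := isIso_appTop_of_isIso _
  infer_instance

end

/-- Sections of the restriction of a finite étale cover. -/
theorem finite_etale_sections {X : Scheme.{u}} [IsAffine X] [IsLocallyNoetherian X] (U : X.Opens)
    (h : ∀ x : X, x ∉ U → (2 : ℕ∞) ≤ LocCoh.depth (X.presheaf.stalk x) (X.presheaf.stalk x))
    (V : FEt.Cat (U : Scheme.{u})) (Y : FEt.Cat X) (e : (FEt.restrict U.ι).obj Y ≅ V) :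
    (V.hom ≫ U.ι).appTop.hom.Finite ∧ (V.hom ≫ U.ι).appTop.hom.Etale := by
  have hY : IsFinite Y.hom ∧ Etale Y.hom := Y.prop
  let fY : Y.left ⟶ X := Y.hom
  haveI : IsFinite fY := hY.1
  haveI : Etale fY := hY.2
  haveI : IsAffine Y.left := isAffine_of_isAffineHom fY
  haveI : IsLocallyNoetherian Y.left := LocallyOfFiniteType.isLocallyNoetherian fY
  let a : pullback fY U.ι ⟶ V.left := e.hom.left
  let b : V.left ⟶ pullback fY U.ι := e.inv.left
  have hba : b ≫ a = 𝟙 _ := by
    have := congrArg (fun φ => φ.left) e.inv_hom_id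
    exact this
  have ha : a ≫ V.hom = pullback.snd fY U.ι := Over.w e.hom.hom
  haveI : IsIso (pullback.fst fY U.ι).appTop := isIso_appTop_fst fY U h
  haveI : IsIso a.appTop := by
    haveI : IsIso a := by
      have hab : a ≫ b = 𝟙 _ := by
        have := congrArg (fun φ => φ.left) e.hom_inv_id
        exact this
      exact ⟨b, hab, hba⟩
    exact isIso_appTop_of_isIso a
  have key : (V.hom ≫ U.ι).appTop ≫ a.appTop = fY.appTop ≫ (pullback.fst fY U.ι).appTop := by
    rw [← Scheme.Hom.comp_appTop, ← Scheme.Hom.comp_appTop, ← Category.assoc, ha,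
      pullback.condition]
  have key2 : (V.hom ≫ U.ι).appTop = fY.appTop ≫ (pullback.fst fY U.ι).appTop ≫ inv a.appTop := by
    rw [← Category.assoc, ← key, Category.assoc, IsIso.hom_inv_id, Category.comp_id]
  rw [key2]
  constructor
  · have h1 : fY.appTop.hom.Finite := Scheme.Hom.finite_appTop fY
    exact (RingHom.finite_respectsIso.cancel_right_isIso fY.appTop
      ((pullback.fst fY U.ι).appTop ≫ inv a.appTop)).2 h1
  · have h1 : fY.appTop.hom.Etale := (HasRingHomProperty.iff_of_isAffine (P := @Etale)).1 ‹_›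
    exact (RingHom.Etale.respectsIso.cancel_right_isIso fY.appTop
      ((pullback.fst fY U.ι).appTop ≫ inv a.appTop)).2 h1

end Groth.Agent.Lib.Helper7.ExtendFEt
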