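import Mathlib
import Groth.Agent.Lib.Helper7.FlatLocalGlobal

/-!
# A flat finite type algebra which is locally (on the base) finitely presented is finitely presented
when the base embeds in a finite product of its local rings.
-/

set_option autoImplicit false

namespace Groth.Agent.Lib.Helper7.FPAlgLocal

open TensorProduct Function

universe u

section Local

variable {R P S : Type u} [CommRing R] [CommRing P] [CommRing S] [Algebra R P] [Algebra R S]
  [Algebra P S] [IsScalarTower R P S] [Algebra.FiniteType R P]

local notation "TP" p => Algebra.algebraMapSubmonoid P (Ideal.primeCompl p)
local notation "TS" p => Algebra.algebraMapSubmonoid S (Ideal.primeCompl p)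

set_option maxHeartbeats 800000 in
set_option synthInstance.maxHeartbeats 100000 in
/-- if `P → S` is surjective and `S_p` is a finitely presented `R_p`-algebra then `S_p` is a
finitely presented `P_p`-module. -/
theorem finitePresentation_localizedModule (hsurj : Surjective (algebraMap P S))
    (p : Ideal R) [p.IsPrime]
    (hfp : Algebra.FinitePresentation (Localization.AtPrime p)
      (Localization (Algebra.algebraMapSubmonoid S p.primeCompl))) :
    Module.FinitePresentation (Localization (Algebra.algebraMapSubmonoid P p.primeCompl))
      (LocalizedModule (Algebra.algebraMapSubmonoid P p.primeCompl) S) := by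
  have hTS' : Algebra.algebraMapSubmonoid S (TP p) = TS p :=
    Algebra.algebraMapSubmonoid_map_map _
  let g : Localization (TP p) →ₐ[Localization.AtPrime p] Localization (TS p) :=
    IsLocalization.mapₐ p.primeCompl (Localization.AtPrime p) (Localization (TP p))
      (Localization (TS p)) (IsScalarTower.toAlgHom R P S)
  letI algPS : Algebra (Localization (TP p)) (Localization (TS p)) := g.toRingHom.toAlgebra
  have halg : ∀ x, algebraMap (Localization (TP p)) (Localization (TS p)) x = g x := fun x => rfl
  have hgalg : ∀ x : P, g (algebraMap P (Localization (TP p)) x) =
      algebraMap S (Localization (TS p)) (algebraMap P S x) := by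
    intro x
    simp only [g, IsLocalization.mapₐ_coe]
    rw [IsLocalization.map_eq]
    rfl
  haveI tow1 : IsScalarTower P (Localization (TP p)) (Localization (TS p)) := by
    refine IsScalarTower.of_algebraMap_eq fun x => ?_
    rw [halg, hgalg, IsScalarTower.algebraMap_apply P S (Localization (TS p))]
  haveI tow2 : IsScalarTower (Localization.AtPrime p) (Localization (TP p))
      (Localization (TS p)) := by
    refine IsScalarTower.of_algebraMap_eq fun x => ?_
    rw [halg, g.commutes]
  haveI ft : Algebra.FiniteType (Localization.AtPrime p) (Localization (TP p)) := by
    have h1 : (algebraMap R P).FiniteType := RingHom.finiteType_algebraMap.mpr inferInstance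
    haveI : IsLocalization (Submonoid.map (algebraMap R P) p.primeCompl)
        (Localization (Algebra.algebraMapSubmonoid P p.primeCompl)) :=
      inferInstanceAs (IsLocalization (Algebra.algebraMapSubmonoid P p.primeCompl)
        (Localization (Algebra.algebraMapSubmonoid P p.primeCompl)))
    have h2 := RingHom.finiteType_localizationPreserves (algebraMap R P) p.primeCompl
      (Localization.AtPrime p) (Localization (TP p)) h1
    exact h2
  haveI fpalg : Algebra.FinitePresentation (Localization (TP p)) (Localization (TS p)) :=
    Algebra.FinitePresentation.of_restrict_scalars_finitePresentation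
      (Localization.AtPrime p) (Localization (TP p)) (Localization (TS p))
  -- surjectivity
  have hsurj' : Surjective (algebraMap (Localization (TP p)) (Localization (TS p))) :=
    IsLocalization.mapₐ_surjective_of_surjective p.primeCompl (Localization.AtPrime p)
      (Localization (TP p)) (Localization (TS p)) (IsScalarTower.toAlgHom R P S) hsurj
  have hker : (RingHom.ker (algebraMap (Localization (TP p)) (Localization (TS p)))).FG := by
    have := Algebra.FinitePresentation.ker_fG_of_surjective
      (Algebra.ofId (Localization (TP p)) (Localization (TS p))) hsurj'
    exact this
  haveI mfp : Module.FinitePresentation (Localization (TP p)) (Localization (TS p)) :=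
    Module.finitePresentation_of_surjective
      (Algebra.linearMap (Localization (TP p)) (Localization (TS p))) hsurj' hker
  -- identify with the localized module
  haveI : IsLocalization (Algebra.algebraMapSubmonoid S (TP p)) (Localization (TS p)) := by
    rw [hTS']; infer_instance
  haveI hloc : IsLocalizedModule (TP p)
      (IsScalarTower.toAlgHom P S (Localization (TS p))).toLinearMap :=
    isLocalizedModule_iff_isLocalization.mpr inferInstance
  let e : LocalizedModule (TP p) S ≃ₗ[P] Localization (TS p) :=
    IsLocalizedModule.iso (TP p) (IsScalarTower.toAlgHom P S (Localization (TS p))).toLinearMap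
  let e' : LocalizedModule (TP p) S ≃ₗ[Localization (TP p)] Localization (TS p) :=
    LinearEquiv.extendScalarsOfIsLocalization (TP p) (Localization (TP p)) e
  exact Module.FinitePresentation.of_equiv e'.symm

end Local

section Main

variable {R S : Type u} [CommRing R] [CommRing S] [Algebra R S] [Algebra.FiniteType R S]
  [Module.Flat R S]

set_option maxHeartbeats 800000 in
set_option synthInstance.maxHeartbeats 100000 in
theorem finitePresentation_of_locally (s : Finset (PrimeSpectrum R))
    (hs : Injective fun r : R => fun p : s => algebraMap R (Localization.AtPrime p.1.asIdeal) r)
    (hloc : ∀ (p : Ideal R) [p.IsPrime],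
      Algebra.FinitePresentation (Localization.AtPrime p)
        (Localization (Algebra.algebraMapSubmonoid S p.primeCompl))) :
    Algebra.FinitePresentation R S := by
  have hft : Algebra.FiniteType R S := inferInstance
  obtain ⟨n, f, hf⟩ := Algebra.FiniteType.iff_quotient_mvPolynomial''.mp hft
  letI : Algebra (MvPolynomial (Fin n) R) S := f.toRingHom.toAlgebra
  haveI : IsScalarTower R (MvPolynomial (Fin n) R) S :=
    IsScalarTower.of_algebraMap_eq fun r => (f.commutes r).symm
  have hsurj : Surjective (algebraMap (MvPolynomial (Fin n) R) S) := hf
  haveI : Module.Finite (MvPolynomial (Fin n) R) S :=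
    Module.Finite.of_surjective (Algebra.linearMap (MvPolynomial (Fin n) R) S) hsurj
  have hfp : Module.FinitePresentation (MvPolynomial (Fin n) R) S :=
    FlatLocalGlobal.finitePresentation_of_locally s hs
      (fun p _ => finitePresentation_localizedModule hsurj p (hloc p))
  have hker : (RingHom.ker f.toRingHom).FG := by
    have := Module.FinitePresentation.fg_ker (Algebra.linearMap (MvPolynomial (Fin n) R) S) hsurj
    exact this
  exact Algebra.FinitePresentation.of_surjective hf hker

end Main

end Groth.Agent.Lib.Helper7.FPAlgLocal
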