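import Groth.Agent.Lib.Helper7.GradedNakayama
import Groth.Agent.Lib.Helper7.NoetherNormInt
import Mathlib.RingTheory.GradedAlgebra.Radical
import Mathlib.Algebra.Order.Antidiag.FinsuppEquiv
import Mathlib.LinearAlgebra.FiniteDimensional.Lemmas

/-!
# Lower bound for the Hilbert function of an irreducible projective scheme
-/

set_option autoImplicit false
set_option linter.unusedVariables false
set_option linter.style.haveILetI false
set_option maxSynthPendingDepth 3

namespace Groth.Agent.Lib.Helper7.FanoCodim

open MvPolynomial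

attribute [local instance] MvPolynomial.gradedAlgebra

variable {σ : Type*} [Finite σ] {k : Type*} [Field k]

theorem ringKrullDim_quotient_radical {R : Type*} [CommRing R] (I : Ideal R) :
    ringKrullDim (R ⧸ I.radical) = ringKrullDim (R ⧸ I) := by
  rw [ringKrullDim_quotient, ringKrullDim_quotient, PrimeSpectrum.zeroLocus_radical]

/-- A homogeneous system of parameters of linear forms is algebraically independent modulo the
radical, when the latter is prime. -/
theorem injective_of_dim (I : Ideal (MvPolynomial σ k))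
    (hI : I.IsHomogeneous (homogeneousSubmodule σ k)) (hP : I.radical.IsPrime)
    (r : ℕ) (hdim : ringKrullDim (MvPolynomial σ k ⧸ I) = r)
    (θ : Fin r → MvPolynomial σ k) (hθ : ∀ i, (θ i).IsHomogeneous 1) (N : ℕ)
    (hN : (idealOfVars σ k) ^ N ≤ I ⊔ Ideal.span (Set.range θ)) :
    Function.Injective ((Ideal.Quotient.mkₐ k I.radical).comp (aeval θ)) := by
  set ψ := (Ideal.Quotient.mkₐ k I.radical).comp (aeval θ) with hψ
  have hfin : ψ.toRingHom.Finite :=
    GrNak.finite_of_pow_le I.radical hI.radical θ hθ N
      (hN.trans (sup_le_sup_right Ideal.le_radical _))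
  have hint : ψ.toRingHom.IsIntegral := hfin.to_isIntegral
  set K := RingHom.ker ψ.toRingHom with hK
  have hcomp : (RingHom.kerLift ψ.toRingHom).comp (Ideal.Quotient.mk K) = ψ.toRingHom := by
    refine RingHom.ext fun x => ?_
    exact RingHom.kerLift_mk ψ.toRingHom x
  have hint' : (RingHom.kerLift ψ.toRingHom).IsIntegral := by
    have := hint
    rw [← hcomp] at this
    exact RingHom.IsIntegral.tower_top _ _ this
  have hd1 := NNInt.ringKrullDim_eq_of_injective_isIntegral (RingHom.kerLift ψ.toRingHom)
    (RingHom.kerLift_injective _) hint'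
  rw [ringKrullDim_quotient_radical, hdim] at hd1
  -- `K = ⊥`
  have hKbot : K = ⊥ := by
    by_contra hne
    obtain ⟨f, hfK, hf0⟩ := Submodule.exists_mem_ne_zero_of_ne_bot hne
    have h1 := ringKrullDim_quotient_succ_le_of_nonZeroDivisor
      (mem_nonZeroDivisors_of_ne_zero hf0)
    rw [NNInt.ringKrullDim_mvPolynomial_fin] at h1
    have hle : Ideal.span {f} ≤ K := (Ideal.span_singleton_le_iff_mem _).2 hfK
    have h2 := ringKrullDim_le_of_surjective (Ideal.Quotient.factor hle)
      (Ideal.Quotient.factor_surjective hle)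
    rw [← hd1] at h2
    have h3 : ((r : ℕ) : WithBot ℕ∞) + 1 ≤ r := (add_le_add_left h2 1).trans h1
    have h4 : ((r + 1 : ℕ) : WithBot ℕ∞) ≤ (r : ℕ) := by exact_mod_cast h3
    have h5 : r + 1 ≤ r := by exact_mod_cast h4
    omega
  exact (RingHom.injective_iff_ker_eq_bot ψ.toRingHom).2 hKbot

/-- The dimension of the space of forms of degree `n` in `r` variables. -/
theorem finrank_homogeneousSubmodule (r n : ℕ) :
    Module.finrank k ↥(homogeneousSubmodule (Fin r) k n) = (r + n - 1).choose n := by
  classical
  have hset : {d : Fin r →₀ ℕ | d.degree = n} =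
      ((Finset.univ : Finset (Fin r)).finsuppAntidiag n : Set (Fin r →₀ ℕ)) := by
    ext d
    simp [Finsupp.degree_eq_sum]
  rw [homogeneousSubmodule_eq_finsupp_supported, hset]
  change Module.finrank k ↥(restrictSupport k _) = _
  rw [Module.finrank_eq_nat_card_basis (basisRestrictSupport k _),
    Nat.card_coe_set_eq, Set.ncard_coe_finset, Finset.card_finsuppAntidiag_nat_eq_choose]
  simp

theorem le_choose_of_pos_of_lt : ∀ (n j : ℕ), 1 ≤ j → j < n → n ≤ n.choose j := by
  intro n
  induction n with
  | zero => intro j _ h; omega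
  | succ n ih =>
    intro j hj1 hjn
    obtain ⟨i, rfl⟩ : ∃ i, j = i + 1 := ⟨j - 1, by omega⟩
    rw [Nat.choose_succ_succ]
    change n + 1 ≤ n.choose i + n.choose (i + 1)
    rcases Nat.eq_zero_or_pos i with rfl | hi
    · simp
    · rcases Nat.lt_or_ge (i + 1) n with h | h
      · have h1 := ih (i + 1) (by omega) h
        have h2 : 0 < n.choose i := Nat.choose_pos (by omega)
        omega
      · have hin : i + 1 = n := by omega
        subst hin
        simp

instance finiteDimensional_homogeneousSubmodule' (m : ℕ) :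
    FiniteDimensional k ↥(homogeneousSubmodule σ k m) :=
  Module.Finite.iff_fg.2 (homogeneousSubmodule_fg σ k m)

/-- If `Y ⊆ ℙ^m` is irreducible of dimension `m - d`, then the forms of degree `d + 1` vanishing
on `Y` have codimension at least `m + 1` in the space of all forms of degree `d + 1`. -/
theorem codim_bound [Infinite k] (m d : ℕ) (hd : 1 ≤ d) (hdm : d + 1 ≤ m)
    (I : Ideal (MvPolynomial (Fin (m + 1)) k))
    (hI : I.IsHomogeneous (homogeneousSubmodule (Fin (m + 1)) k))
    (hirr : I.radical.IsPrime)
    (hdim : ringKrullDim (MvPolynomial (Fin (m + 1)) k ⧸ I) = ((m + 1 - d : ℕ) : WithBot ℕ∞)) :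
    m + 1 + Module.finrank k
        ↥(homogeneousSubmodule (Fin (m + 1)) k (d + 1) ⊓ Submodule.restrictScalars k I)
      ≤ Module.finrank k ↥(homogeneousSubmodule (Fin (m + 1)) k (d + 1)) := by
  obtain ⟨θ, hθ, N, hN⟩ := ProjLin.exists_linear_forms (m + 1 - d) I hI (le_of_eq hdim)
  have hinj := injective_of_dim I hI hirr (m + 1 - d) hdim θ hθ N hN
  set α : MvPolynomial (Fin (m + 1 - d)) k →ₐ[k] MvPolynomial (Fin (m + 1)) k := aeval θ with hα
  have hαinj : Function.Injective α.toLinearMap := by
    intro p q hpq
    apply hinj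
    change Ideal.Quotient.mkₐ k I.radical (α p) = Ideal.Quotient.mkₐ k I.radical (α q)
    exact congrArg _ hpq
  set V := homogeneousSubmodule (Fin (m + 1)) k (d + 1) ⊓ Submodule.restrictScalars k I with hV
  set W := Submodule.map α.toLinearMap (homogeneousSubmodule (Fin (m + 1 - d)) k (d + 1)) with hW
  have hWle : W ≤ homogeneousSubmodule (Fin (m + 1)) k (d + 1) := by
    rintro _ ⟨p, hp, rfl⟩
    have := ((mem_homogeneousSubmodule _ _).1 hp).aeval (S := k) θ hθ
    rw [one_mul] at this
    exact this
  have hVle : V ≤ homogeneousSubmodule (Fin (m + 1)) k (d + 1) := inf_le_left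
  haveI : FiniteDimensional k ↥V := Submodule.finiteDimensional_of_le hVle
  haveI : FiniteDimensional k ↥W := Submodule.finiteDimensional_of_le hWle
  have hdisj : V ⊓ W = ⊥ := by
    rw [eq_bot_iff]
    rintro x ⟨⟨-, hxI⟩, ⟨p, -, rfl⟩⟩
    have hp0 : p = 0 := by
      apply hinj
      rw [map_zero]
      change Ideal.Quotient.mk I.radical (α p) = 0
      rw [Ideal.Quotient.eq_zero_iff_mem]
      exact Ideal.le_radical hxI
    rw [hp0, map_zero]
    exact Submodule.zero_mem _
  have h1 := Submodule.finrank_sup_add_finrank_inf_eq V W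
  rw [hdisj, finrank_bot, add_zero] at h1
  have h2 : Module.finrank k ↥(V ⊔ W) ≤
      Module.finrank k ↥(homogeneousSubmodule (Fin (m + 1)) k (d + 1)) :=
    Submodule.finrank_mono (sup_le hVle hWle)
  have h3 : Module.finrank k ↥W = (m + 1).choose (d + 1) := by
    rw [hW, (Submodule.equivMapOfInjective α.toLinearMap hαinj _).symm.finrank_eq,
      finrank_homogeneousSubmodule]
    congr 1
    omega
  have h4 := le_choose_of_pos_of_lt (m + 1) (d + 1) (by omega) (by omega)
  omega

end Groth.Agent.Lib.Helper7.FanoCodim
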