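import Groth.Agent.Lib.Helper7.FibreCMComp

/-!
# Cohen–Macaulay morphisms at a point: composition
-/

universe u

open CategoryTheory CategoryTheory.Limits AlgebraicGeometry TopologicalSpace IsLocalRing

namespace Groth.Agent.Lib.Helper7.FibreCMScheme

open Groth.Agent.Lib.Helper7.FibreCM Groth.Agent.Lib.Helper7.FibreCMComp

variable {X Y Z : Scheme.{u}} (f : X ⟶ Y) (g : Y ⟶ Z) (x : X)

/-- the quotient `O_{X,x}/m_z O_{X,x}` for the composite, compared with `IC` -/
theorem exists_equiv_comp :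
    letI : Algebra (Z.presheaf.stalk (g (f x))) (Y.presheaf.stalk (f x)) :=
      (g.stalkMap (f x)).hom.toAlgebra
    letI : Algebra (Y.presheaf.stalk (f x)) (X.presheaf.stalk x) := (f.stalkMap x).hom.toAlgebra
    Nonempty ((X.presheaf.stalk x ⧸ (maximalIdeal (Z.presheaf.stalk ((f ≫ g) x))).map
        ((f ≫ g).stalkMap x).hom) ≃+*
      (X.presheaf.stalk x ⧸ IC (Z.presheaf.stalk (g (f x))) (Y.presheaf.stalk (f x))
        (X.presheaf.stalk x))) := by
  letI : Algebra (Z.presheaf.stalk (g (f x))) (Y.presheaf.stalk (f x)) :=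
    (g.stalkMap (f x)).hom.toAlgebra
  letI : Algebra (Y.presheaf.stalk (f x)) (X.presheaf.stalk x) := (f.stalkMap x).hom.toAlgebra
  refine ⟨Ideal.quotEquivOfEq ?_⟩
  change (maximalIdeal (Z.presheaf.stalk (g (f x)))).map ((f ≫ g).stalkMap x).hom =
    ((maximalIdeal (Z.presheaf.stalk (g (f x)))).map (g.stalkMap (f x)).hom).map
      (f.stalkMap x).hom
  rw [Ideal.map_map, Scheme.Hom.stalkMap_comp]
  rfl

theorem flat_comp_iff_aux :
    ((f ≫ g).stalkMap x).hom = (f.stalkMap x).hom.comp (g.stalkMap (f x)).hom := by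
  rw [Scheme.Hom.stalkMap_comp]
  rfl

/-- the main equivalence: given flatness of `f` at `x` and Noetherian fibre local rings -/
theorem isCM_quot_comp_iff (hfl : (f.stalkMap x).hom.Flat)
    (hNB : IsNoetherianRing (Y.presheaf.stalk (f x) ⧸
      (maximalIdeal (Z.presheaf.stalk (g (f x)))).map (g.stalkMap (f x)).hom))
    (hNC : IsNoetherianRing (X.presheaf.stalk x ⧸
      (maximalIdeal (Z.presheaf.stalk ((f ≫ g) x))).map ((f ≫ g).stalkMap x).hom)) :
    LocCoh.IsCohenMacaulayLocalRing (X.presheaf.stalk x ⧸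
        (maximalIdeal (Z.presheaf.stalk ((f ≫ g) x))).map ((f ≫ g).stalkMap x).hom) ↔
      (LocCoh.IsCohenMacaulayLocalRing (Y.presheaf.stalk (f x) ⧸
          (maximalIdeal (Z.presheaf.stalk (g (f x)))).map (g.stalkMap (f x)).hom) ∧
        LocCoh.IsCohenMacaulayLocalRing (X.presheaf.stalk x ⧸
          (maximalIdeal (Y.presheaf.stalk (f x))).map (f.stalkMap x).hom)) := by
  letI : Algebra (Z.presheaf.stalk (g (f x))) (Y.presheaf.stalk (f x)) :=
    (g.stalkMap (f x)).hom.toAlgebra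
  letI : Algebra (Y.presheaf.stalk (f x)) (X.presheaf.stalk x) := (f.stalkMap x).hom.toAlgebra
  letI : Algebra (Z.presheaf.stalk (g (f x))) (X.presheaf.stalk x) :=
    ((f.stalkMap x).hom.comp (g.stalkMap (f x)).hom).toAlgebra
  haveI : IsScalarTower (Z.presheaf.stalk (g (f x))) (Y.presheaf.stalk (f x))
      (X.presheaf.stalk x) := IsScalarTower.of_algebraMap_eq (fun _ => rfl)
  haveI : IsLocalHom (algebraMap (Z.presheaf.stalk (g (f x))) (Y.presheaf.stalk (f x))) :=
    inferInstanceAs (IsLocalHom (g.stalkMap (f x)).hom)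
  haveI : IsLocalHom (algebraMap (Y.presheaf.stalk (f x)) (X.presheaf.stalk x)) :=
    inferInstanceAs (IsLocalHom (f.stalkMap x).hom)
  haveI : Module.Flat (Y.presheaf.stalk (f x)) (X.presheaf.stalk x) := hfl
  obtain ⟨e⟩ := exists_equiv_comp f g x
  haveI : IsNoetherianRing (Y.presheaf.stalk (f x) ⧸
      IB (Z.presheaf.stalk (g (f x))) (Y.presheaf.stalk (f x))) := hNB
  haveI : IsNoetherianRing (X.presheaf.stalk x ⧸ IC (Z.presheaf.stalk (g (f x)))
      (Y.presheaf.stalk (f x)) (X.presheaf.stalk x)) := by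
    haveI := hNC
    exact isNoetherianRing_of_ringEquiv _ e
  rw [isCM_iff_of_ringEquiv e]
  exact isCM_fibre_iff (Z.presheaf.stalk (g (f x))) (Y.presheaf.stalk (f x)) (X.presheaf.stalk x)

/-- Noetherianity of `O_{X,x}/m O_{X,x}` from a locally Noetherian fibre -/
theorem isNoetherianRing_quot {X S : Scheme.{u}} (f : X ⟶ S) (x : X)
    (hN : IsLocallyNoetherian (f.fiber (f x))) :
    IsNoetherianRing (X.presheaf.stalk x ⧸
      (maximalIdeal (S.presheaf.stalk (f x))).map (f.stalkMap x).hom) := by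
  obtain ⟨e⟩ := Groth.Agent.Lib.Helper7.FibreStalkIso.nonempty_ringEquiv f x
  haveI : IsNoetherianRing ((f.fiber (f x)).presheaf.stalk (f.asFiber x)) := inferInstance
  exact isNoetherianRing_of_ringEquiv _ e.symm

end Groth.Agent.Lib.Helper7.FibreCMScheme
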