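import Groth.Agent.S0392

/-!
# Fibre criterion of flatness, iff form (Noetherian local)
-/

universe u

open TensorProduct

namespace Groth.Agent.Lib.Helper7.FibreCritIff

theorem fibre_criterion_iff {R A B M : Type u} [CommRing R] [CommRing A] [CommRing B]
    [IsLocalRing R] [IsLocalRing A] [IsLocalRing B]
    [IsNoetherianRing R] [IsNoetherianRing A] [IsNoetherianRing B]
    [Algebra R A] [Algebra A B] [Algebra R B] [IsScalarTower R A B]
    [IsLocalHom (algebraMap R A)] [IsLocalHom (algebraMap A B)]
    [AddCommGroup M] [Module B M] [Module A M] [Module R M] [IsScalarTower A B M]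
    [IsScalarTower R A M] [Module.Finite B M] [Nontrivial M] :
    (Module.Flat R M ∧
      Module.Flat (A ⧸ (IsLocalRing.maximalIdeal R).map (algebraMap R A))
        (M ⧸ ((IsLocalRing.maximalIdeal R).map (algebraMap R A)) • (⊤ : Submodule A M))) ↔
    (Module.Flat R A ∧ Module.Flat A M) := by
  set I : Ideal A := (IsLocalRing.maximalIdeal R).map (algebraMap R A) with hI
  let e : (A ⧸ I) ⊗[A] M ≃ₗ[A ⧸ I] M ⧸ I • (⊤ : Submodule A M) :=
    (TensorProduct.quotTensorEquivQuotSMul M I).extendScalarsOfSurjective
      Ideal.Quotient.mk_surjective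
  constructor
  · rintro ⟨h1, h2⟩
    haveI := h1
    exact Groth.Agent.S0392.result (R := R) (S := A) (S' := B) (M := M)
      (Module.Flat.of_linearEquiv e)
  · rintro ⟨h1, h2⟩
    haveI := h1
    haveI := h2
    refine ⟨Module.Flat.trans R A M, ?_⟩
    haveI : Module.Flat (A ⧸ I) ((A ⧸ I) ⊗[A] M) := inferInstance
    exact Module.Flat.of_linearEquiv e.symm

end Groth.Agent.Lib.Helper7.FibreCritIff
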