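import Mathlib
import Groth.Agent.Lib.Helper21.CMFibDim
import Groth.Agent.Lib.Helper21.CMKit
import Groth.Agent.Lib.Helper21.CMAff8
import Groth.Agent.Lib.Helper7.FibreRegOpen

/-!
# Decomposition of a flat finitely presented algebra with Cohen–Macaulay fibres by fibre dimension
(helper7)
-/

set_option autoImplicit false
set_option linter.unusedVariables false
set_option linter.style.haveILetI false

universe u

open AlgebraicGeometry CategoryTheory Limits TensorProduct

namespace Groth.Agent.Lib.Helper7.FibreDimDecomp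

open Groth.Agent.Lib.Helper21

/-- the local rings of an affine scheme with Cohen–Macaulay coordinate ring are Cohen–Macaulay. -/
theorem isCM_stalk_of_isCMRing (F : Scheme.{u}) [IsAffine F]
    (h : LocCoh.IsCohenMacaulayRing Γ(F, ⊤)) (y : F) :
    LocCoh.IsCohenMacaulayLocalRing (F.presheaf.stalk y) := by
  have hW : IsAffineOpen (⊤ : F.Opens) := isAffineOpen_top F
  let y' : (⊤ : F.Opens) := ⟨y, trivial⟩
  letI : Algebra Γ(F, ⊤) (F.presheaf.stalk y) := F.presheaf.algebra_section_stalk y'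
  haveI hloc : IsLocalization.AtPrime (F.presheaf.stalk y)
      (hW.primeIdealOf y').asIdeal := hW.isLocalization_stalk y'
  have hCM := h.isCohenMacaulayLocalRing_localization (hW.primeIdealOf y').asIdeal
  exact FibreBCAlg.isCMLocal_of_ringEquiv
    (IsLocalization.algEquiv (hW.primeIdealOf y').asIdeal.primeCompl
      (Localization.AtPrime (hW.primeIdealOf y').asIdeal)
      (F.presheaf.stalk y)).toRingEquiv hCM

/-- a flat ring map with Cohen–Macaulay fibre rings is Cohen–Macaulay at every point. -/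
theorem isCMAt_SpecMap (R S : Type u) [CommRing R] [CommRing S] [Algebra R S] [Module.Flat R S]
    (hCM : ∀ p : PrimeSpectrum R, LocCoh.IsCohenMacaulayRing (p.asIdeal.Fiber S))
    (q : Spec (CommRingCat.of S)) :
    MoreMor.IsCMAt (Spec.map (CommRingCat.ofHom (algebraMap R S))) q := by
  let g : Spec (CommRingCat.of S) ⟶ Spec (CommRingCat.of R) :=
    Spec.map (CommRingCat.ofHom (algebraMap R S))
  haveI : Flat g := (HasRingHomProperty.Spec_iff (P := @Flat)).mpr
    (RingHom.flat_algebraMap_iff.mpr ‹_›)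
  refine ⟨Flat.stalkMap g q, ?_⟩
  let p : PrimeSpectrum R := g q
  let e : g.fiber p ⟶ Spec (CommRingCat.of (p.asIdeal.Fiber S)) :=
    (Spec.fiberToSpecResidueFieldIso R S p).hom.left
  haveI : IsIso e := Arrow.isIso_left _
  haveI : IsAffine (g.fiber p) := IsAffine.of_isIso e
  let e' : Γ(g.fiber p, ⊤) ≃+* p.asIdeal.Fiber S :=
    ((Scheme.Γ.mapIso (asIso e).op).symm ≪≫
      Scheme.ΓSpecIso (CommRingCat.of (p.asIdeal.Fiber S))).commRingCatIsoToRingEquiv
  haveI : IsNoetherianRing (p.asIdeal.Fiber S) := (hCM p).toIsNoetherian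
  haveI : IsNoetherianRing Γ(g.fiber p, ⊤) := isNoetherianRing_of_ringEquiv _ e'.symm
  have h1 : LocCoh.IsCohenMacaulayRing Γ(g.fiber p, ⊤) := CMKit.isCM_of_ringEquiv e'.symm (hCM p)
  exact isCM_stalk_of_isCMRing (g.fiber p) h1 (g.asFiber q)

theorem lfp_SpecMap (R S : Type u) [CommRing R] [CommRing S] [Algebra R S]
    [Algebra.FinitePresentation R S] :
    LocallyOfFinitePresentation (Spec.map (CommRingCat.ofHom (algebraMap R S))) :=
  (HasRingHomProperty.Spec_iff (P := @LocallyOfFinitePresentation)).mpr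
    (RingHom.finitePresentation_algebraMap.mpr ‹_›)

/-- the level sets of the local fibre dimension are open for a flat finitely presented algebra
with Cohen–Macaulay fibres. -/
theorem isOpen_setOf_fibreDimAt_eq (R S : Type u) [CommRing R] [CommRing S] [Algebra R S]
    [Module.Flat R S] [Algebra.FinitePresentation R S]
    (hCM : ∀ p : PrimeSpectrum R, LocCoh.IsCohenMacaulayRing (p.asIdeal.Fiber S)) (d : ℕ) :
    IsOpen {q : Spec (CommRingCat.of S) |
      FlatMor.fibreDimAt (Spec.map (CommRingCat.ofHom (algebraMap R S))) q = (d : WithBot ℕ∞)} := by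
  haveI := lfp_SpecMap R S
  rw [isOpen_iff_forall_mem_open]
  intro q hq
  obtain ⟨n, U, hqU, hU⟩ := CMAff.exists_open_fibreDimAt_const
    (Spec.map (CommRingCat.ofHom (algebraMap R S))) q (isCMAt_SpecMap R S hCM q)
  refine ⟨U.1, ?_, U.2, hqU⟩
  intro u hu
  have h1 := hU u hu
  have h2 := hU q hqU
  rw [Set.mem_ofPred_eq] at hq ⊢
  rw [h1, ← h2]
  exact hq

/-- the local fibre dimension of a finite type algebra is bounded. -/
theorem exists_bound_fibreDimAt (R S : Type u) [CommRing R] [CommRing S] [Algebra R S]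
    [Algebra.FiniteType R S] :
    ∃ N : ℕ, ∀ q : Spec (CommRingCat.of S),
      FlatMor.fibreDimAt (Spec.map (CommRingCat.ofHom (algebraMap R S))) q ≤ (N : WithBot ℕ∞) := by
  haveI := Groth.Agent.Lib.Helper7.FibreRegOpen.lft_SpecMap R S
  let V : ℕ → Set (Spec (CommRingCat.of S)) := fun n =>
    {q | FlatMor.fibreDimAt (Spec.map (CommRingCat.ofHom (algebraMap R S))) q ≤ (n : WithBot ℕ∞)}
  have hVo : ∀ n, IsOpen (V n) := fun n =>
    Groth.Agent.Lib.Helper18.Chev.isOpen_fibreDimAt_le _ n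
  have hcov : (Set.univ : Set (Spec (CommRingCat.of S))) ⊆ ⋃ n, V n := by
    intro q _
    obtain ⟨m, hm⟩ := Groth.Agent.Lib.Helper18.Chev.exists_nat_fibreDimAt
      (Spec.map (CommRingCat.ofHom (algebraMap R S))) q
    exact Set.mem_iUnion.2 ⟨m, hm.le⟩
  have hdir : Directed (· ⊆ ·) V := by
    intro a b
    refine ⟨max a b, ?_, ?_⟩
    · intro q hq
      have hq' : FlatMor.fibreDimAt (Spec.map (CommRingCat.ofHom (algebraMap R S))) q ≤
          (a : WithBot ℕ∞) := hq
      exact le_trans hq' (by exact_mod_cast le_max_left a b)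
    · intro q hq
      have hq' : FlatMor.fibreDimAt (Spec.map (CommRingCat.ofHom (algebraMap R S))) q ≤
          (b : WithBot ℕ∞) := hq
      exact le_trans hq' (by exact_mod_cast le_max_right a b)
  obtain ⟨N, hN⟩ := isCompact_univ.elim_directed_cover V hVo hcov hdir
  exact ⟨N, fun q => hN (Set.mem_univ q)⟩

theorem eq_zero_of_idem_of_nilpotent {S : Type u} [CommRing S] {e : S} (he : IsIdempotentElem e)
    (hn : IsNilpotent e) : e = 0 :=
  eq_of_isNilpotent_sub_of_isIdempotentElem he IsIdempotentElem.zero (by simpa using hn)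

theorem exists_completeOrthogonalIdempotents_of_clopen_cover {S : Type u} [CommRing S]
    {ι : Type} [Fintype ι] [DecidableEq ι]
    (U : ι → Set (PrimeSpectrum S)) (hU : ∀ i, IsClopen (U i))
    (hdisj : ∀ i j, i ≠ j → Disjoint (U i) (U j)) (hcov : ∀ q, ∃ i, q ∈ U i) :
    ∃ e : ι → S, CompleteOrthogonalIdempotents e ∧
      ∀ i, U i = (PrimeSpectrum.basicOpen (e i) : Set (PrimeSpectrum S)) := by
  choose e he heU using fun i => PrimeSpectrum.isClopen_iff.1 (hU i)
  have hortho : Pairwise (fun i j => e i * e j = 0) := by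
    intro i j hij
    apply eq_zero_of_idem_of_nilpotent ((he i).mul (he j))
    rw [← PrimeSpectrum.basicOpen_eq_bot_iff, PrimeSpectrum.basicOpen_mul]
    ext q
    simp only [TopologicalSpace.Opens.coe_inf, Set.mem_inter_iff, SetLike.mem_coe,
      TopologicalSpace.Opens.coe_bot, Set.mem_empty_iff_false, iff_false, not_and]
    intro h1 h2
    have h1' : q ∈ U i := by rw [heU i]; exact h1
    have h2' : q ∈ U j := by rw [heU j]; exact h2
    exact Set.disjoint_left.1 (hdisj i j hij) h1' h2'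
  have hO : OrthogonalIdempotents e := ⟨he, hortho⟩
  refine ⟨e, ⟨hO, ?_⟩, heU⟩
  have hf : IsIdempotentElem (∑ i, e i) := hO.isIdempotentElem_sum
  have h1 : (1 : S) - ∑ i, e i = 0 := by
    apply eq_zero_of_idem_of_nilpotent hf.one_sub
    rw [← PrimeSpectrum.basicOpen_eq_bot_iff]
    ext q
    simp only [SetLike.mem_coe, TopologicalSpace.Opens.coe_bot, Set.mem_empty_iff_false, iff_false]
    intro hq
    obtain ⟨i, hi⟩ := hcov q
    rw [heU i] at hi
    have hi' : e i ∉ q.asIdeal := hi
    have hq' : (1 : S) - ∑ i, e i ∉ q.asIdeal := hq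
    have hmul : ((1 : S) - ∑ j, e j) * e i = 0 := by
      rw [sub_mul, one_mul, Finset.sum_mul, sub_eq_zero]
      rw [Finset.sum_eq_single i]
      · exact (he i).eq.symm
      · intro j _ hji
        exact hortho hji
      · intro h
        exact absurd (Finset.mem_univ i) h
    have : ((1 : S) - ∑ j, e j) * e i ∈ q.asIdeal := by rw [hmul]; exact zero_mem _
    rcases q.isPrime.mem_or_mem this with h | h
    · exact hq' h
    · exact hi' h
  rw [sub_eq_zero] at h1
  exact h1.symm

theorem nonempty_algEquiv_pi (R S : Type u) [CommRing R] [CommRing S] [Algebra R S]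
    {ι : Type} [Fintype ι] [DecidableEq ι] (e : ι → S) (he : CompleteOrthogonalIdempotents e) :
    Nonempty (S ≃ₐ[R] ((i : ι) → S ⧸ Ideal.span {1 - e i})) :=
  ⟨AlgEquiv.ofBijective (AlgHom.pi fun i => Ideal.Quotient.mkₐ R (Ideal.span {1 - e i}))
    he.bijective_pi⟩

theorem flat_quotient_idem (R S : Type u) [CommRing R] [CommRing S] [Algebra R S] [Module.Flat R S]
    (e : S) (he : IsIdempotentElem e) : Module.Flat R (S ⧸ Ideal.span {1 - e}) := by
  haveI : IsLocalization.Away e (S ⧸ Ideal.span {1 - e}) :=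
    IsLocalization.Away.quotient_of_isIdempotentElem he
  haveI : Module.Flat S (S ⧸ Ideal.span {1 - e}) := IsLocalization.flat _ (Submonoid.powers e)
  exact Module.Flat.trans R S _

theorem fp_quotient_idem (R S : Type u) [CommRing R] [CommRing S] [Algebra R S]
    [Algebra.FinitePresentation R S] (e : S) :
    Algebra.FinitePresentation R (S ⧸ Ideal.span {1 - e}) :=
  Algebra.FinitePresentation.quotient ⟨{1 - e}, by simp⟩

theorem isCM_quotient_idem (Φ : Type u) [CommRing Φ] (hCM : LocCoh.IsCohenMacaulayRing Φ) (ē : Φ)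
    (he : IsIdempotentElem ē) : LocCoh.IsCohenMacaulayRing (Φ ⧸ Ideal.span {1 - ē}) := by
  haveI : IsNoetherianRing Φ := hCM.toIsNoetherian
  haveI : IsLocalization.Away ē (Φ ⧸ Ideal.span {1 - ē}) :=
    IsLocalization.Away.quotient_of_isIdempotentElem he
  haveI : Module.Flat Φ (Φ ⧸ Ideal.span {1 - ē}) := IsLocalization.flat _ (Submonoid.powers ē)
  refine CMKit.isCM_of_flat_of_minimal (A := Φ) hCM ?_
  intro r hr
  have h1 : (r.under Φ).map (algebraMap Φ (Φ ⧸ Ideal.span {1 - ē})) = r :=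
    IsLocalization.map_under (Submonoid.powers ē) _ r
  rw [h1, Ideal.minimalPrimes_eq_subsingleton_self]
  rfl

theorem isCM_fiber_quotient_idem (R S : Type u) [CommRing R] [CommRing S] [Algebra R S] (e : S)
    (he : IsIdempotentElem e) (p : Ideal R) [p.IsPrime]
    (hCM : LocCoh.IsCohenMacaulayRing (p.Fiber S)) :
    LocCoh.IsCohenMacaulayRing (p.Fiber (S ⧸ Ideal.span {1 - e})) := by
  haveI : IsNoetherianRing (p.Fiber S) := hCM.toIsNoetherian
  let ē : p.Fiber S := (Algebra.TensorProduct.includeRight : S →ₐ[R] p.Fiber S) e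
  have hē : IsIdempotentElem ē := he.map _
  have hI : (Ideal.span {1 - e}).map (Algebra.TensorProduct.includeRight : S →ₐ[R] p.Fiber S) =
      Ideal.span {1 - ē} := by
    rw [Ideal.map_span, Set.image_singleton, map_sub, map_one]
  let ε : p.Fiber (S ⧸ Ideal.span {1 - e}) ≃+* (p.Fiber S ⧸ Ideal.span {1 - ē}) :=
    (Algebra.TensorProduct.tensorQuotientEquiv (R := R) p.ResidueField S p.ResidueField
      (Ideal.span {1 - e})).toRingEquiv.trans (Ideal.quotEquivOfEq hI)
  have h1 := isCM_quotient_idem (p.Fiber S) hCM ē hē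
  haveI : IsNoetherianRing (p.Fiber S ⧸ Ideal.span {1 - ē}) := h1.toIsNoetherian
  haveI : IsNoetherianRing (p.Fiber (S ⧸ Ideal.span {1 - e})) :=
    isNoetherianRing_of_ringEquiv _ ε.symm
  exact CMKit.isCM_of_ringEquiv ε.symm h1

theorem fibreDimAt_quotient_idem (R S : Type u) [CommRing R] [CommRing S] [Algebra R S]
    [Algebra.FiniteType R S] (e : S) (he : IsIdempotentElem e)
    (w : Spec (CommRingCat.of (S ⧸ Ideal.span {1 - e}))) :
    FlatMor.fibreDimAt (Spec.map (CommRingCat.ofHom (algebraMap R (S ⧸ Ideal.span {1 - e})))) w =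
      FlatMor.fibreDimAt (Spec.map (CommRingCat.ofHom (algebraMap R S)))
        (Spec.map (CommRingCat.ofHom (algebraMap S (S ⧸ Ideal.span {1 - e}))) w) := by
  haveI := Groth.Agent.Lib.Helper7.FibreRegOpen.lft_SpecMap R S
  haveI := Groth.Agent.Lib.Helper7.FibreRegOpen.lft_SpecMap R (S ⧸ Ideal.span {1 - e})
  haveI : IsLocalization.Away e (S ⧸ Ideal.span {1 - e}) :=
    IsLocalization.Away.quotient_of_isIdempotentElem he
  haveI : IsOpenImmersion (Spec.map (CommRingCat.ofHom (algebraMap S (S ⧸ Ideal.span {1 - e})))) :=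
    IsOpenImmersion.of_isLocalization e
  have comm : Spec.map (CommRingCat.ofHom (algebraMap R (S ⧸ Ideal.span {1 - e}))) ≫
      𝟙 (Spec (CommRingCat.of R)) =
      Spec.map (CommRingCat.ofHom (algebraMap S (S ⧸ Ideal.span {1 - e}))) ≫
        Spec.map (CommRingCat.ofHom (algebraMap R S)) := by
    rw [Category.comp_id, ← Spec.map_comp, ← CommRingCat.ofHom_comp,
      ← IsScalarTower.algebraMap_eq]
  exact (Groth.Agent.Lib.Helper18.Chev.fibreDimAt_eq_of_openImmersion_square _ _ _ _ comm w).symm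

theorem localDim_fiberRing_eq' (R S : Type u) [CommRing R] [CommRing S] [Algebra R S]
    (p₁ : Ideal R) [p₁.IsPrime] (q : PrimeSpectrum S) [q.asIdeal.LiesOver p₁]
    (Q : PrimeSpectrum (p₁.Fiber S))
    (hQ : Q.asIdeal.comap (Algebra.TensorProduct.includeRight.toRingHom) = q.asIdeal) :
    FlatMor.localDim (PrimeSpectrum (p₁.Fiber S)) Q =
      FlatMor.fibreDimAt (Spec.map (CommRingCat.ofHom (algebraMap R S))) q := by
  obtain rfl : p₁ = q.asIdeal.under R := Ideal.LiesOver.over
  exact Groth.Agent.Lib.lead.FibreRingDim.localDim_fiberRing_eq R S q Q hQ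

theorem ringKrullDim_quotient_minimalPrime_of_fibreDimAt_const (R T : Type u) [CommRing R]
    [CommRing T] [Algebra R T] [Algebra.FiniteType R T] (d : ℕ)
    (hconst : ∀ w : Spec (CommRingCat.of T),
      FlatMor.fibreDimAt (Spec.map (CommRingCat.ofHom (algebraMap R T))) w = (d : WithBot ℕ∞))
    (p₁ : Ideal R) [p₁.IsPrime] (P : Ideal (p₁.Fiber T)) (hP : P ∈ minimalPrimes (p₁.Fiber T)) :
    ringKrullDim (p₁.Fiber T ⧸ P) = (d : WithBot ℕ∞) := by
  haveI hPp : P.IsPrime := hP.1.1
  let Q : PrimeSpectrum (p₁.Fiber T) := ⟨P, hPp⟩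
  haveI hover := FlatLocal.comap_includeRight_liesOver p₁ P
  let q : PrimeSpectrum T :=
    ⟨P.comap (Algebra.TensorProduct.includeRight : T →ₐ[R] p₁.Fiber T), inferInstance⟩
  haveI : q.asIdeal.LiesOver p₁ := hover
  have h1 := localDim_fiberRing_eq' R T p₁ q Q rfl
  rw [hconst q] at h1
  have h2 := Groth.Agent.Lib.Helper24.LocalDim.localDim_eq p₁.ResidueField (p₁.Fiber T) Q
  have hmin : IsMin Q := by
    intro Q' hQ'
    exact hP.2 ⟨Q'.isPrime, bot_le⟩ hQ'
  rw [h1, Order.height_eq_zero.2 hmin, zero_add] at h2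
  have h3 := Groth.Agent.Lib.Helper7.AffChain.ringKrullDim_quotient_eq_coheight Q
  rw [h3, ← h2]

/-- **Decomposition by fibre dimension** of a flat finitely presented algebra with Cohen–Macaulay
fibres. -/
theorem exists_pi_decomposition (R S : Type u) [CommRing R] [CommRing S] [Algebra R S]
    [Module.Flat R S] [Algebra.FinitePresentation R S]
    (hCM : ∀ p : PrimeSpectrum R, LocCoh.IsCohenMacaulayRing (p.asIdeal.Fiber S)) :
    ∃ (N : ℕ) (T : Fin (N + 1) → Type u) (_ : ∀ d, CommRing (T d)) (_ : ∀ d, Algebra R (T d)),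
      Nonempty (S ≃ₐ[R] ((d : Fin (N + 1)) → T d)) ∧
        ∀ d : Fin (N + 1), Module.Flat R (T d) ∧ Algebra.FinitePresentation R (T d) ∧
          (∀ p : PrimeSpectrum R, LocCoh.IsCohenMacaulayRing (p.asIdeal.Fiber (T d))) ∧
          ∀ (p : PrimeSpectrum R), ∀ P ∈ minimalPrimes (p.asIdeal.Fiber (T d)),
            ringKrullDim (p.asIdeal.Fiber (T d) ⧸ P) = ((d : ℕ) : WithBot ℕ∞) := by
  classical
  haveI : Algebra.FiniteType R S := inferInstance
  haveI := Groth.Agent.Lib.Helper7.FibreRegOpen.lft_SpecMap R S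
  obtain ⟨N, hN⟩ := exists_bound_fibreDimAt R S
  let δ : Spec (CommRingCat.of S) → WithBot ℕ∞ :=
    FlatMor.fibreDimAt (Spec.map (CommRingCat.ofHom (algebraMap R S)))
  have hnat : ∀ q, ∃ m : ℕ, δ q = (m : WithBot ℕ∞) := fun q =>
    Groth.Agent.Lib.Helper18.Chev.exists_nat_fibreDimAt _ q
  have hopen : ∀ n : ℕ, IsOpen {q | δ q = (n : WithBot ℕ∞)} := fun n =>
    isOpen_setOf_fibreDimAt_eq R S hCM n
  let U : Fin (N + 1) → Set (PrimeSpectrum S) := fun d => {q | δ q = ((d : ℕ) : WithBot ℕ∞)}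
  have hUclopen : ∀ d, IsClopen (U d) := by
    intro d
    refine ⟨?_, hopen d⟩
    rw [← isOpen_compl_iff, isOpen_iff_forall_mem_open]
    intro q hq
    obtain ⟨m, hm⟩ := hnat q
    refine ⟨{q | δ q = (m : WithBot ℕ∞)}, ?_, hopen m, hm⟩
    intro q' hq' hq'd
    have hq1 : δ q' = (m : WithBot ℕ∞) := hq'
    have hq2 : δ q' = ((d : ℕ) : WithBot ℕ∞) := hq'd
    have hmd : m = (d : ℕ) := by
      rw [hq1] at hq2
      exact_mod_cast hq2
    apply hq
    show δ q = ((d : ℕ) : WithBot ℕ∞)
    rw [hm, hmd]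
  have hdisj : ∀ i j, i ≠ j → Disjoint (U i) (U j) := by
    intro i j hij
    rw [Set.disjoint_left]
    intro q hqi hqj
    have hq1 : δ q = ((i : ℕ) : WithBot ℕ∞) := hqi
    have hq2 : δ q = ((j : ℕ) : WithBot ℕ∞) := hqj
    rw [hq1] at hq2
    exact hij (Fin.ext (by exact_mod_cast hq2))
  have hcov : ∀ q : PrimeSpectrum S, ∃ i, q ∈ U i := by
    intro q
    obtain ⟨m, hm⟩ := hnat q
    have hmN : m ≤ N := by
      have := hN q
      rw [show FlatMor.fibreDimAt (Spec.map (CommRingCat.ofHom (algebraMap R S))) q = δ q from rfl,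
        hm] at this
      exact_mod_cast this
    exact ⟨⟨m, Nat.lt_succ_of_le hmN⟩, hm⟩
  obtain ⟨e, he, heU⟩ := exists_completeOrthogonalIdempotents_of_clopen_cover U hUclopen hdisj hcov
  refine ⟨N, fun d => S ⧸ Ideal.span {1 - e d}, fun d => inferInstance, fun d => inferInstance,
    nonempty_algEquiv_pi R S e he, ?_⟩
  intro d
  have hconst : ∀ w : Spec (CommRingCat.of (S ⧸ Ideal.span {1 - e d})),
      FlatMor.fibreDimAt (Spec.map (CommRingCat.ofHom (algebraMap R (S ⧸ Ideal.span {1 - e d})))) w =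
        ((d : ℕ) : WithBot ℕ∞) := by
    intro w
    rw [fibreDimAt_quotient_idem R S (e d) (he.idem d) w]
    have hmem : (Spec.map (CommRingCat.ofHom (algebraMap S (S ⧸ Ideal.span {1 - e d}))) w :
        PrimeSpectrum S) ∈ U d := by
      rw [heU d]
      show e d ∉ (w.asIdeal.comap (algebraMap S (S ⧸ Ideal.span {1 - e d})))
      intro hmem
      rw [Ideal.mem_comap] at hmem
      have h1 : algebraMap S (S ⧸ Ideal.span {1 - e d}) (e d) = 1 := by
        rw [← map_one (algebraMap S (S ⧸ Ideal.span {1 - e d})), eq_comm]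
        exact Ideal.Quotient.eq.2 (Ideal.subset_span rfl)
      rw [h1] at hmem
      exact w.isPrime.ne_top ((Ideal.eq_top_iff_one _).2 hmem)
    exact hmem
  refine ⟨flat_quotient_idem R S (e d) (he.idem d), fp_quotient_idem R S (e d), ?_, ?_⟩
  · intro p
    exact isCM_fiber_quotient_idem R S (e d) (he.idem d) p.asIdeal (hCM p)
  · intro p P hP
    exact ringKrullDim_quotient_minimalPrime_of_fibreDimAt_const R (S ⧸ Ideal.span {1 - e d}) d
      hconst p.asIdeal P hP

end Groth.Agent.Lib.Helper7.FibreDimDecomp
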