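import Groth.Agent.Lib.Helper7.FibreDepthDimScheme

/-!
# The dimension inequality for local homomorphisms, and for fibres of a composite
-/

universe u

open CategoryTheory CategoryTheory.Limits AlgebraicGeometry TopologicalSpace IsLocalRing
  TensorProduct

namespace Groth.Agent.Lib.Helper7.FibreDimLe

open Groth.Agent.Lib.Helper21 Groth.Agent.Lib.Helper7.FibreCM Groth.Agent.Lib.Helper7.FibreCMComp
  Groth.Agent.Lib.Helper7.FibreDepthDim Groth.Agent.Lib.Helper7.FibreCMScheme

section ring

variable (A B : Type u) [CommRing A] [CommRing B] [IsNoetherianRing A] [IsNoetherianRing B]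
  [IsLocalRing A] [IsLocalRing B] [Algebra A B] [IsLocalHom (algebraMap A B)]

/-- `dim B ≤ dim A + dim (B/m_A B)` for a local homomorphism of Noetherian local rings -/
theorem dim_le_add : ringKrullDim B ≤ ringKrullDim A + ringKrullDim (B ⧸ IB A B) := by
  obtain ⟨r, hr⟩ := DepthKit.exists_nat_supportDim (A := A) (M := A)
  have h := FlatLocal.supportDim_tensor_le (R := A) (S := B) B r A hr.le
  rw [Module.supportDim_eq_of_equiv (TensorProduct.AlgebraTensorModule.rid A B B),
    supportDim_fibre, Module.supportDim_self_eq_ringKrullDim, ← hr,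
    Module.supportDim_self_eq_ringKrullDim] at h
  exact h

end ring

section comp

variable {X Y Z : Scheme.{u}} [IsLocallyNoetherian X] [IsLocallyNoetherian Y]
  (f : X ⟶ Y) (g : Y ⟶ Z) (x : X)

/-- the fibre local ring of `f ≫ g` at `x` has dimension at most that of the fibre local ring of
`g` at `f x` plus that of the fibre local ring of `f` at `x` -/
theorem dim_fiberStalk_comp_le :
    ringKrullDim (CInt.fiberStalk (f ≫ g) x) ≤ ringKrullDim (CInt.fiberStalk g (f x)) +
      ringKrullDim (X.presheaf.stalk x ⧸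
        (maximalIdeal (Y.presheaf.stalk (f x))).map (f.stalkMap x).hom) := by
  letI : Algebra (Z.presheaf.stalk (g (f x))) (Y.presheaf.stalk (f x)) :=
    (g.stalkMap (f x)).hom.toAlgebra
  letI : Algebra (Y.presheaf.stalk (f x)) (X.presheaf.stalk x) := (f.stalkMap x).hom.toAlgebra
  letI : Algebra (Z.presheaf.stalk (g (f x))) (X.presheaf.stalk x) :=
    ((f.stalkMap x).hom.comp (g.stalkMap (f x)).hom).toAlgebra
  haveI : IsScalarTower (Z.presheaf.stalk (g (f x))) (Y.presheaf.stalk (f x))
      (X.presheaf.stalk x) := IsScalarTower.of_algebraMap_eq (fun _ => rfl)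
  haveI : IsLocalHom (algebraMap (Z.presheaf.stalk (g (f x))) (Y.presheaf.stalk (f x))) :=
    inferInstanceAs (IsLocalHom (g.stalkMap (f x)).hom)
  haveI : IsLocalHom (algebraMap (Y.presheaf.stalk (f x)) (X.presheaf.stalk x)) :=
    inferInstanceAs (IsLocalHom (f.stalkMap x).hom)
  obtain ⟨e⟩ := exists_equiv_comp f g x
  obtain ⟨e1⟩ := Groth.Agent.Lib.Helper7.FibreStalkIso.nonempty_ringEquiv g (f x)
  obtain ⟨e2⟩ := Groth.Agent.Lib.Helper7.FibreStalkIso.nonempty_ringEquiv (f ≫ g) x
  have h := dim_le_add (Y.presheaf.stalk (f x) ⧸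
      IB (Z.presheaf.stalk (g (f x))) (Y.presheaf.stalk (f x)))
    (X.presheaf.stalk x ⧸ IC (Z.presheaf.stalk (g (f x))) (Y.presheaf.stalk (f x))
      (X.presheaf.stalk x))
  rw [← ringKrullDim_eq_of_ringEquiv e, ringKrullDim_eq_of_ringEquiv e2,
    ringKrullDim_eq_of_ringEquiv (fibreEquiv (Z.presheaf.stalk (g (f x)))
      (Y.presheaf.stalk (f x)) (X.presheaf.stalk x))] at h
  refine le_trans h (le_of_eq ?_)
  congr 1
  exact ringKrullDim_eq_of_ringEquiv e1

end comp

end Groth.Agent.Lib.Helper7.FibreDimLe
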