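import Mathlib
import Groth.Agent.Lib.Helper7.FibrePD
import Groth.Agent.Lib.Helper7.ZeroMEReduce
import Groth.Agent.Lib.Helper21.FlatDescV
import Groth.Agent.Lib.Helper29.FlatExt
import Groth.Agent.Lib.helper11.GlDimRegular

/-!
# Helper7 — FibrePDLocal: projective dimension over a local ring essentially of finite presentation
is bounded by the projective dimension of the fibre (local form of EGA IV 11.3.x)
-/

set_option autoImplicit false

namespace Groth.Agent.Lib.Helper7.FibrePDLocal

open TensorProduct Function CategoryTheory

universe u

section KerFP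

open Groth.Agent.Lib.Helper7.ZeroME

set_option maxHeartbeats 1600000 in
set_option synthInstance.maxHeartbeats 200000 in
/-- kernels of surjections onto a flat finitely presented module over an essentially finitely
presented local algebra are finitely presented. -/
theorem fp_ker_of_flat_essFP (R S : Type u) [CommRing R] [CommRing S] [IsLocalRing S] [Algebra R S]
    (S₀ : Type u) [CommRing S₀] [Algebra R S₀] [Algebra.FinitePresentation R S₀] [Algebra S₀ S]
    [IsScalarTower R S₀ S] (T₀ : Submonoid S₀) [IsLocalization T₀ S]
    (N : Type u) [AddCommGroup N] [Module S N] [Module R N] [IsScalarTower R S N]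
    [Module.FinitePresentation S N] [Module.Flat R N]
    {G : Type u} [AddCommGroup G] [Module S G] [Module.FinitePresentation S G]
    (p : G →ₗ[S] N) (hp : Surjective p) : Module.FinitePresentation S (LinearMap.ker p) := by
  obtain ⟨S₀', _, _, _, _, _, T', _, N₀, _, _, _, _, _, _, ⟨e⟩⟩ := exists_shrink R S S₀ T₀ N
  obtain ⟨P₀, _, _, _, π₀, hπ₀, hK₀⟩ := Groth.Agent.Lib.Helper7.FPKer.exists_projective_fp_ker R S₀' N₀
  haveI : Module.Flat S₀' S := IsLocalization.flat S T'
  let K₀ : Submodule S₀' P₀ := LinearMap.ker π₀
  let j : S ⊗[S₀'] K₀ →ₗ[S] S ⊗[S₀'] P₀ := K₀.subtype.baseChange S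
  let π' : S ⊗[S₀'] P₀ →ₗ[S] S ⊗[S₀'] N₀ := π₀.baseChange S
  have hπ' : Surjective π' := by
    have : Surjective (π₀.lTensor S) := LinearMap.lTensor_surjective S hπ₀
    exact this
  have hex : Exact j π' := by
    have : Exact (K₀.subtype.lTensor S) (π₀.lTensor S) :=
      lTensor_exact S (LinearMap.exact_subtype_ker_map π₀) hπ₀
    exact this
  have hj : Injective j := by
    have : Injective (K₀.subtype.lTensor S) :=
      Module.Flat.lTensor_preserves_injective_linearMap _ K₀.injective_subtype
    exact this
  let π : S ⊗[S₀'] P₀ →ₗ[S] N := e.toLinearMap ∘ₗ π'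
  have hπ : Surjective π := e.surjective.comp hπ'
  have hker : LinearMap.ker π = LinearMap.range j := by
    rw [LinearMap.ker_comp, LinearEquiv.ker, Submodule.comap_bot]
    exact LinearMap.exact_iff.mp hex
  haveI : Module.FinitePresentation S (LinearMap.ker π) := by
    rw [hker]
    have e' : (S ⊗[S₀'] K₀) ≃ₗ[S] LinearMap.range j := LinearEquiv.ofInjective j hj
    exact Module.FinitePresentation.of_equiv (R := S) (M := S ⊗[S₀'] K₀) (N := LinearMap.range j) e'
  exact Groth.Agent.Lib.Helper7.FPKer.fp_ker_of_fp_ker π hπ p hp

end KerFP

section BaseChange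

variable {A B : Type u} [CommRing A] [CommRing B] [Algebra A B]
  {K G M : Type u} [AddCommGroup K] [Module B K] [Module A K] [IsScalarTower A B K]
  [AddCommGroup G] [Module B G] [Module A G] [IsScalarTower A B G]
  [AddCommGroup M] [Module B M] [Module A M] [IsScalarTower A B M]

set_option maxHeartbeats 1600000 in
set_option synthInstance.maxHeartbeats 200000 in
/-- base change along a pushout `Bκ = B ⊗_A κ` of a short exact sequence with `A`-flat cokernel is
short exact. -/
theorem baseChange_shortExact' (j : K →ₗ[B] G) (π : G →ₗ[B] M) (hj : Injective j)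
    (hex : Exact j π) (hπ : Surjective π) [Module.Flat A M]
    (κ Bκ : Type u) [CommRing κ] [CommRing Bκ] [Algebra A κ] [Algebra A Bκ] [Algebra κ Bκ]
    [Algebra B Bκ] [IsScalarTower A κ Bκ] [IsScalarTower A B Bκ] [Algebra.IsPushout A κ B Bκ] :
    Injective (j.baseChange Bκ) ∧
      Exact (j.baseChange Bκ) (π.baseChange Bκ) ∧
      Surjective (π.baseChange Bκ) := by
  refine ⟨?_, ?_, ?_⟩
  · have h1 : Injective ((j.restrictScalars A).lTensor κ) :=
      Groth.Agent.Lib.Helper21.FlatDesc.lTensor_injective_of_flat_coker
        (j.restrictScalars A) (π.restrictScalars A) hj hex hπ κ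
    intro a b hab
    obtain ⟨a', rfl⟩ := (Algebra.IsPushout.cancelBaseChange A κ B Bκ K).symm.surjective a
    obtain ⟨b', rfl⟩ := (Algebra.IsPushout.cancelBaseChange A κ B Bκ K).symm.surjective b
    rw [Groth.Agent.Lib.Helper7.FPKer.baseChange_cancelBaseChange_symm,
      Groth.Agent.Lib.Helper7.FPKer.baseChange_cancelBaseChange_symm] at hab
    rw [h1 ((Algebra.IsPushout.cancelBaseChange A κ B Bκ G).symm.injective hab)]
  · have := lTensor_exact Bκ hex hπ
    exact this
  · exact LinearMap.lTensor_surjective Bκ hπ

end BaseChange

section Core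

open IsLocalRing Groth.Agent.Lib.Helper21.FlatDesc

variable (A B : Type u) [CommRing A] [CommRing B] [Algebra A B] [Algebra.FinitePresentation A B]

theorem flat_quot_congr {S N : Type u} [CommRing S] [AddCommGroup N] [Module S N] {I J : Ideal S}
    (h : I = J) (hf : Module.Flat (S ⧸ I) (N ⧸ I • (⊤ : Submodule S N))) :
    Module.Flat (S ⧸ J) (N ⧸ J • (⊤ : Submodule S N)) := by
  subst h
  exact hf

set_option maxHeartbeats 1600000 in
set_option synthInstance.maxHeartbeats 200000 in
/-- **fibre criterion at a prime, local form**: `N` finitely presented over `B_q`, flat over `A`,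
with `N / p N` flat over `B_q / p B_q`.  Then `N` is flat over `B_q`. -/
theorem flat_of_quotient_flat_atPrime (q : Ideal B) [q.IsPrime]
    (N : Type u) [AddCommGroup N] [Module (Localization.AtPrime q) N] [Module A N]
    [IsScalarTower A (Localization.AtPrime q) N]
    [Module.FinitePresentation (Localization.AtPrime q) N] [Module.Flat A N]
    (hfib : Module.Flat
      (Localization.AtPrime q ⧸
        (q.comap (algebraMap A B)).map (algebraMap A (Localization.AtPrime q)))
      (N ⧸ (q.comap (algebraMap A B)).map (algebraMap A (Localization.AtPrime q)) •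
        (⊤ : Submodule (Localization.AtPrime q) N))) :
    Module.Flat (Localization.AtPrime q) N := by
  by_cases hne : Subsingleton N
  · haveI := hne
    haveI : Module.Free (Localization.AtPrime q) N := Module.Free.of_subsingleton _ _
    infer_instance
  rw [not_subsingleton_iff_nontrivial] at hne
  -- the local rings
  letI aRS : Algebra (Localization.AtPrime (q.comap (algebraMap A B))) (Localization.AtPrime q) :=
    (Localization.localRingHom (q.comap (algebraMap A B)) q (algebraMap A B) rfl).toAlgebra
  haveI hloc : IsLocalHom (algebraMap (Localization.AtPrime (q.comap (algebraMap A B)))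
      (Localization.AtPrime q)) :=
    Localization.isLocalHom_localRingHom (I := q.comap (algebraMap A B)) q (algebraMap A B) rfl
  haveI tARS : IsScalarTower A (Localization.AtPrime (q.comap (algebraMap A B)))
      (Localization.AtPrime q) :=
    IsScalarTower.of_algebraMap_eq fun a => by
      show _ = Localization.localRingHom (q.comap (algebraMap A B)) q (algebraMap A B) rfl
        (algebraMap A _ a)
      rw [Localization.localRingHom_to_map, ← IsScalarTower.algebraMap_apply]
  -- essentially finitely presented
  have hfp : (algebraMap A B).FinitePresentation :=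
    RingHom.finitePresentation_algebraMap.2 inferInstance
  obtain ⟨S₀, _, a, b, T, hab, ha, hlocT⟩ := EssFP.localRingHom (algebraMap A B) hfp q
  have hess : CAlgX.IsEssFinitePresentation (Localization.AtPrime (q.comap (algebraMap A B)))
      (Localization.AtPrime q) := by
    letI aRS₀ : Algebra (Localization.AtPrime (q.comap (algebraMap A B))) S₀ := a.toAlgebra
    letI aS₀S : Algebra S₀ (Localization.AtPrime q) := b.toAlgebra
    haveI tw : IsScalarTower (Localization.AtPrime (q.comap (algebraMap A B))) S₀
        (Localization.AtPrime q) :=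
      IsScalarTower.of_algebraMap_eq fun r => by
        show Localization.localRingHom (q.comap (algebraMap A B)) q (algebraMap A B) rfl r = b (a r)
        rw [hab]; rfl
    exact ⟨S₀, inferInstance, aRS₀, aS₀S, tw, T, ha, hlocT⟩
  -- module structure over `R`
  letI mR : Module (Localization.AtPrime (q.comap (algebraMap A B))) N :=
    Module.compHom _ (algebraMap (Localization.AtPrime (q.comap (algebraMap A B)))
      (Localization.AtPrime q))
  haveI tRSM : IsScalarTower (Localization.AtPrime (q.comap (algebraMap A B)))
      (Localization.AtPrime q) N :=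
    IsScalarTower.of_algebraMap_smul fun _ _ => rfl
  haveI tARM : IsScalarTower A (Localization.AtPrime (q.comap (algebraMap A B))) N :=
    IsScalarTower.of_algebraMap_smul fun r x => by
      show algebraMap (Localization.AtPrime (q.comap (algebraMap A B))) (Localization.AtPrime q)
        (algebraMap A _ r) • x = r • x
      rw [← IsScalarTower.algebraMap_apply, algebraMap_smul]
  haveI hflR : Module.Flat (Localization.AtPrime (q.comap (algebraMap A B))) N :=
    (Module.flat_iff_of_isLocalization (Localization.AtPrime (q.comap (algebraMap A B)))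
      (q.comap (algebraMap A B)).primeCompl N).2 inferInstance
  -- the fibre
  have hI : (q.comap (algebraMap A B)).map (algebraMap A (Localization.AtPrime q)) =
      (maximalIdeal (Localization.AtPrime (q.comap (algebraMap A B)))).map
        (algebraMap _ (Localization.AtPrime q)) := by
    rw [← Localization.AtPrime.map_eq_maximalIdeal, Ideal.map_map,
      ← IsScalarTower.algebraMap_eq]
  have hfib' := flat_quot_congr hI hfib
  haveI : IsLocalHom (algebraMap (Localization.AtPrime q) (Localization.AtPrime q)) :=
    ⟨fun _ h => h⟩
  obtain ⟨-, h2⟩ := Groth.Agent.S2106.result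
    (R := Localization.AtPrime (q.comap (algebraMap A B))) (S := Localization.AtPrime q)
    (S' := Localization.AtPrime q) (M := N) hess hess hfib'
  exact h2

end Core

section Induction

variable (V S : Type u) [CommRing V] [CommRing S] [Algebra V S] [Module.Flat V S] (p : Ideal V)

/-- the fibre ring. -/
abbrev Sbar : Type u := S ⧸ p.map (algebraMap V S)

set_option maxHeartbeats 1600000 in
set_option synthInstance.maxHeartbeats 200000 in
/-- the inductive statement: projective dimension is bounded by that of the fibre. -/
theorem hasPDLT_succ_of_fibre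
    (hcore : ∀ (N : Type u) [AddCommGroup N] [Module S N] [Module V N] [IsScalarTower V S N]
      [Module.FinitePresentation S N] [Module.Flat V N],
      Module.Flat (S ⧸ p.map (algebraMap V S))
        (N ⧸ p.map (algebraMap V S) • (⊤ : Submodule S N)) → Module.Flat S N)
    (hker : ∀ (N : Type u) [AddCommGroup N] [Module S N] [Module V N] [IsScalarTower V S N]
      [Module.FinitePresentation S N] [Module.Flat V N] (k : ℕ) (π : (Fin k → S) →ₗ[S] N),
      Surjective π → Module.FinitePresentation S (LinearMap.ker π))
    (n : ℕ) : ∀ (N : Type u) [AddCommGroup N] [Module S N] [Module V N] [IsScalarTower V S N]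
      [Module.FinitePresentation S N] [Module.Flat V N],
      HasProjectiveDimensionLT (ModuleCat.of (Sbar V S p) (Sbar V S p ⊗[S] N)) (n + 1) →
      HasProjectiveDimensionLT (ModuleCat.of S N) (n + 1) := by
  induction n with
  | zero =>
    intro N _ _ _ _ _ _ h
    rw [← projective_iff_hasProjectiveDimensionLT_one,
      ← IsProjective.iff_projective (R := Sbar V S p) (P := Sbar V S p ⊗[S] N)] at h
    haveI := h
    let e3 : (Sbar V S p) ⊗[S] N ≃ₗ[S] N ⧸ p.map (algebraMap V S) • (⊤ : Submodule S N) :=
      TensorProduct.quotTensorEquivQuotSMul N (p.map (algebraMap V S))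
    have hsurj : Function.Surjective (algebraMap S (Sbar V S p)) := Ideal.Quotient.mk_surjective
    have hfl : Module.Flat (S ⧸ p.map (algebraMap V S))
        (N ⧸ p.map (algebraMap V S) • (⊤ : Submodule S N)) :=
      Module.Flat.of_linearEquiv (LinearEquiv.extendScalarsOfSurjective hsurj e3).symm
    haveI := hcore N hfl
    haveI : Module.Projective S N := Module.Flat.projective_of_finitePresentation
    rw [← projective_iff_hasProjectiveDimensionLT_one,
      ← IsProjective.iff_projective (R := S) (P := N)]
    infer_instance
  | succ n ih =>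
    intro N _ _ _ _ _ _ h
    obtain ⟨k, π, hπ⟩ := Module.Finite.exists_fin' S N
    haveI hfp := hker N k π hπ
    have hj : Injective (LinearMap.ker π).subtype := (LinearMap.ker π).injective_subtype
    have hex : Exact (LinearMap.ker π).subtype π := LinearMap.exact_subtype_ker_map π
    haveI : Module.Flat V (Fin k → S) :=
      Module.Flat.trans V S (Fin k → S)
    haveI hfl : Module.Flat V (LinearMap.ker π) :=
      Groth.Agent.Lib.Helper29.FlatExt.flat_of_exact_left
        ((LinearMap.ker π).subtype.restrictScalars V) (π.restrictScalars V) hj hπ hex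
    rw [Groth.Agent.Lib.Helper7.FibrePD.hasPDLT_iff_of_shortExact (LinearMap.ker π).subtype π hj hex hπ n]
    apply ih (LinearMap.ker π)
    haveI := Groth.Agent.Lib.Helper21.FlatDesc.isPushout_quotient (A := V) S p
    obtain ⟨h1, h2, h3⟩ := baseChange_shortExact' (A := V) (LinearMap.ker π).subtype π hj hex hπ
      (V ⧸ p) (Sbar V S p)
    exact (Groth.Agent.Lib.Helper7.FibrePD.hasPDLT_iff_of_shortExact _ _ h1 h2 h3 n).1 h

end Induction

end Groth.Agent.Lib.Helper7.FibrePDLocal
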