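import Mathlib
import Groth.Agent.Lib.helper11.StablyFreeIdeal

/-!
# Helper7 — StablyFreeInv: a stably free invertible module is free

If `P` is an invertible module over a commutative ring `T` with `P × G ≃ G'` for finite free
modules `G`, `G'`, then `P` is free (determinant trick, no domain hypothesis).
-/

set_option autoImplicit false

namespace Groth.Agent.Lib.Helper7.StablyFreeInv

open Matrix TensorProduct Groth.Agent.Lib.helper11.StablyFreeIdeal

universe u

variable {T : Type u} [CommRing T] {P : Type u} [AddCommGroup P] [Module T P]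

section Det

variable {a : ℕ} (φ : (P × (Fin a → T)) ≃ₗ[T] (Fin (a + 1) → T))

/-- the rows `φ (0, e_i)`. -/
noncomputable def cRow : Fin a → (Fin (a + 1) → T) := fun i => φ (0, Pi.single i 1)

/-- `p ↦ φ (p, 0)`. -/
noncomputable def wMap : P →ₗ[T] (Fin (a + 1) → T) :=
  φ.toLinearMap ∘ₗ LinearMap.inl T P (Fin a → T)

theorem cons_add' (x y : T) (u v : Fin a → T) :
    (Fin.cons (x + y) (u + v) : Fin (a + 1) → T) = Fin.cons x u + Fin.cons y v := by
  funext j
  refine Fin.cases ?_ (fun i => ?_) j <;> simp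

theorem cons_smul' (t x : T) (u : Fin a → T) :
    (Fin.cons (t * x) (t • u) : Fin (a + 1) → T) = t • Fin.cons x u := by
  funext j
  refine Fin.cases ?_ (fun i => ?_) j <;> simp

/-- for a functional `f`, the endomorphism `v ↦ (f (φ⁻¹ v).1, (φ⁻¹ v).2)`. -/
noncomputable def gMap (f : P →ₗ[T] T) : (Fin (a + 1) → T) →ₗ[T] (Fin (a + 1) → T) where
  toFun v := Fin.cons (f (φ.symm v).1) (φ.symm v).2
  map_add' x y := by
    rw [map_add, Prod.fst_add, Prod.snd_add, map_add, cons_add']
  map_smul' t x := by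
    rw [map_smul, Prod.smul_fst, Prod.smul_snd, map_smul, smul_eq_mul, cons_smul']
    rfl

theorem key (f : P →ₗ[T] T) (p : P) :
    D (cRow φ) (wMap φ p) * (LinearMap.toMatrix' (gMap φ f)).det = f p := by
  classical
  rw [D_eq_det, ← Matrix.det_transpose (LinearMap.toMatrix' (gMap φ f)), ← Matrix.det_mul]
  have hrow : ∀ (v : Fin (a + 1) → T) (l : Fin (a + 1)),
      ∑ j, v j * (LinearMap.toMatrix' (gMap φ f))ᵀ j l = gMap φ f v l := by
    intro v l
    have h1 := congrFun (LinearMap.toMatrix'_mulVec (gMap φ f) v) l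
    rw [← h1]
    simp only [Matrix.mulVec, dotProduct, Matrix.transpose_apply]
    exact Finset.sum_congr rfl fun j _ => mul_comm _ _
  have hprod : (Matrix.of (Fin.cons (wMap φ p) (cRow φ) : Fin (a + 1) → (Fin (a + 1) → T))) *
      (LinearMap.toMatrix' (gMap φ f))ᵀ =
      Matrix.diagonal (Fin.cons (f p) (fun _ => 1) : Fin (a + 1) → T) := by
    ext i l
    rw [Matrix.mul_apply]
    have h2 : ∀ j, (Matrix.of (Fin.cons (wMap φ p) (cRow φ) : Fin (a + 1) → (Fin (a + 1) → T)))
        i j = (Fin.cons (wMap φ p) (cRow φ) : Fin (a + 1) → (Fin (a + 1) → T)) i j := fun j => rfl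
    simp only [h2]
    rw [hrow]
    refine Fin.cases ?_ (fun i' => ?_) i
    · have h3 : gMap φ f (wMap φ p) = Fin.cons (f p) 0 := by
        show (Fin.cons (f (φ.symm (φ (p, 0))).1) (φ.symm (φ (p, 0))).2 : Fin (a + 1) → T) = _
        rw [LinearEquiv.symm_apply_apply]
      rw [Fin.cons_zero, h3]
      refine Fin.cases ?_ (fun l' => ?_) l
      · simp
      · simp [Matrix.diagonal_apply, Fin.succ_ne_zero, (Fin.succ_ne_zero _).symm]
    · have h3 : gMap φ f (cRow φ i') = Fin.cons 0 (Pi.single i' 1) := by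
        show (Fin.cons (f (φ.symm (φ (0, Pi.single i' 1))).1)
          (φ.symm (φ (0, Pi.single i' 1))).2 : Fin (a + 1) → T) = _
        rw [LinearEquiv.symm_apply_apply, map_zero]
      rw [Fin.cons_succ, h3]
      refine Fin.cases ?_ (fun l' => ?_) l
      · simp [Matrix.diagonal_apply, Fin.succ_ne_zero]
      · simp [Matrix.diagonal_apply, Pi.single_apply, eq_comm]
  rw [hprod, Matrix.det_diagonal, Fin.prod_univ_succ]
  simp

include φ in
theorem free_of_equiv [Module.Invertible T P] : Module.Free T P := by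
  let D' : P →ₗ[T] T := D (cRow φ) ∘ₗ wMap φ
  have hmem : ∀ (f : Module.Dual T P) (p : P), f p ∈ LinearMap.range D' := by
    intro f p
    refine ⟨(LinearMap.toMatrix' (gMap φ f)).det • p, ?_⟩
    rw [map_smul, smul_eq_mul, mul_comm]
    exact key φ f p
  obtain ⟨S, hS⟩ := ((Module.Invertible.linearEquiv T P).symm 1).exists_finset
  replace hS : (1 : T) = ∑ i ∈ S, i.1 i.2 := by
    simpa [LinearEquiv.symm_apply_eq, Module.Invertible.linearEquiv] using hS
  have h1 : (1 : T) ∈ LinearMap.range D' := by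
    rw [hS]
    exact sum_mem fun i _ => hmem i.1 i.2
  have hsurj : Function.Surjective D' := by
    intro t
    obtain ⟨p, hp⟩ := h1
    exact ⟨t • p, by rw [map_smul, hp, smul_eq_mul, mul_one]⟩
  exact Module.Free.of_equiv
    (LinearEquiv.ofBijective D' (Module.Invertible.bijective_of_surjective hsurj)).symm

end Det

theorem eq_succ_of_equiv [Nontrivial T] [Module.Invertible T P] {a b : ℕ}
    (φ : (P × (Fin a → T)) ≃ₗ[T] (Fin b → T)) : b = a + 1 := by
  obtain ⟨𝔪, h𝔪⟩ := Ideal.exists_maximal T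
  letI : Field (T ⧸ 𝔪) := Ideal.Quotient.field 𝔪
  have e1 : (T ⧸ 𝔪) ⊗[T] (P × (Fin a → T)) ≃ₗ[T ⧸ 𝔪] (T ⧸ 𝔪) ⊗[T] (Fin b → T) :=
    TensorProduct.AlgebraTensorModule.congr (LinearEquiv.refl (T ⧸ 𝔪) (T ⧸ 𝔪)) φ
  have e2 : (T ⧸ 𝔪) ⊗[T] (P × (Fin a → T)) ≃ₗ[T ⧸ 𝔪]
      ((T ⧸ 𝔪) ⊗[T] P) × ((T ⧸ 𝔪) ⊗[T] (Fin a → T)) :=
    TensorProduct.prodRight T (T ⧸ 𝔪) (T ⧸ 𝔪) P (Fin a → T)
  have h1 := e1.finrank_eq
  rw [e2.finrank_eq, Module.finrank_prod, Module.Invertible.finrank_eq_one,
    Module.finrank_baseChange, Module.finrank_baseChange,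
    Module.finrank_fin_fun, Module.finrank_fin_fun] at h1
  omega

/-- **a stably free invertible module is free**. -/
theorem free_of_stablyFree [Module.Invertible T P] (G G' : Type u) [AddCommGroup G] [Module T G]
    [Module.Free T G] [Module.Finite T G] [AddCommGroup G'] [Module T G'] [Module.Free T G']
    [Module.Finite T G'] (φ : (P × G) ≃ₗ[T] G') : Module.Free T P := by
  rcases subsingleton_or_nontrivial T with h | h
  · haveI : Subsingleton P := Module.subsingleton T P
    exact Module.Free.of_subsingleton T P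
  let eG : G ≃ₗ[T] (Fin (Module.finrank T G) → T) := (Module.finBasis T G).equivFun
  let eG' : G' ≃ₗ[T] (Fin (Module.finrank T G') → T) := (Module.finBasis T G').equivFun
  let φ' : (P × (Fin (Module.finrank T G) → T)) ≃ₗ[T] (Fin (Module.finrank T G') → T) :=
    (LinearEquiv.prodCongr (LinearEquiv.refl T P) eG.symm).trans (φ.trans eG')
  have hb := eq_succ_of_equiv φ'
  let e1 : (Fin (Module.finrank T G') → T) ≃ₗ[T] (Fin (Module.finrank T G + 1) → T) :=
    LinearEquiv.funCongrLeft T T (finCongr hb.symm)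
  exact free_of_equiv (φ'.trans e1)

end Groth.Agent.Lib.Helper7.StablyFreeInv
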