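import Mathlib
import Groth.Agent.Lib.Helper7.StablyFreeInv
import Groth.Agent.Lib.Helper7.FibrePDLocal
import Groth.Agent.Lib.Helper7.ValFP
import Groth.Agent.Lib.helper11.StablyFreeLoc

/-!
# Helper7 — PicGenFibre: the generic fibre of a local flat algebra, essentially of finite type over
a valuation ring with regular closed fibre, has trivial Picard group
-/

set_option autoImplicit false

namespace Groth.Agent.Lib.Helper7.PicGenFibre

open TensorProduct Function CategoryTheory IsLocalRing

universe u

section Tor

variable {V : Type*} [CommRing V] {K F M : Type*} [AddCommGroup K] [Module V K]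
  [AddCommGroup F] [Module V F] [AddCommGroup M] [Module V M]

/-- `K ∩ pF = pK` when `F / K` is flat. -/
theorem mem_smul_top_of_flat_coker (j : K →ₗ[V] F) (π : F →ₗ[V] M) (hj : Injective j)
    (hex : Exact j π) (hπ : Surjective π) [Module.Flat V M] (p : Ideal V) (k : K)
    (hk : j k ∈ p • (⊤ : Submodule V F)) : k ∈ p • (⊤ : Submodule V K) := by
  have hinj : Injective (j.lTensor (V ⧸ p)) :=
    Groth.Agent.Lib.Helper21.FlatDesc.lTensor_injective_of_flat_coker j π hj hex hπ (V ⧸ p)
  have h1 : ((1 : V ⧸ p) ⊗ₜ[V] (j k)) = 0 := by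
    rw [← TensorProduct.quotTensorEquivQuotSMul_symm_mk p (j k),
      (Submodule.Quotient.mk_eq_zero _).2 hk, map_zero]
  have h2 : ((1 : V ⧸ p) ⊗ₜ[V] k) = 0 := by
    apply hinj
    rw [LinearMap.lTensor_tmul, h1, map_zero]
  have h3 := congrArg (TensorProduct.quotTensorEquivQuotSMul K p) h2
  rw [TensorProduct.quotTensorEquivQuotSMul_mk_one_tmul, map_zero] at h3
  exact (Submodule.Quotient.mk_eq_zero _).1 h3

end Tor

section Core

variable (V S : Type u) [CommRing V] [CommRing S] [IsLocalRing S] [Algebra V S] (p : Ideal V)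

set_option maxHeartbeats 800000 in
set_option synthInstance.maxHeartbeats 200000 in
/-- **fibre criterion, local form**: `N` finitely presented over the local ring `S`, flat over `V`,
with `N / p N` flat over `S / p S` (`pS` proper).  Then `N` is free over `S`. -/
theorem free_of_fibre_flat (hp : p.map (algebraMap V S) ≤ maximalIdeal S)
    (N : Type u) [AddCommGroup N] [Module S N] [Module V N] [IsScalarTower V S N]
    [Module.FinitePresentation S N] [Module.Flat V N]
    (hfib : Module.Flat (S ⧸ p.map (algebraMap V S))
      (N ⧸ p.map (algebraMap V S) • (⊤ : Submodule S N))) : Module.Free S N := by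
  classical
  set I : Ideal S := p.map (algebraMap V S) with hI
  have hIne : I ≠ ⊤ := fun h => (maximalIdeal.isMaximal S).ne_top (top_le_iff.1 (h ▸ hp))
  haveI : Nontrivial (S ⧸ I) := Ideal.Quotient.nontrivial_iff.2 hIne
  haveI : IsLocalRing (S ⧸ I) :=
    IsLocalRing.of_surjective' (Ideal.Quotient.mk I) Ideal.Quotient.mk_surjective
  haveI : Module.Finite S (N ⧸ I • (⊤ : Submodule S N)) := inferInstance
  haveI : Module.Finite (S ⧸ I) (N ⧸ I • (⊤ : Submodule S N)) :=
    Module.Finite.of_restrictScalars_finite S (S ⧸ I) _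
  haveI : Module.Free (S ⧸ I) (N ⧸ I • (⊤ : Submodule S N)) := Module.free_of_flat_of_isLocalRing
  let n := Module.finrank (S ⧸ I) (N ⧸ I • (⊤ : Submodule S N))
  let b : Module.Basis (Fin n) (S ⧸ I) (N ⧸ I • (⊤ : Submodule S N)) := Module.finBasis _ _
  choose x hx using fun i => Submodule.mkQ_surjective (I • (⊤ : Submodule S N)) (b i)
  let π : (Fin n → S) →ₗ[S] N := Fintype.linearCombination S x
  have hπ_apply : ∀ v, π v = ∑ i, v i • x i := fun v => Fintype.linearCombination_apply S x v
  have hmk : ∀ v : Fin n → S, (I • (⊤ : Submodule S N)).mkQ (π v) =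
      ∑ i, (Ideal.Quotient.mk I (v i)) • b i := by
    intro v
    rw [hπ_apply, map_sum]
    refine Finset.sum_congr rfl fun i _ => ?_
    rw [map_smul, hx]
    rfl
  -- surjectivity
  have hjac : I ≤ (⊥ : Ideal S).jacobson := hp.trans (maximalIdeal_le_jacobson ⊥)
  have hπ : Surjective π := by
    rw [← LinearMap.range_eq_top, eq_top_iff]
    refine Submodule.le_of_le_smul_of_le_jacobson_bot (Module.Finite.fg_top) hjac ?_
    intro y _
    choose c hc using fun i => Ideal.Quotient.mk_surjective (b.repr ((I • (⊤ : Submodule S N)).mkQ y) i)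
    have h1 : (I • (⊤ : Submodule S N)).mkQ (y - π c) = 0 := by
      rw [map_sub, hmk, sub_eq_zero]
      simp only [hc]
      exact (b.sum_repr _).symm
    have h2 : y - π c ∈ I • (⊤ : Submodule S N) := (Submodule.Quotient.mk_eq_zero _).1 h1
    have : y = π c + (y - π c) := by abel
    rw [this]
    exact Submodule.add_mem_sup (LinearMap.mem_range_self π c) h2
  -- the kernel
  have hKfg : (LinearMap.ker π).FG := Module.FinitePresentation.fg_ker π hπ
  have hle : LinearMap.ker π ≤ I • LinearMap.ker π := by
    intro k hk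
    have hk0 : π k = 0 := LinearMap.mem_ker.1 hk
    have hki : ∀ i, k i ∈ I := by
      intro i
      have h1 := hmk k
      rw [hk0, map_zero] at h1
      have h2 := Fintype.linearIndependent_iff.1 b.linearIndependent
        (fun i => Ideal.Quotient.mk I (k i)) h1.symm i
      exact Ideal.Quotient.eq_zero_iff_mem.1 h2
    have hkF : k ∈ I • (⊤ : Submodule S (Fin n → S)) := by
      have : k = ∑ i, (k i) • (Pi.single i (1 : S) : Fin n → S) := by
        ext j
        simp [Finset.sum_apply, Pi.single_apply]
      rw [this]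
      exact sum_mem fun i _ => Submodule.smul_mem_smul (hki i) trivial
    have hkF' : k ∈ p • (⊤ : Submodule V (Fin n → S)) := by
      have h1 := Ideal.smul_restrictScalars (R := V) (S := S) p (⊤ : Submodule S (Fin n → S))
      rw [Submodule.restrictScalars_top] at h1
      rw [← h1]
      exact hkF
    have hk' : (⟨k, hk⟩ : LinearMap.ker π) ∈ p • (⊤ : Submodule V (LinearMap.ker π)) :=
      mem_smul_top_of_flat_coker ((LinearMap.ker π).subtype.restrictScalars V)
        (π.restrictScalars V) (LinearMap.ker π).injective_subtype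
        (LinearMap.exact_subtype_ker_map π) hπ p ⟨k, hk⟩ hkF'
    have hgen : ∀ z : LinearMap.ker π, z ∈ p • (⊤ : Submodule V (LinearMap.ker π)) →
        (z : Fin n → S) ∈ I • LinearMap.ker π := by
      intro z hz
      refine Submodule.smul_induction_on hz ?_ ?_
      · intro r hr m _
        have : ((r • m : LinearMap.ker π) : Fin n → S) = algebraMap V S r • (m : Fin n → S) := by
          rw [Submodule.coe_smul_of_tower, algebraMap_smul]
        rw [this]
        exact Submodule.smul_mem_smul (Ideal.mem_map_of_mem _ hr) m.2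
      · intro a b ha hb
        rw [Submodule.coe_add]
        exact add_mem ha hb
    exact hgen _ hk'
  have hK : LinearMap.ker π = ⊥ :=
    Submodule.eq_bot_of_le_smul_of_le_jacobson_bot I _ hKfg hle hjac
  exact Module.Free.of_equiv (LinearEquiv.ofBijective π ⟨LinearMap.ker_eq_bot.1 hK, hπ⟩)

end Core

section Val

variable (R A : Type u) [CommRing R] [IsDomain R] [ValuationRing R] [CommRing A] [IsLocalRing A]
  [Algebra R A] [IsLocalHom (algebraMap R A)] [Module.Flat R A] [Algebra.EssFiniteType R A]

omit [ValuationRing R] [IsLocalRing A] [IsLocalHom (algebraMap R A)]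
  [Algebra.EssFiniteType R A] in
/-- kernels of maps out of a free module are `R`-torsion-free. -/
theorem tf_ker {N : Type u} [AddCommGroup N] [Module A N] (k : ℕ) (π : (Fin k → A) →ₗ[A] N)
    (a : R) (x : LinearMap.ker π) (ha : a ≠ 0) (hax : a • x = 0) : x = 0 := by
  have hreg : IsSMulRegular A a :=
    Module.Flat.isSMulRegular_of_nonZeroDivisors (mem_nonZeroDivisors_of_ne_zero ha)
  apply Subtype.ext
  funext c
  have h1 : a • ((x : Fin k → A) c) = 0 := by
    have := congrArg (fun y : LinearMap.ker π => (y : Fin k → A) c) hax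
    simpa using this
  exact hreg.right_eq_zero_of_smul h1

omit [IsLocalRing A] [IsLocalHom (algebraMap R A)] [Module.Flat R A]
  [Algebra.EssFiniteType R A] [CommRing A] [Algebra R A] in
theorem flat_of_tf (N : Type u) [AddCommGroup N] [Module R N]
    (htf : ∀ (r : R) (x : N), r ≠ 0 → r • x = 0 → x = 0) : Module.Flat R N := by
  rw [Module.Flat.flat_iff_torsion_eq_bot_of_isBezout, eq_bot_iff]
  rintro x ⟨⟨a, ha⟩, hax⟩
  exact (Submodule.mem_bot _).2 (htf a x (nonZeroDivisors.ne_zero ha) hax)

set_option maxHeartbeats 800000 in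
set_option synthInstance.maxHeartbeats 200000 in
/-- finite torsion-free modules have projective dimension at most the dimension of the (regular)
closed fibre. -/
theorem hasPDLT_of_torsionFree
    [hreg : IsRegularLocalRing (A ⧸ (maximalIdeal R).map (algebraMap R A))] (d : ℕ)
    (hd : ringKrullDim (A ⧸ (maximalIdeal R).map (algebraMap R A)) = d)
    (N : Type u) [AddCommGroup N] [Module A N] [Module R N] [IsScalarTower R A N]
    [Module.Finite A N] (htf : ∀ (r : R) (x : N), r ≠ 0 → r • x = 0 → x = 0) :
    HasProjectiveDimensionLT (ModuleCat.of A N) (d + 1) := by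
  haveI : Module.FinitePresentation A N :=
    Groth.Agent.Lib.Helper7.ValFP.finitePresentation_of_torsionFree (A := R) (B := A) N htf
  haveI : Module.Flat R N := flat_of_tf R N htf
  have hS := Groth.Agent.Lib.helper11.GlDimRegular.hasProjectiveDimensionLT_of_isRegularLocalRing
    d hd (ModuleCat.of (Groth.Agent.Lib.Helper7.FibrePDLocal.Sbar R A (maximalIdeal R))
      (Groth.Agent.Lib.Helper7.FibrePDLocal.Sbar R A (maximalIdeal R) ⊗[A] N))
  refine Groth.Agent.Lib.Helper7.FibrePDLocal.hasPDLT_succ_of_fibre R A (maximalIdeal R)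
    ?_ ?_ d N hS
  · intro N' _ _ _ _ _ _ hfib
    haveI := free_of_fibre_flat R A (maximalIdeal R) (map_maximalIdeal_le (algebraMap R A)) N' hfib
    infer_instance
  · intro N' _ _ _ _ _ _ k π hπ
    haveI : Module.Finite A (LinearMap.ker π) :=
      Module.Finite.iff_fg.2 (Module.FinitePresentation.fg_ker π hπ)
    exact Groth.Agent.Lib.Helper7.ValFP.finitePresentation_of_torsionFree (A := R) (B := A)
      (LinearMap.ker π) (fun a x ha hax => tf_ker R A k π a x ha hax)

open Groth.Agent.Lib.helper11.StablyFreeLoc Groth.Agent.Lib.helper11 in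
set_option maxHeartbeats 800000 in
/-- finite torsion-free modules of finite projective dimension become stably free after a flat
base change making them projective. -/
theorem stablyFree_baseChange (S : Type u) [CommRing S] [Algebra A S] [Module.Flat A S] :
    ∀ (n : ℕ) (M : Type u) [AddCommGroup M] [Module A M] [Module R M] [IsScalarTower R A M]
    [Module.Finite A M], (∀ (r : R) (x : M), r ≠ 0 → r • x = 0 → x = 0) →
    HasProjectiveDimensionLT (ModuleCat.of A M) (n + 1) →
    Module.Projective S (S ⊗[A] M) → StablyFree S (S ⊗[A] M) := by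
  intro n
  induction n with
  | zero =>
    intro M _ _ _ _ _ _ hpd _
    haveI : Projective (ModuleCat.of A M) := projective_iff_hasProjectiveDimensionLT_one.2 hpd
    haveI : Module.Projective A M := (IsProjective.iff_projective (R := A) (P := M)).2 inferInstance
    haveI : Module.Free A M := Module.free_of_flat_of_isLocalRing
    refine ⟨PUnit, S ⊗[A] M, inferInstance, inferInstance, inferInstance, inferInstance,
      inferInstance, inferInstance, inferInstance, inferInstance, ⟨LinearEquiv.prodUnique⟩⟩
  | succ n ih =>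
    intro M _ _ _ _ _ htf hpd hproj
    haveI : Module.FinitePresentation A M :=
      Groth.Agent.Lib.Helper7.ValFP.finitePresentation_of_torsionFree (A := R) (B := A) M htf
    obtain ⟨m, g, hg⟩ := Module.Finite.exists_fin' A M
    let K := LinearMap.ker g
    haveI : Module.Finite A K := Module.Finite.iff_fg.2 (Module.FinitePresentation.fg_ker g hg)
    let f : K →ₗ[A] (Fin m → A) := K.subtype
    have hf : Function.Injective f := Submodule.injective_subtype K
    have hex : Function.Exact f g := by
      rw [LinearMap.exact_iff, Submodule.range_subtype]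
    have hS := ExtShift.sc_shortExact f g hf hg hex
    haveI : Projective (ExtShift.sc f g hex).X₂ :=
      (IsProjective.iff_projective (R := A) (P := (Fin m → A))).1 inferInstance
    have hpdK : HasProjectiveDimensionLT (ModuleCat.of A K) (n + 1) :=
      hS.hasProjectiveDimensionLT_X₁ (n + 1)
        (hasProjectiveDimensionLT_of_ge (ExtShift.sc f g hex).X₂ 1 (n + 1) (by omega)) hpd
    -- base change
    let f' : S ⊗[A] K →ₗ[S] S ⊗[A] (Fin m → A) := f.baseChange S
    let g' : S ⊗[A] (Fin m → A) →ₗ[S] S ⊗[A] M := g.baseChange S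
    have hf' : Function.Injective f' := by
      change Function.Injective (f.baseChange S : S ⊗[A] K → S ⊗[A] (Fin m → A))
      rw [LinearMap.baseChange_eq_ltensor]
      exact Module.Flat.lTensor_preserves_injective_linearMap f hf
    have hg' : Function.Surjective g' := by
      change Function.Surjective (g.baseChange S : S ⊗[A] (Fin m → A) → S ⊗[A] M)
      rw [LinearMap.baseChange_eq_ltensor]
      exact LinearMap.lTensor_surjective S hg
    have hex' : Function.Exact f' g' := by
      change Function.Exact (f.baseChange S : S ⊗[A] K → S ⊗[A] (Fin m → A))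
        (g.baseChange S : S ⊗[A] (Fin m → A) → S ⊗[A] M)
      rw [LinearMap.baseChange_eq_ltensor, LinearMap.baseChange_eq_ltensor]
      exact Module.Flat.lTensor_exact S hex
    -- splitting
    obtain ⟨l, hl⟩ := Module.projective_lifting_property g' LinearMap.id hg'
    obtain ⟨e, -, -⟩ := (hex'.splitSurjectiveEquiv hf') ⟨l, hl⟩
    haveI : Module.Projective S (S ⊗[A] K) := by
      refine Module.Projective.of_split (M := S ⊗[A] (Fin m → A))
        (e.symm.toLinearMap ∘ₗ LinearMap.inl S (S ⊗[A] K) (S ⊗[A] M))
        (LinearMap.fst S (S ⊗[A] K) (S ⊗[A] M) ∘ₗ e.toLinearMap) ?_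
      ext x
      simp
    obtain ⟨G, G', i1, i2, i3, i4, i5, i6, i7, i8, ⟨φ⟩⟩ :=
      ih K (fun a x ha hax => tf_ker R A m g a x ha hax) hpdK inferInstance
    refine ⟨G', (S ⊗[A] (Fin m → A)) × G, i5, i6, i7, i8, inferInstance, inferInstance,
      inferInstance, inferInstance, ⟨?_⟩⟩
    exact (LinearEquiv.prodCongr (LinearEquiv.refl S (S ⊗[A] M)) φ.symm).trans
      ((LinearEquiv.prodAssoc S (S ⊗[A] M) (S ⊗[A] K) G).symm.trans
        (LinearEquiv.prodCongr ((LinearEquiv.prodComm S (S ⊗[A] M) (S ⊗[A] K)).trans e.symm)
          (LinearEquiv.refl S G)))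

end Val

section Lattice

/-- a finite module over a localization is the localization of a finite submodule. -/
theorem exists_lattice (A T : Type u) [CommRing A] [CommRing T] [Algebra A T] (M : Submonoid A)
    [IsLocalization M T]
    (L : Type u) [AddCommGroup L] [Module T L] [Module A L] [IsScalarTower A T L]
    [Module.Finite T L] : ∃ N : Submodule A L, N.FG ∧ IsLocalizedModule M N.subtype := by
  classical
  obtain ⟨s, hs⟩ := (Module.Finite.fg_top : (⊤ : Submodule T L).FG)
  refine ⟨Submodule.span A (s : Set L), Submodule.fg_span s.finite_toSet, ?_⟩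
  refine ⟨?_, ?_, ?_⟩
  · intro m
    rw [Module.End.isUnit_iff]
    have hu : IsUnit (algebraMap A T m) := IsLocalization.map_units T m
    constructor
    · intro x y hxy
      have h1 : (algebraMap A T m) • x = (algebraMap A T m) • y := by
        simpa [Module.algebraMap_end_apply, algebraMap_smul] using hxy
      exact hu.smul_left_cancel.1 h1
    · intro y
      obtain ⟨u, hu'⟩ := hu
      refine ⟨(↑u⁻¹ : T) • y, ?_⟩
      rw [Module.algebraMap_end_apply, ← algebraMap_smul T (m : A), ← hu', smul_smul,
        Units.mul_inv, one_smul]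
  · intro y
    have hy : y ∈ Submodule.span T (s : Set L) := by rw [hs]; trivial
    refine Submodule.span_induction
      (p := fun y _ => ∃ x : ↥(Submodule.span A (s : Set L)) × M,
        x.2 • y = (Submodule.span A (s : Set L)).subtype x.1) ?_ ?_ ?_ ?_ hy
    · intro z hz
      exact ⟨(⟨z, Submodule.subset_span hz⟩, 1), one_smul _ _⟩
    · exact ⟨(0, 1), by simp⟩
    · rintro z w _ _ ⟨⟨n1, m1⟩, h1⟩ ⟨⟨n2, m2⟩, h2⟩
      refine ⟨((m2 : A) • n1 + (m1 : A) • n2, m1 * m2), ?_⟩
      simp only [Submonoid.smul_def, Submodule.subtype_apply, Submonoid.coe_mul,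
        Submodule.coe_add, Submodule.coe_smul] at h1 h2 ⊢
      rw [← h1, ← h2, smul_add, smul_smul, smul_smul, mul_comm (m1 : A) (m2 : A)]
    · rintro t z _ ⟨⟨n, m⟩, h⟩
      obtain ⟨⟨a, m'⟩, ha⟩ := IsLocalization.surj M t
      refine ⟨(a • n, m' * m), ?_⟩
      simp only [Submonoid.smul_def, Submodule.subtype_apply, Submonoid.coe_mul,
        Submodule.coe_smul] at h ⊢
      rw [← h, ← algebraMap_smul T (a : A), ← ha, ← algebraMap_smul T ((m' : A) * (m : A)),
        ← algebraMap_smul T (m : A), smul_smul, smul_smul, map_mul]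
      congr 1
      ring
  · intro x₁ x₂ h
    exact ⟨1, by rw [Subtype.ext h]⟩

end Lattice

section Main

variable (R A T : Type u) [CommRing R] [IsDomain R] [ValuationRing R] [CommRing A] [IsLocalRing A]
  [Algebra R A] [IsLocalHom (algebraMap R A)] [Module.Flat R A] [Algebra.EssFiniteType R A]
  [CommRing T] [Algebra A T]
  [IsLocalization (Algebra.algebraMapSubmonoid A (nonZeroDivisors R)) T]

open Groth.Agent.Lib.helper11.StablyFreeLoc in
set_option maxHeartbeats 800000 in
set_option synthInstance.maxHeartbeats 200000 in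
/-- **the generic fibre has trivial Picard group**. -/
theorem main (hreg : IsRegularLocalRing (A ⧸ (maximalIdeal R).map (algebraMap R A))) :
    Subsingleton (CommRing.Pic T) := by
  rw [CommRing.Pic.subsingleton_iff]
  intro L _ _ hL
  set M := Algebra.algebraMapSubmonoid A (nonZeroDivisors R) with hM
  letI mA : Module A L := Module.compHom L (algebraMap A T)
  haveI tAT : IsScalarTower A T L := IsScalarTower.of_algebraMap_smul fun _ _ => rfl
  letI mR : Module R L := Module.compHom L (algebraMap R A)
  haveI tRA : IsScalarTower R A L := IsScalarTower.of_algebraMap_smul fun _ _ => rfl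
  obtain ⟨N, hNfg, hNloc⟩ := exists_lattice A T M L
  haveI : Module.Finite A N := Module.Finite.iff_fg.2 hNfg
  have htf : ∀ (r : R) (x : N), r ≠ 0 → r • x = 0 → x = 0 := by
    intro r x hr hx
    have hmem : algebraMap R A r ∈ M :=
      Algebra.mem_algebraMapSubmonoid_of_mem ⟨r, mem_nonZeroDivisors_of_ne_zero hr⟩
    have hu : IsUnit (algebraMap A T (algebraMap R A r)) :=
      IsLocalization.map_units T (⟨algebraMap R A r, hmem⟩ : M)
    have h1 : (algebraMap A T (algebraMap R A r)) • (x : L) = 0 := by
      have := congrArg Subtype.val hx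
      rw [Submodule.coe_smul_of_tower, Submodule.coe_zero] at this
      rw [algebraMap_smul, algebraMap_smul]
      exact this
    apply Subtype.ext
    rw [Submodule.coe_zero]
    exact hu.smul_left_cancel.1 (h1.trans (smul_zero _).symm)
  haveI := hreg
  have hpd := hasPDLT_of_torsionFree R A
    ((maximalIdeal (A ⧸ (maximalIdeal R).map (algebraMap R A))).spanFinrank)
    (IsRegularLocalRing.spanFinrank_maximalIdeal
      (R := A ⧸ (maximalIdeal R).map (algebraMap R A))).symm N htf
  haveI : Module.Flat A T := IsLocalization.flat T M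
  let e : T ⊗[A] N ≃ₗ[T] L := (IsLocalizedModule.isBaseChange M T N.subtype).equiv
  haveI : Module.Projective T (T ⊗[A] N) := Module.Projective.of_equiv e.symm
  have hsf := stablyFree_baseChange R A T _ N htf hpd inferInstance
  obtain ⟨G, G', i1, i2, i3, i4, i5, i6, i7, i8, ⟨φ⟩⟩ := StablyFree.of_equiv e hsf
  exact Groth.Agent.Lib.Helper7.StablyFreeInv.free_of_stablyFree G G' φ

end Main

end Groth.Agent.Lib.Helper7.PicGenFibre
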