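import Mathlib
import Groth.Agent.Lib.Helper7.PicGenFibre
import Groth.Agent.Lib.Helper2.FlatCrit
import Groth.Agent.Lib.Helper21.FlatDescI

/-!
# Helper7 — FibreExactOpen: the locus where a complex of finite free modules is fibrewise exact is
open (flat finite type algebra over a Noetherian ring)
-/

set_option autoImplicit false

namespace Groth.Agent.Lib.Helper7.FibreExactOpen

open TensorProduct Function IsLocalRing

universe u

section SL

set_option maxHeartbeats 1600000 in
set_option synthInstance.maxHeartbeats 200000 in
/-- **Stacks 00ME as an equivalence**, over a Noetherian local `R`-algebra `B` with `p` the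
contraction of the maximal ideal: `d` is injective modulo `p` iff `d` is injective with `R`-flat
cokernel. -/
theorem sl (R B : Type u) [CommRing R] [CommRing B] [IsLocalRing B] [IsNoetherianRing B]
    [Algebra R B] (p : Ideal R) (hp : p = (maximalIdeal B).comap (algebraMap R B))
    {X Y : Type u} [AddCommGroup X] [Module B X] [Module.Finite B X]
    [AddCommGroup Y] [Module B Y] [Module R Y] [IsScalarTower R B Y] [Module.Flat R Y]
    (d : X →ₗ[B] Y) :
    (∀ x : X, d x ∈ p.map (algebraMap R B) • (⊤ : Submodule B Y) →
        x ∈ p.map (algebraMap R B) • (⊤ : Submodule B X)) ↔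
      (Injective d ∧ Module.Flat R (Y ⧸ LinearMap.range d)) := by
  letI mRX : Module R X := Module.compHom X (algebraMap R B)
  haveI tRX : IsScalarTower R B X := IsScalarTower.of_algebraMap_smul fun _ _ => rfl
  have hYtop : ∀ y : Y, y ∈ p.map (algebraMap R B) • (⊤ : Submodule B Y) ↔
      y ∈ p • (⊤ : Submodule R Y) := by
    intro y
    have h1 := Ideal.smul_restrictScalars (R := R) (S := B) p (⊤ : Submodule B Y)
    rw [Submodule.restrictScalars_top] at h1
    rw [← h1]
    rfl
  have hXtop : ∀ x : X, x ∈ p.map (algebraMap R B) • (⊤ : Submodule B X) ↔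
      x ∈ p • (⊤ : Submodule R X) := by
    intro x
    have h1 := Ideal.smul_restrictScalars (R := R) (S := B) p (⊤ : Submodule B X)
    rw [Submodule.restrictScalars_top] at h1
    rw [← h1]
    rfl
  constructor
  · intro hmod
    haveI hpp : p.IsPrime := by
      rw [hp]
      exact Ideal.comap_isPrime _ _
    have hunits0 : ∀ r : R, r ∉ p → IsUnit (algebraMap R B r) := by
      intro r hr
      have h1 : algebraMap R B r ∉ maximalIdeal B := fun h => hr (by rw [hp]; exact h)
      rwa [mem_maximalIdeal, mem_nonunits_iff, not_not] at h1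
    have hunits : ∀ y : p.primeCompl, IsUnit (algebraMap R B y) := fun y => hunits0 y y.2
    letI aAB : Algebra (Localization.AtPrime p) B := (IsLocalization.lift hunits).toAlgebra
    haveI tRAB : IsScalarTower R (Localization.AtPrime p) B :=
      IsScalarTower.of_algebraMap_eq fun r => (IsLocalization.lift_eq hunits r).symm
    letI mAX : Module (Localization.AtPrime p) X :=
      Module.compHom X (algebraMap (Localization.AtPrime p) B)
    haveI tABX : IsScalarTower (Localization.AtPrime p) B X :=
      IsScalarTower.of_algebraMap_smul fun _ _ => rfl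
    letI mAY : Module (Localization.AtPrime p) Y :=
      Module.compHom Y (algebraMap (Localization.AtPrime p) B)
    haveI tABY : IsScalarTower (Localization.AtPrime p) B Y :=
      IsScalarTower.of_algebraMap_smul fun _ _ => rfl
    haveI tRAY : IsScalarTower R (Localization.AtPrime p) Y :=
      IsScalarTower.of_algebraMap_smul fun r y => by
        show algebraMap (Localization.AtPrime p) B (algebraMap R _ r) • y = r • y
        rw [← IsScalarTower.algebraMap_apply, algebraMap_smul]
    haveI hflA : Module.Flat (Localization.AtPrime p) Y :=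
      (Module.flat_iff_of_isLocalization (Localization.AtPrime p) p.primeCompl Y).2 inferInstance
    have hI : (maximalIdeal (Localization.AtPrime p)).map
        (algebraMap (Localization.AtPrime p) B) = p.map (algebraMap R B) := by
      rw [← Localization.AtPrime.map_eq_maximalIdeal, Ideal.map_map,
        ← IsScalarTower.algebraMap_eq]
    have hJ : (maximalIdeal (Localization.AtPrime p)).map
        (algebraMap (Localization.AtPrime p) B) ≤ Ideal.jacobson ⊥ := by
      rw [hI]
      refine le_trans ?_ (maximalIdeal_le_jacobson ⊥)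
      rw [Ideal.map_le_iff_le_comap, hp]
    have hYtopA : ∀ y : Y, y ∈ p.map (algebraMap R B) • (⊤ : Submodule B Y) ↔
        y ∈ maximalIdeal (Localization.AtPrime p) • (⊤ : Submodule (Localization.AtPrime p) Y) := by
      intro y
      have h1 := Ideal.smul_restrictScalars (R := Localization.AtPrime p) (S := B)
        (maximalIdeal (Localization.AtPrime p)) (⊤ : Submodule B Y)
      rw [Submodule.restrictScalars_top, hI] at h1
      rw [← h1]
      rfl
    have hXtopA : ∀ x : X, x ∈ p.map (algebraMap R B) • (⊤ : Submodule B X) ↔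
        x ∈ maximalIdeal (Localization.AtPrime p) • (⊤ : Submodule (Localization.AtPrime p) X) := by
      intro x
      have h1 := Ideal.smul_restrictScalars (R := Localization.AtPrime p) (S := B)
        (maximalIdeal (Localization.AtPrime p)) (⊤ : Submodule B X)
      rw [Submodule.restrictScalars_top, hI] at h1
      rw [← h1]
      rfl
    have hinjmod : Injective ((d.restrictScalars (Localization.AtPrime p)).lTensor
        (Localization.AtPrime p ⧸ maximalIdeal (Localization.AtPrime p))) := by
      rw [injective_iff_map_eq_zero]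
      intro z hz
      obtain ⟨x, rfl⟩ := Groth.Agent.Lib.Helper2.FlatCrit.exists_eq_one_tmul
        (maximalIdeal (Localization.AtPrime p)) z
      rw [LinearMap.lTensor_tmul, Groth.Agent.Lib.Helper2.FlatCrit.one_tmul_eq_zero_iff] at hz
      rw [Groth.Agent.Lib.Helper2.FlatCrit.one_tmul_eq_zero_iff]
      exact (hXtopA x).1 (hmod x ((hYtopA _).2 hz))
    obtain ⟨h1, h2⟩ := Groth.Agent.Lib.Helper2.FlatCrit.injective_and_flat_coker (S := B)
      (maximalIdeal (Localization.AtPrime p)) hJ (d.restrictScalars (Localization.AtPrime p)) hinjmod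
    refine ⟨h1, ?_⟩
    have hrange : LinearMap.range (d.restrictScalars (Localization.AtPrime p)) =
        (LinearMap.range d).restrictScalars (Localization.AtPrime p) := by
      ext y
      simp
    let e1 : (Y ⧸ LinearMap.range (d.restrictScalars (Localization.AtPrime p)))
        ≃ₗ[Localization.AtPrime p] Y ⧸ LinearMap.range d :=
      (Submodule.quotEquivOfEq _ _ hrange).trans
        (Submodule.Quotient.restrictScalarsEquiv (Localization.AtPrime p) (LinearMap.range d))
    haveI hflA' : Module.Flat (Localization.AtPrime p) (Y ⧸ LinearMap.range d) :=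
      Module.Flat.of_linearEquiv e1.symm
    haveI tRAQ : IsScalarTower R (Localization.AtPrime p) (Y ⧸ LinearMap.range d) :=
      IsScalarTower.of_algebraMap_smul fun r y => by
        obtain ⟨y, rfl⟩ := Submodule.mkQ_surjective _ y
        show algebraMap R (Localization.AtPrime p) r • (LinearMap.range d).mkQ y =
          r • (LinearMap.range d).mkQ y
        rw [← LinearMap.map_smul_of_tower, ← LinearMap.map_smul_of_tower, algebraMap_smul]
    exact (Module.flat_iff_of_isLocalization (Localization.AtPrime p) p.primeCompl
      (Y ⧸ LinearMap.range d)).1 hflA'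
  · rintro ⟨hinj, hfl⟩ x hx
    haveI := hfl
    rw [hXtop]
    exact Groth.Agent.Lib.Helper7.PicGenFibre.mem_smul_top_of_flat_coker
      (d.restrictScalars R) ((LinearMap.range d).mkQ.restrictScalars R) hinj
      (LinearMap.exact_map_mkQ_range d) (Submodule.mkQ_surjective _) p x ((hYtop _).1 hx)

end SL

section Mat

variable {S B : Type u} [CommRing S] [CommRing B] [Algebra S B] (I : Ideal B)

/-- componentwise `S → B`. -/
noncomputable def iot (n : ℕ) : (Fin n → S) →ₗ[S] (Fin n → B) :=
  LinearMap.pi fun i => Algebra.linearMap S B ∘ₗ LinearMap.proj i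

omit I in
@[simp] theorem iot_apply (n : ℕ) (y : Fin n → S) (k : Fin n) :
    iot (B := B) n y k = algebraMap S B (y k) := rfl

/-- componentwise `B → B ⧸ I`. -/
noncomputable def rho (n : ℕ) : (Fin n → B) →ₗ[B] (Fin n → B ⧸ I) :=
  LinearMap.pi fun i => (Submodule.mkQ I) ∘ₗ LinearMap.proj i

@[simp] theorem rho_apply (n : ℕ) (v : Fin n → B) (k : Fin n) :
    rho I n v k = Ideal.Quotient.mk I (v k) := rfl

theorem rho_surjective (n : ℕ) : Surjective (rho I n) := by
  intro w
  choose v hv using fun k => Ideal.Quotient.mk_surjective (w k)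
  exact ⟨v, funext fun k => hv k⟩

theorem mem_smul_top_iff (n : ℕ) (v : Fin n → B) :
    v ∈ I • (⊤ : Submodule B (Fin n → B)) ↔ ∀ k, v k ∈ I := by
  classical
  constructor
  · intro hv
    refine Submodule.smul_induction_on hv ?_ ?_
    · intro r hr w _ k
      rw [Pi.smul_apply, smul_eq_mul]
      exact Ideal.mul_mem_right _ _ hr
    · intro x y hx hy k
      rw [Pi.add_apply]
      exact add_mem (hx k) (hy k)
  · intro hv
    have : v = ∑ k, (v k) • (Pi.single k (1 : B) : Fin n → B) := by
      ext j
      simp [Finset.sum_apply, Pi.single_apply]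
    rw [this]
    exact sum_mem fun k _ => Submodule.smul_mem_smul (hv k) trivial

theorem rho_eq_zero_iff (n : ℕ) (v : Fin n → B) :
    rho I n v = 0 ↔ v ∈ I • (⊤ : Submodule B (Fin n → B)) := by
  rw [mem_smul_top_iff]
  constructor
  · intro h k
    have := congrFun h k
    rw [rho_apply, Pi.zero_apply, Ideal.Quotient.eq_zero_iff_mem] at this
    exact this
  · intro h
    funext k
    rw [rho_apply, Pi.zero_apply, Ideal.Quotient.eq_zero_iff_mem]
    exact h k

variable {a b c : ℕ} (g : Matrix (Fin a) (Fin b) S) (f : Matrix (Fin b) (Fin c) S)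

omit I in
theorem mulVecLin_iot (y : Fin b → S) :
    Matrix.mulVecLin (g.map (algebraMap S B)) (iot b y) = iot a (Matrix.mulVecLin g y) := by
  funext i
  rw [Matrix.mulVecLin_apply, iot_apply, Matrix.mulVecLin_apply]
  exact (RingHom.map_mulVec (algebraMap S B) g y i).symm

theorem mulVecLin_rho (v : Fin b → B) :
    Matrix.mulVecLin (g.map (algebraMap S (B ⧸ I))) (rho I b v) =
      rho I a (Matrix.mulVecLin (g.map (algebraMap S B)) v) := by
  have h1 : g.map (algebraMap S (B ⧸ I)) =
      (g.map (algebraMap S B)).map (Ideal.Quotient.mk I) := by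
    rw [Matrix.map_map]
    rfl
  funext i
  rw [Matrix.mulVecLin_apply, rho_apply, Matrix.mulVecLin_apply, h1]
  exact (RingHom.map_mulVec (Ideal.Quotient.mk I) (g.map (algebraMap S B)) v i).symm

omit I in
theorem mulVecLin_comp_eq_zero (hgf : g * f = 0) (T : Type u) [CommRing T] [Algebra S T]
    (v : Fin c → T) :
    Matrix.mulVecLin (g.map (algebraMap S T)) (Matrix.mulVecLin (f.map (algebraMap S T)) v) = 0 := by
  rw [Matrix.mulVecLin_apply, Matrix.mulVecLin_apply, Matrix.mulVec_mulVec,
    ← Matrix.map_mul, hgf]
  simp

/-- fibrewise exactness in elementwise form. -/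
theorem ker_eq_range_iff (hgf : g * f = 0) :
    LinearMap.ker (Matrix.mulVecLin (g.map (algebraMap S (B ⧸ I)))) =
        LinearMap.range (Matrix.mulVecLin (f.map (algebraMap S (B ⧸ I)))) ↔
      ∀ v : Fin b → B, Matrix.mulVecLin (g.map (algebraMap S B)) v ∈
          I • (⊤ : Submodule B (Fin a → B)) →
        v ∈ LinearMap.range (Matrix.mulVecLin (f.map (algebraMap S B))) ⊔
          I • (⊤ : Submodule B (Fin b → B)) := by
  constructor
  · intro h v hv
    have h1 : rho I b v ∈ LinearMap.ker (Matrix.mulVecLin (g.map (algebraMap S (B ⧸ I)))) := by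
      rw [LinearMap.mem_ker, mulVecLin_rho, rho_eq_zero_iff]
      exact hv
    rw [h] at h1
    obtain ⟨w, hw⟩ := h1
    obtain ⟨w', rfl⟩ := rho_surjective I c w
    rw [mulVecLin_rho] at hw
    have h2 : rho I b (v - Matrix.mulVecLin (f.map (algebraMap S B)) w') = 0 := by
      rw [map_sub, hw, sub_self]
    rw [rho_eq_zero_iff] at h2
    have : v = Matrix.mulVecLin (f.map (algebraMap S B)) w' +
        (v - Matrix.mulVecLin (f.map (algebraMap S B)) w') := by abel
    rw [this]
    exact Submodule.add_mem_sup (LinearMap.mem_range_self _ w') h2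
  · intro h
    apply le_antisymm
    · intro w hw
      obtain ⟨v, rfl⟩ := rho_surjective I b w
      rw [LinearMap.mem_ker, mulVecLin_rho, rho_eq_zero_iff] at hw
      obtain ⟨x, ⟨w', rfl⟩, z, hz, hxz⟩ := Submodule.mem_sup.1 (h v hw)
      refine ⟨rho I c w', ?_⟩
      rw [mulVecLin_rho, ← hxz, map_add, (rho_eq_zero_iff I b z).2 hz, add_zero]
    · rintro _ ⟨w, rfl⟩
      rw [LinearMap.mem_ker]
      exact mulVecLin_comp_eq_zero g f hgf (B ⧸ I) w

end Mat

end Groth.Agent.Lib.Helper7.FibreExactOpen
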