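import Mathlib
import Groth.Agent.Lib.Helper7.FibreExactOpen

/-!
# Helper7 — FibreExactOpen2: pair lemma (local) for fibrewise exactness
-/

set_option autoImplicit false

namespace Groth.Agent.Lib.Helper7.FibreExactOpen

open TensorProduct Function IsLocalRing

universe u

section PairLocal

variable (R : Type u) {S : Type u} (B : Type u) [CommRing R] [CommRing S] [CommRing B] [IsLocalRing B]
  [IsNoetherianRing B] [Algebra R S] [Algebra S B] [Algebra R B] [IsScalarTower R S B]
  [Module.Flat R B]
  (p : Ideal R) (hp : p = (maximalIdeal B).comap (algebraMap R B))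
  {a b c : ℕ} (g : Matrix (Fin a) (Fin b) S) (f : Matrix (Fin b) (Fin c) S)

include hp in
set_option maxHeartbeats 1600000 in
set_option synthInstance.maxHeartbeats 200000 in
/-- **pair lemma**: exactness of the fibre at the closed point iff exactness plus flat cokernel. -/
theorem pair_local (hgf : g * f = 0) :
    LinearMap.ker (Matrix.mulVecLin (g.map (algebraMap S (B ⧸ p.map (algebraMap R B))))) =
        LinearMap.range (Matrix.mulVecLin (f.map (algebraMap S (B ⧸ p.map (algebraMap R B))))) ↔
      (LinearMap.ker (Matrix.mulVecLin (g.map (algebraMap S B))) =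
          LinearMap.range (Matrix.mulVecLin (f.map (algebraMap S B))) ∧
        Module.Flat R ((Fin a → B) ⧸ LinearMap.range (Matrix.mulVecLin (g.map (algebraMap S B))))) := by
  rw [ker_eq_range_iff (p.map (algebraMap R B)) g f hgf]
  set gB := Matrix.mulVecLin (g.map (algebraMap S B)) with hgB
  set fB := Matrix.mulVecLin (f.map (algebraMap S B)) with hfB
  set I := p.map (algebraMap R B) with hI
  have hle : LinearMap.range fB ≤ LinearMap.ker gB := by
    rintro _ ⟨w, rfl⟩
    rw [LinearMap.mem_ker]
    exact mulVecLin_comp_eq_zero g f hgf B w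
  haveI : Module.Flat R (Fin a → B) := Module.Flat.trans R B (Fin a → B)
  let d : ((Fin b → B) ⧸ LinearMap.range fB) →ₗ[B] (Fin a → B) := (LinearMap.range fB).liftQ gB hle
  have hd : ∀ v, d ((LinearMap.range fB).mkQ v) = gB v := fun v => rfl
  have hsl := sl R B p hp d
  have hmem : ∀ v : Fin b → B, (LinearMap.range fB).mkQ v ∈
      I • (⊤ : Submodule B ((Fin b → B) ⧸ LinearMap.range fB)) ↔
      v ∈ LinearMap.range fB ⊔ I • (⊤ : Submodule B (Fin b → B)) := by
    intro v
    have h1 : I • (⊤ : Submodule B ((Fin b → B) ⧸ LinearMap.range fB)) =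
        (I • (⊤ : Submodule B (Fin b → B))).map (LinearMap.range fB).mkQ := by
      rw [Submodule.map_smul'', Submodule.map_top, Submodule.range_mkQ]
    rw [h1, ← Submodule.mem_comap, Submodule.comap_map_mkQ]
  have hleft : (∀ v : Fin b → B, gB v ∈ I • (⊤ : Submodule B (Fin a → B)) →
      v ∈ LinearMap.range fB ⊔ I • (⊤ : Submodule B (Fin b → B))) ↔
      (∀ x : (Fin b → B) ⧸ LinearMap.range fB, d x ∈ I • (⊤ : Submodule B (Fin a → B)) →
        x ∈ I • (⊤ : Submodule B ((Fin b → B) ⧸ LinearMap.range fB))) := by
    constructor
    · intro h x hx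
      obtain ⟨v, rfl⟩ := Submodule.mkQ_surjective _ x
      rw [hmem]
      exact h v hx
    · intro h v hv
      rw [← hmem]
      exact h _ hv
  rw [hleft, hsl]
  have hrange : LinearMap.range d = LinearMap.range gB := Submodule.range_liftQ _ _ _
  have hinj : Injective d ↔ LinearMap.ker gB = LinearMap.range fB := by
    constructor
    · intro hi
      refine le_antisymm ?_ hle
      intro v hv
      have h0 : d ((LinearMap.range fB).mkQ v) = d 0 := by
        rw [hd, map_zero]
        exact hv
      have := hi h0
      exact (Submodule.Quotient.mk_eq_zero _).1 this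
    · intro h
      rw [← LinearMap.ker_eq_bot]
      exact Submodule.ker_liftQ_eq_bot _ _ _ (le_of_eq h)
  have hflat : Module.Flat R ((Fin a → B) ⧸ LinearMap.range d) ↔
      Module.Flat R ((Fin a → B) ⧸ LinearMap.range gB) := by
    constructor
    · intro h
      exact Module.Flat.of_linearEquiv
        ((Submodule.quotEquivOfEq _ _ hrange).restrictScalars R).symm
    · intro h
      exact Module.Flat.of_linearEquiv
        ((Submodule.quotEquivOfEq _ _ hrange).restrictScalars R)
  rw [hinj, hflat]

end PairLocal

section Loc

variable {S : Type u} [CommRing S] (q : Ideal S) [q.IsPrime]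

instance isLocalizedModule_iot (n : ℕ) :
    IsLocalizedModule q.primeCompl (iot (S := S) (B := Localization.AtPrime q) n) := by
  unfold iot
  infer_instance

variable {a b c : ℕ} (g : Matrix (Fin a) (Fin b) S) (f : Matrix (Fin b) (Fin c) S)

theorem isUnit_algebraMap_of_mem {t : S} (ht : t ∈ q.primeCompl) :
    IsUnit (algebraMap S (Localization.AtPrime q) t) :=
  IsLocalization.map_units (Localization.AtPrime q) (⟨t, ht⟩ : q.primeCompl)

/-- exactness of the localized pair in terms of the original pair. -/
theorem loc_exact_iff (hgf : g * f = 0) :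
    LinearMap.ker (Matrix.mulVecLin (g.map (algebraMap S (Localization.AtPrime q)))) =
        LinearMap.range (Matrix.mulVecLin (f.map (algebraMap S (Localization.AtPrime q)))) ↔
      ∀ y ∈ LinearMap.ker (Matrix.mulVecLin g), ∃ t ∈ q.primeCompl,
        t • y ∈ LinearMap.range (Matrix.mulVecLin f) := by
  set gB := Matrix.mulVecLin (g.map (algebraMap S (Localization.AtPrime q))) with hgB
  set fB := Matrix.mulVecLin (f.map (algebraMap S (Localization.AtPrime q))) with hfB
  have hle : LinearMap.range fB ≤ LinearMap.ker gB := by
    rintro _ ⟨w, rfl⟩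
    rw [LinearMap.mem_ker]
    exact mulVecLin_comp_eq_zero g f hgf (Localization.AtPrime q) w
  constructor
  · intro h y hy
    have h1 : iot (B := Localization.AtPrime q) b y ∈ LinearMap.ker gB := by
      rw [LinearMap.mem_ker, hgB, mulVecLin_iot, LinearMap.mem_ker.1 hy, map_zero]
    rw [h] at h1
    obtain ⟨v, hv⟩ := h1
    obtain ⟨⟨w, s⟩, hws⟩ := IsLocalizedModule.surj q.primeCompl
      (iot (S := S) (B := Localization.AtPrime q) c) v
    have h2 : iot (B := Localization.AtPrime q) b ((s : S) • y) =
        iot (B := Localization.AtPrime q) b (Matrix.mulVecLin f w) := by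
      have hws' : (s : S) • v = iot (B := Localization.AtPrime q) c w := hws
      rw [← mulVecLin_iot, ← hfB, ← hws', LinearMap.map_smul_of_tower fB, hv,
        LinearMap.map_smul (iot (B := Localization.AtPrime q) b)]
    obtain ⟨t, ht⟩ := (IsLocalizedModule.eq_iff_exists q.primeCompl
      (iot (S := S) (B := Localization.AtPrime q) b)).1 h2
    refine ⟨(t : S) * (s : S), q.primeCompl.mul_mem t.2 s.2, ?_⟩
    have ht' : (t : S) • ((s : S) • y) = (t : S) • Matrix.mulVecLin f w := ht
    rw [mul_smul, ht', ← map_smul]
    exact LinearMap.mem_range_self _ _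
  · intro h
    refine le_antisymm ?_ hle
    intro v hv
    obtain ⟨⟨y, s⟩, hys⟩ := IsLocalizedModule.surj q.primeCompl
      (iot (S := S) (B := Localization.AtPrime q) b) v
    have hys' : (s : S) • v = iot (B := Localization.AtPrime q) b y := hys
    have h1 : iot (B := Localization.AtPrime q) a (Matrix.mulVecLin g y) = 0 := by
      rw [← mulVecLin_iot, ← hys', ← hgB, LinearMap.map_smul_of_tower gB, LinearMap.mem_ker.1 hv,
        smul_zero]
    obtain ⟨t, ht⟩ := (IsLocalizedModule.eq_zero_iff q.primeCompl
      (iot (S := S) (B := Localization.AtPrime q) a)).1 h1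
    have ht' : (t : S) • Matrix.mulVecLin g y = 0 := ht
    have h2 : (t : S) • y ∈ LinearMap.ker (Matrix.mulVecLin g) := by
      rw [LinearMap.mem_ker, map_smul, ht']
    obtain ⟨t', ht'mem, w, hw⟩ := h _ h2
    -- `(t' t s) v = fB (ι w)`
    have h3 : (t' * (t : S) * (s : S)) • v =
        fB (iot (B := Localization.AtPrime q) c w) := by
      rw [hfB, mulVecLin_iot, hw, map_smul, map_smul, ← hys', mul_smul, mul_smul]
    have hu : IsUnit (algebraMap S (Localization.AtPrime q) (t' * (t : S) * (s : S))) :=
      isUnit_algebraMap_of_mem q (q.primeCompl.mul_mem (q.primeCompl.mul_mem ht'mem t.2) s.2)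
    obtain ⟨u, hu'⟩ := hu
    refine ⟨(↑u⁻¹ : Localization.AtPrime q) • iot (B := Localization.AtPrime q) c w, ?_⟩
    rw [map_smul, ← h3, ← algebraMap_smul (Localization.AtPrime q) (t' * (t : S) * (s : S)) v,
      ← hu', smul_smul, Units.inv_mul, one_smul]

/-- the exact locus of a pair of matrices is open. -/
theorem isOpen_exact [IsNoetherianRing S] (hgf : g * f = 0) :
    IsOpen {q : PrimeSpectrum S |
      LinearMap.ker (Matrix.mulVecLin (g.map (algebraMap S (Localization.AtPrime q.asIdeal)))) =
        LinearMap.range (Matrix.mulVecLin (f.map (algebraMap S (Localization.AtPrime q.asIdeal))))} := by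
  classical
  rw [isOpen_iff_forall_mem_open]
  intro q hq
  rw [Set.mem_setOf_eq, loc_exact_iff q.asIdeal g f hgf] at hq
  obtain ⟨s, hs⟩ : (LinearMap.ker (Matrix.mulVecLin g)).FG := IsNoetherian.noetherian _
  have hsmem : ∀ y : s, (y : Fin b → S) ∈ LinearMap.ker (Matrix.mulVecLin g) := fun y => by
    rw [← hs]
    exact Submodule.subset_span y.2
  choose t ht htr using fun y : s => hq y (hsmem y)
  let T : S := ∏ y : s, t y
  have hT : T ∈ q.asIdeal.primeCompl := prod_mem fun y _ => ht y
  refine ⟨(PrimeSpectrum.basicOpen T : Set (PrimeSpectrum S)), ?_, (PrimeSpectrum.basicOpen T).2, hT⟩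
  intro q' hq'
  rw [Set.mem_setOf_eq, loc_exact_iff q'.asIdeal g f hgf]
  have hTq' : T ∈ q'.asIdeal.primeCompl := hq'
  have hle : LinearMap.ker (Matrix.mulVecLin g) ≤
      (LinearMap.range (Matrix.mulVecLin f)).comap (LinearMap.lsmul S (Fin b → S) T) := by
    rw [← hs, Submodule.span_le]
    intro y hy
    rw [SetLike.mem_coe, Submodule.mem_comap, LinearMap.lsmul_apply]
    have h1 : T = (∏ y' ∈ (Finset.univ : Finset s).erase ⟨y, hy⟩, t y') * t ⟨y, hy⟩ :=
      (Finset.prod_erase_mul _ _ (Finset.mem_univ _)).symm
    rw [h1, mul_smul]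
    exact Submodule.smul_mem _ _ (htr ⟨y, hy⟩)
  intro y hy
  exact ⟨T, hTq', hle hy⟩

end Loc

section Coker

theorem isUnit_algebraMap_end {S B N : Type*} [CommRing S] [CommRing B] [Algebra S B]
    [AddCommGroup N] [Module S N] [Module B N] [IsScalarTower S B N] {t : S}
    (hu : IsUnit (algebraMap S B t)) : IsUnit (algebraMap S (Module.End S N) t) := by
  rw [Module.End.isUnit_iff]
  constructor
  · intro x y hxy
    have h1 : (algebraMap S B t) • x = (algebraMap S B t) • y := by
      simpa [Module.algebraMap_end_apply, algebraMap_smul] using hxy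
    exact hu.smul_left_cancel.1 h1
  · intro y
    obtain ⟨u, hu'⟩ := hu
    refine ⟨(↑u⁻¹ : B) • y, ?_⟩
    rw [Module.algebraMap_end_apply, ← algebraMap_smul B t, ← hu', smul_smul, Units.mul_inv,
      one_smul]

variable (R : Type u) {S : Type u} [CommRing R] [CommRing S] [Algebra R S] (q : Ideal S)
  [q.IsPrime] {a b : ℕ} (g : Matrix (Fin a) (Fin b) S)

/-- the comparison map `Coker g → Coker g_q`. -/
noncomputable def theta :
    ((Fin a → S) ⧸ LinearMap.range (Matrix.mulVecLin g)) →ₗ[S]
      ((Fin a → Localization.AtPrime q) ⧸
        LinearMap.range (Matrix.mulVecLin (g.map (algebraMap S (Localization.AtPrime q))))) :=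
  (LinearMap.range (Matrix.mulVecLin g)).liftQ
    (((LinearMap.range (Matrix.mulVecLin (g.map (algebraMap S (Localization.AtPrime q))))).mkQ.restrictScalars S) ∘ₗ
      iot (B := Localization.AtPrime q) a) (by
      rintro _ ⟨w, rfl⟩
      rw [LinearMap.mem_ker, LinearMap.comp_apply, ← mulVecLin_iot]
      exact (Submodule.Quotient.mk_eq_zero _).2 (LinearMap.mem_range_self _ _))

theorem theta_mk (y : Fin a → S) :
    theta q g ((LinearMap.range (Matrix.mulVecLin g)).mkQ y) =
      (LinearMap.range (Matrix.mulVecLin (g.map (algebraMap S (Localization.AtPrime q))))).mkQ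
        (iot (B := Localization.AtPrime q) a y) := rfl

set_option maxHeartbeats 800000 in
instance isLocalizedModule_theta : IsLocalizedModule q.primeCompl (theta q g) where
  map_units t := isUnit_algebraMap_end (B := Localization.AtPrime q)
    (isUnit_algebraMap_of_mem q t.2)
  surj y := by
    obtain ⟨v, rfl⟩ := Submodule.mkQ_surjective _ y
    obtain ⟨⟨w, s⟩, hws⟩ := IsLocalizedModule.surj q.primeCompl
      (iot (S := S) (B := Localization.AtPrime q) a) v
    have hws' : (s : S) • v = iot (B := Localization.AtPrime q) a w := hws
    refine ⟨((LinearMap.range (Matrix.mulVecLin g)).mkQ w, s), ?_⟩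
    simp only [Submonoid.smul_def]
    rw [theta_mk, ← hws', LinearMap.map_smul_of_tower]
  exists_of_eq := by
    intro x₁ x₂ h
    obtain ⟨y₁, rfl⟩ := Submodule.mkQ_surjective _ x₁
    obtain ⟨y₂, rfl⟩ := Submodule.mkQ_surjective _ x₂
    rw [theta_mk, theta_mk, ← sub_eq_zero, ← map_sub, ← map_sub] at h
    obtain ⟨v, hv⟩ := (Submodule.Quotient.mk_eq_zero _).1 h
    obtain ⟨⟨w, s⟩, hws⟩ := IsLocalizedModule.surj q.primeCompl
      (iot (S := S) (B := Localization.AtPrime q) b) v
    have hws' : (s : S) • v = iot (B := Localization.AtPrime q) b w := hws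
    have h2 : iot (B := Localization.AtPrime q) a ((s : S) • (y₁ - y₂)) =
        iot (B := Localization.AtPrime q) a (Matrix.mulVecLin g w) := by
      rw [← mulVecLin_iot, ← hws',
        LinearMap.map_smul_of_tower (Matrix.mulVecLin (g.map (algebraMap S (Localization.AtPrime q)))),
        hv, LinearMap.map_smul (iot (B := Localization.AtPrime q) a)]
    obtain ⟨t, ht⟩ := (IsLocalizedModule.eq_iff_exists q.primeCompl
      (iot (S := S) (B := Localization.AtPrime q) a)).1 h2
    have ht' : (t : S) • ((s : S) • (y₁ - y₂)) = (t : S) • Matrix.mulVecLin g w := ht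
    refine ⟨t * s, ?_⟩
    simp only [Submonoid.smul_def, Submonoid.coe_mul]
    rw [← sub_eq_zero, ← smul_sub, ← map_sub, ← map_smul, mul_smul, ht', ← map_smul]
    exact (Submodule.Quotient.mk_eq_zero _).2 (LinearMap.mem_range_self _ _)

set_option maxHeartbeats 800000 in
set_option synthInstance.maxHeartbeats 200000 in
/-- flatness of the localized cokernel in both forms. -/
theorem flat_coker_loc_iff :
    Module.Flat R ((Fin a → Localization.AtPrime q) ⧸
        LinearMap.range (Matrix.mulVecLin (g.map (algebraMap S (Localization.AtPrime q))))) ↔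
      Module.Flat R (LocalizedModule q.primeCompl
        ((Fin a → S) ⧸ LinearMap.range (Matrix.mulVecLin g))) := by
  let e := IsLocalizedModule.iso q.primeCompl (theta q g)
  haveI t1 : IsScalarTower R S ((Fin a → Localization.AtPrime q) ⧸
      LinearMap.range (Matrix.mulVecLin (g.map (algebraMap S (Localization.AtPrime q))))) :=
    IsScalarTower.of_algebraMap_smul fun r x => by
      obtain ⟨v, rfl⟩ := Submodule.mkQ_surjective _ x
      rw [← LinearMap.map_smul_of_tower, ← LinearMap.map_smul_of_tower, algebraMap_smul]
  constructor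
  · intro h
    exact Module.Flat.of_linearEquiv (e.restrictScalars R)
  · intro h
    exact Module.Flat.of_linearEquiv (e.restrictScalars R).symm

end Coker

section Main

variable (R S : Type u) [CommRing R] [IsNoetherianRing R] [CommRing S] [Algebra R S]
  [Algebra.FiniteType R S] [Module.Flat R S]

set_option maxHeartbeats 1600000 in
set_option synthInstance.maxHeartbeats 200000 in
/-- the locus where a pair of composable matrices is exact on the fibre local rings is open. -/
theorem isOpen_pair {a b c : ℕ} (g : Matrix (Fin a) (Fin b) S) (f : Matrix (Fin b) (Fin c) S)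
    (hgf : g * f = 0) :
    IsOpen {q : PrimeSpectrum S |
      LinearMap.ker (Matrix.mulVecLin (g.map (algebraMap S (Localization.AtPrime q.asIdeal ⧸
          (q.asIdeal.comap (algebraMap R S)).map
            (algebraMap R (Localization.AtPrime q.asIdeal)))))) =
        LinearMap.range (Matrix.mulVecLin (f.map (algebraMap S (Localization.AtPrime q.asIdeal ⧸
          (q.asIdeal.comap (algebraMap R S)).map
            (algebraMap R (Localization.AtPrime q.asIdeal))))))} := by
  haveI : IsNoetherianRing S := Algebra.FiniteType.isNoetherianRing R S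
  haveI : Algebra.FinitePresentation R S := Algebra.FinitePresentation.of_finiteType.mp inferInstance
  have hset : {q : PrimeSpectrum S |
      LinearMap.ker (Matrix.mulVecLin (g.map (algebraMap S (Localization.AtPrime q.asIdeal ⧸
          (q.asIdeal.comap (algebraMap R S)).map
            (algebraMap R (Localization.AtPrime q.asIdeal)))))) =
        LinearMap.range (Matrix.mulVecLin (f.map (algebraMap S (Localization.AtPrime q.asIdeal ⧸
          (q.asIdeal.comap (algebraMap R S)).map
            (algebraMap R (Localization.AtPrime q.asIdeal))))))} =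
      {q : PrimeSpectrum S |
        LinearMap.ker (Matrix.mulVecLin (g.map (algebraMap S (Localization.AtPrime q.asIdeal)))) =
          LinearMap.range (Matrix.mulVecLin (f.map (algebraMap S (Localization.AtPrime q.asIdeal))))} ∩
      {q : PrimeSpectrum S | Module.Flat R (LocalizedModule q.asIdeal.primeCompl
        ((Fin a → S) ⧸ LinearMap.range (Matrix.mulVecLin g)))} := by
    ext q
    haveI : Module.Flat S (Localization.AtPrime q.asIdeal) :=
      IsLocalization.flat (Localization.AtPrime q.asIdeal) q.asIdeal.primeCompl
    haveI : Module.Flat R (Localization.AtPrime q.asIdeal) :=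
      Module.Flat.trans R S (Localization.AtPrime q.asIdeal)
    haveI : IsNoetherianRing (Localization.AtPrime q.asIdeal) :=
      IsLocalization.isNoetherianRing q.asIdeal.primeCompl _ inferInstance
    have hp : q.asIdeal.comap (algebraMap R S) =
        (maximalIdeal (Localization.AtPrime q.asIdeal)).comap
          (algebraMap R (Localization.AtPrime q.asIdeal)) := by
      have h : (maximalIdeal (Localization.AtPrime q.asIdeal)).comap
          (algebraMap S (Localization.AtPrime q.asIdeal)) = q.asIdeal :=
        Localization.AtPrime.comap_maximalIdeal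
      rw [IsScalarTower.algebraMap_eq R S (Localization.AtPrime q.asIdeal), ← Ideal.comap_comap, h]
    rw [Set.mem_setOf_eq, Set.mem_inter_iff, Set.mem_setOf_eq, Set.mem_setOf_eq,
      pair_local R (Localization.AtPrime q.asIdeal) (q.asIdeal.comap (algebraMap R S)) hp g f hgf,
      flat_coker_loc_iff R q.asIdeal g]
  rw [hset]
  haveI : Module.FinitePresentation S ((Fin a → S) ⧸ LinearMap.range (Matrix.mulVecLin g)) :=
    Module.finitePresentation_of_finite S _
  exact (isOpen_exact g f hgf).inter
    (Groth.Agent.Lib.Helper21.FlatDesc.isOpen_flatLocus_of_finitePresentation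
      (R := R) (S := S) (M := (Fin a → S) ⧸ LinearMap.range (Matrix.mulVecLin g)))

set_option maxHeartbeats 1600000 in
/-- **the fibrewise exact locus of a complex of finite free modules is open**. -/
theorem main (e : ℕ) (n : ℕ → ℕ) (φ : (i : ℕ) → Matrix (Fin (n i)) (Fin (n (i + 1))) S)
    (hφ : ∀ i, i + 2 ≤ e → φ i * φ (i + 1) = 0) :
    IsOpen {q : PrimeSpectrum S |
      (∀ i, i + 2 ≤ e →
        LinearMap.ker (Matrix.mulVecLin ((φ i).map (algebraMap S (Localization.AtPrime q.asIdeal ⧸
          (q.asIdeal.comap (algebraMap R S)).map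
            (algebraMap R (Localization.AtPrime q.asIdeal)))))) =
          LinearMap.range (Matrix.mulVecLin ((φ (i + 1)).map
            (algebraMap S (Localization.AtPrime q.asIdeal ⧸
              (q.asIdeal.comap (algebraMap R S)).map
                (algebraMap R (Localization.AtPrime q.asIdeal))))))) ∧
      (1 ≤ e → Function.Injective
        (Matrix.mulVecLin ((φ (e - 1)).map (algebraMap S (Localization.AtPrime q.asIdeal ⧸
          (q.asIdeal.comap (algebraMap R S)).map
            (algebraMap R (Localization.AtPrime q.asIdeal)))))))} := by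
  have hA : IsOpen {q : PrimeSpectrum S | ∀ i, i + 2 ≤ e →
        LinearMap.ker (Matrix.mulVecLin ((φ i).map (algebraMap S (Localization.AtPrime q.asIdeal ⧸
          (q.asIdeal.comap (algebraMap R S)).map
            (algebraMap R (Localization.AtPrime q.asIdeal)))))) =
          LinearMap.range (Matrix.mulVecLin ((φ (i + 1)).map
            (algebraMap S (Localization.AtPrime q.asIdeal ⧸
              (q.asIdeal.comap (algebraMap R S)).map
                (algebraMap R (Localization.AtPrime q.asIdeal))))))} := by
    have hset : {q : PrimeSpectrum S | ∀ i, i + 2 ≤ e →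
        LinearMap.ker (Matrix.mulVecLin ((φ i).map (algebraMap S (Localization.AtPrime q.asIdeal ⧸
          (q.asIdeal.comap (algebraMap R S)).map
            (algebraMap R (Localization.AtPrime q.asIdeal)))))) =
          LinearMap.range (Matrix.mulVecLin ((φ (i + 1)).map
            (algebraMap S (Localization.AtPrime q.asIdeal ⧸
              (q.asIdeal.comap (algebraMap R S)).map
                (algebraMap R (Localization.AtPrime q.asIdeal))))))} =
        ⋂ i ∈ {i : ℕ | i + 2 ≤ e}, {q : PrimeSpectrum S |
          LinearMap.ker (Matrix.mulVecLin ((φ i).map (algebraMap S (Localization.AtPrime q.asIdeal ⧸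
            (q.asIdeal.comap (algebraMap R S)).map
              (algebraMap R (Localization.AtPrime q.asIdeal)))))) =
          LinearMap.range (Matrix.mulVecLin ((φ (i + 1)).map
            (algebraMap S (Localization.AtPrime q.asIdeal ⧸
              (q.asIdeal.comap (algebraMap R S)).map
                (algebraMap R (Localization.AtPrime q.asIdeal))))))} := by
      ext q
      simp only [Set.mem_setOf_eq, Set.mem_iInter]
    rw [hset]
    have hfin : {i : ℕ | i + 2 ≤ e}.Finite :=
      (Finset.finite_toSet (Finset.range e)).subset fun i hi => by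
        rw [Finset.mem_coe, Finset.mem_range]
        have : i + 2 ≤ e := hi
        omega
    exact hfin.isOpen_biInter fun i hi => isOpen_pair R S (φ i) (φ (i + 1)) (hφ i hi)
  have hB : IsOpen {q : PrimeSpectrum S | 1 ≤ e → Function.Injective
          (Matrix.mulVecLin ((φ (e - 1)).map (algebraMap S (Localization.AtPrime q.asIdeal ⧸
            (q.asIdeal.comap (algebraMap R S)).map
              (algebraMap R (Localization.AtPrime q.asIdeal))))))} := by
    by_cases he : 1 ≤ e
    · have hset : {q : PrimeSpectrum S | 1 ≤ e → Function.Injective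
          (Matrix.mulVecLin ((φ (e - 1)).map (algebraMap S (Localization.AtPrime q.asIdeal ⧸
            (q.asIdeal.comap (algebraMap R S)).map
              (algebraMap R (Localization.AtPrime q.asIdeal))))))} =
          {q : PrimeSpectrum S |
            LinearMap.ker (Matrix.mulVecLin ((φ (e - 1)).map
              (algebraMap S (Localization.AtPrime q.asIdeal ⧸
                (q.asIdeal.comap (algebraMap R S)).map
                  (algebraMap R (Localization.AtPrime q.asIdeal)))))) =
            LinearMap.range (Matrix.mulVecLin ((0 : Matrix (Fin (n (e - 1 + 1))) (Fin 0) S).map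
              (algebraMap S (Localization.AtPrime q.asIdeal ⧸
                (q.asIdeal.comap (algebraMap R S)).map
                  (algebraMap R (Localization.AtPrime q.asIdeal))))))} := by
        ext q
        have h0 : LinearMap.range (Matrix.mulVecLin ((0 : Matrix (Fin (n (e - 1 + 1))) (Fin 0) S).map
              (algebraMap S (Localization.AtPrime q.asIdeal ⧸
                (q.asIdeal.comap (algebraMap R S)).map
                  (algebraMap R (Localization.AtPrime q.asIdeal)))))) = ⊥ := by
          rw [eq_bot_iff]
          rintro _ ⟨w, rfl⟩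
          rw [Submodule.mem_bot, Subsingleton.elim w 0, map_zero]
        rw [Set.mem_setOf_eq, Set.mem_setOf_eq, h0, LinearMap.ker_eq_bot]
        exact ⟨fun h => h he, fun h _ => h⟩
      rw [hset]
      exact isOpen_pair R S (φ (e - 1)) (0 : Matrix (Fin (n (e - 1 + 1))) (Fin 0) S)
        (Matrix.mul_zero _)
    · have hset : {q : PrimeSpectrum S | 1 ≤ e → Function.Injective
          (Matrix.mulVecLin ((φ (e - 1)).map (algebraMap S (Localization.AtPrime q.asIdeal ⧸
            (q.asIdeal.comap (algebraMap R S)).map
              (algebraMap R (Localization.AtPrime q.asIdeal))))))} = Set.univ := by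
        ext q
        simp only [Set.mem_setOf_eq, Set.mem_univ, iff_true]
        exact fun h => absurd h he
      rw [hset]
      exact isOpen_univ
  exact hA.inter hB

end Main

end Groth.Agent.Lib.Helper7.FibreExactOpen
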