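import Groth.Agent.Lib.Helper7.FibreRegSpread
import Groth.Agent.Lib.Helper7.StalkLoc
import Groth.Agent.Lib.Helper28.FinType

/-!
# Helper7 — FibreRegScheme

Dictionary between the fibre module `F_x / m_y F_x` of a quasi-coherent module at a point of a scheme
and the algebraic fibre module `FibreRegSpread.Fib` over a pair of affine opens `U ≤ f⁻¹ V`.
-/

set_option autoImplicit false
set_option linter.unusedVariables false
set_option linter.style.haveILetI false

universe u

namespace Groth.Agent.Lib.Helper7.FibreRegScheme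

open CategoryTheory AlgebraicGeometry Opposite TopologicalSpace RingTheory.Sequence IsLocalRing
open Groth.Agent.Lib.Helper28.QCohLoc Groth.Agent.Lib.Helper29.QCohStalk
open Groth.Agent.Lib.Helper7.FibreRegSpread Groth.Agent.Lib.Helper7.StalkLoc
open Groth.Agent.Lib.Helper21.FlatLocal

attribute [local instance] Localization.AtPrime.algebraOfLiesOver
attribute [local instance] Groth.Agent.Lib.Helper7.FibreRegSpread.modR

variable {X Y : Scheme.{u}} (f : X ⟶ Y) (F : X.Modules) {U : X.Opens} (hU : IsAffineOpen U)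
  {V : Y.Opens} (hV : IsAffineOpen V) (e : U ≤ f ⁻¹ᵁ V) (hloc : IsLocOn F U) (x : X) (hx : x ∈ U)

/-- `Γ(X,U)` as an algebra over `Γ(Y,V)`. -/
@[reducible] noncomputable def algAB : Algebra Γ(Y, V) Γ(X, U) := (f.appLE V U e).hom.toAlgebra

/-- `Γ(F,U)` as a module over `Γ(Y,V)`. -/
@[reducible] noncomputable def modAM : Module Γ(Y, V) Γ(F, U) :=
  Module.compHom Γ(F, U) (f.appLE V U e).hom

theorem towerABM :
    letI := algAB f e
    letI := modAM f F e
    IsScalarTower Γ(Y, V) Γ(X, U) Γ(F, U) :=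
  letI := algAB f e
  letI := modAM f F e
  IsScalarTower.of_algebraMap_smul fun _ _ => rfl

theorem stalkMap_germ_appLE (hfx : f x ∈ V) (a : Γ(Y, V)) :
    (f.stalkMap x).hom ((Y.presheaf.germ V (f x) hfx).hom a) =
      (X.presheaf.germ U x hx).hom ((f.appLE V U e).hom a) := by
  show f.stalkMap x (Y.presheaf.germ V (f x) hfx a) = X.presheaf.germ U x hx (f.appLE V U e a)
  rw [Scheme.Hom.germ_stalkMap_apply]
  simp only [Scheme.Hom.appLE,
      homOfLE_leOfHom, CommRingCat.hom_comp, RingHom.coe_comp, Function.comp_apply,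
      X.presheaf.germ_res_apply]

include hU hV hloc in
theorem fib_iff (gs : List Γ(X, U)) :
    letI := algAB f e
    letI := modAM f F e
    haveI := towerABM f F e
    IsWeaklyRegular
        (↑(F.presheaf.stalk x) ⧸ (Ideal.map (f.stalkMap x).hom
          (maximalIdeal ↑(Y.presheaf.stalk (f x))) •
          (⊤ : Submodule ↑(X.presheaf.stalk x) ↑(F.presheaf.stalk x))))
        (gs.map (X.presheaf.germ U x hx).hom) ↔
      IsWeaklyRegular (Fib (A := Γ(Y, V)) Γ(F, U) (hU.primeIdealOf ⟨x, hx⟩).asIdeal)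
        (gs.map (algebraMap Γ(X, U)
          (Localization.AtPrime (hU.primeIdealOf ⟨x, hx⟩).asIdeal))) := by
  letI := algAB f e
  letI := modAM f F e
  haveI := towerABM f F e
  set q := (hU.primeIdealOf ⟨x, hx⟩).asIdeal with hq
  letI modB : Module Γ(X, U) (F.presheaf.stalk x) := stalkModule F x hx
  letI modA : Module Γ(Y, V) (F.presheaf.stalk x) :=
    Module.compHom (F.presheaf.stalk x) (algebraMap Γ(Y, V) Γ(X, U))
  haveI tAB : IsScalarTower Γ(Y, V) Γ(X, U) (F.presheaf.stalk x) :=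
    IsScalarTower.of_algebraMap_smul fun _ _ => rfl
  haveI hL := isLocalizedModule_gmLin F hU hloc x hx
  let ε₀ : LocalizedModule q.primeCompl Γ(F, U) ≃ₗ[Γ(X, U)] F.presheaf.stalk x :=
    IsLocalizedModule.iso q.primeCompl (gmLin F x hx)
  let εA : LocalizedModule q.primeCompl Γ(F, U) ≃ₗ[Γ(Y, V)] F.presheaf.stalk x :=
    ε₀.restrictScalars Γ(Y, V)
  have hfx : f x ∈ V := e hx
  haveI : q.IsPrime := (hU.primeIdealOf ⟨x, hx⟩).isPrime
  -- (a) the submodule `P_q`
  have hPq : ∀ n : LocalizedModule q.primeCompl Γ(F, U),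
      n ∈ ((maximalIdeal (Localization.AtPrime (q.under Γ(Y, V)))).map
        (algebraMap (Localization.AtPrime (q.under Γ(Y, V))) (Localization.AtPrime q)) •
          (⊤ : Submodule (Localization.AtPrime q) (LocalizedModule q.primeCompl Γ(F, U)))) ↔
      n ∈ ((q.under Γ(Y, V)) • ⊤ : Submodule Γ(Y, V) (LocalizedModule q.primeCompl Γ(F, U))) := by
    intro n
    rw [mem_map_smul_top_iff, ← Localization.AtPrime.map_eq_maximalIdeal, mem_map_smul_top_iff]
  -- (b) the submodule `P_x`
  letI algOyOx : Algebra (Y.presheaf.stalk (f x)) (X.presheaf.stalk x) :=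
    (f.stalkMap x).hom.toAlgebra
  letI modOy : Module (Y.presheaf.stalk (f x)) (F.presheaf.stalk x) :=
    Module.compHom _ (f.stalkMap x).hom
  haveI tOyOx : IsScalarTower (Y.presheaf.stalk (f x)) (X.presheaf.stalk x)
      (F.presheaf.stalk x) := IsScalarTower.of_algebraMap_smul fun _ _ => rfl
  letI algAOy : Algebra Γ(Y, V) (Y.presheaf.stalk (f x)) :=
    Y.presheaf.algebra_section_stalk ⟨f x, hfx⟩
  haveI hlocOy : IsLocalization.AtPrime (Y.presheaf.stalk (f x))
      (hV.primeIdealOf ⟨f x, hfx⟩).asIdeal := hV.isLocalization_stalk ⟨f x, hfx⟩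
  have hpp : (hV.primeIdealOf ⟨f x, hfx⟩).asIdeal = q.under Γ(Y, V) := by
    have h1 := IsAffineOpen.comap_primeIdealOf_appLE (f := f) (x := x) V hV U hU e hx
    exact congrArg PrimeSpectrum.asIdeal h1.symm
  haveI tAOy : IsScalarTower Γ(Y, V) (Y.presheaf.stalk (f x)) (F.presheaf.stalk x) :=
    ⟨fun a o m => by
      show (f.stalkMap x).hom (a • o) • m =
        (X.presheaf.germ U x hx).hom ((f.appLE V U e).hom a) • ((f.stalkMap x).hom o • m)
      rw [Algebra.smul_def, map_mul, mul_smul]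
      congr 1
      exact stalkMap_germ_appLE f e x hx hfx a⟩
  have hPx : ∀ m : F.presheaf.stalk x,
      m ∈ (Ideal.map (f.stalkMap x).hom (maximalIdeal ↑(Y.presheaf.stalk (f x))) •
          (⊤ : Submodule ↑(X.presheaf.stalk x) ↑(F.presheaf.stalk x))) ↔
      m ∈ ((q.under Γ(Y, V)) • ⊤ : Submodule Γ(Y, V) (F.presheaf.stalk x)) := by
    intro m
    have h1 := mem_map_smul_top_iff (R := Y.presheaf.stalk (f x)) (S := X.presheaf.stalk x)
      (N := F.presheaf.stalk x) (maximalIdeal (Y.presheaf.stalk (f x))) m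
    have h2 : maximalIdeal (Y.presheaf.stalk (f x)) =
        (q.under Γ(Y, V)).map (algebraMap Γ(Y, V) (Y.presheaf.stalk (f x))) := by
      rw [← hpp]
      exact (IsLocalization.AtPrime.map_eq_maximalIdeal _ _).symm
    rw [show Ideal.map (f.stalkMap x).hom (maximalIdeal ↑(Y.presheaf.stalk (f x))) =
      Ideal.map (algebraMap (Y.presheaf.stalk (f x)) (X.presheaf.stalk x))
        (maximalIdeal ↑(Y.presheaf.stalk (f x))) from rfl, h1, h2, mem_map_smul_top_iff]
  -- (c) transport along `εA`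
  have hmap : ∀ n : LocalizedModule q.primeCompl Γ(F, U),
      n ∈ ((q.under Γ(Y, V)) • ⊤ : Submodule Γ(Y, V) (LocalizedModule q.primeCompl Γ(F, U))) ↔
      εA n ∈ ((q.under Γ(Y, V)) • ⊤ : Submodule Γ(Y, V) (F.presheaf.stalk x)) := by
    intro n
    have h1 : ((q.under Γ(Y, V)) • ⊤ : Submodule Γ(Y, V) (LocalizedModule q.primeCompl Γ(F, U))).map
        εA.toLinearMap = (q.under Γ(Y, V)) • ⊤ := by
      rw [Submodule.map_smul'', Submodule.map_top, LinearEquiv.range]
    rw [← h1]
    constructor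
    · intro h
      exact ⟨n, h, rfl⟩
    · rintro ⟨n', hn', h⟩
      have : n' = n := εA.injective h
      rw [← this]
      exact hn'
  -- the additive equivalence of the fibre modules
  let e' : Fib (A := Γ(Y, V)) Γ(F, U) q ≃+
      (↑(F.presheaf.stalk x) ⧸ (Ideal.map (f.stalkMap x).hom
          (maximalIdeal ↑(Y.presheaf.stalk (f x))) •
          (⊤ : Submodule ↑(X.presheaf.stalk x) ↑(F.presheaf.stalk x)))) :=
    QuotientAddGroup.congr _ _ ε₀.toAddEquiv (by
      ext m
      rw [AddSubgroup.mem_map]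
      constructor
      · rintro ⟨n, hn, rfl⟩
        exact (hPx _).2 ((hmap n).1 ((hPq n).1 hn))
      · intro hm
        refine ⟨ε₀.symm m, (hPq _).2 ((hmap _).2 ?_), ?_⟩
        · show ε₀ (ε₀.symm m) ∈ _
          rw [LinearEquiv.apply_symm_apply]
          exact (hPx m).1 hm
        · exact ε₀.apply_symm_apply m)
  symm
  refine AddEquiv.isWeaklyRegular_congr (e := e') ?_
  rw [List.forall₂_map_left_iff, List.forall₂_map_right_iff, List.forall₂_same]
  intro b _ z
  obtain ⟨n, rfl⟩ := Submodule.Quotient.mk_surjective _ z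
  show e' (Submodule.Quotient.mk (algebraMap Γ(X, U) (Localization.AtPrime q) b • n)) =
    (X.presheaf.germ U x hx).hom b • e' (Submodule.Quotient.mk n)
  rw [algebraMap_smul]
  show Submodule.Quotient.mk (ε₀ (b • n)) = (X.presheaf.germ U x hx).hom b • Submodule.Quotient.mk (ε₀ n)
  rw [map_smul]
  rfl

include hU hV hloc in
theorem flat_of_isFlatOverAt (h : FlatMod.IsFlatOverAt f F x) :
    letI := algAB f e
    letI := modAM f F e
    haveI := towerABM f F e
    Module.Flat Γ(Y, V)
      (LocalizedModule (hU.primeIdealOf ⟨x, hx⟩).asIdeal.primeCompl Γ(F, U)) := by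
  letI := algAB f e
  letI := modAM f F e
  haveI := towerABM f F e
  set q := (hU.primeIdealOf ⟨x, hx⟩).asIdeal with hq
  letI modB : Module Γ(X, U) (F.presheaf.stalk x) := stalkModule F x hx
  letI modA : Module Γ(Y, V) (F.presheaf.stalk x) :=
    Module.compHom (F.presheaf.stalk x) (algebraMap Γ(Y, V) Γ(X, U))
  haveI tAB : IsScalarTower Γ(Y, V) Γ(X, U) (F.presheaf.stalk x) :=
    IsScalarTower.of_algebraMap_smul fun _ _ => rfl
  haveI hL := isLocalizedModule_gmLin F hU hloc x hx
  let ε₀ : LocalizedModule q.primeCompl Γ(F, U) ≃ₗ[Γ(X, U)] F.presheaf.stalk x :=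
    IsLocalizedModule.iso q.primeCompl (gmLin F x hx)
  let εA : LocalizedModule q.primeCompl Γ(F, U) ≃ₗ[Γ(Y, V)] F.presheaf.stalk x :=
    ε₀.restrictScalars Γ(Y, V)
  have hfx : f x ∈ V := e hx
  letI modOy : Module (Y.presheaf.stalk (f x)) (F.presheaf.stalk x) :=
    Module.compHom _ (f.stalkMap x).hom
  letI algAOy : Algebra Γ(Y, V) (Y.presheaf.stalk (f x)) :=
    Y.presheaf.algebra_section_stalk ⟨f x, hfx⟩
  haveI hlocOy : IsLocalization.AtPrime (Y.presheaf.stalk (f x))
      (hV.primeIdealOf ⟨f x, hfx⟩).asIdeal := hV.isLocalization_stalk ⟨f x, hfx⟩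
  haveI tAOy : IsScalarTower Γ(Y, V) (Y.presheaf.stalk (f x)) (F.presheaf.stalk x) :=
    ⟨fun a o m => by
      show (f.stalkMap x).hom (a • o) • m =
        (X.presheaf.germ U x hx).hom ((f.appLE V U e).hom a) • ((f.stalkMap x).hom o • m)
      rw [Algebra.smul_def, map_mul, mul_smul]
      congr 1
      exact stalkMap_germ_appLE f e x hx hfx a⟩
  haveI h1 : Module.Flat (Y.presheaf.stalk (f x)) (F.presheaf.stalk x) := h
  haveI h2 : Module.Flat Γ(Y, V) (Y.presheaf.stalk (f x)) :=
    IsLocalization.flat _ (hV.primeIdealOf ⟨f x, hfx⟩).asIdeal.primeCompl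
  haveI h3 : Module.Flat Γ(Y, V) (F.presheaf.stalk x) :=
    Module.Flat.trans Γ(Y, V) (Y.presheaf.stalk (f x)) (F.presheaf.stalk x)
  exact Module.Flat.of_linearEquiv εA

end Groth.Agent.Lib.Helper7.FibreRegScheme
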