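import Mathlib
import Groth.Agent.Lib.Helper22.GeomIrr

set_option autoImplicit false
universe u
open TensorProduct

/-!
# Functions vanishing on a fibrewise dense open of `Spec (R ⊗[k] A)` (helper7)
-/

namespace Groth.Agent.Lib.Helper7.FibrewiseDenseVanish

open IsLocalRing

section Local

variable {k A R' : Type u} [Field k] [IsAlgClosed k] [CommRing A] [Algebra k A] [IsDomain A]
  [CommRing R'] [Algebra k R'] [IsLocalRing R']

/-- reduction to the closed fibre -/
noncomputable def piRes : R' ⊗[k] A →ₐ[k] (ResidueField R') ⊗[k] A :=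
  Algebra.TensorProduct.map (IsScalarTower.toAlgHom k R' (ResidueField R')) (AlgHom.id k A)

theorem coeff_zero_of_mul_eq_zero {ι : Type u} (𝒞 : Module.Basis ι k A)
    (h' : R' ⊗[k] A) (hh : piRes (k := k) (A := A) (R' := R') h' ≠ 0) (c : ι →₀ R')
    (hc : h' * (c.sum fun i r => r ⊗ₜ[k] 𝒞 i) = 0) : c = 0 := by
  classical
  set K := ResidueField R'
  haveI : IsDomain (K ⊗[k] A) := Groth.Agent.Lib.Helper22.GeomIrr.isDomain_tensor
  let v : ι → R' ⊗[k] A := fun i => h' * (1 ⊗ₜ[k] 𝒞 i)
  let Θ : K ⊗[R'] (R' ⊗[k] A) ≃ₗ[K] K ⊗[k] A := AlgebraTensorModule.cancelBaseChange k R' K K A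
  have hΘ : ∀ t : R' ⊗[k] A, Θ (1 ⊗ₜ[R'] t) = piRes (k := k) (A := A) (R' := R') t := by
    intro t
    induction t using TensorProduct.induction_on with
    | zero => simp
    | tmul r a =>
      simp only [Θ, AlgebraTensorModule.cancelBaseChange_tmul, piRes, Algebra.TensorProduct.map_tmul,
        AlgHom.coe_id, id_eq, IsScalarTower.coe_toAlgHom']
      rw [Algebra.smul_def, mul_one]
    | add x y hx hy => rw [TensorProduct.tmul_add, map_add, hx, hy, map_add]
  let bD : Module.Basis ι K (K ⊗[k] A) := Algebra.TensorProduct.basis K 𝒞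
  have hli : LinearIndependent K (TensorProduct.mk R' K (R' ⊗[k] A) 1 ∘ v) := by
    refine LinearIndependent.of_comp Θ.toLinearMap ?_
    have : (Θ.toLinearMap ∘ (TensorProduct.mk R' K (R' ⊗[k] A) 1 ∘ v)) =
        (LinearMap.mulLeft K (piRes (k := k) (A := A) (R' := R') h')) ∘ bD := by
      funext i
      simp only [Function.comp_apply, LinearEquiv.coe_coe, TensorProduct.mk_apply, v, hΘ, map_mul,
        LinearMap.mulLeft_apply, bD, Algebra.TensorProduct.basis_apply]
      congr 1
    rw [this]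
    refine bD.linearIndependent.map' _ ?_
    rw [LinearMap.ker_eq_bot]
    intro x y hxy
    exact mul_left_cancel₀ hh hxy
  have hli' : LinearIndependent R' v := Module.IsLocalRing.linearIndependent_of_flat v hli
  have hsum : Finsupp.linearCombination R' v c = 0 := by
    rw [Finsupp.linearCombination_apply, ← hc, Finsupp.sum, Finsupp.sum, Finset.mul_sum]
    refine Finset.sum_congr rfl fun i _ => ?_
    simp only [v]
    rw [Algebra.smul_def, Algebra.TensorProduct.algebraMap_apply, Algebra.algebraMap_self,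
      RingHom.id_apply, mul_left_comm, Algebra.TensorProduct.tmul_mul_tmul, mul_one, one_mul]
  exact (linearIndependent_iff.mp hli') c hsum

end Local


section Main

variable (k : Type u) [Field k] [IsAlgClosed k]
    (A : Type u) [CommRing A] [Algebra k A] [IsDomain A]
    (R : Type u) [CommRing R] [Algebra k R]

theorem main
    (U : TopologicalSpace.Opens (PrimeSpectrum (R ⊗[k] A)))
    (hsurj : ∀ q : PrimeSpectrum R, ∃ P ∈ U,
      PrimeSpectrum.comap (Algebra.TensorProduct.includeLeftRingHom : R →+* R ⊗[k] A) P = q)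
    (f : R ⊗[k] A)
    (hf : ∀ g : R ⊗[k] A, (PrimeSpectrum.basicOpen g : Set (PrimeSpectrum (R ⊗[k] A))) ⊆ U →
      algebraMap (R ⊗[k] A) (Localization.Away g) f = 0) :
    f = 0 := by
  classical
  by_contra hf0
  let 𝒞 := Module.Basis.ofVectorSpace k A
  obtain ⟨c, hc⟩ := TensorProduct.eq_repr_basis_right 𝒞 f
  -- the annihilator of `f` in `R`
  let 𝔞 : Ideal R := Ideal.torsionOf R (R ⊗[k] A) f
  have h𝔞 : 𝔞 ≠ ⊤ := by
    rw [Ideal.ne_top_iff_one]
    intro h1
    rw [Ideal.mem_torsionOf_iff, one_smul] at h1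
    exact hf0 h1
  obtain ⟨q, hqmax, h𝔞q⟩ := Ideal.exists_le_maximal 𝔞 h𝔞
  haveI hqp : q.IsPrime := hqmax.isPrime
  obtain ⟨P, hPU, hPq⟩ := hsurj ⟨q, hqp⟩
  obtain ⟨_, ⟨_, ⟨g, rfl⟩, rfl⟩, hPg, hgU⟩ :=
    PrimeSpectrum.isBasis_basic_opens.exists_subset_of_mem_open hPU U.2
  have h0 := hf g hgU
  obtain ⟨⟨m, N, rfl⟩, hm⟩ := (IsLocalization.map_eq_zero_iff (Submonoid.powers g) _ f).mp h0
  have hm' : g ^ N * f = 0 := hm
  have hhP : g ^ N ∉ P.asIdeal := fun hh => hPg (P.isPrime.mem_of_pow_mem N hh)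
  -- localize at `q`
  let φ : R ⊗[k] A →ₐ[k] (Localization.AtPrime q) ⊗[k] A :=
    Algebra.TensorProduct.map (IsScalarTower.toAlgHom k R (Localization.AtPrime q)) (AlgHom.id k A)
  let c' : _ →₀ Localization.AtPrime q := c.mapRange (algebraMap R (Localization.AtPrime q)) (map_zero _)
  have hφsum : ∀ b : _ →₀ R, φ (b.sum fun i r => r ⊗ₜ[k] 𝒞 i) =
      (b.mapRange (algebraMap R (Localization.AtPrime q)) (map_zero _)).sum fun i r => r ⊗ₜ[k] 𝒞 i := by
    intro b
    rw [Finsupp.sum_mapRange_index (fun i => by simp), map_finsuppSum]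
    refine Finsupp.sum_congr fun i _ => ?_
    simp [φ]
  have hmul : φ (g ^ N) * (c'.sum fun i r => r ⊗ₜ[k] 𝒞 i) = 0 := by
    rw [← hφsum, hc, ← map_mul, hm', map_zero]
  have hπ : piRes (k := k) (A := A) (R' := Localization.AtPrime q) (φ (g ^ N)) ≠ 0 := by
    intro h0
    obtain ⟨b, hb⟩ := TensorProduct.eq_repr_basis_right 𝒞 (g ^ N)
    have hbq : ∀ j, b j ∈ q := by
      rw [← hb, hφsum] at h0
      have h1 : ((b.mapRange (algebraMap R (Localization.AtPrime q)) (map_zero _)).mapRange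
          (algebraMap (Localization.AtPrime q) (IsLocalRing.ResidueField (Localization.AtPrime q)))
          (map_zero _)).sum (fun i r => r ⊗ₜ[k] 𝒞 i) = 0 := by
        rw [← h0, Finsupp.sum_mapRange_index (fun i => by simp), map_finsuppSum]
        refine Finsupp.sum_congr fun i _ => ?_
        simp [piRes]
      have h2 := TensorProduct.sum_tmul_basis_right_eq_zero 𝒞 _ h1
      intro j
      have h3 := DFunLike.congr_fun h2 j
      simp only [Finsupp.mapRange_apply, Finsupp.coe_zero, Pi.zero_apply] at h3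
      rw [IsLocalRing.ResidueField.algebraMap_eq, IsLocalRing.residue_eq_zero_iff] at h3
      by_contra hj
      have : IsUnit (algebraMap R (Localization.AtPrime q) (b j)) :=
        IsLocalization.map_units (Localization.AtPrime q) (⟨b j, hj⟩ : q.primeCompl)
      exact h3 this
    apply hhP
    rw [← hb]
    refine Ideal.sum_mem _ fun j _ => ?_
    have h4 : (Algebra.TensorProduct.includeLeftRingHom : R →+* R ⊗[k] A) (b j) ∈ P.asIdeal := by
      have h5 := congrArg PrimeSpectrum.asIdeal hPq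
      have h6 : b j ∈ (PrimeSpectrum.comap (Algebra.TensorProduct.includeLeftRingHom : R →+* R ⊗[k] A) P).asIdeal := by
        rw [h5]; exact hbq j
      exact h6
    have h7 : b j ⊗ₜ[k] 𝒞 j = (Algebra.TensorProduct.includeLeftRingHom : R →+* R ⊗[k] A) (b j) *
        ((1 : R) ⊗ₜ[k] 𝒞 j) := by
      simp [Algebra.TensorProduct.tmul_mul_tmul]
    show b j ⊗ₜ[k] 𝒞 j ∈ P.asIdeal
    rw [h7]
    exact P.asIdeal.mul_mem_right _ h4
  have hc'0 := coeff_zero_of_mul_eq_zero 𝒞 (φ (g ^ N)) hπ c' hmul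
  have hex : ∀ i ∈ c.support, ∃ s : R, s ∉ q ∧ s * c i = 0 := by
    intro i _
    have h1 : algebraMap R (Localization.AtPrime q) (c i) = 0 := by
      have := DFunLike.congr_fun hc'0 i
      simpa [c'] using this
    obtain ⟨⟨s, hs⟩, hs0⟩ := (IsLocalization.map_eq_zero_iff q.primeCompl (Localization.AtPrime q) (c i)).mp h1
    exact ⟨s, hs, hs0⟩
  choose! s hs hs0 using hex
  have hSq : (∏ i ∈ c.support, s i) ∉ q := by
    intro h
    obtain ⟨i, hi, hmem⟩ := (hqp.prod_mem_iff).mp h
    exact hs i hi hmem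
  have hSf : (∏ i ∈ c.support, s i) • f = 0 := by
    rw [← hc, Finsupp.sum, Finset.smul_sum]
    refine Finset.sum_eq_zero fun i hi => ?_
    rw [TensorProduct.smul_tmul', smul_eq_mul, ← Finset.mul_prod_erase _ _ hi, mul_comm (s i), mul_assoc,
      hs0 i hi, mul_zero, zero_tmul]
  exact hSq (h𝔞q ((Ideal.mem_torsionOf_iff _ _).mpr hSf))

end Main

end Groth.Agent.Lib.Helper7.FibrewiseDenseVanish
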