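import Mathlib
import Groth.Agent.Lib.Helper7.FinUnramCount

/-!
# Fibre cardinality of a finite unramified morphism of regular integral schemes

Scheme-level version of `FinUnramCount.natCard_fibre`: for `π : Y ⟶ X` finite and formally unramified between
integral schemes with regular local rings, sending the generic point to the generic point, the fibre over
a point `p` with separably closed residue field has exactly `[K(Y) : K(X)]` points.
-/

set_option autoImplicit false
universe u

namespace Groth.Agent.Lib.Helper7.FinUnramSch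

open CategoryTheory AlgebraicGeometry TopologicalSpace Opposite

variable {X Y : Scheme.{u}}

/-- localizations of sections over an affine open at primes are regular if all stalks are. -/
theorem regular_localization {X : Scheme.{u}} (hregX : ∀ x : X, IsRegularLocalRing (X.presheaf.stalk x))
    {U : X.Opens} (hU : IsAffineOpen U) (P : Ideal Γ(X, U)) [hP : P.IsPrime] :
    IsRegularLocalRing (Localization.AtPrime P) := by
  let y : PrimeSpectrum Γ(X, U) := ⟨P, hP⟩
  have hy : hU.fromSpec y ∈ U := by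
    rw [← SetLike.mem_coe, ← hU.range_fromSpec]
    exact ⟨y, rfl⟩
  letI := TopCat.Presheaf.algebra_section_stalk X.presheaf ⟨hU.fromSpec y, hy⟩
  haveI h1 : IsLocalization.AtPrime (X.presheaf.stalk (hU.fromSpec y)) P :=
    hU.isLocalization_stalk' y hy
  haveI := hregX (hU.fromSpec y)
  exact IsRegularLocalRing.of_ringEquiv
    (IsLocalization.algEquiv P.primeCompl (X.presheaf.stalk (hU.fromSpec y))
      (Localization.AtPrime P)).toRingEquiv

/-- the residue field of the prime of an affine open corresponding to `p` is the residue field at `p`. -/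
noncomputable def residueFieldEquiv {X : Scheme.{u}} {U : X.Opens} (hU : IsAffineOpen U) (p : X)
    (hpU : p ∈ U) :
    (hU.primeIdealOf ⟨p, hpU⟩).asIdeal.ResidueField ≃+* X.residueField p := by
  letI := TopCat.Presheaf.algebra_section_stalk X.presheaf (⟨p, hpU⟩ : U)
  haveI h1 : IsLocalization.AtPrime (X.presheaf.stalk p) (hU.primeIdealOf ⟨p, hpU⟩).asIdeal :=
    hU.isLocalization_stalk ⟨p, hpU⟩
  exact IsLocalRing.ResidueField.mapEquiv
    (IsLocalization.algEquiv (hU.primeIdealOf ⟨p, hpU⟩).asIdeal.primeCompl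
      (Localization.AtPrime (hU.primeIdealOf ⟨p, hpU⟩).asIdeal) (X.presheaf.stalk p)).toRingEquiv

/-- Main scheme-level statement. -/
theorem natCard_fibre [IsIntegral X] [IsIntegral Y]
    (hregX : ∀ x : X, IsRegularLocalRing (X.presheaf.stalk x))
    (hregY : ∀ y : Y, IsRegularLocalRing (Y.presheaf.stalk y))
    (π : Y ⟶ X) [IsFinite π] [FormallyUnramified π]
    (e : π.base (genericPoint Y) = genericPoint X) (p : X)
    [IsAlgClosed (X.residueField p)] :
    letI := (X.presheaf.stalkSpecializes (specializes_of_eq e) ≫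
      π.stalkMap (genericPoint Y)).hom.toAlgebra
    Nat.card {q : Y // π.base q = p} =
      Module.finrank (X.presheaf.stalk (genericPoint X)) (Y.presheaf.stalk (genericPoint Y)) := by
  obtain ⟨U, hU, hpU, -⟩ :=
    X.isBasis_affineOpens.exists_subset_of_mem_open (Set.mem_univ p) isOpen_univ
  obtain ⟨U, hU', rfl⟩ := hU
  have hU : IsAffineOpen U := hU'
  have hpU : p ∈ U := hpU
  have hV : IsAffineOpen (π ⁻¹ᵁ U) := hU.preimage π
  haveI : Nonempty U := ⟨⟨p, hpU⟩⟩
  have hηU : genericPoint X ∈ U :=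
    ((genericPoint_spec X).mem_open_set_iff U.isOpen).mpr (by simpa using ‹Nonempty U›)
  have hηV : genericPoint Y ∈ π ⁻¹ᵁ U := by
    show π.base (genericPoint Y) ∈ U
    rw [e]; exact hηU
  haveI : Nonempty (π ⁻¹ᵁ U : Y.Opens) := ⟨⟨_, hηV⟩⟩
  have hφ : π.appLE U (π ⁻¹ᵁ U) le_rfl = π.app U := π.appLE_eq_app
  letI algAB : Algebra Γ(X, U) Γ(Y, π ⁻¹ᵁ U) := (π.app U).hom.toAlgebra
  haveI : Module.Finite Γ(X, U) Γ(Y, π ⁻¹ᵁ U) := IsFinite.finite_app π U hU
  haveI : Algebra.FormallyUnramified Γ(X, U) Γ(Y, π ⁻¹ᵁ U) := by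
    have := π.formallyUnramified_appLE hU hV le_rfl
    rw [hφ] at this
    exact this
  letI algKL : Algebra (X.presheaf.stalk (genericPoint X)) (Y.presheaf.stalk (genericPoint Y)) :=
    (X.presheaf.stalkSpecializes (specializes_of_eq e) ≫ π.stalkMap (genericPoint Y)).hom.toAlgebra
  letI algAL : Algebra Γ(X, U) (Y.presheaf.stalk (genericPoint Y)) :=
    ((algebraMap (X.presheaf.stalk (genericPoint X)) (Y.presheaf.stalk (genericPoint Y))).comp
      (algebraMap Γ(X, U) (X.functionField))).toAlgebra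
  haveI : IsScalarTower Γ(X, U) (X.presheaf.stalk (genericPoint X))
      (Y.presheaf.stalk (genericPoint Y)) := IsScalarTower.of_algebraMap_eq (fun _ => rfl)
  have htower : ∀ a : Γ(X, U),
      algebraMap Γ(X, U) (Y.presheaf.stalk (genericPoint Y)) a =
        algebraMap Γ(Y, π ⁻¹ᵁ U) (Y.functionField) (algebraMap Γ(X, U) Γ(Y, π ⁻¹ᵁ U) a) := by
    intro a
    show (X.presheaf.stalkSpecializes (specializes_of_eq e) ≫ π.stalkMap (genericPoint Y)).hom
        (X.presheaf.germ U (genericPoint X) hηU a) =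
      Y.presheaf.germ (π ⁻¹ᵁ U) (genericPoint Y) hηV ((π.app U).hom a)
    rw [CommRingCat.comp_apply, TopCat.Presheaf.germ_stalkSpecializes_apply,
      Scheme.Hom.germ_stalkMap_apply]
  haveI : IsScalarTower Γ(X, U) Γ(Y, π ⁻¹ᵁ U) (Y.presheaf.stalk (genericPoint Y)) :=
    IsScalarTower.of_algebraMap_eq htower
  haveI : IsFractionRing Γ(X, U) (X.presheaf.stalk (genericPoint X)) :=
    functionField_isFractionRing_of_isAffineOpen X U hU
  haveI : IsFractionRing Γ(Y, π ⁻¹ᵁ U) (Y.presheaf.stalk (genericPoint Y)) :=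
    functionField_isFractionRing_of_isAffineOpen Y (π ⁻¹ᵁ U) hV
  have hinj : Function.Injective (algebraMap Γ(X, U) Γ(Y, π ⁻¹ᵁ U)) := by
    intro a b hab
    have h1 : algebraMap Γ(X, U) (Y.presheaf.stalk (genericPoint Y)) a =
        algebraMap Γ(X, U) (Y.presheaf.stalk (genericPoint Y)) b := by
      rw [htower, htower, hab]
    have h2 : Function.Injective (algebraMap Γ(X, U) (Y.presheaf.stalk (genericPoint Y))) := by
      show Function.Injective
        ((algebraMap (X.presheaf.stalk (genericPoint X)) (Y.presheaf.stalk (genericPoint Y))).comp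
          (algebraMap Γ(X, U) (X.functionField)))
      rw [RingHom.coe_comp]
      exact (RingHom.injective _).comp (X.germToFunctionField_injective U)
    exact h2 h1
  haveI : IsAlgClosed (hU.primeIdealOf ⟨p, hpU⟩).asIdeal.ResidueField :=
    IsAlgClosed.of_ringEquiv (X.residueField p) _ (residueFieldEquiv hU p hpU).symm
  have key := FinUnramCount.natCard_fibre Γ(X, U) Γ(Y, π ⁻¹ᵁ U) hinj
    (fun P _ => regular_localization hregX hU P) (fun Q _ => regular_localization hregY hV Q)
    (hU.primeIdealOf ⟨p, hpU⟩)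
  rw [IsFractionRing.finrank_eq Γ(X, U) (X.presheaf.stalk (genericPoint X)) Γ(Y, π ⁻¹ᵁ U)
    (Y.presheaf.stalk (genericPoint Y)), ← key]
  have hcomap : ∀ (q : Y) (hq : q ∈ π ⁻¹ᵁ U),
      PrimeSpectrum.comap (algebraMap Γ(X, U) Γ(Y, π ⁻¹ᵁ U)) (hV.primeIdealOf ⟨q, hq⟩) =
        hU.primeIdealOf ⟨π.base q, hq⟩ := by
    intro q hq
    have := IsAffineOpen.comap_primeIdealOf_appLE U hU (π ⁻¹ᵁ U) hV le_rfl hq
    rw [hφ] at this
    exact this
  have hfrom : ∀ Q : PrimeSpectrum Γ(Y, π ⁻¹ᵁ U),
      π.base (hV.fromSpec.base Q) =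
        hU.fromSpec.base (PrimeSpectrum.comap (algebraMap Γ(X, U) Γ(Y, π ⁻¹ᵁ U)) Q) := by
    intro Q
    have h := IsAffineOpen.SpecMap_appLE_fromSpec π hU hV le_rfl
    rw [hφ] at h
    have h2 := congrArg (fun f => f.base Q) h
    simp only [Scheme.Hom.comp_base, TopCat.comp_app] at h2
    exact h2.symm
  refine Nat.card_congr
    { toFun := fun q => ⟨hV.primeIdealOf ⟨q.1, show π.base q.1 ∈ U by rw [q.2]; exact hpU⟩, ?_⟩
      invFun := fun Q => ⟨hV.fromSpec.base Q.1, ?_⟩
      left_inv := ?_
      right_inv := ?_ }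
  · rw [Set.mem_preimage, Set.mem_singleton_iff]
    refine (hcomap q.1 _).trans ?_
    congr 1
    exact Subtype.ext q.2
  · rw [hfrom, Q.2, hU.fromSpec_primeIdealOf]
  · intro q
    apply Subtype.ext
    exact hV.fromSpec_primeIdealOf _
  · intro Q
    apply Subtype.ext
    apply hV.fromSpec.isOpenEmbedding.injective
    exact hV.fromSpec_primeIdealOf _

end Groth.Agent.Lib.Helper7.FinUnramSch
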