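import Mathlib
import Groth.Agent.Lib.Helper2.NilpFree2
import Groth.Agent.Lib.Helper2.TorKill
import Groth.Agent.Lib.Helper2.LocalCrit
import Groth.Agent.Lib.Helper7.FlatIdealUniversal

/-!
# Flatness over an Artinian local base tested after a local base change, at the points over the
closed points (helper7)

Core of EGA IV 11.4–11.5: `A` local with nilpotent maximal ideal, `A → A'` with `A'` local, `B` a
Noetherian local `A`-algebra, `N` a finite `B`-module. If `N ⊗_A A'` is `A'`-flat at the primes of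
`B ⊗_A A'` lying over both maximal ideals, then `N ⊗_A A'` is `A'`-flat.
-/

set_option autoImplicit false
universe u
open TensorProduct

namespace Groth.Agent.Lib.Helper7.FlatTestLocal

open Groth.Agent.Lib.Helper2

section General

variable {B' : Type u} [CommRing B'] {Y : Type u} [AddCommGroup Y] [Module B' Y]

/-- an element vanishing locally at all primes containing `𝔐` is fixed by an element of `𝔐`. -/
theorem exists_eq_smul_of_forall_prime (𝔐 : Ideal B') (y : Y)
    (h : ∀ (P : Ideal B') [P.IsPrime], 𝔐 ≤ P → ∃ s : B', s ∉ P ∧ s • y = 0) :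
    ∃ b ∈ 𝔐, y = b • y := by
  set 𝔞 : Ideal B' := LinearMap.ker (LinearMap.toSpanSingleton B' Y y) with h𝔞
  have hmem : ∀ s : B', s ∈ 𝔞 ↔ s • y = 0 := by
    intro s
    rw [h𝔞, LinearMap.mem_ker, LinearMap.toSpanSingleton_apply]
  have htop : 𝔞 ⊔ 𝔐 = ⊤ := by
    by_contra hne
    obtain ⟨P, hP, hle⟩ := Ideal.exists_le_maximal _ hne
    haveI := hP.isPrime
    obtain ⟨s, hs, hsy⟩ := h P (le_sup_right.trans hle)
    exact hs (hle (Ideal.mem_sup_left ((hmem s).mpr hsy)))
  have h1 : (1 : B') ∈ 𝔞 ⊔ 𝔐 := by rw [htop]; exact Submodule.mem_top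
  obtain ⟨a, ha, b, hb, hab⟩ := Submodule.mem_sup.mp h1
  refine ⟨b, hb, ?_⟩
  have : (1 : B') • y = a • y + b • y := by rw [← add_smul, hab]
  rw [one_smul, (hmem a).mp ha, zero_add] at this
  exact this

theorem mem_pow_smul_top_of_eq_smul (J : Ideal B') (y : Y) (b : B') (hb : b ∈ J) (hy : y = b • y)
    (n : ℕ) : y ∈ J ^ n • (⊤ : Submodule B' Y) := by
  have h1 : ∀ n : ℕ, y = b ^ n • y := by
    intro n
    induction n with
    | zero => rw [pow_zero, one_smul]
    | succ n ih => rw [pow_succ, mul_smul, ← hy]; exact ih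
  rw [h1 n]
  exact Submodule.smul_mem_smul (Ideal.pow_mem_pow hb n) Submodule.mem_top

end General

section Retract

variable {A : Type u} [CommRing A] (𝔪 : Ideal A) [𝔪.IsMaximal]
  {U V : Type u} [AddCommGroup U] [Module A U] [AddCommGroup V] [Module A V]

/-- an injection into a module killed by a maximal ideal has a retraction. -/
theorem exists_retraction (hV : ∀ a ∈ 𝔪, ∀ v : V, a • v = 0) (ι : U →ₗ[A] V)
    (hι : Function.Injective ι) : ∃ ρ : V →ₗ[A] U, ρ ∘ₗ ι = LinearMap.id := by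
  have hT : Module.IsTorsionBySet A V 𝔪 := by
    intro v a
    exact hV a.1 a.2 v
  letI : Field (A ⧸ 𝔪) := Ideal.Quotient.field 𝔪
  letI := hT.module
  haveI : IsSemisimpleModule A V := (hT.isSemisimpleModule_iff).mp inferInstance
  exact IsSemisimpleModule.extension_property ι hι LinearMap.id

end Retract

section Phi

variable {A A' B B' : Type u} [CommRing A] [CommRing A'] [CommRing B] [CommRing B']
  [Algebra A B] [Algebra A A'] [Algebra B B'] [Algebra A' B'] [Algebra A B']
  [IsScalarTower A B B'] [IsScalarTower A A' B'] [Algebra.IsPushout A B A' B']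
  {N N' : Type u} [AddCommGroup N] [Module B N] [Module A N] [IsScalarTower A B N]
  [AddCommGroup N'] [Module B' N'] [Module A' N'] [IsScalarTower A' B' N'] [Module B N']
  [IsScalarTower B B' N'] [Module A N'] [IsScalarTower A A' N'] [IsScalarTower A B N']
  (f : N →ₗ[B] N')
  (Z : Type u) [AddCommGroup Z] [Module A' Z] [Module A Z] [IsScalarTower A A' Z]

variable (A A') in
/-- the comparison map `N ⊗_A Z → N' ⊗_{A'} Z`, `n ⊗ z ↦ f n ⊗ z`. -/
noncomputable def phi : N ⊗[A] Z →+ N' ⊗[A'] Z :=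
  TensorProduct.liftAddHom
    { toFun := fun n =>
        { toFun := fun z => f n ⊗ₜ[A'] z
          map_zero' := tmul_zero _ _
          map_add' := fun z₁ z₂ => tmul_add _ _ _ }
      map_zero' := by ext z; simp
      map_add' := fun n₁ n₂ => by ext z; simp [add_tmul] }
    (fun a n z => by
      show f (a • n) ⊗ₜ[A'] z = f n ⊗ₜ[A'] (a • z)
      rw [LinearMap.map_smul_of_tower, ← algebraMap_smul A' a (f n), ← algebraMap_smul A' a z,
        TensorProduct.smul_tmul])

@[simp] theorem phi_tmul (n : N) (z : Z) : phi A A' f Z (n ⊗ₜ z) = f n ⊗ₜ z := rfl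

theorem phi_smul (β : B) (t : N ⊗[A] Z) :
    phi A A' f Z (β • t) = algebraMap B B' β • phi A A' f Z t := by
  induction t with
  | zero => simp
  | add a b ha hb => rw [smul_add, map_add, ha, hb, map_add, smul_add]
  | tmul n z =>
    rw [TensorProduct.smul_tmul', phi_tmul, phi_tmul, map_smul, TensorProduct.smul_tmul',
      algebraMap_smul]

variable {Z} in
theorem phi_natural {Z₂ : Type u} [AddCommGroup Z₂] [Module A' Z₂] [Module A Z₂]
    [IsScalarTower A A' Z₂] (θ : Z →ₗ[A'] Z₂) (t : N ⊗[A] Z) :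
    phi A A' f Z₂ ((θ.restrictScalars A).lTensor N t) = θ.lTensor N' (phi A A' f Z t) := by
  induction t with
  | zero => simp
  | add a b ha hb => rw [map_add, map_add, ha, hb, map_add, map_add]
  | tmul n z =>
    rw [LinearMap.lTensor_tmul, phi_tmul, phi_tmul, LinearMap.lTensor_tmul]
    rfl

variable (hf : IsBaseChange B' f)

variable (A A') in
/-- the inverse comparison `N' ⊗_{A'} Z → N ⊗_A Z`. -/
noncomputable def psi : N' ⊗[A'] Z ≃+ N ⊗[A] Z :=
  haveI : Algebra.IsPushout A A' B B' := Algebra.IsPushout.symm inferInstance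
  let e₁ : N' ≃ₗ[A'] A' ⊗[A] N :=
    hf.equiv.symm.restrictScalars A' ≪≫ₗ Algebra.IsPushout.cancelBaseChange A A' B B' N
  ((TensorProduct.congr e₁ (LinearEquiv.refl A' Z)).toAddEquiv.trans
    (TensorProduct.comm A' (A' ⊗[A] N) Z).toAddEquiv).trans
    ((AlgebraTensorModule.cancelBaseChange A A' A' Z N).toAddEquiv.trans
      (TensorProduct.comm A Z N).toAddEquiv)

theorem psi_tmul (n : N) (z : Z) : psi A A' f Z hf (f n ⊗ₜ z) = n ⊗ₜ z := by
  haveI : Algebra.IsPushout A A' B B' := Algebra.IsPushout.symm inferInstance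
  simp [psi, IsBaseChange.equiv_symm_apply]

theorem psi_phi (t : N ⊗[A] Z) : psi A A' f Z hf (phi A A' f Z t) = t := by
  induction t with
  | zero => simp
  | add a b ha hb => rw [map_add, map_add, ha, hb]
  | tmul n z => rw [phi_tmul, psi_tmul]

theorem phi_psi (y : N' ⊗[A'] Z) : phi A A' f Z (psi A A' f Z hf y) = y := by
  apply (psi A A' f Z hf).injective
  rw [psi_phi]

theorem psi_smul (β : B) (y : N' ⊗[A'] Z) :
    psi A A' f Z hf (algebraMap B B' β • y) = β • psi A A' f Z hf y := by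
  have h1 := phi_psi (A := A) (A' := A') f Z hf y
  have h2 := phi_smul (A := A) (A' := A') (B' := B') f Z β (psi A A' f Z hf y)
  rw [h1] at h2
  rw [← h2, psi_phi]

/-- divisibility by powers of an ideal of `B` is transported by `psi`. -/
theorem psi_mem_pow_smul_top (𝔫 : Ideal B) (n : ℕ) (y : N' ⊗[A'] Z)
    (hy : y ∈ (𝔫.map (algebraMap B B')) ^ n • (⊤ : Submodule B' (N' ⊗[A'] Z))) :
    psi A A' f Z hf y ∈ 𝔫 ^ n • (⊤ : Submodule B (N ⊗[A] Z)) := by
  rw [← Ideal.map_pow] at hy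
  refine Submodule.smul_induction_on hy ?_ ?_
  · intro r hr m _
    have key : ∀ r ∈ (𝔫 ^ n).map (algebraMap B B'), ∀ m : N' ⊗[A'] Z,
        psi A A' f Z hf (r • m) ∈ 𝔫 ^ n • (⊤ : Submodule B (N ⊗[A] Z)) := by
      intro r hr
      refine Submodule.span_induction ?_ ?_ ?_ ?_ hr
      · rintro _ ⟨β, hβ, rfl⟩ m
        rw [psi_smul]
        exact Submodule.smul_mem_smul hβ Submodule.mem_top
      · intro m
        rw [zero_smul, map_zero]; exact zero_mem _
      · intro r₁ r₂ _ _ h₁ h₂ m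
        rw [add_smul, map_add]
        exact add_mem (h₁ m) (h₂ m)
      · intro c r₁ _ h₁ m
        rw [smul_eq_mul, mul_comm, mul_smul]
        exact h₁ (c • m)
    exact key r hr m
  · intro a b ha hb
    rw [map_add]
    exact add_mem ha hb

end Phi

section Main

variable {A A' B B' : Type u} [CommRing A] [CommRing A'] [CommRing B] [CommRing B']
  [IsLocalRing A] [IsNoetherianRing A] [IsLocalRing A'] [IsLocalRing B] [IsNoetherianRing B]
  [Algebra A B] [Algebra A A'] [Algebra B B'] [Algebra A' B'] [Algebra A B']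
  [IsScalarTower A B B'] [IsScalarTower A A' B'] [Algebra.IsPushout A B A' B']
  {N N' : Type u} [AddCommGroup N] [Module B N] [Module A N] [IsScalarTower A B N]
  [Module.Finite B N]
  [AddCommGroup N'] [Module B' N'] [Module A' N'] [IsScalarTower A' B' N'] [Module B N']
  [IsScalarTower B B' N']

open FlatIdealUniversal in
/-- **Core**: flatness of `N ⊗_A A'` over `A'` from flatness at the primes of `B ⊗_A A'` over both
maximal ideals (`A` local with nilpotent maximal ideal). -/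
theorem flat_baseChange_of_forall_flat_localized
    (hnil : IsNilpotent (IsLocalRing.maximalIdeal A))
    (f : N →ₗ[B] N') (hf : IsBaseChange B' f)
    (H : ∀ (P : Ideal B') [P.IsPrime],
      P.comap (algebraMap B B') = IsLocalRing.maximalIdeal B →
      P.comap (algebraMap A' B') = IsLocalRing.maximalIdeal A' →
      Module.Flat A' (LocalizedModule P.primeCompl N')) :
    Module.Flat A' (A' ⊗[A] N) := by
  classical
  set 𝔪 := IsLocalRing.maximalIdeal A with h𝔪
  set 𝔪' := IsLocalRing.maximalIdeal A' with h𝔪'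
  set 𝔫 := IsLocalRing.maximalIdeal B with h𝔫
  set φ := algebraMap A A' with hφ
  letI modAN' : Module A N' := Module.compHom N' φ
  haveI towAA'N' : IsScalarTower A A' N' := IsScalarTower.of_compHom _ _ _
  haveI towABN' : IsScalarTower A B N' := by
    refine ⟨fun a b n' => ?_⟩
    show (a • b) • n' = φ a • (b • n')
    rw [Algebra.smul_def, mul_smul, ← algebraMap_smul B' (algebraMap A B a) (b • n'),
      ← algebraMap_smul B' (φ a) (b • n'), ← IsScalarTower.algebraMap_apply,
      ← IsScalarTower.algebraMap_apply]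
  haveI : 𝔪.IsMaximal := IsLocalRing.maximalIdeal.isMaximal A
  letI : Field (A ⧸ 𝔪) := Ideal.Quotient.field 𝔪
  obtain ⟨R₀, hR₀⟩ := NilpFree2.exists_ideal_forall_free_iff N 𝔪 hnil
    (Module.Free.of_divisionRing _ _)
  rw [(hR₀ A').2]
  have hφ𝔪 : ∀ a ∈ 𝔪, φ a ∈ 𝔪' := by
    intro a ha
    obtain ⟨n, hn⟩ := hnil
    have h1 : a ^ n = 0 := by
      have : a ^ n ∈ 𝔪 ^ n := Ideal.pow_mem_pow ha n
      rw [hn] at this
      exact this
    rw [h𝔪', IsLocalRing.mem_maximalIdeal, mem_nonunits_iff]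
    intro hu
    have h2 : IsNilpotent (φ a) := ⟨n, by rw [← map_pow, h1, map_zero]⟩
    exact h2.not_isUnit hu
  have hR₀𝔪 : R₀ ≤ 𝔪 := by
    have h1 : Module.Flat (A ⧸ 𝔪) ((A ⧸ 𝔪) ⊗[A] N) := inferInstance
    have h2 := (hR₀ (A ⧸ 𝔪)).2.mp h1
    rwa [Ideal.map_eq_bot_iff_le_ker, Ideal.Quotient.algebraMap_eq, Ideal.mk_ker] at h2
  set 𝔷 := R₀.map φ with h𝔷
  set 𝔶 : Ideal A' := 𝔪' • 𝔷 with h𝔶
  have h𝔷fg : 𝔷.FG := Ideal.FG.map (IsNoetherian.noetherian R₀) φ
  refine Submodule.eq_bot_of_le_smul_of_le_jacobson_bot 𝔪' 𝔷 h𝔷fg ?_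
    (IsLocalRing.jacobson_eq_maximalIdeal ⊥ bot_ne_top).ge
  set W := R₀ ⊓ 𝔶.comap φ with hW
  suffices hRW : R₀ ≤ W by
    calc 𝔷 ≤ (𝔶.comap φ).map φ := Ideal.map_mono (hRW.trans inf_le_right)
      _ ≤ 𝔶 := Ideal.map_comap_le
  have hflatW : Module.Flat (A ⧸ W) ((A ⧸ W) ⊗[A] N) := by
    set I₁ : Ideal (A ⧸ W) := R₀.map (Ideal.Quotient.mk W) with hI₁
    have hI₁nil : IsNilpotent I₁ := by
      obtain ⟨n, hn⟩ := hnil
      refine ⟨n, ?_⟩
      rw [Ideal.zero_eq_bot, eq_bot_iff, hI₁, ← Ideal.map_pow]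
      calc (R₀ ^ n).map (Ideal.Quotient.mk W) ≤ (𝔪 ^ n).map (Ideal.Quotient.mk W) :=
            Ideal.map_mono (Ideal.pow_right_mono hR₀𝔪 n)
        _ = ⊥ := by rw [hn, Ideal.zero_eq_bot, Ideal.map_bot]
    haveI hflatI₁ : Module.Flat ((A ⧸ W) ⧸ I₁)
        (((A ⧸ W) ⧸ I₁) ⊗[A ⧸ W] ((A ⧸ W) ⊗[A] N)) := by
      have h1 : Module.Flat ((A ⧸ W) ⧸ I₁) (((A ⧸ W) ⧸ I₁) ⊗[A] N) := by
        rw [(hR₀ ((A ⧸ W) ⧸ I₁)).2, eq_bot_iff, Ideal.map_le_iff_le_comap]
        intro r hr
        rw [Ideal.mem_comap, Ideal.mem_bot, IsScalarTower.algebraMap_apply A (A ⧸ W) ((A ⧸ W) ⧸ I₁),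
          Ideal.Quotient.algebraMap_eq, Ideal.Quotient.algebraMap_eq]
        exact Ideal.Quotient.eq_zero_iff_mem.mpr (Ideal.mem_map_of_mem _ hr)
      exact Module.Flat.of_linearEquiv
        (AlgebraTensorModule.cancelBaseChange A (A ⧸ W) ((A ⧸ W) ⧸ I₁) ((A ⧸ W) ⧸ I₁) N)
    refine TorKill.flat_of_isNilpotent I₁ hI₁nil ?_
    refine lTensor_injective_of_restrictScalars W I₁ ?_
    -- the test module `Z`: the socle of `E = A'/𝔪'𝔷`
    set E := A' ⧸ 𝔶 with hE
    set Zs : Submodule A' E := Submodule.torsionBySet A' E (𝔪' : Set A') with hZs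
    have hWker : W ≤ LinearMap.ker ((Ideal.Quotient.mkₐ A 𝔶).toLinearMap ∘ₗ Algebra.linearMap A A') := by
      intro w hw
      rw [LinearMap.mem_ker]
      show Ideal.Quotient.mk 𝔶 (φ w) = 0
      exact Ideal.Quotient.eq_zero_iff_mem.mpr hw.2
    let ψ : (A ⧸ W) →ₗ[A] E :=
      Submodule.liftQ W ((Ideal.Quotient.mkₐ A 𝔶).toLinearMap ∘ₗ Algebra.linearMap A A') hWker
    have hψ : ∀ r : A, ψ (Ideal.Quotient.mk W r) = Ideal.Quotient.mk 𝔶 (φ r) := fun r => rfl
    set j : ↥I₁ →ₗ[A] (A ⧸ W) := I₁.subtype.restrictScalars A with hj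
    have hmemZ : ∀ x : ↥I₁, ψ x.1 ∈ Zs := by
      rintro ⟨x, hx⟩
      obtain ⟨r, hr, rfl⟩ := (Ideal.mem_map_iff_of_surjective _ Ideal.Quotient.mk_surjective).mp hx
      rw [hZs, Submodule.mem_torsionBySet_iff]
      rintro ⟨a', ha'⟩
      show a' • ψ (Ideal.Quotient.mk W r) = 0
      rw [hψ, Algebra.smul_def, Ideal.Quotient.algebraMap_eq, ← map_mul]
      refine Ideal.Quotient.eq_zero_iff_mem.mpr ?_
      rw [h𝔶, ← smul_eq_mul]
      exact Submodule.smul_mem_smul ha' (Ideal.mem_map_of_mem _ hr)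
    let ι : ↥I₁ →ₗ[A] ↥Zs :=
      { toFun := fun x => ⟨ψ x.1, hmemZ x⟩
        map_add' := fun x y => Subtype.ext (by simp)
        map_smul' := fun a x => Subtype.ext (by simp) }
    have hι : Function.Injective ι := by
      rw [injective_iff_map_eq_zero]
      rintro ⟨x, hx⟩ h0
      obtain ⟨r, hr, rfl⟩ := (Ideal.mem_map_iff_of_surjective _ Ideal.Quotient.mk_surjective).mp hx
      have h1 : ψ (Ideal.Quotient.mk W r) = 0 := congrArg Subtype.val h0
      rw [hψ, Ideal.Quotient.eq_zero_iff_mem] at h1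
      apply Subtype.ext
      show Ideal.Quotient.mk W r = 0
      exact Ideal.Quotient.eq_zero_iff_mem.mpr ⟨hr, h1⟩
    have hkillZ : ∀ a ∈ 𝔪, ∀ z : ↥Zs, a • z = 0 := by
      intro a ha z
      apply Subtype.ext
      show a • (z : E) = 0
      rw [← algebraMap_smul A' a (z : E)]
      exact ((Submodule.mem_torsionBySet_iff _ _).mp z.2) ⟨φ a, hφ𝔪 a ha⟩
    obtain ⟨ρ, hρ⟩ := exists_retraction 𝔪 hkillZ ι hι
    rw [injective_iff_map_eq_zero]
    intro x hx
    set x' := (ι.lTensor N) x with hx'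
    set y := phi A A' f ↥Zs x' with hy
    -- local vanishing of `y`
    have hV1 : ∀ (P : Ideal B') [P.IsPrime], P.comap (algebraMap B B') = 𝔫 →
        P.comap (algebraMap A' B') = 𝔪' → ∃ s : B', s ∉ P ∧ s • y = 0 := by
      intro P _ hP1 hP2
      haveI := H P hP1 hP2
      set g := LocalizedModule.mkLinearMap P.primeCompl N' with hg
      have h1 : (Zs.subtype.lTensor N') y = 0 := by
        rw [hy, ← phi_natural, hx', ← LinearMap.comp_apply, ← LinearMap.lTensor_comp]
        have hcomp : (Zs.subtype.restrictScalars A) ∘ₗ ι = ψ ∘ₗ j := by ext z; rfl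
        rw [hcomp, LinearMap.lTensor_comp, LinearMap.comp_apply, hx, map_zero, map_zero]
      have h2 : (Zs.subtype.lTensor (LocalizedModule P.primeCompl N'))
          (((g.restrictScalars A').rTensor ↥Zs) y) = 0 := by
        rw [← LinearMap.comp_apply, LinearMap.lTensor_comp_rTensor,
          ← LinearMap.rTensor_comp_lTensor, LinearMap.comp_apply, h1, map_zero]
      have h3 : ((g.restrictScalars A').rTensor ↥Zs) y = 0 :=
        (Module.Flat.lTensor_preserves_injective_linearMap Zs.subtype Zs.injective_subtype)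
          (by rw [h2, map_zero])
      have h4 : (AlgebraTensorModule.rTensor A' ↥Zs g) y =
          (AlgebraTensorModule.rTensor A' ↥Zs g) 0 := by
        rw [map_zero]; exact h3
      obtain ⟨c, hc⟩ := IsLocalizedModule.exists_of_eq (S := P.primeCompl)
        (f := AlgebraTensorModule.rTensor A' ↥Zs g) h4
      exact ⟨c.1, c.2, by rw [smul_zero] at hc; exact hc⟩
    set 𝔐 : Ideal B' := 𝔫.map (algebraMap B B') ⊔ 𝔪'.map (algebraMap A' B') with h𝔐
    obtain ⟨b, hb, hyb⟩ := exists_eq_smul_of_forall_prime 𝔐 y (fun P _ hP => by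
      have hP1 : P.comap (algebraMap B B') = 𝔫 := by
        haveI : (P.comap (algebraMap B B')).IsPrime := Ideal.comap_isPrime _ _
        exact ((IsLocalRing.maximalIdeal.isMaximal B).eq_of_le (Ideal.IsPrime.ne_top inferInstance)
          (Ideal.map_le_iff_le_comap.mp (le_sup_left.trans hP))).symm
      have hP2 : P.comap (algebraMap A' B') = 𝔪' := by
        haveI : (P.comap (algebraMap A' B')).IsPrime := Ideal.comap_isPrime _ _
        exact ((IsLocalRing.maximalIdeal.isMaximal A').eq_of_le (Ideal.IsPrime.ne_top inferInstance)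
          (Ideal.map_le_iff_le_comap.mp (le_sup_right.trans hP))).symm
      exact hV1 P hP1 hP2)
    obtain ⟨b₁, hb₁, b₂, hb₂, rfl⟩ := Submodule.mem_sup.mp hb
    have hkill : ∀ b₂ ∈ 𝔪'.map (algebraMap A' B'), ∀ t : N' ⊗[A'] ↥Zs, b₂ • t = 0 := by
      intro b₂ hb₂
      refine Submodule.span_induction ?_ ?_ ?_ ?_ hb₂
      · rintro _ ⟨a', ha', rfl⟩ t
        rw [algebraMap_smul]
        induction t with
        | zero => simp
        | add u v hu hv => rw [smul_add, hu, hv, add_zero]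
        | tmul n' z =>
          have hz : a' • z = 0 :=
            Subtype.ext ((Submodule.mem_torsionBySet_iff _ _).mp z.2 ⟨a', ha'⟩)
          rw [TensorProduct.smul_tmul', TensorProduct.smul_tmul, hz, tmul_zero]
      · intro t; rw [zero_smul]
      · intro r₁ r₂ _ _ h₁ h₂ t; rw [add_smul, h₁, h₂, add_zero]
      · intro c r₁ _ h₁ t; rw [smul_eq_mul, mul_smul, h₁, smul_zero]
    have hyb₁ : y = b₁ • y := by
      rw [add_smul, hkill b₂ hb₂ y, add_zero] at hyb; exact hyb
    haveI : Module.Finite (A ⧸ W) ↥I₁ := Module.IsNoetherian.finite _ _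
    haveI : Module.Finite A (A ⧸ W) :=
      Module.Finite.of_surjective (Submodule.mkQ W) (Submodule.mkQ_surjective W)
    haveI : Module.Finite A ↥I₁ := Module.Finite.trans (A ⧸ W) ↥I₁
    haveI : Module.Finite B (N ⊗[A] ↥I₁) := LocalCrit.finite_tensor_left ↥I₁
    have hxmem : ∀ n : ℕ, x ∈ 𝔫 ^ n • (⊤ : Submodule B (N ⊗[A] ↥I₁)) := by
      intro n
      have h1 := mem_pow_smul_top_of_eq_smul (𝔫.map (algebraMap B B')) y b₁ hb₁ hyb₁ n
      have h2 := psi_mem_pow_smul_top (A := A) (A' := A') f ↥Zs hf 𝔫 n y h1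
      rw [hy, psi_phi] at h2
      have h3 : x = (AlgebraTensorModule.lTensor B N ρ) x' := by
        show x = (ρ.lTensor N) ((ι.lTensor N) x)
        rw [← LinearMap.comp_apply, ← LinearMap.lTensor_comp, hρ, LinearMap.lTensor_id,
          LinearMap.id_apply]
      rw [h3]
      have h4 := Submodule.mem_map_of_mem (f := AlgebraTensorModule.lTensor B N ρ) h2
      rw [Submodule.map_smul''] at h4
      exact Submodule.smul_mono le_rfl le_top h4
    have hx0 : x ∈ (⨅ n : ℕ, 𝔫 ^ n • (⊤ : Submodule B (N ⊗[A] ↥I₁))) := by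
      rw [Submodule.mem_iInf]; exact hxmem
    rw [Ideal.iInf_pow_smul_eq_bot_of_isLocalRing 𝔫 (Ideal.IsPrime.ne_top inferInstance)] at hx0
    exact hx0
  have h3 := (hR₀ (A ⧸ W)).2.mp hflatW
  rwa [Ideal.map_eq_bot_iff_le_ker, Ideal.Quotient.algebraMap_eq, Ideal.mk_ker] at h3

end Main

end Groth.Agent.Lib.Helper7.FlatTestLocal
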