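import Mathlib
import Groth.Agent.Lib.Helper7.FlatTestLocal

/-!
# Flatness over an Artinian local base tested after local base changes: global chart form (helper7)

`S` a Noetherian algebra over the Artinian local ring `R₀`, `q` a prime of `S`, `M` a finite
`S`-module, `T` a local `R₀`-algebra, `S' = S ⊗ T`, `M' = M ⊗ T`: if `M'` is `T`-flat at the primes
of `S'` over `q` and over the maximal ideal of `T`, then `T ⊗ M_q` is `T`-flat.
-/

set_option autoImplicit false
universe u
open TensorProduct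

namespace Groth.Agent.Lib.Helper7.FlatTestLocal

section LocLoc

variable {R : Type u} [CommSemiring R] {M M₁ M₂ : Type u} [AddCommMonoid M] [Module R M]
  [AddCommMonoid M₁] [Module R M₁] [AddCommMonoid M₂] [Module R M₂]

/-- a composite of localizations at `S₁ ≤ S₂` is a localization at `S₂`. -/
theorem isLocalizedModule_comp (S₁ S₂ : Submonoid R) (h : S₁ ≤ S₂) (f₁ : M →ₗ[R] M₁)
    (f₂ : M₁ →ₗ[R] M₂) [IsLocalizedModule S₁ f₁] [IsLocalizedModule S₂ f₂] :
    IsLocalizedModule S₂ (f₂ ∘ₗ f₁) := by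
  refine ⟨IsLocalizedModule.map_units f₂, ?_, ?_⟩
  · intro y
    obtain ⟨⟨m₁, s₂⟩, h₂⟩ := IsLocalizedModule.surj S₂ f₂ y
    obtain ⟨⟨m, s₁⟩, h₁⟩ := IsLocalizedModule.surj S₁ f₁ m₁
    refine ⟨⟨m, ⟨s₁.1, h s₁.2⟩ * s₂⟩, ?_⟩
    simp only at h₁ h₂ ⊢
    rw [LinearMap.comp_apply, ← h₁, Submonoid.smul_def, Submonoid.smul_def, Submonoid.coe_mul,
      mul_smul, ← Submonoid.smul_def s₂, h₂, map_smul]
  · intro x₁ x₂ hx
    rw [LinearMap.comp_apply, LinearMap.comp_apply] at hx
    obtain ⟨s₂, h₂⟩ := IsLocalizedModule.exists_of_eq (S := S₂) (f := f₂) hx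
    rw [Submonoid.smul_def, Submonoid.smul_def, ← map_smul, ← map_smul] at h₂
    obtain ⟨s₁, h₁⟩ := IsLocalizedModule.exists_of_eq (S := S₁) (f := f₁) h₂
    refine ⟨⟨s₁.1, h s₁.2⟩ * s₂, ?_⟩
    rw [Submonoid.smul_def, Submonoid.smul_def, Submonoid.coe_mul, mul_smul, mul_smul]
    exact h₁

/-- shrinking the submonoid of a localization when the big one is generated up to units. -/
theorem isLocalizedModule_of_le_of_exists_mul_mem (S T : Submonoid R) (h : S ≤ T)
    (h' : ∀ x : T, ∃ m : R, m * x ∈ S) (f : M →ₗ[R] M₁) [IsLocalizedModule T f] :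
    IsLocalizedModule S f := by
  refine ⟨fun s => IsLocalizedModule.map_units f ⟨s.1, h s.2⟩, ?_, ?_⟩
  · intro y
    obtain ⟨⟨m, t⟩, ht⟩ := IsLocalizedModule.surj T f y
    obtain ⟨c, hc⟩ := h' t
    refine ⟨⟨c • m, ⟨c * t, hc⟩⟩, ?_⟩
    simp only at ht ⊢
    rw [Submonoid.smul_def] at ht ⊢
    show (c * (t : R)) • y = f (c • m)
    rw [mul_smul, ht, map_smul]
  · intro x₁ x₂ hx
    obtain ⟨t, ht⟩ := IsLocalizedModule.exists_of_eq (S := T) (f := f) hx
    obtain ⟨c, hc⟩ := h' t
    refine ⟨⟨c * t, hc⟩, ?_⟩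
    rw [Submonoid.smul_def, Submonoid.smul_def] at ht
    show (c * (t : R)) • x₁ = (c * (t : R)) • x₂
    rw [mul_smul, mul_smul, ht]

end LocLoc

section Gen

attribute [local instance] Algebra.TensorProduct.rightAlgebra

variable {R₀ S T S' : Type u} [CommRing R₀] [IsLocalRing R₀] [IsNoetherianRing R₀]
  [CommRing S] [IsNoetherianRing S] [CommRing T] [IsLocalRing T] [CommRing S']
  [Algebra R₀ S] [Algebra R₀ T] [Algebra S S'] [Algebra T S'] [Algebra R₀ S']
  [IsScalarTower R₀ S S'] [IsScalarTower R₀ T S'] [Algebra.IsPushout R₀ S T S']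
  {M M' : Type u} [AddCommGroup M] [Module S M] [Module R₀ M] [IsScalarTower R₀ S M]
  [Module.Finite S M]
  [AddCommGroup M'] [Module S' M'] [Module T M'] [IsScalarTower T S' M'] [Module S M']
  [IsScalarTower S S' M']

/-- **Chart form of the core**: flatness of `T ⊗ M_q` from flatness of `M ⊗ T` at the primes of
`S ⊗ T` over `q` and the maximal ideal of `T`. -/
theorem flat_baseChange_localized_of_forall_flat
    (hnil : IsNilpotent (IsLocalRing.maximalIdeal R₀))
    (f : M →ₗ[S] M') (hf : IsBaseChange S' f) (q : Ideal S) [q.IsPrime]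
    (H : ∀ (q' : Ideal S') [q'.IsPrime], q'.comap (algebraMap S S') = q →
      q'.comap (algebraMap T S') = IsLocalRing.maximalIdeal T →
      Module.Flat T (LocalizedModule q'.primeCompl M')) :
    Module.Flat T (T ⊗[R₀] LocalizedModule q.primeCompl M) := by
  classical
  set B := Localization.AtPrime q with hB
  set N := LocalizedModule q.primeCompl M with hN
  set mkq := LocalizedModule.mkLinearMap q.primeCompl M with hmkq
  haveI : IsScalarTower R₀ B N := by
    refine IsScalarTower.of_algebraMap_smul fun r n => ?_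
    rw [IsScalarTower.algebraMap_apply R₀ S B, algebraMap_smul, algebraMap_smul]
  set B' := S' ⊗[S] B with hB'
  haveI towR₀BB' : IsScalarTower R₀ B B' := by
    refine IsScalarTower.of_algebraMap_eq fun r => ?_
    rw [IsScalarTower.algebraMap_apply R₀ S B, ← IsScalarTower.algebraMap_apply S B B',
      IsScalarTower.algebraMap_apply R₀ S' B', IsScalarTower.algebraMap_apply R₀ S S',
      ← IsScalarTower.algebraMap_apply S S' B']
  haveI : Algebra.IsPushout R₀ B T B' := by
    rw [Algebra.IsPushout.comp_iff R₀ S T (S' := S')]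
    infer_instance
  set N' := B' ⊗[B] N with hN'
  refine flat_baseChange_of_forall_flat_localized (A := R₀) (A' := T) (B := B) (B' := B')
    (N := N) (N' := N') hnil (TensorProduct.mk B B' N 1) (TensorProduct.isBaseChange B N B') ?_
  intro P _ hP1 hP2
  set q' := P.comap (algebraMap S' B') with hq'
  haveI : q'.IsPrime := Ideal.comap_isPrime _ _
  have hq'1 : q'.comap (algebraMap S S') = q := by
    rw [hq', Ideal.comap_comap, ← IsScalarTower.algebraMap_eq S S' B',
      IsScalarTower.algebraMap_eq S B B', ← Ideal.comap_comap, hP1]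
    exact IsLocalization.AtPrime.under_maximalIdeal B q
  have hq'2 : q'.comap (algebraMap T S') = IsLocalRing.maximalIdeal T := by
    rw [hq', Ideal.comap_comap, ← IsScalarTower.algebraMap_eq T S' B', hP2]
  haveI hflat := H q' hq'1 hq'2
  -- the comparison map `M' → N'`
  let g₀ : M →ₗ[S] N' := ((TensorProduct.mk B B' N 1).restrictScalars S) ∘ₗ mkq
  have hg₀ : IsBaseChange B' g₀ :=
    IsBaseChange.comp (IsLocalizedModule.isBaseChange q.primeCompl B mkq)
      (TensorProduct.isBaseChange B N B')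
  let θ₀ : M' →ₗ[S'] N' := hf.lift g₀
  have hθ₀comp : (θ₀.restrictScalars S) ∘ₗ f = g₀ := hf.lift_comp g₀
  have hθ₀ : IsBaseChange B' θ₀ := by
    refine IsBaseChange.of_comp hf ?_
    rw [show ((θ₀ : M' →ₗ[S] N') ∘ₗ f) = g₀ from hθ₀comp]
    exact hg₀
  set Sg := Algebra.algebraMapSubmonoid S' q.primeCompl with hSg
  haveI : IsLocalization Sg B' := inferInstance
  haveI hloc₀ : IsLocalizedModule Sg θ₀ := (isLocalizedModule_iff_isBaseChange Sg B' θ₀).mpr hθ₀
  have hSgle : Sg ≤ q'.primeCompl := by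
    rintro _ ⟨s, hs, rfl⟩ hmem
    apply hs
    rw [← hq'1]
    exact hmem
  have hle : Algebra.algebraMapSubmonoid B' q'.primeCompl ≤ P.primeCompl := by
    rintro _ ⟨s', hs', rfl⟩ hmem
    exact hs' hmem
  have hex : ∀ x : P.primeCompl, ∃ m : B', m * x ∈ Algebra.algebraMapSubmonoid B' q'.primeCompl := by
    rintro ⟨x, hx⟩
    obtain ⟨⟨s', σ⟩, rfl⟩ := IsLocalization.mk'_surjective Sg x
    refine ⟨algebraMap S' B' σ, s', ?_, ?_⟩
    · intro hs'
      have h1 : algebraMap S' B' s' ∈ P := hs'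
      rw [← IsLocalization.mk'_spec' B' s' σ] at h1
      rcases Ideal.IsPrime.mem_or_mem inferInstance h1 with h2 | h2
      · exact (Ideal.IsPrime.ne_top inferInstance)
          (Ideal.eq_top_of_isUnit_mem P h2 (IsLocalization.map_units B' σ))
      · exact hx h2
    · exact (IsLocalization.mk'_spec' B' s' σ).symm
  haveI h1 : IsLocalizedModule (Algebra.algebraMapSubmonoid B' q'.primeCompl)
      (LocalizedModule.mkLinearMap P.primeCompl N') :=
    isLocalizedModule_of_le_of_exists_mul_mem _ P.primeCompl hle hex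
      (LocalizedModule.mkLinearMap P.primeCompl N')
  haveI h2 : IsLocalizedModule q'.primeCompl
      ((LocalizedModule.mkLinearMap P.primeCompl N').restrictScalars S') :=
    IsLocalizedModule.restrictScalars q'.primeCompl (LocalizedModule.mkLinearMap P.primeCompl N')
  haveI h3 : IsLocalizedModule q'.primeCompl
      (((LocalizedModule.mkLinearMap P.primeCompl N').restrictScalars S') ∘ₗ θ₀) :=
    isLocalizedModule_comp Sg q'.primeCompl hSgle θ₀ _
  let e := IsLocalizedModule.iso q'.primeCompl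
    (((LocalizedModule.mkLinearMap P.primeCompl N').restrictScalars S') ∘ₗ θ₀)
  exact Module.Flat.of_linearEquiv (e.restrictScalars T).symm

end Gen

section Family

variable {R₀ : Type u} [CommRing R₀] [IsLocalRing R₀]

/-- flatness over a local ring with nilpotent maximal ideal can be tested on a jointly injective
family of algebras. -/
theorem flat_of_family_flat (hnil : IsNilpotent (IsLocalRing.maximalIdeal R₀))
    (N : Type u) [AddCommGroup N] [Module R₀ N]
    {ι : Type*} (T : ι → Type u) [∀ i, CommRing (T i)] [∀ i, Algebra R₀ (T i)]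
    (hinj : ∀ a : R₀, (∀ i, algebraMap R₀ (T i) a = 0) → a = 0)
    (hfl : ∀ i, Module.Flat (T i) ((T i) ⊗[R₀] N)) : Module.Flat R₀ N := by
  haveI : (IsLocalRing.maximalIdeal R₀).IsMaximal := IsLocalRing.maximalIdeal.isMaximal R₀
  letI : Field (R₀ ⧸ IsLocalRing.maximalIdeal R₀) := Ideal.Quotient.field _
  obtain ⟨I₀, hI₀⟩ := Groth.Agent.Lib.Helper2.NilpFree2.exists_ideal_forall_free_iff N
    (IsLocalRing.maximalIdeal R₀) hnil (Module.Free.of_divisionRing _ _)
  have h0 : I₀ = ⊥ := by
    rw [eq_bot_iff]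
    intro a ha
    rw [Ideal.mem_bot]
    refine hinj a fun i => ?_
    have h1 := (hI₀ (T i)).2.mp (hfl i)
    have h2 : algebraMap R₀ (T i) a ∈ I₀.map (algebraMap R₀ (T i)) := Ideal.mem_map_of_mem _ ha
    rw [h1, Ideal.mem_bot] at h2
    exact h2
  have h1 : Module.Flat R₀ (R₀ ⊗[R₀] N) := by
    rw [(hI₀ R₀).2, h0, Ideal.map_bot]
  exact Module.Flat.of_linearEquiv (TensorProduct.lid R₀ N).symm

end Family

end Groth.Agent.Lib.Helper7.FlatTestLocal
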