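import Mathlib
import Groth.Agent.Lib.Helper2.PowCrit
import Groth.Agent.Lib.Helper7.FlatTestLocal2

/-!
# Flatness over a Noetherian local ring tested on an adically separating family of Artinian
algebras (helper7)

`flat_of_adic_family`: `R` Noetherian local, `M` a finite module over a Noetherian `R`-algebra `S`
with `𝔪S ⊆ rad S`. If `(T i)` is a family of `R`-algebras, each killed by a power of `𝔪`, such that
every power of `𝔪` contains a finite intersection of the kernels of `R → T i`, and every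
`T i ⊗ M` is `T i`-flat, then `M` is `R`-flat.
-/

set_option autoImplicit false
universe u
open TensorProduct

namespace Groth.Agent.Lib.Helper7.FlatTestLocal

section Adic

variable {R S : Type u} [CommRing R] [IsLocalRing R] [IsNoetherianRing R] [CommRing S]
  [IsNoetherianRing S] [Algebra R S]
  {M : Type u} [AddCommGroup M] [Module R M] [Module S M] [IsScalarTower R S M] [Module.Finite S M]

theorem flat_of_adic_family
    (hJ : (IsLocalRing.maximalIdeal R).map (algebraMap R S) ≤ Ideal.jacobson ⊥)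
    {ι : Type*} (T : ι → Type u) [∀ i, CommRing (T i)] [∀ i, Algebra R (T i)]
    (hker : ∀ i, ∃ k : ℕ, (IsLocalRing.maximalIdeal R) ^ k ≤ RingHom.ker (algebraMap R (T i)))
    (htop : ∀ N : ℕ, ∃ s : Finset ι,
      ⨅ i ∈ s, RingHom.ker (algebraMap R (T i)) ≤ (IsLocalRing.maximalIdeal R) ^ N)
    (hfl : ∀ i, Module.Flat (T i) ((T i) ⊗[R] M)) : Module.Flat R M := by
  classical
  refine Groth.Agent.Lib.Helper2.PowCrit.flat_of_forall_exists_flat_quotient (S := S)
    (IsLocalRing.maximalIdeal R) hJ ?_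
  intro n hn
  obtain ⟨s, hs⟩ := htop n
  set 𝔟 : Ideal R := ⨅ i ∈ s, RingHom.ker (algebraMap R (T i)) with h𝔟
  refine ⟨𝔟, hs, ?_⟩
  rcases subsingleton_or_nontrivial (R ⧸ 𝔟) with hsub | hnt
  · haveI : Subsingleton ((R ⧸ 𝔟) ⊗[R] M) := Module.subsingleton (R ⧸ 𝔟) _
    infer_instance
  haveI : IsLocalRing (R ⧸ 𝔟) :=
    IsLocalRing.of_surjective' (Ideal.Quotient.mk 𝔟) Ideal.Quotient.mk_surjective
  have h𝔟le : ∀ i ∈ s, 𝔟 ≤ RingHom.ker (algebraMap R (T i)) := fun i hi =>
    iInf_le_of_le i (iInf_le _ hi)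
  -- nilpotency
  have hnil : IsNilpotent (IsLocalRing.maximalIdeal (R ⧸ 𝔟)) := by
    choose k hk using hker
    refine ⟨s.sup k, ?_⟩
    rw [Ideal.zero_eq_bot, eq_bot_iff]
    have h1 : IsLocalRing.maximalIdeal (R ⧸ 𝔟) ≤
        (IsLocalRing.maximalIdeal R).map (Ideal.Quotient.mk 𝔟) := by
      intro x hx
      obtain ⟨r, rfl⟩ := Ideal.Quotient.mk_surjective x
      refine Ideal.mem_map_of_mem _ ?_
      rw [IsLocalRing.mem_maximalIdeal, mem_nonunits_iff] at hx ⊢
      exact fun hu => hx (hu.map _)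
    calc IsLocalRing.maximalIdeal (R ⧸ 𝔟) ^ s.sup k
        ≤ ((IsLocalRing.maximalIdeal R).map (Ideal.Quotient.mk 𝔟)) ^ s.sup k :=
          Ideal.pow_right_mono h1 _
      _ = ((IsLocalRing.maximalIdeal R) ^ s.sup k).map (Ideal.Quotient.mk 𝔟) :=
          (Ideal.map_pow _ _ _).symm
      _ ≤ 𝔟.map (Ideal.Quotient.mk 𝔟) := by
          refine Ideal.map_mono ?_
          rw [h𝔟]
          refine le_iInf₂ fun i hi => ?_
          exact (Ideal.pow_le_pow_right (Finset.le_sup hi)).trans (hk i)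
      _ = ⊥ := by rw [Ideal.map_quotient_self]
  letI algT : ∀ i : ↥s, Algebra (R ⧸ 𝔟) (T i.1) := fun i =>
    (Ideal.Quotient.lift 𝔟 (algebraMap R (T i.1)) (fun a ha => h𝔟le i.1 i.2 ha)).toAlgebra
  haveI tow : ∀ i : ↥s, IsScalarTower R (R ⧸ 𝔟) (T i.1) := fun i =>
    IsScalarTower.of_algebraMap_eq (fun _ => rfl)
  refine flat_of_family_flat hnil ((R ⧸ 𝔟) ⊗[R] M) (fun i : ↥s => T i.1) ?_ ?_
  · intro a ha
    obtain ⟨r, rfl⟩ := Ideal.Quotient.mk_surjective a
    rw [Ideal.Quotient.eq_zero_iff_mem, h𝔟]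
    simp only [Ideal.mem_iInf]
    intro i hi
    exact ha ⟨i, hi⟩
  · intro i
    haveI := hfl i.1
    exact Module.Flat.of_linearEquiv
      (AlgebraTensorModule.cancelBaseChange R (R ⧸ 𝔟) (T i.1) (T i.1) M)

end Adic

section Nil

variable {R : Type u} [CommRing R] [IsLocalRing R]

theorem isNilpotent_maximalIdeal_quotient (K : Ideal R) [IsLocalRing (R ⧸ K)] (k : ℕ)
    (hk : (IsLocalRing.maximalIdeal R) ^ k ≤ K) :
    IsNilpotent (IsLocalRing.maximalIdeal (R ⧸ K)) := by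
  refine ⟨k, ?_⟩
  rw [Ideal.zero_eq_bot, eq_bot_iff]
  have h1 : IsLocalRing.maximalIdeal (R ⧸ K) ≤
      (IsLocalRing.maximalIdeal R).map (Ideal.Quotient.mk K) := by
    intro x hx
    obtain ⟨r, rfl⟩ := Ideal.Quotient.mk_surjective x
    refine Ideal.mem_map_of_mem _ ?_
    rw [IsLocalRing.mem_maximalIdeal, mem_nonunits_iff] at hx ⊢
    exact fun hu => hx (hu.map _)
  calc IsLocalRing.maximalIdeal (R ⧸ K) ^ k
      ≤ ((IsLocalRing.maximalIdeal R).map (Ideal.Quotient.mk K)) ^ k :=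
        Ideal.pow_right_mono h1 _
    _ = ((IsLocalRing.maximalIdeal R) ^ k).map (Ideal.Quotient.mk K) :=
        (Ideal.map_pow _ _ _).symm
    _ ≤ K.map (Ideal.Quotient.mk K) := Ideal.map_mono hk
    _ = ⊥ := by rw [Ideal.map_quotient_self]

end Nil

end Groth.Agent.Lib.Helper7.FlatTestLocal
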