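import Groth.Agent.Lib.Helper7.FlatBCComp
import Groth.Agent.Lib.Helper5.StalkBCA
import Groth.Agent.S1392
import Mathlib

/-!
# Reduction of pointwise flatness to a local base (helper7)

* `ΓSpecIso_appLE_top`: the map on global sections of `Spec.map ψ` is `ψ`.
* `primeIdealOf_top_eq_maximalIdeal_iff`: in `Spec R`, `R` local, the prime of a point in the chart
  `⊤` is the maximal ideal iff the point is the closed point.
* `exists_point_over_stalk`, `isFlatOverAt_of_localBase`: flatness at `x` can be tested after base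
  change to `Spec O_{Y, f x}`.
* `isFlatOverAt_pullback_snd`: transfer of flatness along `(X ×_S S') ×_{S'} S'' ≅ X ×_S S''`.
-/

set_option backward.isDefEq.respectTransparency.types false
set_option autoImplicit false
set_option linter.unusedVariables false
set_option linter.style.haveILetI false
universe u
open AlgebraicGeometry CategoryTheory Limits TensorProduct TopologicalSpace

namespace Groth.Agent.Lib.Helper7.FlatChart

open Groth.Agent.Lib.Helper7.AffPts

theorem ΓSpecIso_appLE_top {R₁ R₂ : CommRingCat.{u}} (ψ : R₁ ⟶ R₂) (a : Γ(Spec R₁, ⊤)) :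
    (Scheme.ΓSpecIso R₂).hom ((Spec.map ψ).appLE ⊤ ⊤ le_top a) =
      ψ ((Scheme.ΓSpecIso R₁).hom a) := by
  have hnat := Scheme.ΓSpecIso_naturality ψ
  have h2 := ConcreteCategory.congr_hom hnat a
  rw [CategoryTheory.comp_apply, CategoryTheory.comp_apply] at h2
  exact h2

theorem primeIdealOf_top_eq_maximalIdeal_iff {R : CommRingCat.{u}} [IsLocalRing R]
    [IsLocalRing Γ(Spec R, ⊤)] (z : ↥(Spec R)) :
    ((isAffineOpen_top (Spec R)).primeIdealOf ⟨z, trivial⟩).asIdeal =
      IsLocalRing.maximalIdeal Γ(Spec R, ⊤) ↔ z = IsLocalRing.closedPoint R := by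
  have hUT := isAffineOpen_top (Spec R)
  have hmax : (IsLocalRing.maximalIdeal Γ(Spec R, ⊤)).IsMaximal :=
    IsLocalRing.maximalIdeal.isMaximal _
  -- the prime of the closed point is the maximal ideal
  have hcl : (hUT.primeIdealOf ⟨(IsLocalRing.closedPoint R : ↥(Spec R)), trivial⟩).asIdeal =
      IsLocalRing.maximalIdeal Γ(Spec R, ⊤) := by
    obtain ⟨z₀, hz₀⟩ := primeIdealOf_surjective hUT ⟨IsLocalRing.maximalIdeal Γ(Spec R, ⊤),
      inferInstance⟩
    have hsp : (z₀ : ↥(Spec R)) ⤳ (IsLocalRing.closedPoint R : ↥(Spec R)) :=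
      IsLocalRing.specializes_closedPoint _
    have hle := (primeIdealOf_le_iff hUT z₀
      ⟨(IsLocalRing.closedPoint R : ↥(Spec R)), trivial⟩).2 hsp
    have hle' : (hUT.primeIdealOf z₀).asIdeal ≤
        (hUT.primeIdealOf ⟨(IsLocalRing.closedPoint R : ↥(Spec R)), trivial⟩).asIdeal := hle
    rw [hz₀] at hle'
    exact (hmax.eq_of_le (Ideal.IsPrime.ne_top inferInstance) hle').symm
  constructor
  · intro h
    have heq : hUT.primeIdealOf ⟨z, trivial⟩ =
        hUT.primeIdealOf ⟨(IsLocalRing.closedPoint R : ↥(Spec R)), trivial⟩ :=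
      PrimeSpectrum.ext (h.trans hcl.symm)
    exact congrArg Subtype.val (primeIdealOf_injective hUT heq)
  · rintro rfl
    exact hcl

theorem exists_point_over_stalk {X Y : Scheme.{u}} (f : X ⟶ Y) (x : X) :
    ∃ x₁ : ↥(pullback f (Y.fromSpecStalk (f x))),
      pullback.fst f (Y.fromSpecStalk (f x)) x₁ = x ∧
      pullback.snd f (Y.fromSpecStalk (f x)) x₁ = IsLocalRing.closedPoint (Y.presheaf.stalk (f x)) :=
  Scheme.Pullback.exists_preimage_pullback (f := f) (g := Y.fromSpecStalk (f x)) x
    (IsLocalRing.closedPoint (Y.presheaf.stalk (f x)) : ↥(Spec (Y.presheaf.stalk (f x))))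
    (Scheme.fromSpecStalk_closedPoint).symm

open Groth.Agent.Lib.Helper5.StalkBC in
theorem isFlatOverAt_of_localBase {X Y : Scheme.{u}} (f : X ⟶ Y) (F : X.Modules)
    (hF : Coh.IsQCoh F) (y : Y) (x₁ : ↥(pullback f (Y.fromSpecStalk y)))
    (h : FlatMod.IsFlatOverAt (pullback.snd f (Y.fromSpecStalk y))
      ((Scheme.Modules.pullback (pullback.fst f (Y.fromSpecStalk y))).obj F) x₁) :
    FlatMod.IsFlatOverAt f F (pullback.fst f (Y.fromSpecStalk y) x₁) :=
  Groth.Agent.S1392.result f (pullback.snd f (Y.fromSpecStalk y)) (pullback.fst f (Y.fromSpecStalk y))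
    (Y.fromSpecStalk y) (IsPullback.of_hasPullback _ _) F hF x₁ (Flat.stalkMap _ _) h

open Groth.Agent.Lib.Helper17.FibreStalk in
theorem isFlatOverAt_pullback_snd {X S S' S'' : Scheme.{u}} (f : X ⟶ S) (g : S' ⟶ S) (h : S'' ⟶ S')
    (F : X.Modules) [F.IsQuasicoherent] (x'' : ↥(pullback (pullback.snd f g) h))
    (H : FlatMod.IsFlatOverAt (pullback.snd f (h ≫ g))
      ((Scheme.Modules.pullback (pullback.fst f (h ≫ g))).obj F)
      ((pullbackLeftPullbackSndIso f g h).hom x'')) :
    FlatMod.IsFlatOverAt (pullback.snd (pullback.snd f g) h)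
      ((Scheme.Modules.pullback (pullback.fst (pullback.snd f g) h)).obj
        ((Scheme.Modules.pullback (pullback.fst f g)).obj F)) x'' := by
  set e := pullbackLeftPullbackSndIso f g h with he
  have hc : IsPullback e.hom (pullback.snd (pullback.snd f g) h) (pullback.snd f (h ≫ g)) (𝟙 S'') :=
    IsPullback.of_horiz_isIso ⟨by rw [he, pullbackLeftPullbackSndIso_hom_snd, Category.comp_id]⟩
  have h1 := isFlatOverAt_baseChange (pullback.snd f (h ≫ g)) (pullback.snd (pullback.snd f g) h)
    e.hom (𝟙 S'') hc ((Scheme.Modules.pullback (pullback.fst f (h ≫ g))).obj F) x'' H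
  have hfst : e.hom ≫ pullback.fst f (h ≫ g) =
      pullback.fst (pullback.snd f g) h ≫ pullback.fst f g :=
    pullbackLeftPullbackSndIso_hom_fst f g h
  let ε : (Scheme.Modules.pullback e.hom).obj
        ((Scheme.Modules.pullback (pullback.fst f (h ≫ g))).obj F) ≅
      (Scheme.Modules.pullback (pullback.fst (pullback.snd f g) h)).obj
        ((Scheme.Modules.pullback (pullback.fst f g)).obj F) :=
    (Scheme.Modules.pullbackComp e.hom (pullback.fst f (h ≫ g))).app F ≪≫
      (Scheme.Modules.pullbackCongr hfst).app F ≪≫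
      ((Scheme.Modules.pullbackComp (pullback.fst (pullback.snd f g) h) (pullback.fst f g)).app F).symm
  exact isFlatOverAt_of_iso _ ε x'' h1

theorem pullbackLeftPullbackSndIso_hom_fst_apply {X S S' S'' : Scheme.{u}} (f : X ⟶ S) (g : S' ⟶ S)
    (h : S'' ⟶ S') (x'' : ↥(pullback (pullback.snd f g) h)) :
    pullback.fst f (h ≫ g) ((pullbackLeftPullbackSndIso f g h).hom x'') =
      pullback.fst f g (pullback.fst (pullback.snd f g) h x'') := by
  rw [← Scheme.Hom.comp_apply, pullbackLeftPullbackSndIso_hom_fst, Scheme.Hom.comp_apply]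

theorem pullbackLeftPullbackSndIso_hom_snd_apply {X S S' S'' : Scheme.{u}} (f : X ⟶ S) (g : S' ⟶ S)
    (h : S'' ⟶ S') (x'' : ↥(pullback (pullback.snd f g) h)) :
    pullback.snd f (h ≫ g) ((pullbackLeftPullbackSndIso f g h).hom x'') =
      pullback.snd (pullback.snd f g) h x'' := by
  rw [← Scheme.Hom.comp_apply, pullbackLeftPullbackSndIso_hom_snd]

end Groth.Agent.Lib.Helper7.FlatChart
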