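import Groth.Agent.Lib.Helper7.FlatChartTest2
import Groth.Agent.Lib.Helper7.FlatChartLocal
import Groth.Agent.Lib.Helper7.FlatAdicFamily
import Groth.Agent.Lib.Helper28.FinType
import Mathlib

/-!
# Flatness over a Noetherian local base tested on an adic family of local base changes (helper7)
-/

set_option backward.isDefEq.respectTransparency.types false
set_option autoImplicit false
set_option linter.unusedVariables false
set_option linter.style.haveILetI false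
set_option maxHeartbeats 1600000
universe u
open AlgebraicGeometry CategoryTheory Limits TensorProduct TopologicalSpace

namespace Groth.Agent.Lib.Helper7.FlatChart

open Groth.Agent.Lib.Helper7.FlatTestLocal Groth.Agent.Lib.Helper7.AffPts
  Groth.Agent.Lib.lead.StalkDimIneq

theorem isFlatOverAt_of_adic_family_local {O : CommRingCat.{u}} [IsLocalRing O] [IsNoetherianRing O]
    {X₁ : Scheme.{u}} (f₁ : X₁ ⟶ Spec O) [LocallyOfFiniteType f₁] (F₁ : X₁.Modules)
    (hF₁ : Coh.IsCoh F₁) (x₁ : X₁) (hx₁ : f₁ x₁ = IsLocalRing.closedPoint O)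
    {ι : Type u} (A : ι → Type u) [∀ i, CommRing (A i)] [∀ i, IsLocalRing (A i)]
    (φ : ∀ i, (O : Type u) →+* A i) [∀ i, IsLocalHom (φ i)]
    (htop : ∀ N : ℕ, ∃ s : Finset (ι × ℕ),
      ⨅ p ∈ s, Ideal.comap (φ p.1) (IsLocalRing.maximalIdeal (A p.1) ^ p.2) ≤
        IsLocalRing.maximalIdeal ↑O ^ N)
    (ψ₀ : ∀ i, O ⟶ CommRingCat.of (A i)) (hψ₀ : ∀ i, (ψ₀ i).hom = φ i)
    (hflat : ∀ (i : ι) (x' : ↥(pullback f₁ (Spec.map (ψ₀ i)))),
      pullback.fst f₁ (Spec.map (ψ₀ i)) x' = x₁ →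
      pullback.snd f₁ (Spec.map (ψ₀ i)) x' = IsLocalRing.closedPoint (A i) →
      FlatMod.IsFlatOverAt (pullback.snd f₁ (Spec.map (ψ₀ i)))
        ((Scheme.Modules.pullback (pullback.fst f₁ (Spec.map (ψ₀ i)))).obj F₁) x') :
    FlatMod.IsFlatOverAt f₁ F₁ x₁ := by
  classical
  haveI : F₁.IsQuasicoherent := hF₁.1
  haveI : SheafOfModules.IsFiniteType.{u} (R := X₁.ringCatSheaf) F₁ := hF₁.2
  obtain ⟨UX, hUX', hxUX, -⟩ := (Opens.isBasis_iff_nbhd.1 X₁.isBasis_affineOpens)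
    (show x₁ ∈ (⊤ : X₁.Opens) from trivial)
  have hUX : IsAffineOpen UX := hUX'
  have hUS : IsAffineOpen (⊤ : (Spec O).Opens) := isAffineOpen_top _
  have hUSX : UX ≤ f₁ ⁻¹ᵁ ⊤ := fun _ _ => trivial
  let eO : Γ(Spec O, ⊤) ≃+* O := (Scheme.ΓSpecIso O).commRingCatIsoToRingEquiv
  haveI : IsLocalRing Γ(Spec O, ⊤) := eO.symm.isLocalRing
  haveI : IsNoetherianRing Γ(Spec O, ⊤) := isNoetherianRing_of_ringEquiv O eO.symm
  letI algRA : Algebra Γ(Spec O, ⊤) Γ(X₁, UX) := (f₁.appLE ⊤ UX hUSX).hom.toAlgebra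
  haveI : Algebra.FiniteType Γ(Spec O, ⊤) Γ(X₁, UX) :=
    LocallyOfFiniteType.finiteType_appLE f₁ hUS hUX hUSX
  haveI : IsNoetherianRing Γ(X₁, UX) :=
    Algebra.FiniteType.isNoetherianRing Γ(Spec O, ⊤) Γ(X₁, UX)
  haveI : Module.Finite Γ(X₁, UX) Γ(F₁, UX) :=
    Groth.Agent.Lib.Helper28.FinType.finite_of_isAffineOpen F₁ hUX
  letI mR : Module Γ(Spec O, ⊤) Γ(F₁, UX) :=
    Module.compHom _ (algebraMap Γ(Spec O, ⊤) Γ(X₁, UX))
  haveI : IsScalarTower Γ(Spec O, ⊤) Γ(X₁, UX) Γ(F₁, UX) := IsScalarTower.of_compHom _ _ _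
  rw [isFlatOverAt_iff_flat_localizedModule f₁ F₁ hUX hUS hUSX x₁ hxUX rfl]
  set q := (hUX.primeIdealOf ⟨x₁, hxUX⟩).asIdeal with hq
  have hqR : q.comap (algebraMap Γ(Spec O, ⊤) Γ(X₁, UX)) =
      IsLocalRing.maximalIdeal Γ(Spec O, ⊤) := by
    have h1 := primeIdealOf_map f₁ hUX hUS hUSX ⟨x₁, hxUX⟩
    have h2 := (primeIdealOf_top_eq_maximalIdeal_iff (f₁ x₁)).2 hx₁
    exact h1.symm.trans h2
  haveI : IsScalarTower Γ(Spec O, ⊤) (Localization.AtPrime q)
      (LocalizedModule q.primeCompl Γ(F₁, UX)) := by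
    refine IsScalarTower.of_algebraMap_smul fun r n => ?_
    rw [IsScalarTower.algebraMap_apply Γ(Spec O, ⊤) Γ(X₁, UX) (Localization.AtPrime q),
      algebraMap_smul, algebraMap_smul]
  have hJ : (IsLocalRing.maximalIdeal Γ(Spec O, ⊤)).map
      (algebraMap Γ(Spec O, ⊤) (Localization.AtPrime q)) ≤ Ideal.jacobson ⊥ := by
    rw [IsLocalRing.jacobson_eq_maximalIdeal ⊥ bot_ne_top, Ideal.map_le_iff_le_comap]
    intro a ha
    rw [Ideal.mem_comap, IsScalarTower.algebraMap_apply Γ(Spec O, ⊤) Γ(X₁, UX)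
      (Localization.AtPrime q), IsLocalization.AtPrime.to_map_mem_maximal_iff _ q]
    rw [← hqR] at ha
    exact ha
  -- the family of test rings
  let Tq : ι × ℕ → Type u := fun p => A p.1 ⧸ (IsLocalRing.maximalIdeal (A p.1)) ^ p.2
  let π : ∀ p : ι × ℕ, CommRingCat.of (A p.1) ⟶ CommRingCat.of (Tq p) := fun p =>
    CommRingCat.ofHom (Ideal.Quotient.mk ((IsLocalRing.maximalIdeal (A p.1)) ^ p.2))
  let ψ : ∀ p : ι × ℕ, O ⟶ CommRingCat.of (Tq p) := fun p => ψ₀ p.1 ≫ π p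
  let T : ι × ℕ → Type u := fun p => Γ(Spec (CommRingCat.of (Tq p)), ⊤)
  let eT : ∀ p, T p ≃+* Tq p := fun p =>
    (Scheme.ΓSpecIso (CommRingCat.of (Tq p))).commRingCatIsoToRingEquiv
  letI algT : ∀ p, Algebra Γ(Spec O, ⊤) (T p) := fun p =>
    ((Spec.map (ψ p)).appLE ⊤ ⊤ le_top).hom.toAlgebra
  have hmapT : ∀ p (a : Γ(Spec O, ⊤)), eT p (algebraMap Γ(Spec O, ⊤) (T p) a) =
      Ideal.Quotient.mk ((IsLocalRing.maximalIdeal (A p.1)) ^ p.2) (φ p.1 (eO a)) := by
    intro p a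
    have h1 := ΓSpecIso_appLE_top (ψ p) a
    rw [← hψ₀ p.1]
    exact h1
  have hkerT : ∀ p (a : Γ(Spec O, ⊤)), a ∈ RingHom.ker (algebraMap Γ(Spec O, ⊤) (T p)) ↔
      φ p.1 (eO a) ∈ (IsLocalRing.maximalIdeal (A p.1)) ^ p.2 := by
    intro p a
    rw [RingHom.mem_ker, ← (map_eq_zero_iff (eT p) (eT p).injective), hmapT,
      Ideal.Quotient.eq_zero_iff_mem]
  haveI hloc1 : IsLocalHom eO.toRingHom := ⟨fun a ha => (MulEquiv.isUnit_map eO.toMulEquiv).1 ha⟩
  haveI hloc2 : IsLocalHom eO.symm.toRingHom :=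
    ⟨fun a ha => (MulEquiv.isUnit_map eO.symm.toMulEquiv).1 ha⟩
  refine flat_of_adic_family (S := Localization.AtPrime q) hJ T ?_ ?_ ?_
  · intro p
    refine ⟨p.2, fun a ha => ?_⟩
    rw [hkerT]
    have h1 : (IsLocalRing.maximalIdeal Γ(Spec O, ⊤)).map ((φ p.1).comp eO.toRingHom) ≤
        IsLocalRing.maximalIdeal (A p.1) := IsLocalRing.map_maximalIdeal_le _
    have h2 := Ideal.mem_map_of_mem ((φ p.1).comp eO.toRingHom) ha
    rw [Ideal.map_pow] at h2
    exact Ideal.pow_right_mono h1 _ h2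
  · intro N
    obtain ⟨s, hs⟩ := htop N
    refine ⟨s, fun a ha => ?_⟩
    have h1 : eO a ∈ ⨅ p ∈ s, Ideal.comap (φ p.1) (IsLocalRing.maximalIdeal (A p.1) ^ p.2) := by
      simp only [Ideal.mem_iInf] at ha ⊢
      intro p hp
      exact (hkerT p a).1 (ha p hp)
    have h2 := hs h1
    have h3 := Ideal.mem_map_of_mem eO.symm.toRingHom h2
    rw [Ideal.map_pow] at h3
    have h4 : (IsLocalRing.maximalIdeal ↑O).map eO.symm.toRingHom ≤
        IsLocalRing.maximalIdeal Γ(Spec O, ⊤) := IsLocalRing.map_maximalIdeal_le _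
    have h5 := Ideal.pow_right_mono h4 N h3
    simpa using h5
  · intro p
    rcases Nat.eq_zero_or_pos p.2 with h0 | hpos
    · -- trivial test ring
      haveI : Subsingleton (Tq p) := by
        refine Ideal.Quotient.subsingleton_iff.2 ?_
        rw [h0, pow_zero, Ideal.one_eq_top]
      haveI : Subsingleton (T p) := (eT p).toEquiv.subsingleton
      haveI : Subsingleton ((T p) ⊗[Γ(Spec O, ⊤)] LocalizedModule q.primeCompl Γ(F₁, UX)) :=
        Module.subsingleton (T p) _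
      infer_instance
    · -- Artinian local test ring
      have hne : (IsLocalRing.maximalIdeal (A p.1)) ^ p.2 ≠ ⊤ := by
        intro h
        have h1 : (IsLocalRing.maximalIdeal (A p.1)) ^ p.2 ≤ IsLocalRing.maximalIdeal (A p.1) :=
          Ideal.pow_le_self hpos.ne'
        rw [h] at h1
        exact (IsLocalRing.maximalIdeal.isMaximal (A p.1)).ne_top (top_le_iff.1 h1)
      haveI : Nontrivial (Tq p) := Ideal.Quotient.nontrivial_iff.2 hne
      haveI : IsLocalRing (Tq p) :=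
        IsLocalRing.of_surjective' (Ideal.Quotient.mk _) Ideal.Quotient.mk_surjective
      haveI : IsLocalRing (T p) := (eT p).symm.isLocalRing
      have hUT : IsAffineOpen (⊤ : (Spec (CommRingCat.of (Tq p))).Opens) := isAffineOpen_top _
      have hUST : (⊤ : (Spec (CommRingCat.of (Tq p))).Opens) ≤ (Spec.map (ψ p)) ⁻¹ᵁ ⊤ := le_top
      set K := RingHom.ker (algebraMap Γ(Spec O, ⊤) (T p)) with hK
      have hKne : K ≠ ⊤ := RingHom.ker_ne_top _
      haveI : Nontrivial (Γ(Spec O, ⊤) ⧸ K) := Ideal.Quotient.nontrivial_iff.2 hKne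
      haveI : IsLocalRing (Γ(Spec O, ⊤) ⧸ K) :=
        IsLocalRing.of_surjective' (Ideal.Quotient.mk K) Ideal.Quotient.mk_surjective
      have hnil : IsNilpotent (IsLocalRing.maximalIdeal (Γ(Spec O, ⊤) ⧸ K)) := by
        refine isNilpotent_maximalIdeal_quotient K p.2 (fun a ha => ?_)
        rw [hK, hkerT]
        have h1 : (IsLocalRing.maximalIdeal Γ(Spec O, ⊤)).map ((φ p.1).comp eO.toRingHom) ≤
            IsLocalRing.maximalIdeal (A p.1) := IsLocalRing.map_maximalIdeal_le _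
        have h2 := Ideal.mem_map_of_mem ((φ p.1).comp eO.toRingHom) ha
        rw [Ideal.map_pow] at h2
        exact Ideal.pow_right_mono h1 _ h2
      letI algKT : Algebra (Γ(Spec O, ⊤) ⧸ K) (T p) :=
        (Ideal.Quotient.lift K (algebraMap Γ(Spec O, ⊤) (T p)) (fun a ha => ha)).toAlgebra
      haveI : IsScalarTower Γ(Spec O, ⊤) (Γ(Spec O, ⊤) ⧸ K) (T p) :=
        IsScalarTower.of_algebraMap_eq (fun _ => rfl)
      refine flat_tensor_localized_of_forall_isFlatOverAt' f₁ (Spec.map (ψ p)) F₁ hUX hUS hUT hUSX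
        hUST (Rbar := Γ(Spec O, ⊤) ⧸ K) hnil Ideal.Quotient.mk_surjective x₁ hxUX rfl rfl ?_
      intro x' h1 hx' h2
      have hcl : pullback.snd f₁ (Spec.map (ψ p)) x' = IsLocalRing.closedPoint (Tq p) :=
        (primeIdealOf_top_eq_maximalIdeal_iff (R := CommRingCat.of (Tq p)) _).1 h2
      have hψ : Spec.map (ψ p) = Spec.map (π p) ≫ Spec.map (ψ₀ p.1) := Spec.map_comp _ _
      have key : ∀ (g' : Spec (CommRingCat.of (Tq p)) ⟶ Spec O),
          g' = Spec.map (π p) ≫ Spec.map (ψ₀ p.1) → ∀ x' : ↥(pullback f₁ g'),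
          pullback.fst f₁ g' x' = x₁ → pullback.snd f₁ g' x' = IsLocalRing.closedPoint (Tq p) →
          FlatMod.IsFlatOverAt (pullback.snd f₁ g')
            ((Scheme.Modules.pullback (pullback.fst f₁ g')).obj F₁) x' := by
        rintro g' rfl x' h1 h2
        apply isFlatOverAt_pullback_comp f₁ (Spec.map (ψ₀ p.1)) (Spec.map (π p)) F₁ x'
        have hk1 : pullback.map f₁ (Spec.map (π p) ≫ Spec.map (ψ₀ p.1)) f₁ (Spec.map (ψ₀ p.1)) (𝟙 X₁)
            (Spec.map (π p)) (𝟙 _) (by simp) (by simp) ≫ pullback.fst f₁ (Spec.map (ψ₀ p.1)) =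
            pullback.fst f₁ (Spec.map (π p) ≫ Spec.map (ψ₀ p.1)) :=
          (pullback.lift_fst _ _ _).trans (Category.comp_id _)
        have hk2 : pullback.map f₁ (Spec.map (π p) ≫ Spec.map (ψ₀ p.1)) f₁ (Spec.map (ψ₀ p.1)) (𝟙 X₁)
            (Spec.map (π p)) (𝟙 _) (by simp) (by simp) ≫ pullback.snd f₁ (Spec.map (ψ₀ p.1)) =
            pullback.snd f₁ (Spec.map (π p) ≫ Spec.map (ψ₀ p.1)) ≫ Spec.map (π p) :=
          pullback.lift_snd _ _ _
        apply hflat p.1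
        · rw [← Scheme.Hom.comp_apply, hk1]
          exact h1
        · rw [← Scheme.Hom.comp_apply, hk2, Scheme.Hom.comp_apply, h2]
          haveI : IsLocalHom (π p).hom :=
            IsLocalHom.of_surjective _ Ideal.Quotient.mk_surjective
          exact Spec_closedPoint
      exact key _ hψ x' h1 hcl

end Groth.Agent.Lib.Helper7.FlatChart
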