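import Mathlib
import Groth.Agent.Lib.Helper7.FlatTestLocal

/-!
# Flatness over an Artinian local base tested at ONE point of the fibre, primary residue
extension (helper7)

Variant of `FlatTestLocal` (EGA IV 11.5): if every zero divisor of `κ(B) ⊗_A κ(A')` is nilpotent,
it suffices to know flatness of `N ⊗_A A'` at one prime of `B ⊗_A A'` over both maximal ideals.
-/

set_option autoImplicit false
set_option linter.unusedSectionVars false
set_option linter.style.haveILetI false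
universe u
open TensorProduct

noncomputable section

namespace Groth.Agent.Lib.Helper7.FlatTestPrimary

open Groth.Agent.Lib.Helper7.FlatTestLocal Groth.Agent.Lib.Helper2

section Aux

theorem finsuppTensorFinsupp_apply_eq_map {R M N ι κ : Type*} [CommRing R] [AddCommGroup M]
    [Module R M] [AddCommGroup N] [Module R N] [DecidableEq ι] [DecidableEq κ]
    (w : (ι →₀ M) ⊗[R] (κ →₀ N)) (i : ι) (k : κ) :
    finsuppTensorFinsupp R R M N ι κ w (i, k) =
      TensorProduct.map (Finsupp.lapply i) (Finsupp.lapply k) w := by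
  induction w with
  | zero => simp
  | add w₁ w₂ h₁ h₂ => simp only [map_add, Finsupp.coe_add, Pi.add_apply, h₁, h₂]
  | tmul f g => simp [finsuppTensorFinsupp_apply]

end Aux

section Sigma

variable {A A' B : Type u} [CommRing A] [CommRing A'] [CommRing B] [Algebra A B] [Algebra A A']

section Def

variable (Q Z : Type u) [AddCommGroup Q] [Module B Q] [Module A Q] [IsScalarTower A B Q]
  [AddCommGroup Z] [Module A' Z] [Module A Z] [IsScalarTower A A' Z]

/-- the action of `τ ∈ B ⊗_A A'` on `Q ⊗_A Z`. -/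
def sig : B ⊗[A] A' →ₗ[A] (Q ⊗[A] Z →ₗ[A] Q ⊗[A] Z) :=
  (TensorProduct.homTensorHomMap (RingHom.id A) Q Z Q Z) ∘ₗ
    (TensorProduct.map (Algebra.lsmul A A Q : B →ₐ[A] Module.End A Q).toLinearMap
      (Algebra.lsmul A A Z : A' →ₐ[A] Module.End A Z).toLinearMap)

variable {Q Z}

@[simp] theorem sig_tmul_tmul (b : B) (a' : A') (q : Q) (z : Z) :
    sig Q Z (b ⊗ₜ[A] a') (q ⊗ₜ[A] z) = (b • q) ⊗ₜ[A] (a' • z) := by
  simp [sig]

end Def

section Nat

variable {Q₁ Q₂ Z₁ Z₂ : Type u}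
  [AddCommGroup Q₁] [Module B Q₁] [Module A Q₁] [IsScalarTower A B Q₁]
  [AddCommGroup Q₂] [Module B Q₂] [Module A Q₂] [IsScalarTower A B Q₂]
  [AddCommGroup Z₁] [Module A' Z₁] [Module A Z₁] [IsScalarTower A A' Z₁]
  [AddCommGroup Z₂] [Module A' Z₂] [Module A Z₂] [IsScalarTower A A' Z₂]

theorem sig_natural (g : Q₁ →ₗ[B] Q₂) (θ : Z₁ →ₗ[A'] Z₂) (τ : B ⊗[A] A') (t : Q₁ ⊗[A] Z₁) :
    TensorProduct.map (g.restrictScalars A) (θ.restrictScalars A) (sig Q₁ Z₁ τ t) =
      sig Q₂ Z₂ τ (TensorProduct.map (g.restrictScalars A) (θ.restrictScalars A) t) := by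
  induction τ with
  | zero => simp
  | add τ₁ τ₂ h₁ h₂ => simp only [map_add, LinearMap.add_apply, h₁, h₂]
  | tmul b a' =>
    induction t with
    | zero => simp
    | add t₁ t₂ h₁ h₂ => simp only [map_add, h₁, h₂]
    | tmul q z => simp

end Nat

section Residue

variable (𝔫 : Ideal B) (𝔪' : Ideal A')

/-- the ring map `B ⊗_A A' → (B/𝔫) ⊗_A (A'/𝔪')`. -/
def chi : B ⊗[A] A' →ₐ[A] (B ⧸ 𝔫) ⊗[A] (A' ⧸ 𝔪') :=
  Algebra.TensorProduct.map (Ideal.Quotient.mkₐ A 𝔫) (Ideal.Quotient.mkₐ A 𝔪')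

theorem sig_residue (τ : B ⊗[A] A') (e : (B ⧸ 𝔫) ⊗[A] (A' ⧸ 𝔪')) :
    sig (B ⧸ 𝔫) (A' ⧸ 𝔪') τ e = chi 𝔫 𝔪' τ * e := by
  induction τ with
  | zero => simp
  | add τ₁ τ₂ h₁ h₂ => simp only [map_add, LinearMap.add_apply, h₁, h₂, add_mul]
  | tmul b a' =>
    induction e with
    | zero => simp
    | add e₁ e₂ h₁ h₂ => simp only [map_add, h₁, h₂, mul_add]
    | tmul κ c =>
      simp [chi, Algebra.smul_def]

variable [𝔫.IsMaximal] [𝔪'.IsMaximal]

/-- base of the induction: modules killed by the maximal ideals. -/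
theorem sig_injective_of_killed (τ : B ⊗[A] A')
    (hbase : Function.Injective (sig (B ⧸ 𝔫) (A' ⧸ 𝔪') τ))
    (Q Z : Type u) [AddCommGroup Q] [Module B Q] [Module A Q] [IsScalarTower A B Q]
    [AddCommGroup Z] [Module A' Z] [Module A Z] [IsScalarTower A A' Z]
    (hQ : ∀ b ∈ 𝔫, ∀ q : Q, b • q = 0) (hZ : ∀ a' ∈ 𝔪', ∀ z : Z, a' • z = 0) :
    Function.Injective (sig Q Z τ) := by
  classical
  have hTQ : Module.IsTorsionBySet B Q (𝔫 : Set B) := fun q b => hQ b.1 b.2 q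
  have hTZ : Module.IsTorsionBySet A' Z (𝔪' : Set A') := fun z a => hZ a.1 a.2 z
  letI : Field (B ⧸ 𝔫) := Ideal.Quotient.field 𝔫
  letI : Field (A' ⧸ 𝔪') := Ideal.Quotient.field 𝔪'
  letI := hTQ.module
  letI := hTZ.module
  let bQ := Module.Basis.ofVectorSpace (B ⧸ 𝔫) Q
  let bZ := Module.Basis.ofVectorSpace (A' ⧸ 𝔪') Z
  let eQ : Q ≃ₗ[B] (_ →₀ (B ⧸ 𝔫)) := bQ.repr.restrictScalars B
  let eZ : Z ≃ₗ[A'] (_ →₀ (A' ⧸ 𝔪')) := bZ.repr.restrictScalars A'
  rw [injective_iff_map_eq_zero]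
  intro t ht
  have h1 : ∀ j₁ j₂, TensorProduct.map
      ((Finsupp.lapply j₁ ∘ₗ eQ.toLinearMap).restrictScalars A)
      ((Finsupp.lapply j₂ ∘ₗ eZ.toLinearMap).restrictScalars A) t = 0 := by
    intro j₁ j₂
    apply hbase
    rw [← sig_natural, ht, map_zero, map_zero]
  let eQA : Q ≃ₗ[A] (_ →₀ (B ⧸ 𝔫)) := eQ.restrictScalars A
  let eZA : Z ≃ₗ[A] (_ →₀ (A' ⧸ 𝔪')) := eZ.restrictScalars A
  have h3 : finsuppTensorFinsupp A A (B ⧸ 𝔫) (A' ⧸ 𝔪') _ _ (TensorProduct.congr eQA eZA t) = 0 := by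
    ext ⟨j₁, j₂⟩
    rw [finsuppTensorFinsupp_apply_eq_map, ← LinearEquiv.coe_toLinearMap,
      TensorProduct.toLinearMap_congr, ← LinearMap.comp_apply, ← TensorProduct.map_comp]
    exact h1 j₁ j₂
  have h4 : TensorProduct.congr eQA eZA t = 0 := (LinearEquiv.map_eq_zero_iff _).mp h3
  exact (LinearEquiv.map_eq_zero_iff _).mp h4

/-- induction on the power of `𝔫` killing `Q`. -/
theorem sig_injective_of_pow_killed (𝔪 : Ideal A) [𝔪.IsMaximal] (τ : B ⊗[A] A')
    (hbase : Function.Injective (sig (B ⧸ 𝔫) (A' ⧸ 𝔪') τ))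
    (Z : Type u) [AddCommGroup Z] [Module A' Z] [Module A Z] [IsScalarTower A A' Z]
    (hZ : ∀ a' ∈ 𝔪', ∀ z : Z, a' • z = 0) :
    ∀ (n : ℕ) (Q : Type u) [AddCommGroup Q] [Module B Q] [Module A Q] [IsScalarTower A B Q],
      (∀ b ∈ 𝔫 ^ n, ∀ q : Q, b • q = 0) → (∀ a ∈ 𝔪, ∀ q : Q, a • q = 0) →
      Function.Injective (sig Q Z τ) := by
  intro n
  induction n with
  | zero =>
    intro Q _ _ _ _ hQ _
    haveI : Subsingleton Q := ⟨fun x y => by
      have hx := hQ 1 (by simp) x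
      have hy := hQ 1 (by simp) y
      rw [one_smul] at hx hy
      rw [hx, hy]⟩
    haveI : Subsingleton (Q ⊗[A] Z) := inferInstance
    exact Function.injective_of_subsingleton _
  | succ n ih =>
    intro Q _ _ _ _ hQ hQ𝔪
    set S : Submodule B Q := 𝔫 ^ n • ⊤ with hS
    have hS𝔫 : ∀ b ∈ 𝔫, ∀ x : S, b • x = 0 := by
      rintro b hb ⟨x, hx⟩
      apply Subtype.ext
      show b • x = 0
      refine Submodule.smul_induction_on hx ?_ ?_
      · intro r hr q _
        rw [← mul_smul]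
        exact hQ _ (by rw [pow_succ']; exact Ideal.mul_mem_mul hb hr) q
      · intro x y hx hy
        rw [smul_add, hx, hy, add_zero]
    have hQS𝔫 : ∀ b ∈ 𝔫 ^ n, ∀ x : Q ⧸ S, b • x = 0 := by
      intro b hb x
      obtain ⟨q, rfl⟩ := S.mkQ_surjective x
      rw [← map_smul, Submodule.mkQ_apply, Submodule.Quotient.mk_eq_zero]
      exact Submodule.smul_mem_smul hb Submodule.mem_top
    have hQS𝔪 : ∀ a ∈ 𝔪, ∀ x : Q ⧸ S, a • x = 0 := by
      intro a ha x
      obtain ⟨q, rfl⟩ := S.mkQ_surjective x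
      rw [← LinearMap.map_smul_of_tower, hQ𝔪 a ha q, map_zero]
    have ih' := ih (Q ⧸ S) hQS𝔫 hQS𝔪
    have hb2 := sig_injective_of_killed 𝔫 𝔪' τ hbase S Z hS𝔫 hZ
    obtain ⟨ρ, hρ⟩ := exists_retraction 𝔪 hQ𝔪 (S.subtype.restrictScalars A) S.injective_subtype
    rw [injective_iff_map_eq_zero]
    intro t ht
    have h1 : (S.mkQ.restrictScalars A).rTensor Z t = 0 := by
      apply ih'
      have h2 := sig_natural (A := A) (A' := A') S.mkQ (LinearMap.id : Z →ₗ[A'] Z) τ t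
      rw [ht, map_zero] at h2
      rw [map_zero]
      exact h2.symm
    have hex : Function.Exact ((S.subtype.restrictScalars A).rTensor Z)
        ((S.mkQ.restrictScalars A).rTensor Z) :=
      rTensor_exact Z (f := S.subtype.restrictScalars A) (g := S.mkQ.restrictScalars A)
        (LinearMap.exact_subtype_mkQ S) S.mkQ_surjective
    obtain ⟨t₁, rfl⟩ := (hex t).mp h1
    have h3 : (S.subtype.restrictScalars A).rTensor Z (sig S Z τ t₁) = 0 := by
      have h2 := sig_natural (A := A) (A' := A') S.subtype (LinearMap.id : Z →ₗ[A'] Z) τ t₁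
      rw [← ht]
      exact h2
    have h4 : sig S Z τ t₁ = 0 := by
      have h5 := congrArg (ρ.rTensor Z) h3
      rw [← LinearMap.comp_apply, ← LinearMap.rTensor_comp, hρ, LinearMap.rTensor_id,
        LinearMap.id_apply, map_zero] at h5
      exact h5
    have h5 : t₁ = 0 := hb2 (by rw [h4, map_zero])
    rw [h5, map_zero]

/-- **Key lemma**: an element of `N ⊗_A Z` killed by `τ`, whose image in the residue ring is a
nonzerodivisor, is divisible by all powers of `𝔫`. -/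
theorem mem_pow_smul_top_of_sig_eq_zero (𝔪 : Ideal A) [𝔪.IsMaximal] (τ : B ⊗[A] A')
    (hbase : Function.Injective (sig (B ⧸ 𝔫) (A' ⧸ 𝔪') τ))
    (N Z : Type u) [AddCommGroup N] [Module B N] [Module A N] [IsScalarTower A B N]
    [AddCommGroup Z] [Module A' Z] [Module A Z] [IsScalarTower A A' Z]
    (hZ : ∀ a' ∈ 𝔪', ∀ z : Z, a' • z = 0) (hφ𝔪 : ∀ a ∈ 𝔪, algebraMap A A' a ∈ 𝔪')
    (t : N ⊗[A] Z) (ht : sig N Z τ t = 0) (n : ℕ) :
    t ∈ 𝔫 ^ n • (⊤ : Submodule B (N ⊗[A] Z)) := by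
  set J : Ideal B := 𝔫 ^ n ⊔ 𝔪.map (algebraMap A B) with hJ
  set S : Submodule B N := J • ⊤ with hS
  have hQ𝔫 : ∀ b ∈ 𝔫 ^ n, ∀ x : N ⧸ S, b • x = 0 := by
    intro b hb x
    obtain ⟨q, rfl⟩ := S.mkQ_surjective x
    rw [← map_smul, Submodule.mkQ_apply, Submodule.Quotient.mk_eq_zero]
    exact Submodule.smul_mem_smul (Ideal.mem_sup_left hb) Submodule.mem_top
  have hQ𝔪 : ∀ a ∈ 𝔪, ∀ x : N ⧸ S, a • x = 0 := by
    intro a ha x
    obtain ⟨q, rfl⟩ := S.mkQ_surjective x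
    rw [← LinearMap.map_smul_of_tower, Submodule.mkQ_apply, Submodule.Quotient.mk_eq_zero,
      ← algebraMap_smul B a q]
    exact Submodule.smul_mem_smul (Ideal.mem_sup_right (Ideal.mem_map_of_mem _ ha))
      Submodule.mem_top
  have hinj := sig_injective_of_pow_killed 𝔫 𝔪' 𝔪 τ hbase Z hZ n (N ⧸ S) hQ𝔫 hQ𝔪
  have h1 : (S.mkQ.restrictScalars A).rTensor Z t = 0 := by
    apply hinj
    have h2 := sig_natural (A := A) (A' := A') S.mkQ (LinearMap.id : Z →ₗ[A'] Z) τ t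
    rw [ht, map_zero] at h2
    rw [map_zero]
    exact h2.symm
  have hex : Function.Exact ((S.subtype.restrictScalars A).rTensor Z)
      ((S.mkQ.restrictScalars A).rTensor Z) :=
    rTensor_exact Z (f := S.subtype.restrictScalars A) (g := S.mkQ.restrictScalars A)
      (LinearMap.exact_subtype_mkQ S) S.mkQ_surjective
  obtain ⟨t₁, rfl⟩ := (hex t).mp h1
  have hkill : ∀ d ∈ 𝔪.map (algebraMap A B), ∀ (m : N) (z : Z), (d • m) ⊗ₜ[A] z = 0 := by
    intro d hd
    refine Submodule.span_induction ?_ ?_ ?_ ?_ hd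
    · rintro _ ⟨a, ha, rfl⟩ m z
      rw [algebraMap_smul, TensorProduct.smul_tmul, ← algebraMap_smul A' a z,
        hZ _ (hφ𝔪 a ha) z, tmul_zero]
    · intro m z
      rw [zero_smul, zero_tmul]
    · intro r₁ r₂ _ _ h₁ h₂ m z
      rw [add_smul, add_tmul, h₁, h₂, add_zero]
    · intro c r₁ _ h₁ m z
      rw [smul_eq_mul, mul_comm, mul_smul]
      exact h₁ (c • m) z
  clear ht h1
  induction t₁ with
  | zero => rw [map_zero]; exact zero_mem _
  | add x y hx hy => rw [map_add]; exact add_mem hx hy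
  | tmul x z =>
    obtain ⟨x, hx⟩ := x
    show x ⊗ₜ[A] z ∈ _
    refine Submodule.smul_induction_on hx ?_ ?_
    · intro r hr m _
      obtain ⟨c, hc, d, hd, rfl⟩ := Submodule.mem_sup.mp hr
      rw [add_smul, add_tmul, hkill d hd m z, add_zero, ← TensorProduct.smul_tmul']
      exact Submodule.smul_mem_smul hc Submodule.mem_top
    · intro x y hx hy
      rw [add_tmul]
      exact add_mem hx hy

end Residue

end Sigma

section PhiSig

variable {A A' B B' : Type u} [CommRing A] [CommRing A'] [CommRing B] [CommRing B']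
  [Algebra A B] [Algebra A A'] [Algebra B B'] [Algebra A' B'] [Algebra A B']
  [IsScalarTower A B B'] [IsScalarTower A A' B'] [Algebra.IsPushout A B A' B']
  {N N' : Type u} [AddCommGroup N] [Module B N] [Module A N] [IsScalarTower A B N]
  [AddCommGroup N'] [Module B' N'] [Module A' N'] [IsScalarTower A' B' N'] [Module B N']
  [IsScalarTower B B' N'] [Module A N'] [IsScalarTower A A' N'] [IsScalarTower A B N']
  (f : N →ₗ[B] N')
  (Z : Type u) [AddCommGroup Z] [Module A' Z] [Module A Z] [IsScalarTower A A' Z]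

/-- `phi` intertwines the action of `B ⊗_A A'` with the action of `B'`. -/
theorem phi_sig (τ : B ⊗[A] A') (t : N ⊗[A] Z) :
    phi A A' f Z (sig N Z τ t) = (Algebra.IsPushout.equiv A B A' B' τ) • phi A A' f Z t := by
  induction τ with
  | zero => simp
  | add τ₁ τ₂ h₁ h₂ => simp only [map_add, LinearMap.add_apply, h₁, h₂, add_smul]
  | tmul b a' =>
    induction t with
    | zero => simp
    | add t₁ t₂ h₁ h₂ => simp only [map_add, h₁, h₂, smul_add]
    | tmul n z =>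
      rw [sig_tmul_tmul, phi_tmul, phi_tmul, Algebra.IsPushout.equiv_tmul, map_smul,
        TensorProduct.smul_tmul', ← TensorProduct.smul_tmul, ← algebraMap_smul B' b (f n),
        ← algebraMap_smul B' a' (algebraMap B B' b • f n), ← mul_smul, mul_comm]

/-- evaluation `(B/𝔫) ⊗_A (A'/𝔪') → B'/P` for a prime `P` over `𝔫` and `𝔪'`. -/
theorem exists_ev (𝔫 : Ideal B) (𝔪' : Ideal A') (P : Ideal B')
    (hP1 : 𝔫 ≤ P.comap (algebraMap B B')) (hP2 : 𝔪' ≤ P.comap (algebraMap A' B')) :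
    ∃ ev : (B ⧸ 𝔫) ⊗[A] (A' ⧸ 𝔪') →+* B' ⧸ P, ∀ τ : B ⊗[A] A',
      ev (chi 𝔫 𝔪' τ) = Ideal.Quotient.mk P (Algebra.IsPushout.equiv A B A' B' τ) := by
  let f₁ : B ⧸ 𝔫 →ₐ[A] B' ⧸ P :=
    Ideal.Quotient.liftₐ 𝔫 ((Ideal.Quotient.mkₐ A P).comp (IsScalarTower.toAlgHom A B B'))
      (fun b hb => by
        show Ideal.Quotient.mk P (algebraMap B B' b) = 0
        exact Ideal.Quotient.eq_zero_iff_mem.mpr (hP1 hb))
  let f₂ : A' ⧸ 𝔪' →ₐ[A] B' ⧸ P :=
    Ideal.Quotient.liftₐ 𝔪' ((Ideal.Quotient.mkₐ A P).comp (IsScalarTower.toAlgHom A A' B'))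
      (fun b hb => by
        show Ideal.Quotient.mk P (algebraMap A' B' b) = 0
        exact Ideal.Quotient.eq_zero_iff_mem.mpr (hP2 hb))
  refine ⟨(Algebra.TensorProduct.lift f₁ f₂ (fun _ _ => Commute.all _ _)).toRingHom, ?_⟩
  intro τ
  induction τ with
  | zero => simp
  | add τ₁ τ₂ h₁ h₂ => simp only [map_add, h₁, h₂]
  | tmul b a' =>
    simp only [chi, Algebra.TensorProduct.map_tmul, AlgHom.toRingHom_eq_coe, RingHom.coe_coe,
      Algebra.TensorProduct.lift_tmul, Algebra.IsPushout.equiv_tmul, map_mul]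
    rfl

/-- the kernel of `chi` corresponds to `𝔫B' + 𝔪'B'` under the pushout isomorphism. -/
theorem mem_ker_chi_iff (𝔫 : Ideal B) (𝔪' : Ideal A') (τ : B ⊗[A] A') :
    chi 𝔫 𝔪' τ = 0 ↔ Algebra.IsPushout.equiv A B A' B' τ ∈
      𝔫.map (algebraMap B B') ⊔ 𝔪'.map (algebraMap A' B') := by
  set ε := Algebra.IsPushout.equiv A B A' B' with hε
  have hker : RingHom.ker (chi (A := A) 𝔫 𝔪') =
      𝔫.map (Algebra.TensorProduct.includeLeft : B →ₐ[A] B ⊗[A] A') ⊔
        𝔪'.map (Algebra.TensorProduct.includeRight : A' →ₐ[A] B ⊗[A] A') := by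
    have h1 := Algebra.TensorProduct.map_ker (Ideal.Quotient.mkₐ A 𝔫) (Ideal.Quotient.mkₐ A 𝔪')
      (Ideal.Quotient.mkₐ_surjective A 𝔫) (Ideal.Quotient.mkₐ_surjective A 𝔪')
    have hk1 : RingHom.ker (Ideal.Quotient.mkₐ A 𝔫) = 𝔫 := by
      ext x
      rw [RingHom.mem_ker]
      exact Ideal.Quotient.eq_zero_iff_mem
    have hk2 : RingHom.ker (Ideal.Quotient.mkₐ A 𝔪') = 𝔪' := by
      ext x
      rw [RingHom.mem_ker]
      exact Ideal.Quotient.eq_zero_iff_mem
    rw [hk1, hk2] at h1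
    exact h1
  have hmap : (𝔫.map (Algebra.TensorProduct.includeLeft : B →ₐ[A] B ⊗[A] A') ⊔
        𝔪'.map (Algebra.TensorProduct.includeRight : A' →ₐ[A] B ⊗[A] A')).map
        (ε : B ⊗[A] A' →+* B') =
      𝔫.map (algebraMap B B') ⊔ 𝔪'.map (algebraMap A' B') := by
    rw [Ideal.map_sup]
    congr 1
    · show Ideal.map (ε : B ⊗[A] A' →+* B') (Ideal.map
        ((Algebra.TensorProduct.includeLeft : B →ₐ[A] B ⊗[A] A') : B →+* B ⊗[A] A') 𝔫) = _
      rw [Ideal.map_map]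
      congr 1
      ext b
      show ε (b ⊗ₜ[A] (1 : A')) = _
      rw [hε, Algebra.IsPushout.equiv_tmul, map_one, mul_one]
    · show Ideal.map (ε : B ⊗[A] A' →+* B') (Ideal.map
        ((Algebra.TensorProduct.includeRight : A' →ₐ[A] B ⊗[A] A') : A' →+* B ⊗[A] A') 𝔪') = _
      rw [Ideal.map_map]
      congr 1
      ext a'
      show ε ((1 : B) ⊗ₜ[A] a') = _
      rw [hε, Algebra.IsPushout.equiv_tmul, map_one, one_mul]
  rw [← RingHom.mem_ker, hker, ← hmap]
  constructor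
  · intro h
    exact Ideal.mem_map_of_mem _ h
  · intro h
    have h2 := Ideal.mem_map_of_mem (ε.symm : B' →+* B ⊗[A] A') h
    rw [Ideal.map_map] at h2
    have h3 : ((ε.symm : B' →+* B ⊗[A] A').comp (ε : B ⊗[A] A' →+* B')) =
        RingHom.id _ := RingHom.ext fun x => ε.symm_apply_apply x
    rw [h3, Ideal.map_id] at h2
    have h4 : (ε.symm : B' →+* B ⊗[A] A') (ε τ) = τ := ε.symm_apply_apply τ
    rw [h4] at h2
    exact h2

/-- regularity modulo `𝔫B' + 𝔪'B'` gives injectivity of the residue action. -/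
theorem hbase_of_hreg (𝔫 : Ideal B) (𝔪' : Ideal A') (P : Ideal B')
    (hreg : ∀ s : B', s ∉ P → ∀ b' : B',
      s * b' ∈ 𝔫.map (algebraMap B B') ⊔ 𝔪'.map (algebraMap A' B') →
      b' ∈ 𝔫.map (algebraMap B B') ⊔ 𝔪'.map (algebraMap A' B'))
    (τ : B ⊗[A] A') (hτ : Algebra.IsPushout.equiv A B A' B' τ ∉ P) :
    Function.Injective (sig (B ⧸ 𝔫) (A' ⧸ 𝔪') τ) := by
  rw [injective_iff_map_eq_zero]
  intro e he
  obtain ⟨τ', rfl⟩ := Algebra.TensorProduct.map_surjective (Ideal.Quotient.mkₐ A 𝔫)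
    (Ideal.Quotient.mkₐ A 𝔪') (Ideal.Quotient.mkₐ_surjective A 𝔫)
    (Ideal.Quotient.mkₐ_surjective A 𝔪') e
  change sig (B ⧸ 𝔫) (A' ⧸ 𝔪') τ (chi 𝔫 𝔪' τ') = 0 at he
  show chi 𝔫 𝔪' τ' = 0
  rw [sig_residue, ← map_mul, mem_ker_chi_iff (B' := B'), map_mul] at he
  rw [mem_ker_chi_iff (B' := B')]
  exact hreg _ hτ _ he

/-- "zero divisors are nilpotent" in the residue ring gives regularity modulo `𝔫B' + 𝔪'B'`
outside a prime over `𝔫` and `𝔪'`. -/
theorem hreg_of_hE (𝔫 : Ideal B) (𝔪' : Ideal A') (P : Ideal B') [P.IsPrime]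
    (hP1 : 𝔫 ≤ P.comap (algebraMap B B')) (hP2 : 𝔪' ≤ P.comap (algebraMap A' B'))
    (hprimE : ∀ c d : (B ⧸ 𝔫) ⊗[A] (A' ⧸ 𝔪'), c * d = 0 → d ≠ 0 → IsNilpotent c)
    (s : B') (hs : s ∉ P) (b' : B')
    (h : s * b' ∈ 𝔫.map (algebraMap B B') ⊔ 𝔪'.map (algebraMap A' B')) :
    b' ∈ 𝔫.map (algebraMap B B') ⊔ 𝔪'.map (algebraMap A' B') := by
  set ε := Algebra.IsPushout.equiv A B A' B' with hε
  have h1 : ε (ε.symm s * ε.symm b') ∈
      𝔫.map (algebraMap B B') ⊔ 𝔪'.map (algebraMap A' B') := by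
    rw [map_mul, ε.apply_symm_apply, ε.apply_symm_apply]
    exact h
  rw [← mem_ker_chi_iff (B' := B'), map_mul] at h1
  have h2 : chi 𝔫 𝔪' (ε.symm b') = 0 := by
    by_contra hne
    have hnilp := hprimE _ _ h1 hne
    obtain ⟨ev, hev⟩ := exists_ev (A := A) (A' := A') (B' := B') 𝔫 𝔪' P hP1 hP2
    have h3 : IsNilpotent (Ideal.Quotient.mk P (ε (ε.symm s))) := by
      rw [← hev]
      exact hnilp.map ev
    have h4 : Ideal.Quotient.mk P (ε (ε.symm s)) = 0 := h3.eq_zero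
    rw [ε.apply_symm_apply, Ideal.Quotient.eq_zero_iff_mem] at h4
    exact hs h4
  rw [mem_ker_chi_iff (B' := B'), ε.apply_symm_apply] at h2
  exact h2

end PhiSig

section Main

variable {A A' B B' : Type u} [CommRing A] [CommRing A'] [CommRing B] [CommRing B']
  [IsLocalRing A] [IsNoetherianRing A] [IsLocalRing A'] [IsLocalRing B] [IsNoetherianRing B]
  [Algebra A B] [Algebra A A'] [Algebra B B'] [Algebra A' B'] [Algebra A B']
  [IsScalarTower A B B'] [IsScalarTower A A' B'] [Algebra.IsPushout A B A' B']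
  {N N' : Type u} [AddCommGroup N] [Module B N] [Module A N] [IsScalarTower A B N]
  [Module.Finite B N]
  [AddCommGroup N'] [Module B' N'] [Module A' N'] [IsScalarTower A' B' N'] [Module B N']
  [IsScalarTower B B' N']

open FlatIdealUniversal in
/-- **Core, regular variant**: flatness of `N ⊗_A A'` over `A'` from flatness at ONE prime `P` of
`B ⊗_A A'` over both maximal ideals, when the elements outside `P` are regular modulo
`𝔫B' + 𝔪'B'`. -/
theorem flat_baseChange_of_exists_flat_localized_reg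
    (hnil : IsNilpotent (IsLocalRing.maximalIdeal A))
    (f : N →ₗ[B] N') (hf : IsBaseChange B' f)
    (P : Ideal B') [P.IsPrime]
    (hreg : ∀ s : B', s ∉ P → ∀ b' : B',
      s * b' ∈ (IsLocalRing.maximalIdeal B).map (algebraMap B B') ⊔
        (IsLocalRing.maximalIdeal A').map (algebraMap A' B') →
      b' ∈ (IsLocalRing.maximalIdeal B).map (algebraMap B B') ⊔
        (IsLocalRing.maximalIdeal A').map (algebraMap A' B'))
    (hPflat : Module.Flat A' (LocalizedModule P.primeCompl N')) :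
    Module.Flat A' (A' ⊗[A] N) := by
  classical
  set 𝔪 := IsLocalRing.maximalIdeal A with h𝔪
  set 𝔪' := IsLocalRing.maximalIdeal A' with h𝔪'
  set 𝔫 := IsLocalRing.maximalIdeal B with h𝔫
  set φ := algebraMap A A' with hφ
  letI modAN' : Module A N' := Module.compHom N' φ
  haveI towAA'N' : IsScalarTower A A' N' := IsScalarTower.of_compHom _ _ _
  haveI towABN' : IsScalarTower A B N' := by
    refine ⟨fun a b n' => ?_⟩
    show (a • b) • n' = φ a • (b • n')
    rw [Algebra.smul_def, mul_smul, ← algebraMap_smul B' (algebraMap A B a) (b • n'),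
      ← algebraMap_smul B' (φ a) (b • n'), ← IsScalarTower.algebraMap_apply,
      ← IsScalarTower.algebraMap_apply]
  haveI : 𝔪.IsMaximal := IsLocalRing.maximalIdeal.isMaximal A
  letI : Field (A ⧸ 𝔪) := Ideal.Quotient.field 𝔪
  obtain ⟨R₀, hR₀⟩ := NilpFree2.exists_ideal_forall_free_iff N 𝔪 hnil
    (Module.Free.of_divisionRing _ _)
  rw [(hR₀ A').2]
  have hφ𝔪 : ∀ a ∈ 𝔪, φ a ∈ 𝔪' := by
    intro a ha
    obtain ⟨n, hn⟩ := hnil
    have h1 : a ^ n = 0 := by
      have : a ^ n ∈ 𝔪 ^ n := Ideal.pow_mem_pow ha n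
      rw [hn] at this
      exact this
    rw [h𝔪', IsLocalRing.mem_maximalIdeal, mem_nonunits_iff]
    intro hu
    have h2 : IsNilpotent (φ a) := ⟨n, by rw [← map_pow, h1, map_zero]⟩
    exact h2.not_isUnit hu
  have hR₀𝔪 : R₀ ≤ 𝔪 := by
    have h1 : Module.Flat (A ⧸ 𝔪) ((A ⧸ 𝔪) ⊗[A] N) := inferInstance
    have h2 := (hR₀ (A ⧸ 𝔪)).2.mp h1
    rwa [Ideal.map_eq_bot_iff_le_ker, Ideal.Quotient.algebraMap_eq, Ideal.mk_ker] at h2
  set 𝔷 := R₀.map φ with h𝔷
  set 𝔶 : Ideal A' := 𝔪' • 𝔷 with h𝔶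
  have h𝔷fg : 𝔷.FG := Ideal.FG.map (IsNoetherian.noetherian R₀) φ
  refine Submodule.eq_bot_of_le_smul_of_le_jacobson_bot 𝔪' 𝔷 h𝔷fg ?_
    (IsLocalRing.jacobson_eq_maximalIdeal ⊥ bot_ne_top).ge
  set W := R₀ ⊓ 𝔶.comap φ with hW
  suffices hRW : R₀ ≤ W by
    calc 𝔷 ≤ (𝔶.comap φ).map φ := Ideal.map_mono (hRW.trans inf_le_right)
      _ ≤ 𝔶 := Ideal.map_comap_le
  have hflatW : Module.Flat (A ⧸ W) ((A ⧸ W) ⊗[A] N) := by
    set I₁ : Ideal (A ⧸ W) := R₀.map (Ideal.Quotient.mk W) with hI₁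
    have hI₁nil : IsNilpotent I₁ := by
      obtain ⟨n, hn⟩ := hnil
      refine ⟨n, ?_⟩
      rw [Ideal.zero_eq_bot, eq_bot_iff, hI₁, ← Ideal.map_pow]
      calc (R₀ ^ n).map (Ideal.Quotient.mk W) ≤ (𝔪 ^ n).map (Ideal.Quotient.mk W) :=
            Ideal.map_mono (Ideal.pow_right_mono hR₀𝔪 n)
        _ = ⊥ := by rw [hn, Ideal.zero_eq_bot, Ideal.map_bot]
    haveI hflatI₁ : Module.Flat ((A ⧸ W) ⧸ I₁)
        (((A ⧸ W) ⧸ I₁) ⊗[A ⧸ W] ((A ⧸ W) ⊗[A] N)) := by
      have h1 : Module.Flat ((A ⧸ W) ⧸ I₁) (((A ⧸ W) ⧸ I₁) ⊗[A] N) := by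
        rw [(hR₀ ((A ⧸ W) ⧸ I₁)).2, eq_bot_iff, Ideal.map_le_iff_le_comap]
        intro r hr
        rw [Ideal.mem_comap, Ideal.mem_bot, IsScalarTower.algebraMap_apply A (A ⧸ W) ((A ⧸ W) ⧸ I₁),
          Ideal.Quotient.algebraMap_eq, Ideal.Quotient.algebraMap_eq]
        exact Ideal.Quotient.eq_zero_iff_mem.mpr (Ideal.mem_map_of_mem _ hr)
      exact Module.Flat.of_linearEquiv
        (AlgebraTensorModule.cancelBaseChange A (A ⧸ W) ((A ⧸ W) ⧸ I₁) ((A ⧸ W) ⧸ I₁) N)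
    refine TorKill.flat_of_isNilpotent I₁ hI₁nil ?_
    refine lTensor_injective_of_restrictScalars W I₁ ?_
    -- the test module `Z`: the socle of `E = A'/𝔪'𝔷`
    set E := A' ⧸ 𝔶 with hE
    set Zs : Submodule A' E := Submodule.torsionBySet A' E (𝔪' : Set A') with hZs
    have hWker : W ≤ LinearMap.ker ((Ideal.Quotient.mkₐ A 𝔶).toLinearMap ∘ₗ Algebra.linearMap A A') := by
      intro w hw
      rw [LinearMap.mem_ker]
      show Ideal.Quotient.mk 𝔶 (φ w) = 0
      exact Ideal.Quotient.eq_zero_iff_mem.mpr hw.2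
    let ψ : (A ⧸ W) →ₗ[A] E :=
      Submodule.liftQ W ((Ideal.Quotient.mkₐ A 𝔶).toLinearMap ∘ₗ Algebra.linearMap A A') hWker
    have hψ : ∀ r : A, ψ (Ideal.Quotient.mk W r) = Ideal.Quotient.mk 𝔶 (φ r) := fun r => rfl
    set j : ↥I₁ →ₗ[A] (A ⧸ W) := I₁.subtype.restrictScalars A with hj
    have hmemZ : ∀ x : ↥I₁, ψ x.1 ∈ Zs := by
      rintro ⟨x, hx⟩
      obtain ⟨r, hr, rfl⟩ := (Ideal.mem_map_iff_of_surjective _ Ideal.Quotient.mk_surjective).mp hx
      rw [hZs, Submodule.mem_torsionBySet_iff]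
      rintro ⟨a', ha'⟩
      show a' • ψ (Ideal.Quotient.mk W r) = 0
      rw [hψ, Algebra.smul_def, Ideal.Quotient.algebraMap_eq, ← map_mul]
      refine Ideal.Quotient.eq_zero_iff_mem.mpr ?_
      rw [h𝔶, ← smul_eq_mul]
      exact Submodule.smul_mem_smul ha' (Ideal.mem_map_of_mem _ hr)
    let ι : ↥I₁ →ₗ[A] ↥Zs :=
      { toFun := fun x => ⟨ψ x.1, hmemZ x⟩
        map_add' := fun x y => Subtype.ext (by simp)
        map_smul' := fun a x => Subtype.ext (by simp) }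
    have hι : Function.Injective ι := by
      rw [injective_iff_map_eq_zero]
      rintro ⟨x, hx⟩ h0
      obtain ⟨r, hr, rfl⟩ := (Ideal.mem_map_iff_of_surjective _ Ideal.Quotient.mk_surjective).mp hx
      have h1 : ψ (Ideal.Quotient.mk W r) = 0 := congrArg Subtype.val h0
      rw [hψ, Ideal.Quotient.eq_zero_iff_mem] at h1
      apply Subtype.ext
      show Ideal.Quotient.mk W r = 0
      exact Ideal.Quotient.eq_zero_iff_mem.mpr ⟨hr, h1⟩
    have hkillZ : ∀ a ∈ 𝔪, ∀ z : ↥Zs, a • z = 0 := by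
      intro a ha z
      apply Subtype.ext
      show a • (z : E) = 0
      rw [← algebraMap_smul A' a (z : E)]
      exact ((Submodule.mem_torsionBySet_iff _ _).mp z.2) ⟨φ a, hφ𝔪 a ha⟩
    obtain ⟨ρ, hρ⟩ := exists_retraction 𝔪 hkillZ ι hι
    rw [injective_iff_map_eq_zero]
    intro x hx
    set x' := (ι.lTensor N) x with hx'
    set y := phi A A' f ↥Zs x' with hy
    -- local vanishing of `y` at `P`
    obtain ⟨s, hsP, hsy⟩ : ∃ s : B', s ∉ P ∧ s • y = 0 := by
      haveI := hPflat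
      set g := LocalizedModule.mkLinearMap P.primeCompl N' with hg
      have h1 : (Zs.subtype.lTensor N') y = 0 := by
        rw [hy, ← phi_natural, hx', ← LinearMap.comp_apply, ← LinearMap.lTensor_comp]
        have hcomp : (Zs.subtype.restrictScalars A) ∘ₗ ι = ψ ∘ₗ j := by ext z; rfl
        rw [hcomp, LinearMap.lTensor_comp, LinearMap.comp_apply, hx, map_zero, map_zero]
      have h2 : (Zs.subtype.lTensor (LocalizedModule P.primeCompl N'))
          (((g.restrictScalars A').rTensor ↥Zs) y) = 0 := by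
        rw [← LinearMap.comp_apply, LinearMap.lTensor_comp_rTensor,
          ← LinearMap.rTensor_comp_lTensor, LinearMap.comp_apply, h1, map_zero]
      have h3 : ((g.restrictScalars A').rTensor ↥Zs) y = 0 :=
        (Module.Flat.lTensor_preserves_injective_linearMap Zs.subtype Zs.injective_subtype)
          (by rw [h2, map_zero])
      have h4 : (AlgebraTensorModule.rTensor A' ↥Zs g) y =
          (AlgebraTensorModule.rTensor A' ↥Zs g) 0 := by
        rw [map_zero]; exact h3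
      obtain ⟨c, hc⟩ := IsLocalizedModule.exists_of_eq (S := P.primeCompl)
        (f := AlgebraTensorModule.rTensor A' ↥Zs g) h4
      exact ⟨c.1, c.2, by rw [smul_zero] at hc; exact hc⟩
    set ε := Algebra.IsPushout.equiv A B A' B' with hε
    set τ := ε.symm s with hτ
    have hετ : ε τ = s := ε.apply_symm_apply s
    have hZ : ∀ a' ∈ 𝔪', ∀ z : ↥Zs, a' • z = 0 := fun a' ha' z =>
      Subtype.ext ((Submodule.mem_torsionBySet_iff _ _).mp z.2 ⟨a', ha'⟩)
    have hsig : sig N ↥Zs τ x' = 0 := by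
      have h1 := phi_sig (A := A) (A' := A') (B' := B') f ↥Zs τ x'
      rw [hετ, ← hy, hsy] at h1
      have h2 := psi_phi (A := A) (A' := A') f ↥Zs hf (sig N ↥Zs τ x')
      rw [h1, map_zero] at h2
      exact h2.symm
    haveI : 𝔫.IsMaximal := IsLocalRing.maximalIdeal.isMaximal B
    haveI : 𝔪'.IsMaximal := IsLocalRing.maximalIdeal.isMaximal A'
    have hbase : Function.Injective (sig (B ⧸ 𝔫) (A' ⧸ 𝔪') τ) :=
      hbase_of_hreg (A := A) (A' := A') (B' := B') 𝔫 𝔪' P hreg τ (by rw [hετ]; exact hsP)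
    haveI : Module.Finite (A ⧸ W) ↥I₁ := Module.IsNoetherian.finite _ _
    haveI : Module.Finite A (A ⧸ W) :=
      Module.Finite.of_surjective (Submodule.mkQ W) (Submodule.mkQ_surjective W)
    haveI : Module.Finite A ↥I₁ := Module.Finite.trans (A ⧸ W) ↥I₁
    haveI : Module.Finite B (N ⊗[A] ↥I₁) := LocalCrit.finite_tensor_left ↥I₁
    have hxmem : ∀ n : ℕ, x ∈ 𝔫 ^ n • (⊤ : Submodule B (N ⊗[A] ↥I₁)) := by
      intro n
      have h2 := mem_pow_smul_top_of_sig_eq_zero 𝔫 𝔪' 𝔪 τ hbase N ↥Zs hZ hφ𝔪 x' hsig n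
      have h3 : x = (AlgebraTensorModule.lTensor B N ρ) x' := by
        show x = (ρ.lTensor N) ((ι.lTensor N) x)
        rw [← LinearMap.comp_apply, ← LinearMap.lTensor_comp, hρ, LinearMap.lTensor_id,
          LinearMap.id_apply]
      rw [h3]
      have h4 := Submodule.mem_map_of_mem (f := AlgebraTensorModule.lTensor B N ρ) h2
      rw [Submodule.map_smul''] at h4
      exact Submodule.smul_mono le_rfl le_top h4
    have hx0 : x ∈ (⨅ n : ℕ, 𝔫 ^ n • (⊤ : Submodule B (N ⊗[A] ↥I₁))) := by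
      rw [Submodule.mem_iInf]; exact hxmem
    rw [Ideal.iInf_pow_smul_eq_bot_of_isLocalRing 𝔫 (Ideal.IsPrime.ne_top inferInstance)] at hx0
    exact hx0
  have h3 := (hR₀ (A ⧸ W)).2.mp hflatW
  rwa [Ideal.map_eq_bot_iff_le_ker, Ideal.Quotient.algebraMap_eq, Ideal.mk_ker] at h3

/-- **Core, primary variant**: flatness of `N ⊗_A A'` over `A'` from flatness at ONE prime of
`B ⊗_A A'` over both maximal ideals, when zero divisors of `κ(B) ⊗_A κ(A')` are nilpotent. -/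
theorem flat_baseChange_of_exists_flat_localized
    (hnil : IsNilpotent (IsLocalRing.maximalIdeal A))
    (f : N →ₗ[B] N') (hf : IsBaseChange B' f)
    (hprimE : ∀ c d : (B ⧸ IsLocalRing.maximalIdeal B) ⊗[A] (A' ⧸ IsLocalRing.maximalIdeal A'),
      c * d = 0 → d ≠ 0 → IsNilpotent c)
    (P : Ideal B') [P.IsPrime]
    (hP1 : P.comap (algebraMap B B') = IsLocalRing.maximalIdeal B)
    (hP2 : P.comap (algebraMap A' B') = IsLocalRing.maximalIdeal A')
    (hPflat : Module.Flat A' (LocalizedModule P.primeCompl N')) :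
    Module.Flat A' (A' ⊗[A] N) :=
  flat_baseChange_of_exists_flat_localized_reg hnil f hf P
    (fun s hs b' h => hreg_of_hE (A := A) (A' := A') (B' := B') _ _ P hP1.ge hP2.ge hprimE s hs b' h)
    hPflat

end Main

end Groth.Agent.Lib.Helper7.FlatTestPrimary
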