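import Mathlib
import Groth.Agent.Lib.Helper7.FlatTestLocal2
import Groth.Agent.Lib.Helper7.FlatTestPrimary

/-!
# Flatness over an Artinian local base tested at one point of the fibre: chart form (helper7)
-/

set_option autoImplicit false
set_option linter.unusedSectionVars false
set_option linter.style.haveILetI false
universe u
open TensorProduct

namespace Groth.Agent.Lib.Helper7.FlatTestPrimary

open Groth.Agent.Lib.Helper7.FlatTestLocal

section Gen

attribute [local instance] Algebra.TensorProduct.rightAlgebra

variable {R₀ S T S' : Type u} [CommRing R₀] [IsLocalRing R₀] [IsNoetherianRing R₀]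
  [CommRing S] [IsNoetherianRing S] [CommRing T] [IsLocalRing T] [CommRing S']
  [Algebra R₀ S] [Algebra R₀ T] [Algebra S S'] [Algebra T S'] [Algebra R₀ S']
  [IsScalarTower R₀ S S'] [IsScalarTower R₀ T S'] [Algebra.IsPushout R₀ S T S']
  {M M' : Type u} [AddCommGroup M] [Module S M] [Module R₀ M] [IsScalarTower R₀ S M]
  [Module.Finite S M]
  [AddCommGroup M'] [Module S' M'] [Module T M'] [IsScalarTower T S' M'] [Module S M']
  [IsScalarTower S S' M']

/-- **Chart form of the primary core**: flatness of `T ⊗ M_q` from flatness of `M ⊗ T` at ONE prime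
of `S ⊗ T` over `q` and the maximal ideal of `T`. -/
theorem flat_baseChange_localized_of_exists_flat
    (hnil : IsNilpotent (IsLocalRing.maximalIdeal R₀))
    (f : M →ₗ[S] M') (hf : IsBaseChange S' f) (q : Ideal S) [q.IsPrime]
    (hprimE : ∀ c d : (Localization.AtPrime q ⧸ IsLocalRing.maximalIdeal (Localization.AtPrime q))
      ⊗[R₀] (T ⧸ IsLocalRing.maximalIdeal T), c * d = 0 → d ≠ 0 → IsNilpotent c)
    (q' : Ideal S') [q'.IsPrime] (hq'1 : q'.comap (algebraMap S S') = q)
    (hq'2 : q'.comap (algebraMap T S') = IsLocalRing.maximalIdeal T)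
    (H : Module.Flat T (LocalizedModule q'.primeCompl M')) :
    Module.Flat T (T ⊗[R₀] LocalizedModule q.primeCompl M) := by
  classical
  set B := Localization.AtPrime q with hB
  set N := LocalizedModule q.primeCompl M with hN
  set mkq := LocalizedModule.mkLinearMap q.primeCompl M with hmkq
  haveI : IsScalarTower R₀ B N := by
    refine IsScalarTower.of_algebraMap_smul fun r n => ?_
    rw [IsScalarTower.algebraMap_apply R₀ S B, algebraMap_smul, algebraMap_smul]
  set B' := S' ⊗[S] B with hB'
  haveI towR₀BB' : IsScalarTower R₀ B B' := by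
    refine IsScalarTower.of_algebraMap_eq fun r => ?_
    rw [IsScalarTower.algebraMap_apply R₀ S B, ← IsScalarTower.algebraMap_apply S B B',
      IsScalarTower.algebraMap_apply R₀ S' B', IsScalarTower.algebraMap_apply R₀ S S',
      ← IsScalarTower.algebraMap_apply S S' B']
  haveI : Algebra.IsPushout R₀ B T B' := by
    rw [Algebra.IsPushout.comp_iff R₀ S T (S' := S')]
    infer_instance
  set N' := B' ⊗[B] N with hN'
  set Sg := Algebra.algebraMapSubmonoid S' q.primeCompl with hSg
  haveI : IsLocalization Sg B' := inferInstance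
  have hdisj : Disjoint (Sg : Set S') (q' : Set S') := by
    rw [Set.disjoint_left]
    rintro _ ⟨s, hs, rfl⟩ hmem
    apply hs
    rw [← hq'1]
    exact hmem
  set P := q'.map (algebraMap S' B') with hP
  haveI hPprime : P.IsPrime := IsLocalization.isPrime_of_isPrime_disjoint Sg B' q' inferInstance hdisj
  have hcomap : P.comap (algebraMap S' B') = q' :=
    IsLocalization.comap_map_of_isPrime_disjoint Sg B' inferInstance hdisj
  have hP1 : P.comap (algebraMap B B') = IsLocalRing.maximalIdeal B := by
    have h1 : (P.comap (algebraMap B B')).comap (algebraMap S B) = q := by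
      rw [Ideal.comap_comap, ← IsScalarTower.algebraMap_eq S B B',
        IsScalarTower.algebraMap_eq S S' B', ← Ideal.comap_comap, hcomap, hq'1]
    rw [← IsLocalization.map_comap q.primeCompl B (P.comap (algebraMap B B'))]
    show Ideal.map (algebraMap S B)
      (Ideal.comap (algebraMap S B) (Ideal.comap (algebraMap B B') P)) = _
    rw [h1]
    exact Localization.AtPrime.map_eq_maximalIdeal
  have hP2 : P.comap (algebraMap T B') = IsLocalRing.maximalIdeal T := by
    rw [IsScalarTower.algebraMap_eq T S' B', ← Ideal.comap_comap, hcomap, hq'2]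
  refine flat_baseChange_of_exists_flat_localized (A := R₀) (A' := T) (B := B) (B' := B')
    (N := N) (N' := N') hnil (TensorProduct.mk B B' N 1) (TensorProduct.isBaseChange B N B')
    hprimE P hP1 hP2 ?_
  haveI hflat := H
  -- the comparison map `M' → N'`
  let g₀ : M →ₗ[S] N' := ((TensorProduct.mk B B' N 1).restrictScalars S) ∘ₗ mkq
  have hg₀ : IsBaseChange B' g₀ :=
    IsBaseChange.comp (IsLocalizedModule.isBaseChange q.primeCompl B mkq)
      (TensorProduct.isBaseChange B N B')
  let θ₀ : M' →ₗ[S'] N' := hf.lift g₀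
  have hθ₀comp : (θ₀.restrictScalars S) ∘ₗ f = g₀ := hf.lift_comp g₀
  have hθ₀ : IsBaseChange B' θ₀ := by
    refine IsBaseChange.of_comp hf ?_
    rw [show ((θ₀ : M' →ₗ[S] N') ∘ₗ f) = g₀ from hθ₀comp]
    exact hg₀
  haveI hloc₀ : IsLocalizedModule Sg θ₀ := (isLocalizedModule_iff_isBaseChange Sg B' θ₀).mpr hθ₀
  have hSgle : Sg ≤ q'.primeCompl := by
    rintro _ ⟨s, hs, rfl⟩ hmem
    apply hs
    rw [← hq'1]
    exact hmem
  have hle : Algebra.algebraMapSubmonoid B' q'.primeCompl ≤ P.primeCompl := by
    rintro _ ⟨s', hs', rfl⟩ hmem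
    apply hs'
    rw [← hcomap]
    exact hmem
  have hex : ∀ x : P.primeCompl, ∃ m : B', m * x ∈ Algebra.algebraMapSubmonoid B' q'.primeCompl := by
    rintro ⟨x, hx⟩
    obtain ⟨⟨s', σ⟩, rfl⟩ := IsLocalization.mk'_surjective Sg x
    refine ⟨algebraMap S' B' σ, s', ?_, ?_⟩
    · intro hs'
      have h1 : algebraMap S' B' s' ∈ P := by
        rw [← hcomap] at hs'
        exact hs'
      rw [← IsLocalization.mk'_spec' B' s' σ] at h1
      rcases Ideal.IsPrime.mem_or_mem inferInstance h1 with h2 | h2
      · exact (Ideal.IsPrime.ne_top inferInstance)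
          (Ideal.eq_top_of_isUnit_mem P h2 (IsLocalization.map_units B' σ))
      · exact hx h2
    · exact (IsLocalization.mk'_spec' B' s' σ).symm
  haveI h1 : IsLocalizedModule (Algebra.algebraMapSubmonoid B' q'.primeCompl)
      (LocalizedModule.mkLinearMap P.primeCompl N') :=
    isLocalizedModule_of_le_of_exists_mul_mem _ P.primeCompl hle hex
      (LocalizedModule.mkLinearMap P.primeCompl N')
  haveI h2 : IsLocalizedModule q'.primeCompl
      ((LocalizedModule.mkLinearMap P.primeCompl N').restrictScalars S') :=
    IsLocalizedModule.restrictScalars q'.primeCompl (LocalizedModule.mkLinearMap P.primeCompl N')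
  haveI h3 : IsLocalizedModule q'.primeCompl
      (((LocalizedModule.mkLinearMap P.primeCompl N').restrictScalars S') ∘ₗ θ₀) :=
    isLocalizedModule_comp Sg q'.primeCompl hSgle θ₀ _
  let e := IsLocalizedModule.iso q'.primeCompl
    (((LocalizedModule.mkLinearMap P.primeCompl N').restrictScalars S') ∘ₗ θ₀)
  exact Module.Flat.of_linearEquiv (e.restrictScalars T).symm

end Gen

end Groth.Agent.Lib.Helper7.FlatTestPrimary
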