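import Mathlib
import Groth.Agent.Lib.Helper7.FlatTestLocal3
import Groth.Agent.Lib.Helper7.FlatTestPrimary2

/-!
# Primary variant of the flatness test, quotient forms (helper7)

The base `A` is arbitrary, `A → A'` factors through a quotient of `A` which is local Noetherian
with nilpotent maximal ideal.
-/

set_option autoImplicit false
set_option linter.unusedSectionVars false
set_option linter.style.haveILetI false
universe u
open TensorProduct

namespace Groth.Agent.Lib.Helper7.FlatTestPrimary

open Groth.Agent.Lib.Helper7.FlatTestLocal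

section Quot

attribute [local instance] Algebra.TensorProduct.rightAlgebra

variable {A Abar A' B B' : Type u} [CommRing A] [CommRing Abar] [CommRing A'] [CommRing B]
  [CommRing B']
  [IsLocalRing Abar] [IsNoetherianRing Abar] [IsLocalRing A'] [IsLocalRing B] [IsNoetherianRing B]
  [Algebra A Abar] [Algebra A B] [Algebra A A'] [Algebra Abar A'] [IsScalarTower A Abar A']
  [Algebra B B'] [Algebra A' B'] [Algebra A B']
  [IsScalarTower A B B'] [IsScalarTower A A' B'] [Algebra.IsPushout A B A' B']
  {N N' : Type u} [AddCommGroup N] [Module B N] [Module A N] [IsScalarTower A B N]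
  [Module.Finite B N]
  [AddCommGroup N'] [Module B' N'] [Module A' N'] [IsScalarTower A' B' N'] [Module B N']
  [IsScalarTower B B' N']

/-- **Regular core, quotient form**: `A → A'` factors through a quotient `Abar` of `A` which is
local Noetherian with nilpotent maximal ideal. -/
theorem flat_baseChange_of_exists_flat_localized_reg'
    (hnil : IsNilpotent (IsLocalRing.maximalIdeal Abar))
    (hsurj : Function.Surjective (algebraMap A Abar))
    (f : N →ₗ[B] N') (hf : IsBaseChange B' f)
    (P : Ideal B') [P.IsPrime]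
    (hreg : ∀ s : B', s ∉ P → ∀ b' : B',
      s * b' ∈ (IsLocalRing.maximalIdeal B).map (algebraMap B B') ⊔
        (IsLocalRing.maximalIdeal A').map (algebraMap A' B') →
      b' ∈ (IsLocalRing.maximalIdeal B).map (algebraMap B B') ⊔
        (IsLocalRing.maximalIdeal A').map (algebraMap A' B'))
    (hPflat : Module.Flat A' (LocalizedModule P.primeCompl N')) :
    Module.Flat A' (A' ⊗[A] N) := by
  classical
  rw [flat_tensor_iff_flat_baseChange (A := A) f hf]
  set Bbar := Abar ⊗[A] B with hBbar
  have hsurjB : Function.Surjective (algebraMap B Bbar) :=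
    includeRight_surjective_of_surjective hsurj
  -- the algebra structure `Bbar → B'`
  letI algAbarB' : Algebra Abar B' := ((algebraMap A' B').comp (algebraMap Abar A')).toAlgebra
  haveI towAbarA'B' : IsScalarTower Abar A' B' := IsScalarTower.of_algebraMap_eq (fun _ => rfl)
  haveI towAAbarB' : IsScalarTower A Abar B' := by
    refine IsScalarTower.of_algebraMap_eq (fun a => ?_)
    rw [IsScalarTower.algebraMap_apply Abar A' B', ← IsScalarTower.algebraMap_apply A Abar A',
      ← IsScalarTower.algebraMap_apply A A' B']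
  let ψ : Bbar →ₐ[Abar] B' :=
    Algebra.TensorProduct.lift (IsScalarTower.toAlgHom Abar Abar B') (IsScalarTower.toAlgHom A B B')
      (fun _ _ => Commute.all _ _)
  letI algBbarB' : Algebra Bbar B' := ψ.toRingHom.toAlgebra
  have hψ : ∀ z : Bbar, algebraMap Bbar B' z = ψ z := fun _ => rfl
  haveI towAbarBbarB' : IsScalarTower Abar Bbar B' := by
    refine IsScalarTower.of_algebraMap_eq (fun a => ?_)
    rw [hψ, AlgHom.commutes]
  haveI towBBbarB' : IsScalarTower B Bbar B' := by
    refine IsScalarTower.of_algebraMap_eq (fun b => ?_)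
    rw [hψ]
    show _ = ψ ((1 : Abar) ⊗ₜ[A] b)
    rw [show ψ ((1 : Abar) ⊗ₜ[A] b) = (IsScalarTower.toAlgHom Abar Abar B') 1 *
      (IsScalarTower.toAlgHom A B B') b from Algebra.TensorProduct.lift_tmul _ _ _ _ _]
    rw [map_one, one_mul]
    rfl
  haveI towABbarB' : IsScalarTower A Bbar B' := by
    refine IsScalarTower.of_algebraMap_eq (fun a => ?_)
    rw [IsScalarTower.algebraMap_apply A Abar Bbar, ← IsScalarTower.algebraMap_apply Abar Bbar B',
      ← IsScalarTower.algebraMap_apply A Abar B']
  -- trivial case
  rcases subsingleton_or_nontrivial Bbar with hsub | hnt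
  · haveI : Subsingleton B' := by
      refine subsingleton_of_zero_eq_one ?_
      have h1 : (0 : Bbar) = 1 := Subsingleton.elim _ _
      have h2 := congrArg (algebraMap Bbar B') h1
      rwa [map_zero, map_one] at h2
    haveI : Subsingleton N' := Module.subsingleton B' N'
    infer_instance
  haveI : IsNoetherianRing Bbar := isNoetherianRing_of_surjective B Bbar _ hsurjB
  haveI : IsLocalRing Bbar := IsLocalRing.of_surjective' (algebraMap B Bbar) hsurjB
  -- the pushout
  haveI hpo1 : Algebra.IsPushout A A' B B' := Algebra.IsPushout.symm inferInstance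
  haveI hpo2 : Algebra.IsPushout Abar A' Bbar B' :=
    (Algebra.IsPushout.comp_iff A Abar B Bbar (T := A') (T' := B')).mp hpo1
  haveI hpo3 : Algebra.IsPushout Abar Bbar A' B' := Algebra.IsPushout.symm hpo2
  -- the module
  set Nbar := Bbar ⊗[B] N with hNbar
  letI modBbarN' : Module Bbar N' := Module.compHom N' (algebraMap Bbar B')
  haveI towBbarB'N' : IsScalarTower Bbar B' N' := IsScalarTower.of_compHom _ _ _
  haveI towBBbarN' : IsScalarTower B Bbar N' := by
    refine ⟨fun b z n' => ?_⟩
    show algebraMap Bbar B' (b • z) • n' = b • (algebraMap Bbar B' z • n')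
    rw [Algebra.smul_def, map_mul, mul_smul, ← IsScalarTower.algebraMap_apply B Bbar B',
      algebraMap_smul]
  let f₁ : N →ₗ[B] Nbar := TensorProduct.mk B Bbar N 1
  have hf₁ : IsBaseChange Bbar f₁ := TensorProduct.isBaseChange B N Bbar
  let fbar : Nbar →ₗ[Bbar] N' := hf₁.lift f
  have hfbarcomp : (fbar.restrictScalars B) ∘ₗ f₁ = f := hf₁.lift_comp f
  have hfbar : IsBaseChange B' fbar := by
    refine IsBaseChange.of_comp hf₁ ?_
    rw [show ((fbar : Nbar →ₗ[B] N') ∘ₗ f₁) = f from hfbarcomp]
    exact hf
  rw [← flat_tensor_iff_flat_baseChange (A := Abar) fbar hfbar]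
  have hmax : (IsLocalRing.maximalIdeal B).map (algebraMap B Bbar) =
      IsLocalRing.maximalIdeal Bbar := by
    haveI : (Ideal.comap (algebraMap B Bbar) (IsLocalRing.maximalIdeal Bbar)).IsMaximal :=
      Ideal.comap_isMaximal_of_surjective _ hsurjB
    have h1 : Ideal.comap (algebraMap B Bbar) (IsLocalRing.maximalIdeal Bbar) =
        IsLocalRing.maximalIdeal B := IsLocalRing.eq_maximalIdeal inferInstance
    rw [← h1]
    exact Ideal.map_comap_of_surjective _ hsurjB _
  have hM : (IsLocalRing.maximalIdeal Bbar).map (algebraMap Bbar B') =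
      (IsLocalRing.maximalIdeal B).map (algebraMap B B') := by
    rw [← hmax, Ideal.map_map, ← IsScalarTower.algebraMap_eq B Bbar B']
  refine flat_baseChange_of_exists_flat_localized_reg (A := Abar) (A' := A') (B := Bbar) (B' := B')
    (N := Nbar) (N' := N') hnil fbar hfbar P ?_ hPflat
  rw [hM]
  exact hreg

end Quot

section Gen'

attribute [local instance] Algebra.TensorProduct.rightAlgebra

variable {R₀ Rbar S T S' : Type u} [CommRing R₀] [CommRing Rbar] [IsLocalRing Rbar]
  [IsNoetherianRing Rbar]
  [CommRing S] [IsNoetherianRing S] [CommRing T] [IsLocalRing T] [CommRing S']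
  [Algebra R₀ Rbar] [Algebra R₀ S] [Algebra R₀ T] [Algebra Rbar T] [IsScalarTower R₀ Rbar T]
  [Algebra S S'] [Algebra T S'] [Algebra R₀ S']
  [IsScalarTower R₀ S S'] [IsScalarTower R₀ T S'] [Algebra.IsPushout R₀ S T S']
  {M M' : Type u} [AddCommGroup M] [Module S M] [Module R₀ M] [IsScalarTower R₀ S M]
  [Module.Finite S M]
  [AddCommGroup M'] [Module S' M'] [Module T M'] [IsScalarTower T S' M'] [Module S M']
  [IsScalarTower S S' M']

/-- **Chart form of the primary core, quotient version**: flatness of `T ⊗ M_q` from flatness of `M ⊗ T` at ONE prime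
of `S ⊗ T` over `q` and the maximal ideal of `T`. -/
theorem flat_baseChange_localized_of_exists_flat'
    (hnil : IsNilpotent (IsLocalRing.maximalIdeal Rbar))
    (hsurj : Function.Surjective (algebraMap R₀ Rbar))
    (f : M →ₗ[S] M') (hf : IsBaseChange S' f) (q : Ideal S) [q.IsPrime]
    (hprimE : ∀ c d : (Localization.AtPrime q ⧸ IsLocalRing.maximalIdeal (Localization.AtPrime q))
      ⊗[R₀] (T ⧸ IsLocalRing.maximalIdeal T), c * d = 0 → d ≠ 0 → IsNilpotent c)
    (q' : Ideal S') [q'.IsPrime] (hq'1 : q'.comap (algebraMap S S') = q)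
    (hq'2 : q'.comap (algebraMap T S') = IsLocalRing.maximalIdeal T)
    (H : Module.Flat T (LocalizedModule q'.primeCompl M')) :
    Module.Flat T (T ⊗[R₀] LocalizedModule q.primeCompl M) := by
  classical
  set B := Localization.AtPrime q with hB
  set N := LocalizedModule q.primeCompl M with hN
  set mkq := LocalizedModule.mkLinearMap q.primeCompl M with hmkq
  haveI : IsScalarTower R₀ B N := by
    refine IsScalarTower.of_algebraMap_smul fun r n => ?_
    rw [IsScalarTower.algebraMap_apply R₀ S B, algebraMap_smul, algebraMap_smul]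
  set B' := S' ⊗[S] B with hB'
  haveI towR₀BB' : IsScalarTower R₀ B B' := by
    refine IsScalarTower.of_algebraMap_eq fun r => ?_
    rw [IsScalarTower.algebraMap_apply R₀ S B, ← IsScalarTower.algebraMap_apply S B B',
      IsScalarTower.algebraMap_apply R₀ S' B', IsScalarTower.algebraMap_apply R₀ S S',
      ← IsScalarTower.algebraMap_apply S S' B']
  haveI : Algebra.IsPushout R₀ B T B' := by
    rw [Algebra.IsPushout.comp_iff R₀ S T (S' := S')]
    infer_instance
  set N' := B' ⊗[B] N with hN'
  set Sg := Algebra.algebraMapSubmonoid S' q.primeCompl with hSg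
  haveI : IsLocalization Sg B' := inferInstance
  have hdisj : Disjoint (Sg : Set S') (q' : Set S') := by
    rw [Set.disjoint_left]
    rintro _ ⟨s, hs, rfl⟩ hmem
    apply hs
    rw [← hq'1]
    exact hmem
  set P := q'.map (algebraMap S' B') with hP
  haveI hPprime : P.IsPrime := IsLocalization.isPrime_of_isPrime_disjoint Sg B' q' inferInstance hdisj
  have hcomap : P.comap (algebraMap S' B') = q' :=
    IsLocalization.comap_map_of_isPrime_disjoint Sg B' inferInstance hdisj
  have hP1 : P.comap (algebraMap B B') = IsLocalRing.maximalIdeal B := by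
    have h1 : (P.comap (algebraMap B B')).comap (algebraMap S B) = q := by
      rw [Ideal.comap_comap, ← IsScalarTower.algebraMap_eq S B B',
        IsScalarTower.algebraMap_eq S S' B', ← Ideal.comap_comap, hcomap, hq'1]
    rw [← IsLocalization.map_comap q.primeCompl B (P.comap (algebraMap B B'))]
    show Ideal.map (algebraMap S B)
      (Ideal.comap (algebraMap S B) (Ideal.comap (algebraMap B B') P)) = _
    rw [h1]
    exact Localization.AtPrime.map_eq_maximalIdeal
  have hP2 : P.comap (algebraMap T B') = IsLocalRing.maximalIdeal T := by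
    rw [IsScalarTower.algebraMap_eq T S' B', ← Ideal.comap_comap, hcomap, hq'2]
  refine flat_baseChange_of_exists_flat_localized_reg' (A := R₀) (Abar := Rbar) (A' := T) (B := B)
    (B' := B') (N := N) (N' := N') hnil hsurj (TensorProduct.mk B B' N 1)
    (TensorProduct.isBaseChange B N B') P
    (fun s hs b' h => hreg_of_hE (A := R₀) (A' := T) (B' := B') _ _ P hP1.ge hP2.ge hprimE s hs b' h)
    ?_
  haveI hflat := H
  -- the comparison map `M' → N'`
  let g₀ : M →ₗ[S] N' := ((TensorProduct.mk B B' N 1).restrictScalars S) ∘ₗ mkq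
  have hg₀ : IsBaseChange B' g₀ :=
    IsBaseChange.comp (IsLocalizedModule.isBaseChange q.primeCompl B mkq)
      (TensorProduct.isBaseChange B N B')
  let θ₀ : M' →ₗ[S'] N' := hf.lift g₀
  have hθ₀comp : (θ₀.restrictScalars S) ∘ₗ f = g₀ := hf.lift_comp g₀
  have hθ₀ : IsBaseChange B' θ₀ := by
    refine IsBaseChange.of_comp hf ?_
    rw [show ((θ₀ : M' →ₗ[S] N') ∘ₗ f) = g₀ from hθ₀comp]
    exact hg₀
  haveI hloc₀ : IsLocalizedModule Sg θ₀ := (isLocalizedModule_iff_isBaseChange Sg B' θ₀).mpr hθ₀
  have hSgle : Sg ≤ q'.primeCompl := by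
    rintro _ ⟨s, hs, rfl⟩ hmem
    apply hs
    rw [← hq'1]
    exact hmem
  have hle : Algebra.algebraMapSubmonoid B' q'.primeCompl ≤ P.primeCompl := by
    rintro _ ⟨s', hs', rfl⟩ hmem
    apply hs'
    rw [← hcomap]
    exact hmem
  have hex : ∀ x : P.primeCompl, ∃ m : B', m * x ∈ Algebra.algebraMapSubmonoid B' q'.primeCompl := by
    rintro ⟨x, hx⟩
    obtain ⟨⟨s', σ⟩, rfl⟩ := IsLocalization.mk'_surjective Sg x
    refine ⟨algebraMap S' B' σ, s', ?_, ?_⟩
    · intro hs'
      have h1 : algebraMap S' B' s' ∈ P := by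
        rw [← hcomap] at hs'
        exact hs'
      rw [← IsLocalization.mk'_spec' B' s' σ] at h1
      rcases Ideal.IsPrime.mem_or_mem inferInstance h1 with h2 | h2
      · exact (Ideal.IsPrime.ne_top inferInstance)
          (Ideal.eq_top_of_isUnit_mem P h2 (IsLocalization.map_units B' σ))
      · exact hx h2
    · exact (IsLocalization.mk'_spec' B' s' σ).symm
  haveI h1 : IsLocalizedModule (Algebra.algebraMapSubmonoid B' q'.primeCompl)
      (LocalizedModule.mkLinearMap P.primeCompl N') :=
    isLocalizedModule_of_le_of_exists_mul_mem _ P.primeCompl hle hex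
      (LocalizedModule.mkLinearMap P.primeCompl N')
  haveI h2 : IsLocalizedModule q'.primeCompl
      ((LocalizedModule.mkLinearMap P.primeCompl N').restrictScalars S') :=
    IsLocalizedModule.restrictScalars q'.primeCompl (LocalizedModule.mkLinearMap P.primeCompl N')
  haveI h3 : IsLocalizedModule q'.primeCompl
      (((LocalizedModule.mkLinearMap P.primeCompl N').restrictScalars S') ∘ₗ θ₀) :=
    isLocalizedModule_comp Sg q'.primeCompl hSgle θ₀ _
  let e := IsLocalizedModule.iso q'.primeCompl
    (((LocalizedModule.mkLinearMap P.primeCompl N').restrictScalars S') ∘ₗ θ₀)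
  exact Module.Flat.of_linearEquiv (e.restrictScalars T).symm

end Gen'

end Groth.Agent.Lib.Helper7.FlatTestPrimary
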