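import Groth.Agent.Lib.Helper7.FlatChart
import Groth.Agent.Lib.Helper7.FlatTestLocal2
import Groth.Agent.Lib.Helper7.FlatTestPrimary3
import Mathlib

/-!
# Chart form of the flatness test over an Artinian local base, primary variant, quotient form (helper7)

`flat_tensor_localized_of_exists_isFlatOverAt`: as `flat_tensor_localized_of_forall_isFlatOverAt`
but with flatness at ONE point over `x` and over the closed point of `UT`, assuming zero divisors
of the tensor product of the residue fields are nilpotent.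
-/

set_option backward.isDefEq.respectTransparency.types false
set_option autoImplicit false
set_option linter.unusedVariables false
set_option linter.style.haveILetI false
universe u
open AlgebraicGeometry CategoryTheory Limits TensorProduct TopologicalSpace

namespace Groth.Agent.Lib.Helper7.FlatChart

open Groth.Agent.Lib.Helper7.FlatTestLocal Groth.Agent.Lib.Helper7.FlatTestPrimary
  Groth.Agent.Lib.Helper7.AffPts
  Groth.Agent.Lib.lead.StalkDimIneq

theorem flat_tensor_localized_of_exists_isFlatOverAt' {X S S' : Scheme.{u}} (f : X ⟶ S) (g : S' ⟶ S)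
    (F : X.Modules) [F.IsQuasicoherent]
    {UX : X.Opens} {US : S.Opens} {UT : S'.Opens} (hUX : IsAffineOpen UX) (hUS : IsAffineOpen US)
    (hUT : IsAffineOpen UT) (hUSX : UX ≤ f ⁻¹ᵁ US) (hUST : UT ≤ g ⁻¹ᵁ US)
    {Rbar : Type u} [CommRing Rbar] [IsLocalRing Rbar] [IsNoetherianRing Rbar]
    (hnil : IsNilpotent (IsLocalRing.maximalIdeal Rbar))
    [Algebra Γ(S, US) Rbar] (hsurj : Function.Surjective (algebraMap Γ(S, US) Rbar))
    [IsNoetherianRing Γ(X, UX)] [Module.Finite Γ(X, UX) Γ(F, UX)] [IsLocalRing Γ(S', UT)]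
    (x : X) (hx : x ∈ UX)
    [instX : Algebra Γ(S, US) Γ(X, UX)]
    (halgX : algebraMap Γ(S, US) Γ(X, UX) = (f.appLE US UX hUSX).hom)
    [instT : Algebra Γ(S, US) Γ(S', UT)]
    (halgT : algebraMap Γ(S, US) Γ(S', UT) = (g.appLE US UT hUST).hom)
    [Algebra Rbar Γ(S', UT)] [IsScalarTower Γ(S, US) Rbar Γ(S', UT)]
    [Module Γ(S, US) Γ(F, UX)] [IsScalarTower Γ(S, US) Γ(X, UX) Γ(F, UX)]
    (hprimE : ∀ c d :
      (Localization.AtPrime (hUX.primeIdealOf ⟨x, hx⟩).asIdeal ⧸
        IsLocalRing.maximalIdeal (Localization.AtPrime (hUX.primeIdealOf ⟨x, hx⟩).asIdeal))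
      ⊗[Γ(S, US)] (Γ(S', UT) ⧸ IsLocalRing.maximalIdeal Γ(S', UT)), c * d = 0 → d ≠ 0 → IsNilpotent c)
    (x' : ↥(pullback f g)) (hfst : pullback.fst f g x' = x) (hx' : pullback.snd f g x' ∈ UT)
    (hsnd : (hUT.primeIdealOf ⟨pullback.snd f g x', hx'⟩).asIdeal =
      IsLocalRing.maximalIdeal Γ(S', UT))
    (H : FlatMod.IsFlatOverAt (pullback.snd f g)
      ((Scheme.Modules.pullback (pullback.fst f g)).obj F) x') :
    Module.Flat Γ(S', UT) (Γ(S', UT) ⊗[Γ(S, US)]
      LocalizedModule (hUX.primeIdealOf ⟨x, hx⟩).asIdeal.primeCompl Γ(F, UX)) := by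
  classical
  obtain rfl : instX = (f.appLE US UX hUSX).hom.toAlgebra :=
    Algebra.algebra_ext _ _ (fun r => by rw [halgX]; rfl)
  obtain rfl : instT = (g.appLE US UT hUST).hom.toAlgebra :=
    Algebra.algebra_ext _ _ (fun r => by rw [halgT]; rfl)
  letI algRA : Algebra Γ(S, US) Γ(X, UX) := (f.appLE US UX hUSX).hom.toAlgebra
  letI algRB : Algebra Γ(S, US) Γ(S', UT) := (g.appLE US UT hUST).hom.toAlgebra
  have hc : IsPullback (pullback.fst f g) (pullback.snd f g) f g := IsPullback.of_hasPullback _ _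
  obtain ⟨hUY, hpo⟩ := affine_chart_of_opens hc hUS hUX hUT hUSX hUST
  set UY := (pullback.fst f g) ⁻¹ᵁ UX ⊓ (pullback.snd f g) ⁻¹ᵁ UT with hUYdef
  letI algAC : Algebra Γ(X, UX) Γ(pullback f g, UY) :=
    ((pullback.fst f g).appLE UX UY inf_le_left).hom.toAlgebra
  letI algBC : Algebra Γ(S', UT) Γ(pullback f g, UY) :=
    ((pullback.snd f g).appLE UT UY inf_le_right).hom.toAlgebra
  letI algRC : Algebra Γ(S, US) Γ(pullback f g, UY) :=
    ((algebraMap Γ(X, UX) Γ(pullback f g, UY)).comp (algebraMap Γ(S, US) Γ(X, UX))).toAlgebra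
  haveI : IsScalarTower Γ(S, US) Γ(X, UX) Γ(pullback f g, UY) :=
    IsScalarTower.of_algebraMap_eq (fun _ => rfl)
  haveI : IsScalarTower Γ(S, US) Γ(S', UT) Γ(pullback f g, UY) := by
    refine IsScalarTower.of_algebraMap_eq' ?_
    exact congrArg CommRingCat.Hom.hom hpo.w
  haveI hpush : Algebra.IsPushout Γ(S, US) Γ(X, UX) Γ(S', UT) Γ(pullback f g, UY) :=
    CommRingCat.isPushout_iff_isPushout.mp hpo
  letI mTG : Module Γ(S', UT) Γ((Scheme.Modules.pullback (pullback.fst f g)).obj F, UY) :=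
    Module.compHom _ (algebraMap Γ(S', UT) Γ(pullback f g, UY))
  haveI : IsScalarTower Γ(S', UT) Γ(pullback f g, UY)
      Γ((Scheme.Modules.pullback (pullback.fst f g)).obj F, UY) := IsScalarTower.of_compHom _ _ _
  letI mSG : Module Γ(X, UX) Γ((Scheme.Modules.pullback (pullback.fst f g)).obj F, UY) :=
    Module.compHom _ (algebraMap Γ(X, UX) Γ(pullback f g, UY))
  haveI : IsScalarTower Γ(X, UX) Γ(pullback f g, UY)
      Γ((Scheme.Modules.pullback (pullback.fst f g)).obj F, UY) := IsScalarTower.of_compHom _ _ _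
  obtain ⟨φ, hφ⟩ := exists_isBaseChange_sections (pullback.fst f g) F hUY hUX inf_le_left rfl
  have hx'UY : x' ∈ UY := ⟨by show pullback.fst f g x' ∈ UX; rw [hfst]; exact hx, hx'⟩
  have h1 : (hUY.primeIdealOf ⟨x', hx'UY⟩).asIdeal.comap
      (algebraMap Γ(X, UX) Γ(pullback f g, UY)) = (hUX.primeIdealOf ⟨x, hx⟩).asIdeal := by
    have h3 := primeIdealOf_map (pullback.fst f g) hUY hUX inf_le_left ⟨x', hx'UY⟩
    have h4 : hUX.primeIdealOf ⟨pullback.fst f g x', hx'UY.1⟩ = hUX.primeIdealOf ⟨x, hx⟩ := by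
      congr 1
      exact Subtype.ext hfst
    rw [← h4]
    exact h3.symm
  have h2 : (hUY.primeIdealOf ⟨x', hx'UY⟩).asIdeal.comap
      (algebraMap Γ(S', UT) Γ(pullback f g, UY)) = IsLocalRing.maximalIdeal Γ(S', UT) := by
    rw [← hsnd]
    exact (primeIdealOf_map (pullback.snd f g) hUY hUT inf_le_right ⟨x', hx'UY⟩).symm
  refine flat_baseChange_localized_of_exists_flat' (Rbar := Rbar) hnil hsurj φ hφ _ hprimE
    (hUY.primeIdealOf ⟨x', hx'UY⟩).asIdeal h1 h2 ?_
  rw [isFlatOverAt_iff_flat_localizedModule (pullback.snd f g) _ hUY hUT inf_le_right x' hx'UY rfl]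
    at H
  exact H

end Groth.Agent.Lib.Helper7.FlatChart
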