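import Mathlib
import Groth.Agent.S2150
import Groth.Agent.Lib.Helper22.GeomIrr

/-!
# Tensor products of fields with a primary extension have no embedded components (helper7)

If `K/k` is a primary field extension (every element of `K` separable algebraic over `k` lies in
`k`) and `k'/k` is any field extension, then every zero divisor of `K ⊗_k k'` is nilpotent.
-/

set_option autoImplicit false
set_option linter.unusedSectionVars false
set_option linter.style.haveILetI false
universe u
open TensorProduct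

noncomputable section

namespace Groth.Agent.Lib.Helper7.TensorFieldsPrimary

open Groth.Agent.Lib.Helper22.GeomIrr

/-- zero-dimensional with irreducible spectrum: every element is nilpotent or a unit. -/
theorem isNilpotent_or_isUnit {R : Type*} [CommRing R] [IrreducibleSpace (PrimeSpectrum R)]
    (hmax : ∀ (P : Ideal R) [P.IsPrime], P.IsMaximal) (r : R) : IsNilpotent r ∨ IsUnit r := by
  have hN : (nilradical R).IsPrime :=
    PrimeSpectrum.irreducibleSpace_iff_isPrime_nilradical.mp inferInstance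
  have hNmax : (nilradical R).IsMaximal := hmax _
  by_cases hu : IsUnit r
  · exact Or.inr hu
  · left
    obtain ⟨M, hM, hrM⟩ := exists_max_ideal_of_mem_nonunits (mem_nonunits_iff.mpr hu)
    haveI := hM.isPrime
    have hle : nilradical R ≤ M := nilradical_le_prime M
    have h1 : nilradical R = M := hNmax.eq_of_le hM.ne_top hle
    rw [← mem_nilradical, h1]
    exact hrM

/-- evaluation of a tensor at a `κ`-point of `A`, in coordinates. -/
theorem eval_eq_zero_imp {κ A B ι : Type*} [Field κ] [CommRing A] [Algebra κ A] [CommRing B]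
    [Algebra κ B] (𝒞 : Module.Basis ι κ B) (ψ : A →ₐ[κ] κ) (b : ι →₀ A)
    (h : (Algebra.TensorProduct.lift ((Algebra.ofId κ B).comp ψ) (AlgHom.id κ B)
      (fun _ _ => Commute.all _ _)) (b.sum fun i a => a ⊗ₜ[κ] 𝒞 i) = 0) (l : ι) :
    ψ (b l) = 0 := by
  classical
  have h1 : (Algebra.TensorProduct.lift ((Algebra.ofId κ B).comp ψ) (AlgHom.id κ B)
      (fun _ _ => Commute.all _ _)) (b.sum fun i a => a ⊗ₜ[κ] 𝒞 i) =
      Finsupp.linearCombination κ 𝒞 (b.mapRange ψ (map_zero ψ)) := by
    rw [Finsupp.linearCombination_apply, Finsupp.sum_mapRange_index (by intro; rw [zero_smul]),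
      Finsupp.sum, map_sum]
    refine Finset.sum_congr rfl ?_
    intro l _
    simp [Algebra.ofId_apply, Algebra.smul_def]
  rw [h1] at h
  have h2 := linearIndependent_iff.mp 𝒞.linearIndependent _ h
  have h3 := DFunLike.congr_fun h2 l
  simpa using h3

/-- finitely generated case of `isNilpotent_of_mul_eq_zero_tensor`. -/
theorem isNilpotent_of_mul_eq_zero_of_finiteType {κ A R : Type u} [Field κ] [IsAlgClosed κ]
    [CommRing A] [IsDomain A] [Algebra κ A] [Algebra.FiniteType κ A]
    [CommRing R] [Algebra κ R] (hR : ∀ r : R, IsNilpotent r ∨ IsUnit r)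
    (x y : A ⊗[κ] R) (hxy : x * y = 0) (hy : y ≠ 0) : IsNilpotent x := by
  classical
  set 𝔑 := nilradical R with h𝔑
  let π : R →ₐ[κ] R ⧸ 𝔑 := Ideal.Quotient.mkₐ κ 𝔑
  let Pq : A ⊗[κ] R →ₐ[κ] A ⊗[κ] (R ⧸ 𝔑) := Algebra.TensorProduct.map (AlgHom.id κ A) π
  suffices h : Pq x = 0 by
    have h1 := Groth.Agent.S9627.ker_le_nilradical (K := κ) (S := A) 𝔑 le_rfl
    exact mem_nilradical.mp (h1 h)
  by_contra hne
  let 𝒞 := Module.Basis.ofVectorSpace κ R
  let 𝒟 := Module.Basis.ofVectorSpace κ (R ⧸ 𝔑)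
  obtain ⟨d, hd⟩ := TensorProduct.eq_repr_basis_right 𝒞 y
  obtain ⟨c', hc'⟩ := TensorProduct.eq_repr_basis_right 𝒟 (Pq x)
  have hd0 : d ≠ 0 := by
    rintro rfl
    exact hy (by rw [← hd]; simp)
  have hc0 : c' ≠ 0 := by
    rintro rfl
    exact hne (by rw [← hc']; simp)
  obtain ⟨j, hj⟩ := Finsupp.ne_iff.mp hd0
  obtain ⟨l, hl⟩ := Finsupp.ne_iff.mp hc0
  simp only [Finsupp.coe_zero, Pi.zero_apply] at hj hl
  have hne' : c' l * d j ≠ 0 := mul_ne_zero hl hj
  obtain ⟨m, hm, hnm⟩ : ∃ m : Ideal A, m.IsMaximal ∧ c' l * d j ∉ m := by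
    by_contra hcon
    push Not at hcon
    have h1 : c' l * d j ∈ (⊥ : Ideal A).jacobson := by
      rw [Ideal.jacobson, Ideal.mem_sInf]
      rintro J ⟨-, hJ⟩
      exact hcon J hJ
    have h2 : (⊥ : Ideal A).jacobson = ⊥ :=
      (isJacobsonRing_of_finiteType (A := κ) (B := A)).out' ⊥ Ideal.isRadical_bot
    rw [h2, Ideal.mem_bot] at h1
    exact hne' h1
  obtain ⟨ψ, hψ⟩ := exists_algHom_ker_eq (k := κ) m
  let φ : A ⊗[κ] R →ₐ[κ] R :=
    Algebra.TensorProduct.lift ((Algebra.ofId κ R).comp ψ) (AlgHom.id κ R)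
      (fun _ _ => Commute.all _ _)
  let φ' : A ⊗[κ] (R ⧸ 𝔑) →ₐ[κ] R ⧸ 𝔑 :=
    Algebra.TensorProduct.lift ((Algebra.ofId κ (R ⧸ 𝔑)).comp ψ) (AlgHom.id κ (R ⧸ 𝔑))
      (fun _ _ => Commute.all _ _)
  have hcomm : ∀ t : A ⊗[κ] R, π (φ t) = φ' (Pq t) := by
    intro t
    induction t with
    | zero => simp
    | add a b ha hb => simp only [map_add, ha, hb]
    | tmul a r =>
      simp [φ, φ', Pq, π, Algebra.ofId_apply]
  -- `φ y ≠ 0`
  have hφy : φ y ≠ 0 := by
    intro h0
    rw [← hd] at h0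
    have h1 := eval_eq_zero_imp 𝒞 ψ d h0 j
    exact hnm (m.mul_mem_left _ ((hψ _).mp h1))
  have hφxy : φ x * φ y = 0 := by rw [← map_mul, hxy, map_zero]
  have hnu : ¬ IsUnit (φ x) := by
    intro hu
    exact hφy (hu.mul_right_eq_zero.mp hφxy)
  have hnilp : IsNilpotent (φ x) := (hR (φ x)).resolve_right hnu
  have h0 : π (φ x) = 0 := by
    show Ideal.Quotient.mk 𝔑 (φ x) = 0
    rw [Ideal.Quotient.eq_zero_iff_mem, h𝔑, mem_nilradical]
    exact hnilp
  rw [hcomm, ← hc'] at h0
  have h1 := eval_eq_zero_imp 𝒟 ψ c' h0 l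
  exact hnm (m.mul_mem_right _ ((hψ _).mp h1))

/-- **Tensoring with a domain over an algebraically closed field preserves "zero divisors are
nilpotent"** (for rings all of whose elements are nilpotent or units). -/
theorem isNilpotent_of_mul_eq_zero_tensor {κ A R : Type u} [Field κ] [IsAlgClosed κ]
    [CommRing A] [IsDomain A] [Algebra κ A]
    [CommRing R] [Algebra κ R] (hR : ∀ r : R, IsNilpotent r ∨ IsUnit r)
    (x y : A ⊗[κ] R) (hxy : x * y = 0) (hy : y ≠ 0) : IsNilpotent x := by
  classical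
  let 𝒞 := Module.Basis.ofVectorSpace κ R
  obtain ⟨c, hc⟩ := TensorProduct.eq_repr_basis_right 𝒞 x
  obtain ⟨d, hd⟩ := TensorProduct.eq_repr_basis_right 𝒞 y
  let s : Finset A := c.support.image c ∪ d.support.image d
  let A' : Subalgebra κ A := Algebra.adjoin κ (s : Set A)
  haveI : Algebra.FiniteType κ A' :=
    ⟨(Subalgebra.fg_top A').mpr (Subalgebra.fg_adjoin_finset s)⟩
  have hcA : ∀ i ∈ c.support, c i ∈ A' := fun i hi =>
    Algebra.subset_adjoin (Finset.mem_coe.mpr (Finset.mem_union_left _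
      (Finset.mem_image_of_mem c hi)))
  have hdA : ∀ i ∈ d.support, d i ∈ A' := fun i hi =>
    Algebra.subset_adjoin (Finset.mem_coe.mpr (Finset.mem_union_right _
      (Finset.mem_image_of_mem d hi)))
  let x' : A' ⊗[κ] R := ∑ i ∈ c.support.attach, (⟨c i.1, hcA i.1 i.2⟩ : A') ⊗ₜ[κ] 𝒞 i.1
  let y' : A' ⊗[κ] R := ∑ i ∈ d.support.attach, (⟨d i.1, hdA i.1 i.2⟩ : A') ⊗ₜ[κ] 𝒞 i.1
  let ι : A' ⊗[κ] R →ₐ[κ] A ⊗[κ] R := Algebra.TensorProduct.map A'.val (AlgHom.id κ R)
  have hι : Function.Injective ι := by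
    have : Function.Injective (A'.val.toLinearMap.rTensor R) :=
      Module.Flat.rTensor_preserves_injective_linearMap _ Subtype.val_injective
    exact this
  have hx' : ι x' = x := by
    rw [← hc, Finsupp.sum]
    simp only [x', map_sum, ι, Algebra.TensorProduct.map_tmul, Subalgebra.coe_val,
      AlgHom.coe_id, id_eq]
    exact Finset.sum_attach c.support (fun i => c i ⊗ₜ[κ] 𝒞 i)
  have hy' : ι y' = y := by
    rw [← hd, Finsupp.sum]
    simp only [y', map_sum, ι, Algebra.TensorProduct.map_tmul, Subalgebra.coe_val,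
      AlgHom.coe_id, id_eq]
    exact Finset.sum_attach d.support (fun i => d i ⊗ₜ[κ] 𝒞 i)
  have h0 : x' * y' = 0 := hι (by rw [map_mul, hx', hy', hxy, map_zero])
  have hy'0 : y' ≠ 0 := by
    rintro h
    exact hy (by rw [← hy', h, map_zero])
  have h1 := isNilpotent_of_mul_eq_zero_of_finiteType hR x' y' h0 hy'0
  rw [← hx']
  exact h1.map ι

open Groth.Agent.S9627 in
/-- **No embedded components**: if `K/k` is primary and `k'/k` is any field extension, every zero
divisor of `k' ⊗_k K` is nilpotent. -/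
theorem isNilpotent_of_mul_eq_zero_of_primary {k K k' : Type u} [Field k] [Field K] [Algebra k K]
    [Field k'] [Algebra k k']
    (hprim : ∀ α : K, IsSeparable k α → α ∈ Set.range (algebraMap k K))
    (c d : k' ⊗[k] K) (hcd : c * d = 0) (hd : d ≠ 0) : IsNilpotent c := by
  classical
  let Ω := AlgebraicClosure k'
  let κ : IntermediateField k Ω := algebraicClosure k Ω
  haveI : IsAlgClosed κ := (inferInstance : IsAlgClosure k κ).isAlgClosed
  have hirr : IrreducibleSpace (PrimeSpectrum (κ ⊗[k] K)) :=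
    (Groth.Agent.S2150.result.mpr hprim) κ
  have hirr' : IrreducibleSpace (PrimeSpectrum (K ⊗[k] κ)) :=
    irr_of_equiv (Algebra.TensorProduct.comm k K κ).toRingEquiv
  haveI : Algebra.IsAlgebraic k κ := algebraicClosure.isAlgebraic k Ω
  haveI : Algebra.IsIntegral k κ := Algebra.IsAlgebraic.isIntegral
  haveI : Algebra.IsIntegral K (K ⊗[k] κ) := inferInstance
  have hmax : ∀ (P : Ideal (K ⊗[k] κ)) [P.IsPrime], P.IsMaximal := by
    intro P _
    haveI : (P.comap (algebraMap K (K ⊗[k] κ))).IsPrime := Ideal.comap_isPrime _ _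
    have h1 : P.comap (algebraMap K (K ⊗[k] κ)) = ⊥ :=
      (Ideal.eq_bot_or_top _).resolve_right (Ideal.IsPrime.ne_top inferInstance)
    have h2 : (P.comap (algebraMap K (K ⊗[k] κ))).IsMaximal := by
      rw [h1]
      exact Ideal.bot_isMaximal
    exact Ideal.isMaximal_of_isIntegral_of_isMaximal_comap (R := K) (S := K ⊗[k] κ) P h2
  have hR' : ∀ r : K ⊗[k] κ, IsNilpotent r ∨ IsUnit r :=
    fun r => isNilpotent_or_isUnit (R := K ⊗[k] κ) hmax r
  have hR : ∀ r : κ ⊗[k] K, IsNilpotent r ∨ IsUnit r := by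
    intro r
    let e := Algebra.TensorProduct.comm k κ K
    rcases hR' (e r) with h | h
    · left
      have h1 := h.map e.symm
      simpa using h1
    · right
      have h1 := h.map e.symm
      simpa using h1
  let E := Algebra.TensorProduct.cancelBaseChange k κ Ω Ω K
  let j : k' ⊗[k] K →ₐ[k] Ω ⊗[k] K :=
    Algebra.TensorProduct.map (IsScalarTower.toAlgHom k k' Ω) (AlgHom.id k K)
  have hj : Function.Injective j := by
    have : Function.Injective ((IsScalarTower.toAlgHom k k' Ω).toLinearMap.rTensor K) :=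
      Module.Flat.rTensor_preserves_injective_linearMap _ (algebraMap k' Ω).injective
    exact this
  have h1 : E.symm (j c) * E.symm (j d) = 0 := by
    rw [← map_mul, ← map_mul, hcd, map_zero, map_zero]
  have h2 : E.symm (j d) ≠ 0 := by
    intro h
    apply hd
    apply hj
    rw [map_zero]
    exact (EmbeddingLike.map_eq_zero_iff (f := E.symm)).mp h
  have h3 := isNilpotent_of_mul_eq_zero_tensor hR _ _ h1 h2
  have h4 : IsNilpotent (j c) := by
    have h5 := h3.map E
    simpa using h5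
  exact (IsNilpotent.map_iff hj).mp h4

/-- Version over a base ring surjecting onto `k`, with the factors swapped. -/
theorem isNilpotent_of_mul_eq_zero_of_primary' {A k K k' : Type u} [CommRing A] [Field k] [Field K]
    [Field k'] [Algebra A k] [Algebra k K] [Algebra k k'] [Algebra A K] [Algebra A k']
    [IsScalarTower A k K] [IsScalarTower A k k']
    (hsurj : Function.Surjective (algebraMap A k))
    (hprim : ∀ α : K, IsSeparable k α → α ∈ Set.range (algebraMap k K))
    (c d : K ⊗[A] k') (hcd : c * d = 0) (hd : d ≠ 0) : IsNilpotent c := by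
  haveI : TensorProduct.CompatibleSMul A k K k' := by
    refine ⟨fun r m n => ?_⟩
    obtain ⟨a, rfl⟩ := hsurj r
    rw [algebraMap_smul, algebraMap_smul, TensorProduct.smul_tmul]
  let e₁ : K ⊗[A] k' ≃ₐ[A] K ⊗[k] k' :=
    (Algebra.TensorProduct.equivOfCompatibleSMul A k A K k').symm
  let e₂ : K ⊗[k] k' ≃ₐ[k] k' ⊗[k] K := Algebra.TensorProduct.comm k K k'
  have h1 : e₂ (e₁ c) * e₂ (e₁ d) = 0 := by
    rw [← map_mul, ← map_mul, hcd, map_zero, map_zero]
  have h2 : e₂ (e₁ d) ≠ 0 := by
    intro h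
    apply hd
    have h3 := (EmbeddingLike.map_eq_zero_iff (f := e₂)).mp h
    exact (EmbeddingLike.map_eq_zero_iff (f := e₁)).mp h3
  have h3 := isNilpotent_of_mul_eq_zero_of_primary hprim _ _ h1 h2
  have h4 : IsNilpotent (e₁ c) := (IsNilpotent.map_iff e₂.injective).mp h3
  exact (IsNilpotent.map_iff e₁.injective).mp h4

end Groth.Agent.Lib.Helper7.TensorFieldsPrimary
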