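import Mathlib
import Groth.Agent.Lib.Helper7.TensorFieldsPrimary
import Groth.Agent.Lib.lead.StalkDimIneq

/-!
# Primary residue field extension at a point: chart form (helper7)

If `κ(x)/κ(f x)` is primary and the base chart `Γ(S, US)` is local with nilpotent maximal ideal,
then for every local `Γ(S,US)`-algebra `T`, zero divisors of `κ(O_{X,x}) ⊗_{Γ(S,US)} κ(T)` are
nilpotent (with `O_{X,x}` realised as the localization of `Γ(X, UX)`).
-/

set_option autoImplicit false
set_option linter.unusedSectionVars false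
set_option linter.unusedVariables false
set_option linter.style.haveILetI false
universe u
open TensorProduct AlgebraicGeometry CategoryTheory IsLocalRing

noncomputable section

namespace Groth.Agent.Lib.Helper7.ResiduePrimaryChart

open Groth.Agent.Lib.Helper7.TensorFieldsPrimary

/-- a ring hom from a local ring with nilpotent maximal ideal to a nontrivial ring is local. -/
theorem isLocalHom_of_isNilpotent {R S : Type*} [CommRing R] [IsLocalRing R] [CommRing S]
    [Nontrivial S] (hnil : IsNilpotent (maximalIdeal R)) (φ : R →+* S) : IsLocalHom φ := by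
  refine ⟨fun a ha => ?_⟩
  by_contra hu
  have hm : a ∈ maximalIdeal R := (mem_maximalIdeal a).mpr hu
  obtain ⟨n, hn⟩ := hnil
  have h1 : a ^ n = 0 := by
    have : a ^ n ∈ maximalIdeal R ^ n := Ideal.pow_mem_pow hm n
    rw [hn] at this
    exact this
  have h2 : IsNilpotent (φ a) := ⟨n, by rw [← map_pow, h1, map_zero]⟩
  exact h2.not_isUnit ha

/-- transfer of "primary" along isomorphisms of field extensions. -/
theorem primary_transfer {k₀ K k₁ K₁ : Type u} [Field k₀] [Field K] [Field k₁] [Field K₁]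
    (a : k₀ →+* K) (g : k₀ →+* k₁) (ψ : k₁ →+* K₁) (e : K ≃+* K₁)
    (hcomm : (e : K →+* K₁).comp a = ψ.comp g) (hg : Function.Surjective g)
    (hprim : letI := ψ.toAlgebra
      ∀ α : K₁, IsSeparable k₁ α → α ∈ ψ.range) :
    letI := a.toAlgebra
    ∀ α : K, IsSeparable k₀ α → α ∈ Set.range a := by
  letI := ψ.toAlgebra
  letI := a.toAlgebra
  intro α hα
  let e₁ : k₀ ≃+* k₁ := RingEquiv.ofBijective g ⟨g.injective, hg⟩
  have he : RingHom.comp (algebraMap k₁ K₁) (e₁ : k₀ →+* k₁) =
      RingHom.comp (e : K →+* K₁) (algebraMap k₀ K) := hcomm.symm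
  have h1 : IsSeparable k₁ (e α) := IsSeparable.of_equiv_equiv e₁ e he hα
  obtain ⟨c, hc⟩ := hprim (e α) h1
  obtain ⟨c₀, rfl⟩ := hg c
  refine ⟨c₀, ?_⟩
  apply e.injective
  rw [← hc]
  exact RingHom.congr_fun hcomm c₀

section Chart

variable {X S : Scheme.{u}} (f : X ⟶ S) {UX : X.Opens} {US : S.Opens} (hUX : IsAffineOpen UX)
  (hUS : IsAffineOpen US) (hUSX : UX ≤ f ⁻¹ᵁ US) (x : X) (hx : x ∈ UX)

theorem stalkMap_germ_appLE' (hfx : f x ∈ US) (a : Γ(S, US)) :
    (f.stalkMap x).hom ((S.presheaf.germ US (f x) hfx).hom a) =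
      (X.presheaf.germ UX x hx).hom ((f.appLE US UX hUSX).hom a) := by
  show f.stalkMap x (S.presheaf.germ US (f x) hfx a) =
    X.presheaf.germ UX x hx (f.appLE US UX hUSX a)
  rw [Scheme.Hom.germ_stalkMap_apply]
  simp only [Scheme.Hom.appLE,
      homOfLE_leOfHom, CommRingCat.hom_comp, RingHom.coe_comp, Function.comp_apply,
      X.presheaf.germ_res_apply]

include hUS in
/-- **Chart form of the primary hypothesis.** -/
theorem isNilpotent_of_mul_eq_zero_chart
    [IsLocalRing Γ(S, US)] (hnil : IsNilpotent (maximalIdeal Γ(S, US)))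
    [Algebra Γ(S, US) Γ(X, UX)]
    (halg : algebraMap Γ(S, US) Γ(X, UX) = (f.appLE US UX hUSX).hom)
    (hprim : letI := (f.residueFieldMap x).hom.toAlgebra
      ∀ a : ↑(X.residueField x), IsSeparable ↑(S.residueField (f x)) a →
        a ∈ (f.residueFieldMap x).hom.range)
    (T : Type u) [CommRing T] [IsLocalRing T] [Algebra Γ(S, US) T]
    (c d : (Localization.AtPrime (hUX.primeIdealOf ⟨x, hx⟩).asIdeal ⧸
        maximalIdeal (Localization.AtPrime (hUX.primeIdealOf ⟨x, hx⟩).asIdeal))
      ⊗[Γ(S, US)] (T ⧸ maximalIdeal T)) (hcd : c * d = 0) (hd : d ≠ 0) : IsNilpotent c := by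
  classical
  set q := (hUX.primeIdealOf ⟨x, hx⟩).asIdeal with hq
  set B := Localization.AtPrime q with hB
  haveI : IsLocalHom (algebraMap Γ(S, US) B) := isLocalHom_of_isNilpotent hnil _
  haveI : IsLocalHom (algebraMap Γ(S, US) T) := isLocalHom_of_isNilpotent hnil _
  -- stalks
  letI algXst : Algebra Γ(X, UX) (X.presheaf.stalk x) :=
    X.presheaf.algebra_section_stalk ⟨x, hx⟩
  haveI hlocX : IsLocalization.AtPrime (X.presheaf.stalk x) q := hUX.isLocalization_stalk ⟨x, hx⟩
  let e : B ≃ₐ[Γ(X, UX)] X.presheaf.stalk x :=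
    IsLocalization.algEquiv q.primeCompl B (X.presheaf.stalk x)
  let g₀ : Γ(S, US) →+* S.presheaf.stalk (f x) := (S.presheaf.germ US (f x) (hUSX hx)).hom
  haveI : IsLocalHom g₀ := isLocalHom_of_isNilpotent hnil _
  letI algSst : Algebra Γ(S, US) (S.presheaf.stalk (f x)) :=
    S.presheaf.algebra_section_stalk ⟨f x, hUSX hx⟩
  haveI hlocS : IsLocalization.AtPrime (S.presheaf.stalk (f x))
      (hUS.primeIdealOf ⟨f x, hUSX hx⟩).asIdeal := hUS.isLocalization_stalk ⟨f x, hUSX hx⟩
  have hg₀surj : Function.Surjective g₀ := by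
    intro y
    obtain ⟨⟨r, s⟩, hrs⟩ := IsLocalization.surj
      (hUS.primeIdealOf ⟨f x, hUSX hx⟩).asIdeal.primeCompl y
    have hsu : IsUnit (s : Γ(S, US)) := by
      by_contra hu
      have hm : (s : Γ(S, US)) ∈ maximalIdeal Γ(S, US) := (mem_maximalIdeal _).mpr hu
      obtain ⟨n, hn⟩ := hnil
      have h1 : (s : Γ(S, US)) ^ n = 0 := by
        have : (s : Γ(S, US)) ^ n ∈ maximalIdeal Γ(S, US) ^ n := Ideal.pow_mem_pow hm n
        rw [hn] at this
        exact this
      have h2 : (s : Γ(S, US)) ^ n ∈ (hUS.primeIdealOf ⟨f x, hUSX hx⟩).asIdeal := by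
        rw [h1]; exact zero_mem _
      exact s.2 (Ideal.IsPrime.mem_of_pow_mem inferInstance n h2)
    obtain ⟨u, hu⟩ := hsu
    refine ⟨r * ↑u⁻¹, ?_⟩
    have h3 : g₀ (s : Γ(S, US)) * g₀ ↑u⁻¹ = 1 := by
      rw [← map_mul, ← hu, Units.mul_inv, map_one]
    have hrs' : y * g₀ (s : Γ(S, US)) = g₀ r := hrs
    rw [map_mul, ← hrs', mul_assoc, h3, mul_one]
  -- residue fields
  let a : ResidueField Γ(S, US) →+* ResidueField B := ResidueField.map (algebraMap Γ(S, US) B)
  let g : ResidueField Γ(S, US) →+* ↑(S.residueField (f x)) := ResidueField.map g₀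
  let ψ : ↑(S.residueField (f x)) →+* ↑(X.residueField x) := (f.residueFieldMap x).hom
  let ē : ResidueField B ≃+* ↑(X.residueField x) := ResidueField.mapEquiv e.toRingEquiv
  have hg : Function.Surjective g := by
    intro c
    obtain ⟨y, rfl⟩ := IsLocalRing.residue_surjective c
    obtain ⟨r, rfl⟩ := hg₀surj y
    exact ⟨IsLocalRing.residue Γ(S, US) r, ResidueField.map_residue g₀ r⟩
  have hcomm : (ē : ResidueField B →+* ↑(X.residueField x)).comp a = ψ.comp g := by
    apply RingHom.ext
    intro c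
    obtain ⟨r, rfl⟩ := IsLocalRing.residue_surjective c
    show ē (a (IsLocalRing.residue Γ(S, US) r)) = ψ (g (IsLocalRing.residue Γ(S, US) r))
    have h1 : a (IsLocalRing.residue Γ(S, US) r) = IsLocalRing.residue B (algebraMap Γ(S, US) B r) :=
      ResidueField.map_residue _ r
    have h2 : g (IsLocalRing.residue Γ(S, US) r) = IsLocalRing.residue _ (g₀ r) :=
      ResidueField.map_residue g₀ r
    have h3 : ψ (IsLocalRing.residue _ (g₀ r)) =
        IsLocalRing.residue _ ((f.stalkMap x).hom (g₀ r)) :=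
      ResidueField.map_residue (f.stalkMap x).hom (g₀ r)
    have h4 : ē (IsLocalRing.residue B (algebraMap Γ(S, US) B r)) =
        IsLocalRing.residue _ (e (algebraMap Γ(S, US) B r)) :=
      ResidueField.map_residue (e.toRingEquiv : B →+* X.presheaf.stalk x) _
    rw [h1, h2, h3, h4]
    have h5 : e (algebraMap Γ(S, US) B r) = (f.stalkMap x).hom (g₀ r) := by
      rw [IsScalarTower.algebraMap_apply Γ(S, US) Γ(X, UX) B, AlgEquiv.commutes, halg]
      exact (stalkMap_germ_appLE' f hUSX x hx (hUSX hx) r).symm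
    rw [h5]
  have hprimRes := primary_transfer a g ψ ē hcomm hg hprim
  letI algk₀K : Algebra (ResidueField Γ(S, US)) (ResidueField B) := a.toAlgebra
  letI algk₀k' : Algebra (ResidueField Γ(S, US)) (ResidueField T) :=
    (ResidueField.map (algebraMap Γ(S, US) T)).toAlgebra
  haveI : IsScalarTower Γ(S, US) (ResidueField Γ(S, US)) (ResidueField B) :=
    IsScalarTower.of_algebraMap_eq fun r => rfl
  haveI : IsScalarTower Γ(S, US) (ResidueField Γ(S, US)) (ResidueField T) :=
    IsScalarTower.of_algebraMap_eq fun r => rfl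
  exact isNilpotent_of_mul_eq_zero_of_primary' (A := Γ(S, US)) (k := ResidueField Γ(S, US))
    (K := ResidueField B) (k' := ResidueField T) IsLocalRing.residue_surjective hprimRes c d hcd hd

include hUS in
/-- **Chart form of the primary hypothesis**, local base chart with `f x` the closed point. -/
theorem isNilpotent_of_mul_eq_zero_chart_local
    [IsLocalRing Γ(S, US)]
    (hp : (hUS.primeIdealOf ⟨f x, hUSX hx⟩).asIdeal = maximalIdeal Γ(S, US))
    [Algebra Γ(S, US) Γ(X, UX)]
    (halg : algebraMap Γ(S, US) Γ(X, UX) = (f.appLE US UX hUSX).hom)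
    (hprim : letI := (f.residueFieldMap x).hom.toAlgebra
      ∀ a : ↑(X.residueField x), IsSeparable ↑(S.residueField (f x)) a →
        a ∈ (f.residueFieldMap x).hom.range)
    (T : Type u) [CommRing T] [IsLocalRing T] [Algebra Γ(S, US) T]
    [IsLocalHom (algebraMap Γ(S, US) T)]
    (c d : (Localization.AtPrime (hUX.primeIdealOf ⟨x, hx⟩).asIdeal ⧸
        maximalIdeal (Localization.AtPrime (hUX.primeIdealOf ⟨x, hx⟩).asIdeal))
      ⊗[Γ(S, US)] (T ⧸ maximalIdeal T)) (hcd : c * d = 0) (hd : d ≠ 0) : IsNilpotent c := by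
  classical
  set q := (hUX.primeIdealOf ⟨x, hx⟩).asIdeal with hq
  set B := Localization.AtPrime q with hB
  have hpq : (hUS.primeIdealOf ⟨f x, hUSX hx⟩).asIdeal =
      q.comap (f.appLE US UX hUSX).hom :=
    Groth.Agent.Lib.lead.StalkDimIneq.primeIdealOf_map f hUX hUS hUSX ⟨x, hx⟩
  haveI : IsLocalHom (algebraMap Γ(S, US) B) := by
    refine ⟨fun a ha => ?_⟩
    by_contra hu
    have hm : a ∈ maximalIdeal Γ(S, US) := (mem_maximalIdeal a).mpr hu
    rw [← hp, hpq, Ideal.mem_comap, ← halg] at hm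
    have h1 := (IsLocalization.AtPrime.to_map_mem_maximal_iff B q _).mpr hm
    rw [← IsScalarTower.algebraMap_apply Γ(S, US) Γ(X, UX) B] at h1
    exact ((mem_maximalIdeal _).mp h1) ha
  -- stalks
  letI algXst : Algebra Γ(X, UX) (X.presheaf.stalk x) :=
    X.presheaf.algebra_section_stalk ⟨x, hx⟩
  haveI hlocX : IsLocalization.AtPrime (X.presheaf.stalk x) q := hUX.isLocalization_stalk ⟨x, hx⟩
  let e : B ≃ₐ[Γ(X, UX)] X.presheaf.stalk x :=
    IsLocalization.algEquiv q.primeCompl B (X.presheaf.stalk x)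
  let g₀ : Γ(S, US) →+* S.presheaf.stalk (f x) := (S.presheaf.germ US (f x) (hUSX hx)).hom
  letI algSst : Algebra Γ(S, US) (S.presheaf.stalk (f x)) :=
    S.presheaf.algebra_section_stalk ⟨f x, hUSX hx⟩
  haveI hlocS : IsLocalization.AtPrime (S.presheaf.stalk (f x))
      (hUS.primeIdealOf ⟨f x, hUSX hx⟩).asIdeal := hUS.isLocalization_stalk ⟨f x, hUSX hx⟩
  haveI : IsLocalHom g₀ := by
    refine ⟨fun a ha => ?_⟩
    by_contra hu
    have hm : a ∈ maximalIdeal Γ(S, US) := (mem_maximalIdeal a).mpr hu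
    rw [← hp] at hm
    have h1 := (IsLocalization.AtPrime.to_map_mem_maximal_iff (S.presheaf.stalk (f x))
      (hUS.primeIdealOf ⟨f x, hUSX hx⟩).asIdeal _).mpr hm
    exact ((mem_maximalIdeal _).mp h1) ha
  have hg₀surj : Function.Surjective g₀ := by
    intro y
    obtain ⟨⟨r, s⟩, hrs⟩ := IsLocalization.surj
      (hUS.primeIdealOf ⟨f x, hUSX hx⟩).asIdeal.primeCompl y
    have hsu : IsUnit (s : Γ(S, US)) := by
      by_contra hu
      have hm : (s : Γ(S, US)) ∈ maximalIdeal Γ(S, US) := (mem_maximalIdeal _).mpr hu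
      rw [← hp] at hm
      exact s.2 hm
    obtain ⟨u, hu⟩ := hsu
    refine ⟨r * ↑u⁻¹, ?_⟩
    have h3 : g₀ (s : Γ(S, US)) * g₀ ↑u⁻¹ = 1 := by
      rw [← map_mul, ← hu, Units.mul_inv, map_one]
    have hrs' : y * g₀ (s : Γ(S, US)) = g₀ r := hrs
    rw [map_mul, ← hrs', mul_assoc, h3, mul_one]
  -- residue fields
  let a : ResidueField Γ(S, US) →+* ResidueField B := ResidueField.map (algebraMap Γ(S, US) B)
  let g : ResidueField Γ(S, US) →+* ↑(S.residueField (f x)) := ResidueField.map g₀
  let ψ : ↑(S.residueField (f x)) →+* ↑(X.residueField x) := (f.residueFieldMap x).hom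
  let ē : ResidueField B ≃+* ↑(X.residueField x) := ResidueField.mapEquiv e.toRingEquiv
  have hg : Function.Surjective g := by
    intro c
    obtain ⟨y, rfl⟩ := IsLocalRing.residue_surjective c
    obtain ⟨r, rfl⟩ := hg₀surj y
    exact ⟨IsLocalRing.residue Γ(S, US) r, ResidueField.map_residue g₀ r⟩
  have hcomm : (ē : ResidueField B →+* ↑(X.residueField x)).comp a = ψ.comp g := by
    apply RingHom.ext
    intro c
    obtain ⟨r, rfl⟩ := IsLocalRing.residue_surjective c
    show ē (a (IsLocalRing.residue Γ(S, US) r)) = ψ (g (IsLocalRing.residue Γ(S, US) r))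
    have h1 : a (IsLocalRing.residue Γ(S, US) r) = IsLocalRing.residue B (algebraMap Γ(S, US) B r) :=
      ResidueField.map_residue _ r
    have h2 : g (IsLocalRing.residue Γ(S, US) r) = IsLocalRing.residue _ (g₀ r) :=
      ResidueField.map_residue g₀ r
    have h3 : ψ (IsLocalRing.residue _ (g₀ r)) =
        IsLocalRing.residue _ ((f.stalkMap x).hom (g₀ r)) :=
      ResidueField.map_residue (f.stalkMap x).hom (g₀ r)
    have h4 : ē (IsLocalRing.residue B (algebraMap Γ(S, US) B r)) =
        IsLocalRing.residue _ (e (algebraMap Γ(S, US) B r)) :=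
      ResidueField.map_residue (e.toRingEquiv : B →+* X.presheaf.stalk x) _
    rw [h1, h2, h3, h4]
    have h5 : e (algebraMap Γ(S, US) B r) = (f.stalkMap x).hom (g₀ r) := by
      rw [IsScalarTower.algebraMap_apply Γ(S, US) Γ(X, UX) B, AlgEquiv.commutes, halg]
      exact (stalkMap_germ_appLE' f hUSX x hx (hUSX hx) r).symm
    rw [h5]
  have hprimRes := primary_transfer a g ψ ē hcomm hg hprim
  letI algk₀K : Algebra (ResidueField Γ(S, US)) (ResidueField B) := a.toAlgebra
  letI algk₀k' : Algebra (ResidueField Γ(S, US)) (ResidueField T) :=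
    (ResidueField.map (algebraMap Γ(S, US) T)).toAlgebra
  haveI : IsScalarTower Γ(S, US) (ResidueField Γ(S, US)) (ResidueField B) :=
    IsScalarTower.of_algebraMap_eq fun r => rfl
  haveI : IsScalarTower Γ(S, US) (ResidueField Γ(S, US)) (ResidueField T) :=
    IsScalarTower.of_algebraMap_eq fun r => rfl
  exact isNilpotent_of_mul_eq_zero_of_primary' (A := Γ(S, US)) (k := ResidueField Γ(S, US))
    (K := ResidueField B) (k' := ResidueField T) IsLocalRing.residue_surjective hprimRes c d hcd hd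

end Chart

end Groth.Agent.Lib.Helper7.ResiduePrimaryChart
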