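import Mathlib
import Groth.Agent.Lib.Helper7.ResiduePrimaryChart

/-!
# The primary residue extension hypothesis after base change to the local scheme `Spec O_{Y,y}`
(helper7)
-/

set_option autoImplicit false
set_option linter.unusedSectionVars false
set_option linter.unusedVariables false
set_option linter.style.haveILetI false
universe u
open AlgebraicGeometry CategoryTheory CategoryTheory.Limits IsLocalRing

noncomputable section

namespace Groth.Agent.Lib.Helper7.ResiduePrimaryChart

/-- transfer of "primary" along isomorphisms of field extensions, downward direction. -/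
theorem primary_transfer_down {k₀ K k₁ K₁ : Type u} [Field k₀] [Field K] [Field k₁] [Field K₁]
    (a : k₀ →+* K) (g : k₀ →+* k₁) (ψ : k₁ →+* K₁) (e : K ≃+* K₁)
    (hcomm : (e : K →+* K₁).comp a = ψ.comp g) (hg : Function.Surjective g)
    (hprim : letI := a.toAlgebra
      ∀ α : K, IsSeparable k₀ α → α ∈ a.range) :
    letI := ψ.toAlgebra
    ∀ α : K₁, IsSeparable k₁ α → α ∈ ψ.range := by
  letI := ψ.toAlgebra
  letI := a.toAlgebra
  intro α₁ hα₁
  let e₁ : k₀ ≃+* k₁ := RingEquiv.ofBijective g ⟨g.injective, hg⟩
  have he : RingHom.comp (algebraMap k₀ K) (e₁.symm : k₁ →+* k₀) =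
      RingHom.comp (e.symm : K₁ →+* K) (algebraMap k₁ K₁) := by
    apply RingHom.ext
    intro c₁
    obtain ⟨c₀, rfl⟩ := hg c₁
    show a (e₁.symm (e₁ c₀)) = e.symm (ψ (g c₀))
    rw [e₁.symm_apply_apply, RingEquiv.eq_symm_apply]
    exact RingHom.congr_fun hcomm c₀
  have h1 : IsSeparable k₀ (e.symm α₁) := IsSeparable.of_equiv_equiv e₁.symm e.symm he hα₁
  obtain ⟨c₀, hc₀⟩ := hprim (e.symm α₁) h1
  refine ⟨g c₀, ?_⟩
  have h2 := RingHom.congr_fun hcomm c₀
  show ψ (g c₀) = α₁
  rw [← RingHom.comp_apply, ← hcomm, RingHom.comp_apply, hc₀]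
  exact e.apply_symm_apply α₁

theorem residueFieldMap_surjective_of_surjectiveOnStalks {X Y : Scheme.{u}} (f : X ⟶ Y)
    [SurjectiveOnStalks f] (x : X) : Function.Surjective (f.residueFieldMap x).hom := by
  intro c
  obtain ⟨b, rfl⟩ := IsLocalRing.residue_surjective (R := X.presheaf.stalk x) c
  obtain ⟨a, rfl⟩ := f.stalkMap_surjective x b
  exact ⟨IsLocalRing.residue _ a, IsLocalRing.ResidueField.map_residue (f.stalkMap x).hom a⟩

/-- the primary hypothesis passes to the base change along a preimmersion (e.g.
`Spec O_{Y,y} ⟶ Y`). -/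
theorem primary_pullback_of_isPreimmersion {X Y Y' : Scheme.{u}} (f : X ⟶ Y) (g : Y' ⟶ Y)
    [IsPreimmersion g] (x₁ : ↥(pullback f g))
    (hprim : letI := (f.residueFieldMap (pullback.fst f g x₁)).hom.toAlgebra
      ∀ a : ↑(X.residueField (pullback.fst f g x₁)),
        IsSeparable ↑(Y.residueField (f (pullback.fst f g x₁))) a →
          a ∈ (f.residueFieldMap (pullback.fst f g x₁)).hom.range) :
    letI := ((pullback.snd f g).residueFieldMap x₁).hom.toAlgebra
    ∀ a : ↑((pullback f g).residueField x₁),
      IsSeparable ↑(Y'.residueField (pullback.snd f g x₁)) a →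
        a ∈ ((pullback.snd f g).residueFieldMap x₁).hom.range := by
  haveI : IsPreimmersion (pullback.fst f g) := inferInstance
  have hδ : Function.Surjective ((pullback.fst f g).residueFieldMap x₁).hom :=
    residueFieldMap_surjective_of_surjectiveOnStalks (pullback.fst f g) x₁
  have hγ' : Function.Surjective (g.residueFieldMap (pullback.snd f g x₁)).hom :=
    residueFieldMap_surjective_of_surjectiveOnStalks g (pullback.snd f g x₁)
  have hpt : f (pullback.fst f g x₁) = g (pullback.snd f g x₁) := by
    rw [← Scheme.Hom.comp_apply, ← Scheme.Hom.comp_apply, pullback.condition]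
  let γ : ↑(Y.residueField (f (pullback.fst f g x₁))) →+*
      ↑(Y'.residueField (pullback.snd f g x₁)) :=
    ((Y.residueFieldCongr hpt).hom ≫ g.residueFieldMap (pullback.snd f g x₁)).hom
  have hγ : Function.Surjective γ := by
    intro c
    obtain ⟨b, hb⟩ := hγ' c
    refine ⟨(Y.residueFieldCongr hpt).inv b, ?_⟩
    show (g.residueFieldMap (pullback.snd f g x₁)).hom ((Y.residueFieldCongr hpt).hom
      ((Y.residueFieldCongr hpt).inv b)) = c
    have h1 : (Y.residueFieldCongr hpt).hom ((Y.residueFieldCongr hpt).inv b) = b :=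
      ConcreteCategory.congr_hom (Y.residueFieldCongr hpt).inv_hom_id b
    rw [h1, hb]
  let δ : ↑(X.residueField (pullback.fst f g x₁)) ≃+* ↑((pullback f g).residueField x₁) :=
    RingEquiv.ofBijective ((pullback.fst f g).residueFieldMap x₁).hom
      ⟨((pullback.fst f g).residueFieldMap x₁).hom.injective, hδ⟩
  have hcomm : (δ : ↑(X.residueField (pullback.fst f g x₁)) →+*
      ↑((pullback f g).residueField x₁)).comp
      (f.residueFieldMap (pullback.fst f g x₁)).hom =
        ((pullback.snd f g).residueFieldMap x₁).hom.comp γ := by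
    have h1 : (pullback.fst f g ≫ f).residueFieldMap x₁ =
        f.residueFieldMap (pullback.fst f g x₁) ≫ (pullback.fst f g).residueFieldMap x₁ :=
      Scheme.residueFieldMap_comp _ _ _
    have h2 : (pullback.snd f g ≫ g).residueFieldMap x₁ =
        g.residueFieldMap (pullback.snd f g x₁) ≫ (pullback.snd f g).residueFieldMap x₁ :=
      Scheme.residueFieldMap_comp _ _ _
    have h3 := Scheme.Hom.residueFieldMap_congr (pullback.condition (f := f) (g := g)) x₁
    rw [h1, h2] at h3
    have h4 := congrArg CommRingCat.Hom.hom h3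
    exact h4
  exact primary_transfer_down (f.residueFieldMap (pullback.fst f g x₁)).hom γ
    ((pullback.snd f g).residueFieldMap x₁).hom δ hcomm hγ hprim

end Groth.Agent.Lib.Helper7.ResiduePrimaryChart
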