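import Groth.Agent.Lib.Helper7.FlatAdicScheme
import Groth.Agent.Lib.Helper7.FlatChartTestPrimary2
import Groth.Agent.Lib.Helper7.ResiduePrimaryBC
import Mathlib

/-!
# Flatness over a Noetherian local base tested at ONE point of each member of an adic family of
local base changes, when the residue extension is primary (helper7)
-/

set_option backward.isDefEq.respectTransparency.types false
set_option autoImplicit false
set_option linter.unusedVariables false
set_option linter.style.haveILetI false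
set_option maxHeartbeats 1600000
universe u
open AlgebraicGeometry CategoryTheory Limits TensorProduct TopologicalSpace

namespace Groth.Agent.Lib.Helper7.FlatChart

open Groth.Agent.Lib.Helper7.FlatTestLocal Groth.Agent.Lib.Helper7.AffPts
  Groth.Agent.Lib.lead.StalkDimIneq Groth.Agent.Lib.Helper7.ResiduePrimaryChart

/-- Given a point `x'` of `X ×_S S'` at which the pullback of `F` is flat over `S'` and a point `s''`
of `S''` over the image of `x'` in `S'`, there is a point of `X ×_S S''` over both at which the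
pullback of `F` is flat over `S''`. -/
theorem exists_isFlatOverAt_pullback_comp {X S S' S'' : Scheme.{u}} (f : X ⟶ S) (g : S' ⟶ S)
    (h : S'' ⟶ S') (F : X.Modules) [F.IsQuasicoherent] (x' : ↥(pullback f g)) (s'' : S'')
    (hs : h s'' = pullback.snd f g x')
    (H : FlatMod.IsFlatOverAt (pullback.snd f g) ((Scheme.Modules.pullback (pullback.fst f g)).obj F)
      x') :
    ∃ x'' : ↥(pullback f (h ≫ g)), pullback.fst f (h ≫ g) x'' = pullback.fst f g x' ∧
      pullback.snd f (h ≫ g) x'' = s'' ∧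
      FlatMod.IsFlatOverAt (pullback.snd f (h ≫ g))
        ((Scheme.Modules.pullback (pullback.fst f (h ≫ g))).obj F) x'' := by
  set k := pullback.map f (h ≫ g) f g (𝟙 X) h (𝟙 S) (by simp) (by simp) with hk
  have hk1 : k ≫ pullback.fst f g = pullback.fst f (h ≫ g) :=
    (pullback.lift_fst _ _ _).trans (Category.comp_id _)
  have hk2 : k ≫ pullback.snd f g = pullback.snd f (h ≫ g) ≫ h := pullback.lift_snd _ _ _
  have hbig : IsPullback (k ≫ pullback.fst f g) (pullback.snd f (h ≫ g)) f (h ≫ g) := by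
    rw [hk1]; exact IsPullback.of_hasPullback _ _
  have hleft : IsPullback k (pullback.snd f (h ≫ g)) (pullback.snd f g) h :=
    IsPullback.of_right hbig hk2 (IsPullback.of_hasPullback f g)
  obtain ⟨x'', hx1, hx2⟩ := Scheme.exists_preimage_of_isPullback hleft x' s'' hs.symm
  have hx1' : k x'' = x' := hx1
  have hx2' : pullback.snd f (h ≫ g) x'' = s'' := hx2
  refine ⟨x'', ?_, hx2', ?_⟩
  · rw [← hk1, Scheme.Hom.comp_apply, hx1']
  · apply isFlatOverAt_pullback_comp f g h F x''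
    rw [← hk, hx1']
    exact H

theorem isFlatOverAt_of_adic_family_local_primary {O : CommRingCat.{u}} [IsLocalRing O] [IsNoetherianRing O]
    {X₁ : Scheme.{u}} (f₁ : X₁ ⟶ Spec O) [LocallyOfFiniteType f₁] (F₁ : X₁.Modules)
    (hF₁ : Coh.IsCoh F₁) (x₁ : X₁) (hx₁ : f₁ x₁ = IsLocalRing.closedPoint O)
    (hprim₁ : letI := (f₁.residueFieldMap x₁).hom.toAlgebra
      ∀ a : ↑(X₁.residueField x₁), IsSeparable ↑((Spec O).residueField (f₁ x₁)) a →
        a ∈ (f₁.residueFieldMap x₁).hom.range)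
    {ι : Type u} (A : ι → Type u) [∀ i, CommRing (A i)] [∀ i, IsLocalRing (A i)]
    (φ : ∀ i, (O : Type u) →+* A i) [∀ i, IsLocalHom (φ i)]
    (htop : ∀ N : ℕ, ∃ s : Finset (ι × ℕ),
      ⨅ p ∈ s, Ideal.comap (φ p.1) (IsLocalRing.maximalIdeal (A p.1) ^ p.2) ≤
        IsLocalRing.maximalIdeal ↑O ^ N)
    (ψ₀ : ∀ i, O ⟶ CommRingCat.of (A i)) (hψ₀ : ∀ i, (ψ₀ i).hom = φ i)
    (hflat : ∀ (i : ι), ∃ (x' : ↥(pullback f₁ (Spec.map (ψ₀ i)))),
      pullback.fst f₁ (Spec.map (ψ₀ i)) x' = x₁ ∧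
      pullback.snd f₁ (Spec.map (ψ₀ i)) x' = IsLocalRing.closedPoint (A i) ∧
      FlatMod.IsFlatOverAt (pullback.snd f₁ (Spec.map (ψ₀ i)))
        ((Scheme.Modules.pullback (pullback.fst f₁ (Spec.map (ψ₀ i)))).obj F₁) x') :
    FlatMod.IsFlatOverAt f₁ F₁ x₁ := by
  classical
  haveI : F₁.IsQuasicoherent := hF₁.1
  haveI : SheafOfModules.IsFiniteType.{u} (R := X₁.ringCatSheaf) F₁ := hF₁.2
  obtain ⟨UX, hUX', hxUX, -⟩ := (Opens.isBasis_iff_nbhd.1 X₁.isBasis_affineOpens)
    (show x₁ ∈ (⊤ : X₁.Opens) from trivial)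
  have hUX : IsAffineOpen UX := hUX'
  have hUS : IsAffineOpen (⊤ : (Spec O).Opens) := isAffineOpen_top _
  have hUSX : UX ≤ f₁ ⁻¹ᵁ ⊤ := fun _ _ => trivial
  let eO : Γ(Spec O, ⊤) ≃+* O := (Scheme.ΓSpecIso O).commRingCatIsoToRingEquiv
  haveI : IsLocalRing Γ(Spec O, ⊤) := eO.symm.isLocalRing
  haveI : IsNoetherianRing Γ(Spec O, ⊤) := isNoetherianRing_of_ringEquiv O eO.symm
  letI algRA : Algebra Γ(Spec O, ⊤) Γ(X₁, UX) := (f₁.appLE ⊤ UX hUSX).hom.toAlgebra
  haveI : Algebra.FiniteType Γ(Spec O, ⊤) Γ(X₁, UX) :=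
    LocallyOfFiniteType.finiteType_appLE f₁ hUS hUX hUSX
  haveI : IsNoetherianRing Γ(X₁, UX) :=
    Algebra.FiniteType.isNoetherianRing Γ(Spec O, ⊤) Γ(X₁, UX)
  haveI : Module.Finite Γ(X₁, UX) Γ(F₁, UX) :=
    Groth.Agent.Lib.Helper28.FinType.finite_of_isAffineOpen F₁ hUX
  letI mR : Module Γ(Spec O, ⊤) Γ(F₁, UX) :=
    Module.compHom _ (algebraMap Γ(Spec O, ⊤) Γ(X₁, UX))
  haveI : IsScalarTower Γ(Spec O, ⊤) Γ(X₁, UX) Γ(F₁, UX) := IsScalarTower.of_compHom _ _ _
  rw [isFlatOverAt_iff_flat_localizedModule f₁ F₁ hUX hUS hUSX x₁ hxUX rfl]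
  set q := (hUX.primeIdealOf ⟨x₁, hxUX⟩).asIdeal with hq
  have hqR : q.comap (algebraMap Γ(Spec O, ⊤) Γ(X₁, UX)) =
      IsLocalRing.maximalIdeal Γ(Spec O, ⊤) := by
    have h1 := primeIdealOf_map f₁ hUX hUS hUSX ⟨x₁, hxUX⟩
    have h2 := (primeIdealOf_top_eq_maximalIdeal_iff (f₁ x₁)).2 hx₁
    exact h1.symm.trans h2
  haveI : IsScalarTower Γ(Spec O, ⊤) (Localization.AtPrime q)
      (LocalizedModule q.primeCompl Γ(F₁, UX)) := by
    refine IsScalarTower.of_algebraMap_smul fun r n => ?_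
    rw [IsScalarTower.algebraMap_apply Γ(Spec O, ⊤) Γ(X₁, UX) (Localization.AtPrime q),
      algebraMap_smul, algebraMap_smul]
  have hJ : (IsLocalRing.maximalIdeal Γ(Spec O, ⊤)).map
      (algebraMap Γ(Spec O, ⊤) (Localization.AtPrime q)) ≤ Ideal.jacobson ⊥ := by
    rw [IsLocalRing.jacobson_eq_maximalIdeal ⊥ bot_ne_top, Ideal.map_le_iff_le_comap]
    intro a ha
    rw [Ideal.mem_comap, IsScalarTower.algebraMap_apply Γ(Spec O, ⊤) Γ(X₁, UX)
      (Localization.AtPrime q), IsLocalization.AtPrime.to_map_mem_maximal_iff _ q]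
    rw [← hqR] at ha
    exact ha
  -- the family of test rings
  let Tq : ι × ℕ → Type u := fun p => A p.1 ⧸ (IsLocalRing.maximalIdeal (A p.1)) ^ p.2
  let π : ∀ p : ι × ℕ, CommRingCat.of (A p.1) ⟶ CommRingCat.of (Tq p) := fun p =>
    CommRingCat.ofHom (Ideal.Quotient.mk ((IsLocalRing.maximalIdeal (A p.1)) ^ p.2))
  let ψ : ∀ p : ι × ℕ, O ⟶ CommRingCat.of (Tq p) := fun p => ψ₀ p.1 ≫ π p
  let T : ι × ℕ → Type u := fun p => Γ(Spec (CommRingCat.of (Tq p)), ⊤)
  let eT : ∀ p, T p ≃+* Tq p := fun p =>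
    (Scheme.ΓSpecIso (CommRingCat.of (Tq p))).commRingCatIsoToRingEquiv
  letI algT : ∀ p, Algebra Γ(Spec O, ⊤) (T p) := fun p =>
    ((Spec.map (ψ p)).appLE ⊤ ⊤ le_top).hom.toAlgebra
  have hmapT : ∀ p (a : Γ(Spec O, ⊤)), eT p (algebraMap Γ(Spec O, ⊤) (T p) a) =
      Ideal.Quotient.mk ((IsLocalRing.maximalIdeal (A p.1)) ^ p.2) (φ p.1 (eO a)) := by
    intro p a
    have h1 := ΓSpecIso_appLE_top (ψ p) a
    rw [← hψ₀ p.1]
    exact h1
  have hkerT : ∀ p (a : Γ(Spec O, ⊤)), a ∈ RingHom.ker (algebraMap Γ(Spec O, ⊤) (T p)) ↔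
      φ p.1 (eO a) ∈ (IsLocalRing.maximalIdeal (A p.1)) ^ p.2 := by
    intro p a
    rw [RingHom.mem_ker, ← (map_eq_zero_iff (eT p) (eT p).injective), hmapT,
      Ideal.Quotient.eq_zero_iff_mem]
  haveI hloc1 : IsLocalHom eO.toRingHom := ⟨fun a ha => (MulEquiv.isUnit_map eO.toMulEquiv).1 ha⟩
  haveI hloc2 : IsLocalHom eO.symm.toRingHom :=
    ⟨fun a ha => (MulEquiv.isUnit_map eO.symm.toMulEquiv).1 ha⟩
  refine flat_of_adic_family (S := Localization.AtPrime q) hJ T ?_ ?_ ?_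
  · intro p
    refine ⟨p.2, fun a ha => ?_⟩
    rw [hkerT]
    have h1 : (IsLocalRing.maximalIdeal Γ(Spec O, ⊤)).map ((φ p.1).comp eO.toRingHom) ≤
        IsLocalRing.maximalIdeal (A p.1) := IsLocalRing.map_maximalIdeal_le _
    have h2 := Ideal.mem_map_of_mem ((φ p.1).comp eO.toRingHom) ha
    rw [Ideal.map_pow] at h2
    exact Ideal.pow_right_mono h1 _ h2
  · intro N
    obtain ⟨s, hs⟩ := htop N
    refine ⟨s, fun a ha => ?_⟩
    have h1 : eO a ∈ ⨅ p ∈ s, Ideal.comap (φ p.1) (IsLocalRing.maximalIdeal (A p.1) ^ p.2) := by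
      simp only [Ideal.mem_iInf] at ha ⊢
      intro p hp
      exact (hkerT p a).1 (ha p hp)
    have h2 := hs h1
    have h3 := Ideal.mem_map_of_mem eO.symm.toRingHom h2
    rw [Ideal.map_pow] at h3
    have h4 : (IsLocalRing.maximalIdeal ↑O).map eO.symm.toRingHom ≤
        IsLocalRing.maximalIdeal Γ(Spec O, ⊤) := IsLocalRing.map_maximalIdeal_le _
    have h5 := Ideal.pow_right_mono h4 N h3
    simpa using h5
  · intro p
    rcases Nat.eq_zero_or_pos p.2 with h0 | hpos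
    · -- trivial test ring
      haveI : Subsingleton (Tq p) := by
        refine Ideal.Quotient.subsingleton_iff.2 ?_
        rw [h0, pow_zero, Ideal.one_eq_top]
      haveI : Subsingleton (T p) := (eT p).toEquiv.subsingleton
      haveI : Subsingleton ((T p) ⊗[Γ(Spec O, ⊤)] LocalizedModule q.primeCompl Γ(F₁, UX)) :=
        Module.subsingleton (T p) _
      infer_instance
    · -- Artinian local test ring
      have hne : (IsLocalRing.maximalIdeal (A p.1)) ^ p.2 ≠ ⊤ := by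
        intro h
        have h1 : (IsLocalRing.maximalIdeal (A p.1)) ^ p.2 ≤ IsLocalRing.maximalIdeal (A p.1) :=
          Ideal.pow_le_self hpos.ne'
        rw [h] at h1
        exact (IsLocalRing.maximalIdeal.isMaximal (A p.1)).ne_top (top_le_iff.1 h1)
      haveI : Nontrivial (Tq p) := Ideal.Quotient.nontrivial_iff.2 hne
      haveI : IsLocalRing (Tq p) :=
        IsLocalRing.of_surjective' (Ideal.Quotient.mk _) Ideal.Quotient.mk_surjective
      haveI : IsLocalRing (T p) := (eT p).symm.isLocalRing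
      have hUT : IsAffineOpen (⊤ : (Spec (CommRingCat.of (Tq p))).Opens) := isAffineOpen_top _
      have hUST : (⊤ : (Spec (CommRingCat.of (Tq p))).Opens) ≤ (Spec.map (ψ p)) ⁻¹ᵁ ⊤ := le_top
      set K := RingHom.ker (algebraMap Γ(Spec O, ⊤) (T p)) with hK
      have hKne : K ≠ ⊤ := RingHom.ker_ne_top _
      haveI : Nontrivial (Γ(Spec O, ⊤) ⧸ K) := Ideal.Quotient.nontrivial_iff.2 hKne
      haveI : IsLocalRing (Γ(Spec O, ⊤) ⧸ K) :=
        IsLocalRing.of_surjective' (Ideal.Quotient.mk K) Ideal.Quotient.mk_surjective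
      have hnil : IsNilpotent (IsLocalRing.maximalIdeal (Γ(Spec O, ⊤) ⧸ K)) := by
        refine isNilpotent_maximalIdeal_quotient K p.2 (fun a ha => ?_)
        rw [hK, hkerT]
        have h1 : (IsLocalRing.maximalIdeal Γ(Spec O, ⊤)).map ((φ p.1).comp eO.toRingHom) ≤
            IsLocalRing.maximalIdeal (A p.1) := IsLocalRing.map_maximalIdeal_le _
        have h2 := Ideal.mem_map_of_mem ((φ p.1).comp eO.toRingHom) ha
        rw [Ideal.map_pow] at h2
        exact Ideal.pow_right_mono h1 _ h2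
      letI algKT : Algebra (Γ(Spec O, ⊤) ⧸ K) (T p) :=
        (Ideal.Quotient.lift K (algebraMap Γ(Spec O, ⊤) (T p)) (fun a ha => ha)).toAlgebra
      haveI : IsScalarTower Γ(Spec O, ⊤) (Γ(Spec O, ⊤) ⧸ K) (T p) :=
        IsScalarTower.of_algebraMap_eq (fun _ => rfl)
      -- the structure map to the test ring is local
      haveI hlocT : IsLocalHom (algebraMap Γ(Spec O, ⊤) (T p)) := by
        refine ⟨fun a ha => ?_⟩
        have h1 : IsUnit (eT p (algebraMap Γ(Spec O, ⊤) (T p) a)) := ha.map (eT p)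
        rw [hmapT] at h1
        haveI : IsLocalHom (Ideal.Quotient.mk ((IsLocalRing.maximalIdeal (A p.1)) ^ p.2)) :=
          IsLocalHom.of_surjective _ Ideal.Quotient.mk_surjective
        have h2 : IsUnit (φ p.1 (eO a)) := isUnit_of_map_unit (Ideal.Quotient.mk _) _ h1
        have h3 : IsUnit (eO a) := isUnit_of_map_unit (φ p.1) _ h2
        exact (MulEquiv.isUnit_map eO.toMulEquiv).1 h3
      have hp : (hUS.primeIdealOf ⟨f₁ x₁, hUSX hxUX⟩).asIdeal =
          IsLocalRing.maximalIdeal Γ(Spec O, ⊤) :=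
        (primeIdealOf_top_eq_maximalIdeal_iff (f₁ x₁)).2 hx₁
      have hprimE : ∀ c d : (Localization.AtPrime q ⧸
            IsLocalRing.maximalIdeal (Localization.AtPrime q)) ⊗[Γ(Spec O, ⊤)]
            (T p ⧸ IsLocalRing.maximalIdeal (T p)), c * d = 0 → d ≠ 0 → IsNilpotent c :=
        fun c d hcd hd => isNilpotent_of_mul_eq_zero_chart_local f₁ hUX hUS hUSX x₁ hxUX hp rfl
          hprim₁ (T p) c d hcd hd
      -- the point over `x₁` and the closed point of the test ring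
      obtain ⟨x'i, hx'1, hx'2, hx'flat⟩ := hflat p.1
      haveI : IsLocalHom (π p).hom := IsLocalHom.of_surjective _ Ideal.Quotient.mk_surjective
      obtain ⟨y'', hy1, hy2, hyH⟩ := exists_isFlatOverAt_pullback_comp f₁ (Spec.map (ψ₀ p.1))
        (Spec.map (π p)) F₁ x'i (IsLocalRing.closedPoint (Tq p))
        (by rw [hx'2]; exact Spec_closedPoint) hx'flat
      have hψ : Spec.map (ψ p) = Spec.map (π p) ≫ Spec.map (ψ₀ p.1) := Spec.map_comp _ _
      have key : ∀ (g' : Spec (CommRingCat.of (Tq p)) ⟶ Spec O),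
          g' = Spec.map (π p) ≫ Spec.map (ψ₀ p.1) → ∃ x' : ↥(pullback f₁ g'),
          pullback.fst f₁ g' x' = x₁ ∧ pullback.snd f₁ g' x' = IsLocalRing.closedPoint (Tq p) ∧
          FlatMod.IsFlatOverAt (pullback.snd f₁ g')
            ((Scheme.Modules.pullback (pullback.fst f₁ g')).obj F₁) x' := by
        rintro g' rfl
        exact ⟨y'', hy1.trans hx'1, hy2, hyH⟩
      obtain ⟨x'', h1, h2, H⟩ := key _ hψ
      have hsnd : (hUT.primeIdealOf ⟨pullback.snd f₁ (Spec.map (ψ p)) x'', trivial⟩).asIdeal =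
          IsLocalRing.maximalIdeal Γ(Spec (CommRingCat.of (Tq p)), ⊤) :=
        (primeIdealOf_top_eq_maximalIdeal_iff (R := CommRingCat.of (Tq p)) _).2 h2
      exact flat_tensor_localized_of_exists_isFlatOverAt' f₁ (Spec.map (ψ p)) F₁ hUX hUS hUT hUSX
        hUST (Rbar := Γ(Spec O, ⊤) ⧸ K) hnil Ideal.Quotient.mk_surjective x₁ hxUX rfl rfl hprimE
        x'' h1 trivial hsnd H

end Groth.Agent.Lib.Helper7.FlatChart
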