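import Groth.Agent.Lib.Helper7.FlatKer
import Mathlib.RingTheory.Ideal.Maps
import Mathlib.RingTheory.Finiteness.Ideal

/-!
# Annihilators of finitely generated ideals commute with flat base change
-/

set_option autoImplicit false
set_option linter.unusedVariables false

namespace Groth.Agent.Lib.Helper7.FlatAnn

variable {R : Type*} [CommRing R] {S : Type*} [CommRing S] [Algebra R S] [Module.Flat R S]

/-- For a flat ring map `R → S` and a finitely generated ideal `I` of `R`,
`Ann_S (I S) = (Ann_R I) S`. -/
theorem annihilator_map (I : Ideal R) (hI : I.FG) :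
    Submodule.annihilator (I.map (algebraMap R S)) =
      (Submodule.annihilator I).map (algebraMap R S) := by
  classical
  obtain ⟨s, hs⟩ := hI
  let G : R →ₗ[R] (s → R) := LinearMap.pi (fun g => LinearMap.mulRight R (g : R))
  let G' : S →ₗ[S] (s → S) :=
    LinearMap.pi (fun g => LinearMap.mulRight S (algebraMap R S (g : R)))
  have hbc : IsBaseChange S (Algebra.linearMap R S) := IsBaseChange.linearMap R S
  have hbcQ := hbc.finitePow s
  have comm : ((Algebra.linearMap R S).compLeft s).comp G =
      (G'.restrictScalars R).comp (Algebra.linearMap R S) := by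
    ext g
    simp [G, G']
  have hker := FlatKer.ker_eq_span hbc hbcQ G G' comm
  have hG : ∀ x, x ∈ LinearMap.ker G ↔ x ∈ Submodule.annihilator I := by
    intro x
    rw [← hs, Ideal.span, Submodule.mem_annihilator_span, LinearMap.mem_ker]
    constructor
    · intro hx g
      have := congrFun hx g
      simpa [G] using this
    · intro hx
      funext g
      simpa [G] using hx g
  have hG' : ∀ y, y ∈ LinearMap.ker G' ↔
      y ∈ Submodule.annihilator (I.map (algebraMap R S)) := by
    intro y
    rw [← hs, Ideal.map_span, Ideal.span, Submodule.mem_annihilator_span, LinearMap.mem_ker]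
    constructor
    · rintro hy ⟨_, g, hg, rfl⟩
      have := congrFun hy ⟨g, hg⟩
      simpa [G'] using this
    · intro hy
      funext g
      have := hy ⟨algebraMap R S g, g, g.2, rfl⟩
      simpa [G'] using this
  apply le_antisymm
  · intro y hy
    rw [← hG', hker] at hy
    refine Submodule.span_induction (p := fun y _ => y ∈
      Ideal.map (algebraMap R S) (Submodule.annihilator I)) ?_ ?_ ?_ ?_ hy
    · rintro _ ⟨x, hx, rfl⟩
      exact Ideal.mem_map_of_mem _ ((hG x).1 hx)
    · simp
    · intro x y _ _ hx hy
      exact Ideal.add_mem _ hx hy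
    · intro a x _ hx
      exact Ideal.mul_mem_left _ _ hx
  · rw [Ideal.map_le_iff_le_comap]
    intro x hx
    rw [Ideal.mem_comap, ← hG', hker]
    exact Submodule.subset_span ⟨x, (hG x).2 hx, rfl⟩

end Groth.Agent.Lib.Helper7.FlatAnn
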