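import Mathlib
import Groth.Agent.Lib.Helper7.FlatTestLocal3

/-!
# Flatness tested after a finite (integral) base change, at the points over closed points (helper7)

* `flat_localized_tensor_of_flat_localized`: comparison of localizations (extracted from the chart form
  of the Artinian test).
* `flat_tensor_localized_of_isIntegral`: `R → T` integral, `q` a prime of `S` over a maximal ideal
  of `R`: if `M' = M ⊗ T` is `T`-flat at the primes of `S' = S ⊗ T` over `q` and over a maximal
  ideal of `T`, then `T ⊗ M_q` is `T`-flat.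
-/

set_option autoImplicit false
universe u
open TensorProduct

namespace Groth.Agent.Lib.Helper7.FlatTestLocal

section Push

attribute [local instance] Algebra.TensorProduct.rightAlgebra

variable {S T S' : Type u} [CommRing S] [CommRing T] [CommRing S']
  [Algebra S S'] [Algebra T S']
  {M M' : Type u} [AddCommGroup M] [Module S M]
  [AddCommGroup M'] [Module S' M'] [Module T M'] [IsScalarTower T S' M'] [Module S M']
  [IsScalarTower S S' M']

theorem flat_localized_tensor_of_flat_localized
    (f : M →ₗ[S] M') (hf : IsBaseChange S' f) (q : Ideal S) [q.IsPrime]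
    (P : Ideal (S' ⊗[S] Localization.AtPrime q)) [P.IsPrime]
    (hq'1 : (P.comap (algebraMap S' (S' ⊗[S] Localization.AtPrime q))).comap (algebraMap S S') = q)
    (hflat : Module.Flat T (LocalizedModule
      (P.comap (algebraMap S' (S' ⊗[S] Localization.AtPrime q))).primeCompl M')) :
    Module.Flat T (LocalizedModule P.primeCompl
      ((S' ⊗[S] Localization.AtPrime q) ⊗[Localization.AtPrime q]
        LocalizedModule q.primeCompl M)) := by
  classical
  set B := Localization.AtPrime q with hB
  set N := LocalizedModule q.primeCompl M with hN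
  set mkq := LocalizedModule.mkLinearMap q.primeCompl M with hmkq
  set B' := S' ⊗[S] B with hB'
  set N' := B' ⊗[B] N with hN'
  set q' := P.comap (algebraMap S' B') with hq'
  haveI : q'.IsPrime := Ideal.comap_isPrime _ _
  -- the comparison map `M' → N'`
  let g₀ : M →ₗ[S] N' := ((TensorProduct.mk B B' N 1).restrictScalars S) ∘ₗ mkq
  have hg₀ : IsBaseChange B' g₀ :=
    IsBaseChange.comp (IsLocalizedModule.isBaseChange q.primeCompl B mkq)
      (TensorProduct.isBaseChange B N B')
  let θ₀ : M' →ₗ[S'] N' := hf.lift g₀
  have hθ₀comp : (θ₀.restrictScalars S) ∘ₗ f = g₀ := hf.lift_comp g₀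
  have hθ₀ : IsBaseChange B' θ₀ := by
    refine IsBaseChange.of_comp hf ?_
    rw [show ((θ₀ : M' →ₗ[S] N') ∘ₗ f) = g₀ from hθ₀comp]
    exact hg₀
  set Sg := Algebra.algebraMapSubmonoid S' q.primeCompl with hSg
  haveI : IsLocalization Sg B' := inferInstance
  haveI hloc₀ : IsLocalizedModule Sg θ₀ := (isLocalizedModule_iff_isBaseChange Sg B' θ₀).mpr hθ₀
  have hSgle : Sg ≤ q'.primeCompl := by
    rintro _ ⟨s, hs, rfl⟩ hmem
    apply hs
    rw [← hq'1]
    exact hmem
  have hle : Algebra.algebraMapSubmonoid B' q'.primeCompl ≤ P.primeCompl := by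
    rintro _ ⟨s', hs', rfl⟩ hmem
    exact hs' hmem
  have hex : ∀ x : P.primeCompl, ∃ m : B', m * x ∈ Algebra.algebraMapSubmonoid B' q'.primeCompl := by
    rintro ⟨x, hx⟩
    obtain ⟨⟨s', σ⟩, rfl⟩ := IsLocalization.mk'_surjective Sg x
    refine ⟨algebraMap S' B' σ, s', ?_, ?_⟩
    · intro hs'
      have h1 : algebraMap S' B' s' ∈ P := hs'
      rw [← IsLocalization.mk'_spec' B' s' σ] at h1
      rcases Ideal.IsPrime.mem_or_mem inferInstance h1 with h2 | h2
      · exact (Ideal.IsPrime.ne_top inferInstance)
          (Ideal.eq_top_of_isUnit_mem P h2 (IsLocalization.map_units B' σ))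
      · exact hx h2
    · exact (IsLocalization.mk'_spec' B' s' σ).symm
  haveI h1 : IsLocalizedModule (Algebra.algebraMapSubmonoid B' q'.primeCompl)
      (LocalizedModule.mkLinearMap P.primeCompl N') :=
    isLocalizedModule_of_le_of_exists_mul_mem _ P.primeCompl hle hex
      (LocalizedModule.mkLinearMap P.primeCompl N')
  haveI h2 : IsLocalizedModule q'.primeCompl
      ((LocalizedModule.mkLinearMap P.primeCompl N').restrictScalars S') :=
    IsLocalizedModule.restrictScalars q'.primeCompl (LocalizedModule.mkLinearMap P.primeCompl N')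
  haveI h3 : IsLocalizedModule q'.primeCompl
      (((LocalizedModule.mkLinearMap P.primeCompl N').restrictScalars S') ∘ₗ θ₀) :=
    isLocalizedModule_comp Sg q'.primeCompl hSgle θ₀ _
  let e := IsLocalizedModule.iso q'.primeCompl
    (((LocalizedModule.mkLinearMap P.primeCompl N').restrictScalars S') ∘ₗ θ₀)
  exact Module.Flat.of_linearEquiv (e.restrictScalars T).symm

end Push

section Fin

attribute [local instance] Algebra.TensorProduct.rightAlgebra

variable {R₀ S T S' : Type u} [CommRing R₀] [CommRing S] [CommRing T] [CommRing S']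
  [Algebra R₀ S] [Algebra R₀ T] [Algebra S S'] [Algebra T S'] [Algebra R₀ S']
  [IsScalarTower R₀ S S'] [IsScalarTower R₀ T S'] [Algebra.IsPushout R₀ S T S']
  {M M' : Type u} [AddCommGroup M] [Module S M] [Module R₀ M] [IsScalarTower R₀ S M]
  [AddCommGroup M'] [Module S' M'] [Module T M'] [IsScalarTower T S' M'] [Module S M']
  [IsScalarTower S S' M']

set_option maxHeartbeats 800000 in
/-- **Integral test**: `R₀ → T` integral, `q` a prime of `S` over a maximal ideal of `R₀`. -/
theorem flat_tensor_localized_of_isIntegral [Algebra.IsIntegral R₀ T]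
    (f : M →ₗ[S] M') (hf : IsBaseChange S' f) (q : Ideal S) [q.IsPrime]
    (hqR : (q.comap (algebraMap R₀ S)).IsMaximal)
    (H : ∀ (q' : Ideal S') [q'.IsPrime], q'.comap (algebraMap S S') = q →
      (q'.comap (algebraMap T S')).IsMaximal →
      Module.Flat T (LocalizedModule q'.primeCompl M')) :
    Module.Flat T (T ⊗[R₀] LocalizedModule q.primeCompl M) := by
  classical
  set B := Localization.AtPrime q with hB
  set N := LocalizedModule q.primeCompl M with hN
  haveI : IsScalarTower R₀ B N := by
    refine IsScalarTower.of_algebraMap_smul fun r n => ?_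
    rw [IsScalarTower.algebraMap_apply R₀ S B, algebraMap_smul, algebraMap_smul]
  set B' := S' ⊗[S] B with hB'
  haveI towR₀BB' : IsScalarTower R₀ B B' := by
    refine IsScalarTower.of_algebraMap_eq fun r => ?_
    rw [IsScalarTower.algebraMap_apply R₀ S B, ← IsScalarTower.algebraMap_apply S B B',
      IsScalarTower.algebraMap_apply R₀ S' B', IsScalarTower.algebraMap_apply R₀ S S',
      ← IsScalarTower.algebraMap_apply S S' B']
  haveI hpo : Algebra.IsPushout R₀ B T B' := by
    rw [Algebra.IsPushout.comp_iff R₀ S T (S' := S')]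
    infer_instance
  set N' := B' ⊗[B] N with hN'
  refine (flat_tensor_iff_flat_tensor (A := R₀) (A' := T) (B := B) (B' := B') (N := N)).2 ?_
  haveI hint : Algebra.IsIntegral B B' := Algebra.IsPushout.isIntegral' (R := R₀) (S := T) (A := B) (SA := B')
  refine Module.flat_of_isLocalized_maximal B' N' (fun P _ => LocalizedModule P.primeCompl N')
    (fun P _ => LocalizedModule.mkLinearMap P.primeCompl N') ?_
  intro P hP
  haveI : P.IsPrime := hP.isPrime
  have hP1 : P.comap (algebraMap B B') = IsLocalRing.maximalIdeal B := by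
    haveI : (P.comap (algebraMap B B')).IsMaximal :=
      Ideal.isMaximal_comap_of_isIntegral_of_isMaximal P
    exact IsLocalRing.eq_maximalIdeal inferInstance
  set q' := P.comap (algebraMap S' B') with hq'
  haveI : q'.IsPrime := Ideal.comap_isPrime _ _
  have hq'1 : q'.comap (algebraMap S S') = q := by
    rw [hq', Ideal.comap_comap, ← IsScalarTower.algebraMap_eq S S' B',
      IsScalarTower.algebraMap_eq S B B', ← Ideal.comap_comap, hP1]
    exact IsLocalization.AtPrime.under_maximalIdeal B q
  have hq'2 : (q'.comap (algebraMap T S')).IsMaximal := by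
    haveI : (q'.comap (algebraMap T S')).IsPrime := Ideal.comap_isPrime _ _
    refine Ideal.isMaximal_of_isIntegral_of_isMaximal_comap (R := R₀) _ ?_
    have h1 : (q'.comap (algebraMap T S')).comap (algebraMap R₀ T) =
        q.comap (algebraMap R₀ S) := by
      rw [Ideal.comap_comap, ← IsScalarTower.algebraMap_eq R₀ T S',
        IsScalarTower.algebraMap_eq R₀ S S', ← Ideal.comap_comap, hq'1]
    rw [h1]
    exact hqR
  exact flat_localized_tensor_of_flat_localized f hf q P hq'1 (H q' hq'1 hq'2)

end Fin

end Groth.Agent.Lib.Helper7.FlatTestLocal
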