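import Groth.Agent.Lib.Helper7.FlatChartTest3
import Groth.Agent.Lib.Helper7.FlatChartLocal
import Groth.Agent.Lib.Helper23.FinInjFlat3
import Groth.Agent.Lib.Helper28.FinType
import Mathlib

/-!
# Flatness over a Noetherian local base tested after a finite injective base change (helper7)
-/

set_option backward.isDefEq.respectTransparency.types false
set_option autoImplicit false
set_option linter.unusedVariables false
set_option linter.style.haveILetI false
set_option maxHeartbeats 1600000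
universe u
open AlgebraicGeometry CategoryTheory Limits TensorProduct TopologicalSpace

namespace Groth.Agent.Lib.Helper7.FlatChart

open Groth.Agent.Lib.Helper7.FlatTestLocal Groth.Agent.Lib.Helper7.AffPts
  Groth.Agent.Lib.lead.StalkDimIneq

theorem isClosed_singleton_of_isMaximal_primeIdealOf_top {X : Scheme.{u}}
    (hU : IsAffineOpen (⊤ : X.Opens)) (z : X)
    (h : (hU.primeIdealOf ⟨z, trivial⟩).asIdeal.IsMaximal) : IsClosed ({z} : Set X) := by
  rw [← closure_eq_iff_isClosed]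
  refine Set.Subset.antisymm ?_ subset_closure
  intro y hy
  have hsp : z ⤳ y := specializes_iff_mem_closure.2 hy
  have hle := (primeIdealOf_le_iff hU ⟨z, trivial⟩ ⟨y, trivial⟩).2 hsp
  have hle' : (hU.primeIdealOf ⟨z, trivial⟩).asIdeal ≤ (hU.primeIdealOf ⟨y, trivial⟩).asIdeal := hle
  have heq : hU.primeIdealOf ⟨z, trivial⟩ = hU.primeIdealOf ⟨y, trivial⟩ :=
    PrimeSpectrum.ext (h.eq_of_le (Ideal.IsPrime.ne_top inferInstance) hle')
  have := congrArg Subtype.val (primeIdealOf_injective hU heq)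
  exact this.symm

theorem isFlatOverAt_of_finite_injective_local {O : CommRingCat.{u}} [IsLocalRing O]
    [IsNoetherianRing O]
    {X₁ : Scheme.{u}} (f₁ : X₁ ⟶ Spec O) [LocallyOfFiniteType f₁] (F₁ : X₁.Modules)
    (hF₁ : Coh.IsCoh F₁) (x₁ : X₁) (hx₁ : f₁ x₁ = IsLocalRing.closedPoint O)
    (A' : CommRingCat.{u}) (φ : O ⟶ A') (hfin : φ.hom.Finite) (hinj : Function.Injective φ.hom)
    (H : ∀ x' : ↥(pullback f₁ (Spec.map φ)), pullback.fst f₁ (Spec.map φ) x' = x₁ →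
      IsClosed ({pullback.snd f₁ (Spec.map φ) x'} : Set ↥(Spec A')) →
      FlatMod.IsFlatOverAt (pullback.snd f₁ (Spec.map φ))
        ((Scheme.Modules.pullback (pullback.fst f₁ (Spec.map φ))).obj F₁) x') :
    FlatMod.IsFlatOverAt f₁ F₁ x₁ := by
  classical
  haveI : F₁.IsQuasicoherent := hF₁.1
  haveI : SheafOfModules.IsFiniteType.{u} (R := X₁.ringCatSheaf) F₁ := hF₁.2
  obtain ⟨UX, hUX', hxUX, -⟩ := (Opens.isBasis_iff_nbhd.1 X₁.isBasis_affineOpens)
    (show x₁ ∈ (⊤ : X₁.Opens) from trivial)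
  have hUX : IsAffineOpen UX := hUX'
  have hUS : IsAffineOpen (⊤ : (Spec O).Opens) := isAffineOpen_top _
  have hUT : IsAffineOpen (⊤ : (Spec A').Opens) := isAffineOpen_top _
  have hUSX : UX ≤ f₁ ⁻¹ᵁ ⊤ := fun _ _ => trivial
  have hUST : (⊤ : (Spec A').Opens) ≤ (Spec.map φ) ⁻¹ᵁ ⊤ := le_top
  let eO : Γ(Spec O, ⊤) ≃+* O := (Scheme.ΓSpecIso O).commRingCatIsoToRingEquiv
  let eT : Γ(Spec A', ⊤) ≃+* A' := (Scheme.ΓSpecIso A').commRingCatIsoToRingEquiv
  haveI : IsLocalRing Γ(Spec O, ⊤) := eO.symm.isLocalRing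
  haveI : IsNoetherianRing Γ(Spec O, ⊤) := isNoetherianRing_of_ringEquiv O eO.symm
  letI algRA : Algebra Γ(Spec O, ⊤) Γ(X₁, UX) := (f₁.appLE ⊤ UX hUSX).hom.toAlgebra
  letI algRT : Algebra Γ(Spec O, ⊤) Γ(Spec A', ⊤) :=
    ((Spec.map φ).appLE ⊤ ⊤ le_top).hom.toAlgebra
  letI mR : Module Γ(Spec O, ⊤) Γ(F₁, UX) :=
    Module.compHom _ (algebraMap Γ(Spec O, ⊤) Γ(X₁, UX))
  haveI : IsScalarTower Γ(Spec O, ⊤) Γ(X₁, UX) Γ(F₁, UX) := IsScalarTower.of_compHom _ _ _
  rw [isFlatOverAt_iff_flat_localizedModule f₁ F₁ hUX hUS hUSX x₁ hxUX rfl]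
  set q := (hUX.primeIdealOf ⟨x₁, hxUX⟩).asIdeal with hq
  have hqR : q.comap (algebraMap Γ(Spec O, ⊤) Γ(X₁, UX)) =
      IsLocalRing.maximalIdeal Γ(Spec O, ⊤) := by
    have h1 := primeIdealOf_map f₁ hUX hUS hUSX ⟨x₁, hxUX⟩
    have h2 := (primeIdealOf_top_eq_maximalIdeal_iff (f₁ x₁)).2 hx₁
    exact h1.symm.trans h2
  have hmapT : ∀ a : Γ(Spec O, ⊤), eT (algebraMap Γ(Spec O, ⊤) Γ(Spec A', ⊤) a) = φ.hom (eO a) :=
    fun a => ΓSpecIso_appLE_top φ a
  have hinjRT : Function.Injective (algebraMap Γ(Spec O, ⊤) Γ(Spec A', ⊤)) := by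
    intro a b hab
    have h1 := congrArg eT hab
    rw [hmapT, hmapT] at h1
    exact eO.injective (hinj h1)
  have hfinRT : (algebraMap Γ(Spec O, ⊤) Γ(Spec A', ⊤)).Finite := by
    have h1 : algebraMap Γ(Spec O, ⊤) Γ(Spec A', ⊤) =
        (eT.symm.toRingHom).comp (φ.hom.comp eO.toRingHom) := by
      ext a
      apply eT.injective
      rw [hmapT]
      simp
    rw [h1]
    exact (RingHom.Finite.of_surjective _ eT.symm.surjective).comp
      (hfin.comp (RingHom.Finite.of_surjective _ eO.surjective))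
  haveI : Module.Finite Γ(Spec O, ⊤) Γ(Spec A', ⊤) := hfinRT
  haveI : Algebra.IsIntegral Γ(Spec O, ⊤) Γ(Spec A', ⊤) := Algebra.IsIntegral.of_finite _ _
  haveI hfl : Module.Flat Γ(Spec A', ⊤)
      (Γ(Spec A', ⊤) ⊗[Γ(Spec O, ⊤)] LocalizedModule q.primeCompl Γ(F₁, UX)) := by
    refine flat_tensor_localized_of_forall_isFlatOverAt_of_isIntegral f₁ (Spec.map φ) F₁ hUX hUS hUT
      hUSX hUST x₁ hxUX rfl rfl ?_ ?_
    · rw [hqR]
      exact IsLocalRing.maximalIdeal.isMaximal _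
    · intro x' h1 hx' h2
      exact H x' h1 (isClosed_singleton_of_isMaximal_primeIdealOf_top hUT _ h2)
  exact Helper23.FIF.flat_of_finite_injective Γ(Spec O, ⊤) Γ(Spec A', ⊤) hinjRT
    (LocalizedModule q.primeCompl Γ(F₁, UX))

end Groth.Agent.Lib.Helper7.FlatChart
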