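import Groth.Agent.Lib.Helper7.FlatFibreDepth
import Groth.Agent.Lib.Helper16.FlatKer
import Groth.Agent.S18700
import Groth.Agent.Lib.Helper21.FlatLocal6

/-!
# Four-term exact sequences and flatness of the cokernel (Kollár-type criterion)
-/

set_option autoImplicit false

universe u

open TensorProduct IsLocalRing

namespace Groth.Agent.Lib.Helper7.FlatFourTerm

open Groth.Agent.Lib.Helper21.FlatLocal Groth.Agent.Lib.Helper7.FlatFibreDepth

section Loc

variable {A B : Type u} [CommRing A] [CommRing B] [Algebra A B]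
variable {P Q R : Type u} [AddCommGroup P] [Module B P] [Module A P] [IsScalarTower A B P]
  [AddCommGroup Q] [Module B Q] [Module A Q] [IsScalarTower A B Q]
  [AddCommGroup R] [Module B R] [Module A R] [IsScalarTower A B R]
variable (L : Type u) [AddCommGroup L] [Module A L]

/-- the localization of a `B`-linear map at a prime, as a `B`-linear map -/
noncomputable abbrev locMap (q : Ideal B) [q.IsPrime] (φ : P →ₗ[B] Q) :
    LocalizedModule q.primeCompl P →ₗ[B] LocalizedModule q.primeCompl Q :=
  IsLocalizedModule.map q.primeCompl (LocalizedModule.mkLinearMap q.primeCompl P)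
    (LocalizedModule.mkLinearMap q.primeCompl Q) φ

/-- if `φ_q ⊗ L` is injective, every element of `ker (φ ⊗ L)` dies in the localization at `q` -/
theorem exists_smul_eq_zero_of_loc_injective (φ : P →ₗ[B] Q) (q : Ideal B) [q.IsPrime]
    (hinj : Function.Injective (((locMap q φ).restrictScalars A).rTensor L))
    (t : P ⊗[A] L) (ht : ((φ.restrictScalars A).rTensor L) t = 0) :
    ∃ s : q.primeCompl, s • t = 0 := by
  let GP := AlgebraTensorModule.rTensor A L (LocalizedModule.mkLinearMap q.primeCompl P)
  let GQ := AlgebraTensorModule.rTensor A L (LocalizedModule.mkLinearMap q.primeCompl Q)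
  have hcomm : ∀ z, (((locMap q φ).restrictScalars A).rTensor L) (GP z) =
      GQ (((φ.restrictScalars A).rTensor L) z) := by
    intro z
    induction z using TensorProduct.induction_on with
    | zero => simp
    | tmul a b =>
      change ((locMap q φ) (LocalizedModule.mkLinearMap q.primeCompl P a)) ⊗ₜ[A] b =
        (LocalizedModule.mkLinearMap q.primeCompl Q (φ a)) ⊗ₜ[A] b
      rw [IsLocalizedModule.map_apply]
    | add a b ha hb => rw [map_add, map_add, map_add, map_add, ha, hb]
  have h1 : GP t = 0 := by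
    apply hinj
    rw [hcomm, ht, map_zero, map_zero]
  exact (IsLocalizedModule.eq_zero_iff q.primeCompl GP).1 h1

/-- for a short exact sequence `0 → P → Q → R → 0` with `R_q` flat over `A`, elements of
`ker (P ⊗ L → Q ⊗ L)` die in the localization at `q` -/
theorem exists_smul_eq_zero_of_exact (φ : P →ₗ[B] Q) (ψ : Q →ₗ[B] R)
    (hφ : Function.Injective φ) (hψ : Function.Surjective ψ) (hex : Function.Exact φ ψ)
    (q : Ideal B) [q.IsPrime] (hR : Module.Flat A (LocalizedModule q.primeCompl R))
    (t : P ⊗[A] L) (ht : ((φ.restrictScalars A).rTensor L) t = 0) :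
    ∃ s : q.primeCompl, s • t = 0 := by
  refine exists_smul_eq_zero_of_loc_injective L φ q ?_ t ht
  have h1 : Function.Injective (locMap q φ) := IsLocalizedModule.map_injective _ _ _ _ hφ
  have h2 : Function.Surjective (locMap q ψ) := IsLocalizedModule.map_surjective _ _ _ _ hψ
  have h3 : Function.Exact (locMap q φ) (locMap q ψ) :=
    IsLocalizedModule.map_exact q.primeCompl _ _ _ φ ψ hex
  rw [← LinearMap.lTensor_inj_iff_rTensor_inj]
  exact LinearMap.lTensor_injective_of_exact_of_flat ((locMap q ψ).restrictScalars A) h2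
    ((locMap q φ).restrictScalars A) h1 h3 L

/-- the kernel of `Q → R` localized at `q` is flat when `Q` and `R_q` are -/
theorem flat_loc_of_exact (φ : P →ₗ[B] Q) (ψ : Q →ₗ[B] R)
    (hφ : Function.Injective φ) (hψ : Function.Surjective ψ) (hex : Function.Exact φ ψ)
    (q : Ideal B) [q.IsPrime] [Module.Flat A Q]
    (hR : Module.Flat A (LocalizedModule q.primeCompl R)) :
    Module.Flat A (LocalizedModule q.primeCompl P) := by
  have h1 : Function.Injective (locMap q φ) := IsLocalizedModule.map_injective _ _ _ _ hφ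
  have h2 : Function.Surjective (locMap q ψ) := IsLocalizedModule.map_surjective _ _ _ _ hψ
  have h3 : Function.Exact (locMap q φ) (locMap q ψ) :=
    IsLocalizedModule.map_exact q.primeCompl _ _ _ φ ψ hex
  haveI : Module.Flat A (LocalizedModule q.primeCompl Q) :=
    flat_of_isLocalizedModule q.primeCompl (LocalizedModule.mkLinearMap q.primeCompl Q)
  exact Groth.Agent.Lib.Helper16.FlatKer.flat_of_exact ((locMap q φ).restrictScalars A)
    ((locMap q ψ).restrictScalars A) h1 h2 h3

/-- torsion along `J` plus a regular element of `J` forces vanishing -/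
theorem eq_zero_of_torsion_of_regular (J : Ideal B) (x : B) (hxJ : x ∈ J)
    (hreg : Function.Injective ((mulR (R := A) (N := P) x).rTensor L)) (t : P ⊗[A] L)
    (htors : ∀ q : PrimeSpectrum B, ¬ J ≤ q.asIdeal → ∃ s : q.asIdeal.primeCompl, s • t = 0) :
    t = 0 := by
  let I : Ideal B := LinearMap.ker (LinearMap.toSpanSingleton B (P ⊗[A] L) t)
  have hI : ∀ b : B, b ∈ I ↔ b • t = 0 := fun b => by
    rw [LinearMap.mem_ker, LinearMap.toSpanSingleton_apply]
  have hrad : x ∈ I.radical := by
    rw [Ideal.radical_eq_sInf, Submodule.mem_sInf]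
    rintro q ⟨hIq, hqp⟩
    by_contra hxq
    have hJq : ¬ J ≤ q := fun h => hxq (h hxJ)
    obtain ⟨s, hs⟩ := htors ⟨q, hqp⟩ hJq
    have hsI : (s : B) ∈ I := (hI _).2 hs
    exact s.2 (hIq hsI)
  obtain ⟨n, hn⟩ := hrad
  have hpow : ∀ n : ℕ, x ^ n • t = 0 → t = 0 := by
    intro n
    induction n with
    | zero => intro h; rwa [pow_zero, one_smul] at h
    | succ n ih =>
      intro h
      apply ih
      apply hreg
      rw [map_zero, rTensor_mulR L x, ← mul_smul, ← pow_succ']
      exact h
  exact hpow n ((hI _).1 hn)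

end Loc

section Tor

variable {A : Type u} [CommRing A] [IsLocalRing A]
variable {K E G : Type u} [AddCommGroup K] [Module A K] [AddCommGroup E] [Module A E]
  [AddCommGroup G] [Module A G] [Module.Flat A E]

/-- **Tor-vanishing for a cokernel**: if `K → E → G → 0` is exact with `E` flat and `K ⊗ k → E ⊗ k`
injective, then `m ⊗ G → G` is injective. -/
theorem lTensor_subtype_injective_of_exact' (ι : K →ₗ[A] E) (π : E →ₗ[A] G)
    (hex : Function.Exact ι π) (hπ : Function.Surjective π)
    (h : Function.Injective (ι.rTensor (A ⧸ maximalIdeal A))) :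
    Function.Injective ((maximalIdeal A).subtype.lTensor G) := by
  set m := maximalIdeal A with hm
  rw [injective_iff_map_eq_zero]
  intro a ha
  obtain ⟨b, rfl⟩ := LinearMap.rTensor_surjective (m : Type u) hπ a
  have h1 : (π.rTensor A) ((m.subtype.lTensor E) b) = 0 := by
    rw [← LinearMap.comp_apply, LinearMap.rTensor_comp_lTensor, ← LinearMap.lTensor_comp_rTensor,
      LinearMap.comp_apply, ha]
  have hexR : Function.Exact (ι.rTensor A) (π.rTensor A) := rTensor_exact A hex hπ
  obtain ⟨c', hc'⟩ := (hexR _).1 h1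
  have hexkK : Function.Exact (m.subtype.lTensor K) (m.mkQ.lTensor K) :=
    lTensor_exact K (LinearMap.exact_subtype_mkQ m) (Submodule.mkQ_surjective m)
  have hexkE : Function.Exact (m.subtype.lTensor E) (m.mkQ.lTensor E) :=
    lTensor_exact E (LinearMap.exact_subtype_mkQ m) (Submodule.mkQ_surjective m)
  have h2 : (ι.rTensor (A ⧸ m)) ((m.mkQ.lTensor K) c') = 0 := by
    rw [← LinearMap.comp_apply, LinearMap.rTensor_comp_lTensor, ← LinearMap.lTensor_comp_rTensor,
      LinearMap.comp_apply, hc']
    exact hexkE.apply_apply_eq_zero b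
  have h3 : (m.mkQ.lTensor K) c' = 0 := h (by rw [h2, map_zero])
  obtain ⟨d, hd⟩ := (hexkK c').1 h3
  have hι : Function.Injective (m.subtype.lTensor E) :=
    Module.Flat.lTensor_preserves_injective_linearMap _ m.subtype_injective
  have h4 : b = (ι.rTensor m) d := by
    apply hι
    rw [← LinearMap.comp_apply (m.subtype.lTensor E) (ι.rTensor m), LinearMap.lTensor_comp_rTensor,
      ← LinearMap.rTensor_comp_lTensor, LinearMap.comp_apply, hd, hc']
  rw [h4, ← LinearMap.comp_apply, ← LinearMap.rTensor_comp]
  have h5 : π ∘ₗ ι = 0 := by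
    ext z
    exact hex.apply_apply_eq_zero z
  rw [h5, LinearMap.rTensor_zero, LinearMap.zero_apply]

end Tor

section Fibre

variable (A B : Type u) [CommRing A] [CommRing B] [IsLocalRing A] [Algebra A B]
variable {P Q R : Type u} [AddCommGroup P] [Module B P] [Module A P] [IsScalarTower A B P]
  [AddCommGroup Q] [Module B Q] [Module A Q] [IsScalarTower A B Q]
  [AddCommGroup R] [Module B R] [Module A R] [IsScalarTower A B R]

/-- the map induced on closed fibres -/
noncomputable abbrev fibMap (φ : P →ₗ[B] Q) : EGA4.FibMod A B P →ₗ[B] EGA4.FibMod A B Q :=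
  Submodule.mapQ _ _ φ (Submodule.smul_top_le_comap_smul_top (EGA4.mB A B) φ)

/-- right exactness of the closed fibre -/
theorem exact_fibMap (φ : P →ₗ[B] Q) (ψ : Q →ₗ[B] R) (hψ : Function.Surjective ψ)
    (hex : Function.Exact φ ψ) : Function.Exact (fibMap A B φ) (fibMap A B ψ) := by
  intro z
  obtain ⟨y, rfl⟩ := Submodule.Quotient.mk_surjective _ z
  constructor
  · intro h
    rw [Submodule.mapQ_apply, Submodule.Quotient.mk_eq_zero] at h
    have hmap : (EGA4.mB A B • ⊤ : Submodule B R) =
        (EGA4.mB A B • ⊤ : Submodule B Q).map ψ := by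
      rw [Submodule.map_smul'', Submodule.map_top, LinearMap.range_eq_top.2 hψ]
    rw [hmap, Submodule.mem_map] at h
    obtain ⟨y', hy', hyy'⟩ := h
    have h0 : ψ (y - y') = 0 := by rw [map_sub, hyy', sub_self]
    obtain ⟨p, hp⟩ := (hex _).1 h0
    refine ⟨Submodule.Quotient.mk p, ?_⟩
    rw [Submodule.mapQ_apply, hp, Submodule.Quotient.mk_sub, sub_eq_self,
      Submodule.Quotient.mk_eq_zero]
    exact hy'
  · rintro ⟨w, hw⟩
    obtain ⟨p, rfl⟩ := Submodule.Quotient.mk_surjective _ w
    rw [← hw, Submodule.mapQ_apply, Submodule.mapQ_apply, hex.apply_apply_eq_zero,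
      Submodule.Quotient.mk_zero]

theorem fibMap_surjective (ψ : Q →ₗ[B] R) (hψ : Function.Surjective ψ) :
    Function.Surjective (fibMap A B ψ) := by
  intro z
  obtain ⟨y, rfl⟩ := Submodule.Quotient.mk_surjective _ z
  obtain ⟨x, rfl⟩ := hψ y
  exact ⟨Submodule.Quotient.mk x, rfl⟩

/-- injectivity after `⊗ k` gives injectivity on closed fibres -/
theorem fibMap_injective_of_rTensor_injective (φ : P →ₗ[B] Q)
    (h : Function.Injective ((φ.restrictScalars A).rTensor (A ⧸ maximalIdeal A))) :
    Function.Injective (fibMap A B φ) := by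
  set m := maximalIdeal A with hm
  rw [injective_iff_map_eq_zero]
  intro z hz
  obtain ⟨p, rfl⟩ := Submodule.Quotient.mk_surjective _ z
  rw [Submodule.mapQ_apply, Submodule.Quotient.mk_eq_zero, mem_map_smul_top_iff] at hz
  rw [Submodule.Quotient.mk_eq_zero, mem_map_smul_top_iff]
  have h1 : ((φ.restrictScalars A).rTensor (A ⧸ m)) (p ⊗ₜ 1) = 0 := by
    rw [LinearMap.rTensor_tmul, LinearMap.restrictScalars_apply]
    have h0 : (Submodule.Quotient.mk (φ p) : Q ⧸ (m • (⊤ : Submodule A Q))) = 0 :=
      (Submodule.Quotient.mk_eq_zero _).2 hz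
    rw [← TensorProduct.tensorQuotEquivQuotSMul_symm_mk, h0, map_zero]
  have h2 : p ⊗ₜ[A] (1 : A ⧸ m) = 0 := h (by rw [h1, map_zero])
  have h3 := congrArg (TensorProduct.tensorQuotEquivQuotSMul P m) h2
  rw [← map_one (Ideal.Quotient.mk m), TensorProduct.tensorQuotEquivQuotSMul_tmul_mk,
    map_zero, one_smul, Submodule.Quotient.mk_eq_zero] at h3
  exact h3

end Fibre

section Main

variable (A B : Type u) [CommRing A] [CommRing B]
  [IsNoetherianRing A] [IsNoetherianRing B] [IsLocalRing A] [IsLocalRing B] [Algebra A B]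
  [IsLocalHom (algebraMap A B)] (J : Ideal B)
variable {F E0 E1 G : Type u}
  [AddCommGroup F] [Module B F] [Module A F] [IsScalarTower A B F] [Module.Finite B F]
  [AddCommGroup E0] [Module B E0] [Module A E0] [IsScalarTower A B E0] [Module.Finite B E0]
  [Module.Flat A E0]
  [AddCommGroup E1] [Module B E1] [Module A E1] [IsScalarTower A B E1] [Module.Finite B E1]
  [Module.Flat A E1]
  [AddCommGroup G] [Module B G] [Module A G] [IsScalarTower A B G] [Module.Finite B G]
variable (f : F →ₗ[B] E0) (u : E0 →ₗ[B] E1) (v : E1 →ₗ[B] G)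
  (hf : Function.Injective f) (hfu : Function.Exact f u) (huv : Function.Exact u v)
  (hv : Function.Surjective v)

/-- `u` corestricted to `ker v` -/
noncomputable abbrev uK {B : Type u} [CommRing B] {E0 E1 G : Type u}
    [AddCommGroup E0] [Module B E0] [AddCommGroup E1] [Module B E1] [AddCommGroup G] [Module B G]
    (u : E0 →ₗ[B] E1) (v : E1 →ₗ[B] G) (huv : Function.Exact u v) :
    E0 →ₗ[B] LinearMap.ker v :=
  u.codRestrict (LinearMap.ker v) (fun e => LinearMap.mem_ker.2 (huv.apply_apply_eq_zero e))

theorem uK_surjective {B : Type u} [CommRing B] {E0 E1 G : Type u}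
    [AddCommGroup E0] [Module B E0] [AddCommGroup E1] [Module B E1] [AddCommGroup G] [Module B G]
    (u : E0 →ₗ[B] E1) (v : E1 →ₗ[B] G) (huv : Function.Exact u v) :
    Function.Surjective (uK u v huv) := by
  intro k
  obtain ⟨e, he⟩ := (huv k.1).1 k.2
  exact ⟨e, Subtype.ext he⟩

theorem exact_f_uK {B : Type u} [CommRing B] {F E0 E1 G : Type u}
    [AddCommGroup F] [Module B F]
    [AddCommGroup E0] [Module B E0] [AddCommGroup E1] [Module B E1] [AddCommGroup G] [Module B G]
    (f : F →ₗ[B] E0) (u : E0 →ₗ[B] E1) (v : E1 →ₗ[B] G) (hfu : Function.Exact f u)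
    (huv : Function.Exact u v) :
    Function.Exact f (uK u v huv) := by
  intro e
  constructor
  · intro h
    exact (hfu e).1 (congrArg Subtype.val h)
  · rintro ⟨w, rfl⟩
    exact Subtype.ext (hfu.apply_apply_eq_zero w)

include hv in
omit [IsNoetherianRing A] [IsNoetherianRing B] [IsLocalRing A] [IsLocalRing B]
  [IsLocalHom (algebraMap A B)] [Module.Finite B E1] [Module.Finite B G] in
theorem flat_ker_of_flat [Module.Flat A G] : Module.Flat A (LinearMap.ker v) :=
  Groth.Agent.Lib.Helper16.FlatKer.flat_of_exact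
    ((LinearMap.ker v).subtype.restrictScalars A) (v.restrictScalars A)
    (Submodule.subtype_injective _) hv (LinearMap.exact_subtype_ker_map v)

include hf hfu huv hv in
omit [IsNoetherianRing A] [IsNoetherianRing B] [IsLocalRing A] [IsLocalRing B]
  [IsLocalHom (algebraMap A B)] [Module.Finite B F] [Module.Finite B E0] [Module.Finite B E1]
  [Module.Finite B G] in
/-- **(c)**: if `G` is flat so is `F` -/
theorem flat_F_of_flat [Module.Flat A G] : Module.Flat A F := by
  haveI := flat_ker_of_flat A B v hv
  exact Groth.Agent.Lib.Helper16.FlatKer.flat_of_exact (f.restrictScalars A)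
    ((uK u v huv).restrictScalars A) hf (uK_surjective u v huv) (exact_f_uK f u v hfu huv)

include hf hfu huv hv in
/-- **(a) ⇒**: `depth_J (F/mF) ≥ 2` forces `G` flat -/
theorem flat_G_of_depth
    (hGU : ∀ q : PrimeSpectrum B, ¬ J ≤ q.asIdeal → FlatCA.FlatAt A q.asIdeal G)
    (h0 : 2 ≤ LocCoh.idealDepth J (EGA4.FibMod A B E0))
    (hF : 2 ≤ LocCoh.idealDepth J (EGA4.FibMod A B F)) : Module.Flat A G := by
  haveI : IsNoetherian B E1 := isNoetherian_of_isNoetherianRing_of_finite B E1
  haveI : Module.Finite B (LinearMap.ker v) := Module.IsNoetherian.finite B _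
  have hKq : ∀ q : PrimeSpectrum B, ¬ J ≤ q.asIdeal →
      Module.Flat A (LocalizedModule q.asIdeal.primeCompl (LinearMap.ker v)) := fun q hq =>
    flat_loc_of_exact (LinearMap.ker v).subtype v (Submodule.subtype_injective _) hv
      (LinearMap.exact_subtype_ker_map v) q.asIdeal (hGU q hq)
  -- Step 1: `F ⊗ k → E0 ⊗ k` is injective
  obtain ⟨x, hxJ, hx⟩ := exists_regular_of_one_le_idealDepth A B F J
    (le_trans (by norm_num) hF)
  have hinjF : Function.Injective ((f.restrictScalars A).rTensor (A ⧸ maximalIdeal A)) := by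
    rw [injective_iff_map_eq_zero]
    intro t ht
    exact eq_zero_of_torsion_of_regular (A ⧸ maximalIdeal A) J x hxJ
      (rTensor_mulR_injective x hx) t
      (fun q hq => exists_smul_eq_zero_of_exact (A ⧸ maximalIdeal A) f (uK u v huv) hf
        (uK_surjective u v huv) (exact_f_uK f u v hfu huv) q.asIdeal (hKq q hq) t ht)
  -- Step 2: depth of the closed fibre of `ker v`
  have hf0 : Function.Injective (fibMap A B f) :=
    fibMap_injective_of_rTensor_injective A B f hinjF
  have hex0 := exact_fibMap A B f (uK u v huv) (uK_surjective u v huv)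
    (exact_f_uK f u v hfu huv)
  have hsurj0 := fibMap_surjective A B (uK u v huv) (uK_surjective u v huv)
  have hdepth := (Groth.Agent.S0321.result B J (EGA4.FibMod A B F) (EGA4.FibMod A B E0)
    (EGA4.FibMod A B (LinearMap.ker v)) (fibMap A B f) (fibMap A B (uK u v huv))
    hf0 hsurj0 hex0).2.1
  have hK1 : 1 ≤ LocCoh.idealDepth J (EGA4.FibMod A B (LinearMap.ker v)) := by
    refine le_trans (le_min (le_trans (by norm_num) h0) ?_) hdepth
    exact ENat.le_sub_of_add_le_right ENat.one_ne_top (by rw [one_add_one_eq_two]; exact hF)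
  -- Step 3: `ker v ⊗ k → E1 ⊗ k` is injective
  obtain ⟨x', hx'J, hx'⟩ := exists_regular_of_one_le_idealDepth A B (LinearMap.ker v) J hK1
  have hinjK : Function.Injective
      (((LinearMap.ker v).subtype.restrictScalars A).rTensor (A ⧸ maximalIdeal A)) := by
    rw [injective_iff_map_eq_zero]
    intro t ht
    exact eq_zero_of_torsion_of_regular (A ⧸ maximalIdeal A) J x' hx'J
      (rTensor_mulR_injective x' hx') t
      (fun q hq => exists_smul_eq_zero_of_exact (A ⧸ maximalIdeal A) (LinearMap.ker v).subtype v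
        (Submodule.subtype_injective _) hv (LinearMap.exact_subtype_ker_map v) q.asIdeal
        (hGU q hq) t ht)
  -- Step 4: local criterion
  have ha := lTensor_subtype_injective_of_exact'
    ((LinearMap.ker v).subtype.restrictScalars A) (v.restrictScalars A)
    (LinearMap.exact_subtype_ker_map v) hv hinjK
  have hJ : (maximalIdeal A).map (algebraMap A B) ≤ Ideal.jacobson ⊥ := by
    rw [IsLocalRing.jacobson_eq_maximalIdeal ⊥ bot_ne_top]
    exact IsLocalRing.map_maximalIdeal_le (algebraMap A B)
  letI : Field (A ⧸ maximalIdeal A) := Ideal.Quotient.field _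
  exact Groth.Agent.Lib.Helper2.LocalCrit.flat_of_injective_of_flat_quotient (S := B)
    (M := G) (maximalIdeal A) hJ ha

include hf hfu huv hv in
/-- **(a) ⇐**: if `G` is flat then `depth_J (F/mF) ≥ 2` -/
theorem depth_F_of_flat [Module.Flat A G]
    (h0 : 2 ≤ LocCoh.idealDepth J (EGA4.FibMod A B E0))
    (h1 : 1 ≤ LocCoh.idealDepth J (EGA4.FibMod A B E1)) :
    2 ≤ LocCoh.idealDepth J (EGA4.FibMod A B F) := by
  haveI := flat_ker_of_flat A B v hv
  have hinjF : Function.Injective ((f.restrictScalars A).rTensor (A ⧸ maximalIdeal A)) := by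
    rw [← LinearMap.lTensor_inj_iff_rTensor_inj]
    exact LinearMap.lTensor_injective_of_exact_of_flat ((uK u v huv).restrictScalars A)
      (uK_surjective u v huv) (f.restrictScalars A) hf (exact_f_uK f u v hfu huv) _
  have hinjK : Function.Injective
      (((LinearMap.ker v).subtype.restrictScalars A).rTensor (A ⧸ maximalIdeal A)) := by
    rw [← LinearMap.lTensor_inj_iff_rTensor_inj]
    exact LinearMap.lTensor_injective_of_exact_of_flat (v.restrictScalars A) hv
      ((LinearMap.ker v).subtype.restrictScalars A) (Submodule.subtype_injective _)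
      (LinearMap.exact_subtype_ker_map v) _
  have hf0 : Function.Injective (fibMap A B f) :=
    fibMap_injective_of_rTensor_injective A B f hinjF
  have hι0 : Function.Injective (fibMap A B (LinearMap.ker v).subtype) :=
    fibMap_injective_of_rTensor_injective A B _ hinjK
  have hex0 := exact_fibMap A B f (uK u v huv) (uK_surjective u v huv)
    (exact_f_uK f u v hfu huv)
  have hcomp : ∀ z, fibMap A B u z =
      fibMap A B (LinearMap.ker v).subtype (fibMap A B (uK u v huv) z) := by
    intro z
    obtain ⟨e, rfl⟩ := Submodule.Quotient.mk_surjective _ z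
    rfl
  have hrange : LinearMap.range (fibMap A B f) = LinearMap.ker (fibMap A B u) := by
    ext z
    rw [LinearMap.mem_ker, hcomp, LinearMap.mem_range]
    constructor
    · intro h
      rw [(hex0 z).2 h, map_zero]
    · intro h
      have h' : fibMap A B (uK u v huv) z = 0 := hι0 (by rw [h, map_zero])
      exact (hex0 z).1 h'
  let e : EGA4.FibMod A B F ≃ₗ[B] LinearMap.ker (fibMap A B u) :=
    (LinearEquiv.ofInjective (fibMap A B f) hf0).trans (LinearEquiv.ofEq _ _ hrange)
  have := (Groth.Agent.S18700.result B J (EGA4.FibMod A B E0) (EGA4.FibMod A B E1)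
    (fibMap A B u)).2 h0 h1
  rwa [Groth.Agent.Lib.Helper21.DepthKit.idealDepth_congr J e]

end Main

end Groth.Agent.Lib.Helper7.FlatFourTerm
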