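import Mathlib.RingTheory.Flat.IsBaseChange
import Mathlib.RingTheory.IsTensorProduct
import Mathlib.RingTheory.TensorProduct.IsBaseChangePi

/-!
# Kernels commute with flat base change (span form)
-/

set_option autoImplicit false
set_option linter.unusedVariables false

namespace Groth.Agent.Lib.Helper7.FlatKer

variable {R : Type*} [CommRing R] {S : Type*} [CommRing S] [Algebra R S] [Module.Flat R S]
variable {M P N Q : Type*} [AddCommGroup M] [AddCommGroup P] [AddCommGroup N] [AddCommGroup Q]
  [Module R M] [Module R P] [Module R N] [Module R Q] [Module S N] [Module S Q]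
  [IsScalarTower R S N] [IsScalarTower R S Q]

/-- If `N`, `Q` are the base changes of `M`, `P` along a flat `R → S` and `G' : N → Q` is the base
change of `G : M → P`, then `ker G'` is spanned over `S` by the image of `ker G`. -/
theorem ker_eq_span {h : M →ₗ[R] N} (hh : IsBaseChange S h) {hQ : P →ₗ[R] Q}
    (hhQ : IsBaseChange S hQ) (G : M →ₗ[R] P) (G' : N →ₗ[S] Q)
    (comm : hQ.comp G = (G'.restrictScalars R).comp h) :
    LinearMap.ker G' = Submodule.span S (h '' (LinearMap.ker G : Set M)) := by
  apply le_antisymm
  · -- the restriction of `h` to kernels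
    have hmem : ∀ x : LinearMap.ker G, h x ∈ LinearMap.ker G' := by
      intro x
      rw [LinearMap.mem_ker]
      have := LinearMap.congr_fun comm x.1
      simp only [LinearMap.comp_apply, LinearMap.restrictScalars_apply] at this
      rw [← this, (LinearMap.mem_ker.1 x.2), map_zero]
    let h₁ : LinearMap.ker G →ₗ[R] LinearMap.ker G' :=
      (h.comp (LinearMap.ker G).subtype).codRestrict ((LinearMap.ker G').restrictScalars R)
        (fun x => hmem x)
    have comm₁ : h.comp (LinearMap.ker G).subtype =
        ((LinearMap.ker G').subtype.restrictScalars R).comp h₁ := by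
      ext x
      rfl
    have isb : IsBaseChange S h₁ :=
      IsBaseChange.of_left_exact S h₁ h hQ comm₁ comm hh hhQ
        (LinearMap.exact_subtype_ker_map G) (Submodule.injective_subtype _)
        (LinearMap.exact_subtype_ker_map G') (Submodule.injective_subtype _)
    intro y hy
    have key : ∀ z : LinearMap.ker G', (z : N) ∈ Submodule.span S (h '' (LinearMap.ker G : Set M)) := by
      intro z
      induction z using isb.inductionOn with
      | zero => simp
      | tmul x => exact Submodule.subset_span ⟨x.1, x.2, rfl⟩
      | smul s z hz => exact Submodule.smul_mem _ s hz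
      | add z₁ z₂ h₁ h₂ => exact Submodule.add_mem _ h₁ h₂
    exact key ⟨y, hy⟩
  · rw [Submodule.span_le]
    rintro _ ⟨x, hx, rfl⟩
    rw [SetLike.mem_coe, LinearMap.mem_ker]
    have := LinearMap.congr_fun comm x
    simp only [LinearMap.comp_apply, LinearMap.restrictScalars_apply] at this
    rw [← this, (LinearMap.mem_ker.1 hx), map_zero]

end Groth.Agent.Lib.Helper7.FlatKer
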