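import Mathlib

/-!
# Helper7 — GaloisTrace: the Chase–Harrison–Rosenberg trace "dual basis"

Let a finite group `G` act on a commutative ring `A`.  If `s` lies in every ideal
`I_g = (g a - a : a ∈ A)`, `g ≠ 1`, then there are finitely many `U_i, V_i ∈ A` with
`∑ U_i h(V_i) = δ_{h,1} s^(|G|-1)`, hence `∑ U_i tr(V_i b) = s^(|G|-1) b`: multiplication by a power of
`s` on `A` factors through a finite free `A^G`-module.
-/

set_option autoImplicit false

namespace Groth.Agent.Lib.Helper7.GaloisTrace

open scoped BigOperators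

universe u v

variable {A : Type u} [CommRing A] {G : Type v} [Group G] [MulSemiringAction G A]

/-- the ideal generated by the `g a - a` -/
def moveIdeal (A : Type*) [CommRing A] {G : Type*} [Group G] [MulSemiringAction G A] (g : G) :
    Ideal A :=
  Ideal.span {x | ∃ a : A, x = g • a - a}

theorem moveIdeal_le_iff (g : G) (P : Ideal A) : moveIdeal A g ≤ P ↔ g ∈ P.inertia G := by
  rw [moveIdeal, Ideal.span_le]
  constructor
  · intro h a
    exact h ⟨a, rfl⟩
  · rintro h _ ⟨a, rfl⟩
    exact h a

/-- one group element -/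
theorem exists_pair_single (g : G) (s : A) (hs : s ∈ moveIdeal A g) :
    ∃ (n : ℕ) (u v : Option (Fin n) → A), ∑ i, u i * v i = s ∧ ∑ i, u i * g • v i = 0 := by
  classical
  rw [moveIdeal, Ideal.span, Submodule.mem_span_set'] at hs
  obtain ⟨n, c, a, hsum⟩ := hs
  choose b hb using fun i => (a i).2
  refine ⟨n, fun o => o.elim (∑ j, c j * g • b j) (fun j => - c j),
    fun o => o.elim 1 (fun j => b j), ?_, ?_⟩
  · rw [Fintype.sum_option]
    simp only [Option.elim_none, Option.elim_some, mul_one]
    rw [← hsum]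
    simp only [smul_eq_mul, hb, mul_sub, Finset.sum_sub_distrib, neg_mul, Finset.sum_neg_distrib]
    ring
  · rw [Fintype.sum_option]
    simp only [Option.elim_none, Option.elim_some, smul_one, mul_one, neg_mul,
      Finset.sum_neg_distrib]
    ring


/-- all group elements at once: the Chase–Harrison–Rosenberg families -/
theorem exists_family [Fintype G] (s : A) (hs : ∀ g : G, g ≠ 1 → s ∈ moveIdeal A g) :
    ∃ (J : Type v) (_ : Fintype J) (U V : J → A),
      (∑ i, U i * V i = s ^ (Fintype.card G - 1)) ∧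
      ∀ h : G, h ≠ 1 → ∑ i, U i * h • V i = 0 := by
  classical
  have key : ∀ g : {g : G // g ≠ 1}, ∃ (n : ℕ) (u v : Option (Fin n) → A),
      ∑ i, u i * v i = s ∧ ∑ i, u i * g.1 • v i = 0 :=
    fun g => exists_pair_single g.1 s (hs g.1 g.2)
  choose n u v h1 h2 using key
  refine ⟨∀ g : {g : G // g ≠ 1}, Option (Fin (n g)), inferInstance,
    fun I => ∏ g, u g (I g), fun I => ∏ g, v g (I g), ?_, ?_⟩
  · have : ∀ I : (∀ g : {g : G // g ≠ 1}, Option (Fin (n g))),
        (∏ g, u g (I g)) * ∏ g, v g (I g) = ∏ g, (u g (I g) * v g (I g)) := fun I =>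
      Finset.prod_mul_distrib.symm
    simp_rw [this]
    rw [← Fintype.prod_sum (fun g i => u g i * v g i)]
    simp_rw [h1]
    rw [Finset.prod_const, Finset.card_univ]
    congr 1
    rw [Fintype.card_subtype_compl, Fintype.card_subtype_eq]
  · intro h hh
    have : ∀ I : (∀ g : {g : G // g ≠ 1}, Option (Fin (n g))),
        (∏ g, u g (I g)) * h • ∏ g, v g (I g) = ∏ g, (u g (I g) * h • v g (I g)) := fun I => by
      rw [Finset.smul_prod', Finset.prod_mul_distrib]
    simp_rw [this]
    rw [← Fintype.prod_sum (fun g i => u g i * h • v g i)]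
    exact Finset.prod_eq_zero (Finset.mem_univ (⟨h, hh⟩ : {g : G // g ≠ 1})) (h2 ⟨h, hh⟩)

/-- the trace -/
def tr [Fintype G] (a : A) : A := ∑ g : G, g • a

theorem tr_mem [Fintype G] (a : A) : tr (G := G) a ∈ FixedPoints.subring A G := by
  intro g
  rw [tr, Finset.smul_sum]
  simp_rw [← mul_smul]
  exact Fintype.sum_equiv (Equiv.mulLeft g) _ _ (fun _ => rfl)

/-- the trace formula -/
theorem sum_mul_tr [Fintype G] {J : Type*} [Fintype J] (U V : J → A) (t : A)
    (h1 : ∑ i, U i * V i = t) (h2 : ∀ h : G, h ≠ 1 → ∑ i, U i * h • V i = 0) (b : A) :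
    ∑ i, U i * tr (G := G) (V i * b) = t * b := by
  classical
  simp only [tr, Finset.mul_sum, smul_mul']
  rw [Finset.sum_comm]
  have : ∀ h : G, ∑ i, U i * (h • V i * h • b) = (∑ i, U i * h • V i) * h • b := by
    intro h
    rw [Finset.sum_mul]
    exact Finset.sum_congr rfl (fun i _ => by ring)
  simp_rw [this]
  rw [Finset.sum_eq_single (1 : G)]
  · simp [h1]
  · intro h _ hh
    rw [h2 h hh, zero_mul]
  · intro h
    exact absurd (Finset.mem_univ _) h

end Groth.Agent.Lib.Helper7.GaloisTrace
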