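import Mathlib
import Groth.Agent.Lib.Helper7.GaloisTrace

/-!
# Helper7 — GaloisDisc: the discriminant of the `G`-trace form divides a power of every
element `t` for which Chase–Harrison–Rosenberg families exist.
-/

set_option autoImplicit false

namespace Groth.Agent.Lib.Helper7.GaloisDisc

open scoped BigOperators
open Groth.Agent.Lib.Helper7.GaloisTrace

universe u v

variable {A : Type u} [CommRing A] {G : Type v} [Group G] [Fintype G] [MulSemiringAction G A]

/-- the trace as a linear map to the invariants -/
def trL : A →ₗ[FixedPoints.subring A G] FixedPoints.subring A G where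
  toFun a := ⟨tr (G := G) a, tr_mem a⟩
  map_add' a b := by
    apply Subtype.ext
    simp only [tr, smul_add, Finset.sum_add_distrib, Subring.coe_add]
  map_smul' r a := by
    apply Subtype.ext
    simp only [tr, RingHom.id_apply, Subring.smul_def, smul_eq_mul, Subring.coe_mul,
      Finset.mul_sum]
    refine Finset.sum_congr rfl (fun g _ => ?_)
    rw [smul_mul', r.2 g]

@[simp] theorem coe_trL (a : A) : ((trL (G := G) a : FixedPoints.subring A G) : A) = tr (G := G) a :=
  rfl

/-- the discriminant matrix of the trace form in a basis -/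
noncomputable def discMatrix {n : ℕ} (e : Module.Basis (Fin n) (FixedPoints.subring A G) A) :
    Matrix (Fin n) (Fin n) (FixedPoints.subring A G) :=
  Matrix.of fun k l => trL (G := G) (e k * e l)

theorem det_discMatrix_dvd {n : ℕ} (e : Module.Basis (Fin n) (FixedPoints.subring A G) A)
    {J : Type*} [Fintype J] (U V : J → A) (t : FixedPoints.subring A G)
    (h : ∀ b : A, ∑ i, U i * tr (G := G) (V i * b) = (t : A) * b) :
    (discMatrix e).det ∣ t ^ n := by
  classical
  let C : Matrix (Fin n) (Fin n) (FixedPoints.subring A G) :=
    Matrix.of fun j k => ∑ I, e.repr (U I) j * e.repr (V I) k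
  have hV : ∀ (I : J) (l : Fin n), trL (G := G) (V I * e l) =
      ∑ k, e.repr (V I) k * discMatrix e k l := by
    intro I l
    conv_lhs => rw [← e.sum_repr (V I)]
    rw [Finset.sum_mul, map_sum]
    refine Finset.sum_congr rfl (fun k _ => ?_)
    rw [smul_mul_assoc, map_smul, smul_eq_mul]
    rfl
  have hkey : ∀ l : Fin n, t • e l = ∑ I, trL (G := G) (V I * e l) • U I := by
    intro l
    rw [Subring.smul_def, smul_eq_mul, ← h (e l)]
    refine Finset.sum_congr rfl (fun I _ => ?_)
    rw [Subring.smul_def, smul_eq_mul, coe_trL, mul_comm]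
  have hCT : C * discMatrix e = t • (1 : Matrix (Fin n) (Fin n) (FixedPoints.subring A G)) := by
    refine Matrix.ext (fun j l => ?_)
    have h1 : e.repr (t • e l) j = t * (if j = l then 1 else 0) := by
      rw [map_smul, Finsupp.smul_apply, Module.Basis.repr_self, Finsupp.single_apply, smul_eq_mul]
      congr 1
      simp only [eq_comm]
    have h2 : e.repr (t • e l) j = ∑ I, (∑ k, e.repr (V I) k * discMatrix e k l) *
        e.repr (U I) j := by
      rw [hkey l, map_sum, Finsupp.finsetSum_apply]
      refine Finset.sum_congr rfl (fun I _ => ?_)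
      rw [map_smul, Finsupp.smul_apply, smul_eq_mul, hV]
    rw [Matrix.mul_apply, Matrix.smul_apply, Matrix.one_apply, smul_eq_mul, ← h1, h2]
    simp only [C, Matrix.of_apply, Finset.sum_mul]
    rw [Finset.sum_comm]
    refine Finset.sum_congr rfl (fun I _ => Finset.sum_congr rfl (fun k _ => by ring))
  have hdet := congrArg Matrix.det hCT
  rw [Matrix.det_mul, Matrix.det_smul, Matrix.det_one, mul_one, Fintype.card_fin] at hdet
  exact ⟨C.det, by rw [← hdet, mul_comm]⟩

end Groth.Agent.Lib.Helper7.GaloisDisc
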