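import Mathlib
import Groth.Agent.Lib.Helper7.GaloisTrace
import Groth.Agent.Lib.Helper7.FlatAlongClosed

/-!
# Helper7 — GaloisFlat: a finite group acting with trivial inertia gives a flat extension of the
invariants (after inverting an invariant element lying in all the ideals `(g a - a)`).
-/

set_option autoImplicit false

namespace Groth.Agent.Lib.Helper7.GaloisFlat

open scoped BigOperators TensorProduct
open Groth.Agent.Lib.Helper7.GaloisTrace

universe u v

variable (A : Type u) [CommRing A] (G : Type v) [Group G] [MulSemiringAction G A]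

/-- multiplication by a power of `s` on `A` factors through a finite free module over the
invariants -/
theorem exists_factor [Finite G] (s : FixedPoints.subring A G)
    (hs : ∀ g : G, g ≠ 1 → (s : A) ∈ moveIdeal A g) :
    ∃ (N : ℕ) (J : Type v) (_ : Fintype J)
      (φ : A →ₗ[FixedPoints.subring A G] (J → FixedPoints.subring A G))
      (ψ : (J → FixedPoints.subring A G) →ₗ[FixedPoints.subring A G] A),
      ∀ b, ψ (φ b) = (s ^ N) • b := by
  classical
  haveI := Fintype.ofFinite G
  obtain ⟨J, hJ, U, V, h1, h2⟩ := exists_family (A := A) (G := G) (s : A) hs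
  refine ⟨Fintype.card G - 1, J, hJ,
    { toFun := fun b i => ⟨tr (G := G) (V i * b), tr_mem _⟩
      map_add' := fun b c => by
        funext i
        apply Subtype.ext
        simp only [tr, mul_add, smul_add, Finset.sum_add_distrib, Pi.add_apply,
          Subring.coe_add]
      map_smul' := fun r b => by
        funext i
        apply Subtype.ext
        simp only [tr, RingHom.id_apply, Pi.smul_apply, Subring.smul_def, smul_eq_mul,
          Subring.coe_mul, Finset.mul_sum]
        refine Finset.sum_congr rfl (fun g _ => ?_)
        rw [smul_mul', smul_mul', smul_mul', r.2 g]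
        ring },
    ∑ i, (LinearMap.proj i).smulRight (U i), fun b => ?_⟩
  have := sum_mul_tr (G := G) U V _ h1 h2 b
  rw [LinearMap.sum_apply, Subring.smul_def, smul_eq_mul, SubmonoidClass.coe_pow, ← this]
  refine Finset.sum_congr rfl (fun i _ => ?_)
  rw [LinearMap.smulRight_apply, LinearMap.proj_apply, Subring.smul_def, smul_eq_mul, mul_comm]
  rfl


section Retract

variable {R : Type*} [CommRing R] {M F : Type*} [AddCommGroup M] [Module R M]
  [AddCommGroup F] [Module R F]

/-- if multiplication by `t` on `M` factors through a flat module, then `M[1/t]` is flat -/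
theorem flat_tensor_away_of_factor [Module.Flat R F] (t : R) (φ : M →ₗ[R] F) (ψ : F →ₗ[R] M)
    (h : ∀ b, ψ (φ b) = t • b) : Module.Flat R (Localization.Away t ⊗[R] M) := by
  let μ : Localization.Away t ⊗[R] M →ₗ[R] Localization.Away t ⊗[R] M :=
    LinearMap.rTensor M (LinearMap.mulLeft R (IsLocalization.Away.invSelf t))
  refine Module.Flat.of_retract (M := Localization.Away t ⊗[R] F)
    (LinearMap.lTensor _ φ) (μ ∘ₗ LinearMap.lTensor _ ψ) ?_
  apply TensorProduct.ext'
  intro l b
  simp only [LinearMap.coe_comp, Function.comp_apply, LinearMap.lTensor_tmul, h,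
    LinearMap.id_coe, id_eq, μ, LinearMap.rTensor_tmul, LinearMap.mulLeft_apply]
  rw [← TensorProduct.smul_tmul, Algebra.smul_def, ← mul_assoc,
    IsLocalization.Away.mul_invSelf, one_mul]

end Retract

/-- **flatness over the invariants after localization**: if `s ∈ A^G` lies in all the ideals
`(g a - a)`, `g ≠ 1`, then every localization of `A` at a submonoid containing `s` is flat over
`A^G`. -/
theorem flat_localizedModule {A : Type u} [CommRing A] {G : Type v} [Group G]
    [MulSemiringAction G A] [Finite G] (s : FixedPoints.subring A G)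
    (hs : ∀ g : G, g ≠ 1 → (s : A) ∈ moveIdeal A g) (T : Submonoid A) (hT : (s : A) ∈ T) :
    Module.Flat (FixedPoints.subring A G) (LocalizedModule T A) := by
  obtain ⟨N, J, hJ, φ, ψ, h⟩ := exists_factor A G s hs
  haveI : Module.Flat (FixedPoints.subring A G)
      (Localization.Away (s ^ N) ⊗[FixedPoints.subring A G] A) :=
    flat_tensor_away_of_factor (s ^ N) φ ψ h
  refine Groth.Agent.Lib.Helper7.FlatAlongClosed.flat_localizedModule_of_flat_tensor_away
    (A := FixedPoints.subring A G) (B := A) (X := A) T (s ^ N) ?_
  show ((s ^ N : FixedPoints.subring A G) : A) ∈ T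
  rw [SubmonoidClass.coe_pow]
  exact pow_mem hT N

end Groth.Agent.Lib.Helper7.GaloisFlat
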