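import Mathlib
import Groth.Agent.Lib.Helper7.GaloisFlat
import Groth.Agent.Lib.Helper7.GaloisDisc
import Groth.Agent.Lib.Helper7.NoetherNormInt
import Groth.Agent.Lib.Helper5.SerreFFlat
import Groth.Agent.Lib.helper19.RegularLocal

/-!
# Helper7 — GaloisNotFlat: a wild action of a group of order `p` on a regular local ring of
dimension `≥ 2` in characteristic `p`, ramified precisely at the origin, has non-flat invariants.
-/

set_option autoImplicit false
set_option linter.style.haveILetI false

namespace Groth.Agent.Lib.Helper7.GaloisNotFlat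

open scoped BigOperators
open IsLocalRing
open Groth.Agent.Lib.Helper7.GaloisTrace Groth.Agent.Lib.Helper7.GaloisFlat
  Groth.Agent.Lib.Helper7.GaloisDisc

universe u v

section Valid

variable {A : Type u} [CommRing A] [IsLocalRing A] {G : Type v} [Group G] [Finite G]
  [MulSemiringAction G A]

/-- at a non-maximal prime of the invariants there is an invariant element outside it lying in all
the ideals `(g a - a)`, `g ≠ 1` -/
theorem exists_valid_notMem
    (hram : ∀ P : Ideal A, P.IsPrime → P ≠ maximalIdeal A → P.inertia G = ⊥)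
    (P : Ideal (FixedPoints.subring A G)) [P.IsPrime] (hP : ¬ P.IsMaximal) :
    ∃ s : FixedPoints.subring A G, s ∉ P ∧ ∀ g : G, g ≠ 1 → (s : A) ∈ moveIdeal A g := by
  classical
  haveI := Fintype.ofFinite G
  haveI : SMulCommClass G (FixedPoints.subring A G) A :=
    ⟨fun γ a b => by
      change γ • ((a : A) * b) = (a : A) * γ • b
      rw [smul_mul', a.2 γ]⟩
  haveI : Algebra.IsInvariant (FixedPoints.subring A G) A G :=
    ⟨fun b hb => ⟨⟨b, hb⟩, rfl⟩⟩
  haveI : Algebra.IsIntegral (FixedPoints.subring A G) A :=
    Algebra.IsInvariant.isIntegral (FixedPoints.subring A G) A G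
  set 𝔞 : Ideal A := (Finset.univ : Finset {g : G // g ≠ 1}).inf
    (fun g => moveIdeal A g.1) with h𝔞
  have hnot : ¬ (𝔞.comap (algebraMap (FixedPoints.subring A G) A) ≤ P) := by
    intro hle
    obtain ⟨Q', hQ'ge, hQ'prime, hQ'comap⟩ :=
      Ideal.exists_ideal_over_prime_of_isIntegral P 𝔞 hle
    obtain ⟨g, -, hg⟩ := (Ideal.IsPrime.inf_le' hQ'prime).1 hQ'ge
    have hgin : g.1 ∈ Q'.inertia G := (moveIdeal_le_iff g.1 Q').1 hg
    by_cases hQm : Q' = maximalIdeal A
    · apply hP
      rw [← hQ'comap, hQm]
      exact Ideal.isMaximal_comap_of_isIntegral_of_isMaximal _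
    · rw [hram Q' hQ'prime hQm, Subgroup.mem_bot] at hgin
      exact g.2 hgin
  obtain ⟨s, hs𝔞, hsP⟩ := SetLike.not_le_iff_exists.1 hnot
  refine ⟨s, hsP, fun g hg => ?_⟩
  have h1 := Finset.inf_le (f := fun g : {g : G // g ≠ 1} => moveIdeal A g.1)
    (Finset.mem_univ (⟨g, hg⟩ : {g : G // g ≠ 1}))
  exact h1 hs𝔞

end Valid

section Main

variable {A : Type u} [CommRing A] [IsLocalRing A] [IsNoetherianRing A] [IsDomain A]
  {G : Type v} [Group G] [Fintype G] [MulSemiringAction G A]

/-- **Non-flatness over the invariants.**  A local Noetherian domain of dimension `≥ 2` with a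
finite group action ramified precisely at the closed point, whose trace takes values in the maximal
ideal (as happens for a group of order `p` in characteristic `p` acting trivially on the residue
field), is not flat over its ring of invariants.  (Purity of the branch locus for the discriminant
of the trace form.) -/
theorem not_flat (hdim : 2 ≤ ringKrullDim A)
    (hram : ∀ P : Ideal A, P.IsPrime → P ≠ maximalIdeal A → P.inertia G = ⊥)
    (htr : ∀ a : A, tr (G := G) a ∈ maximalIdeal A) :
    ¬ Module.Flat (FixedPoints.subring A G) A := by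
  classical
  intro hflat
  haveI : SMulCommClass G (FixedPoints.subring A G) A :=
    ⟨fun γ a b => by
      change γ • ((a : A) * b) = (a : A) * γ • b
      rw [smul_mul', a.2 γ]⟩
  haveI : Algebra.IsInvariant (FixedPoints.subring A G) A G :=
    ⟨fun b hb => ⟨⟨b, hb⟩, rfl⟩⟩
  haveI : Algebra.IsIntegral (FixedPoints.subring A G) A :=
    Algebra.IsInvariant.isIntegral (FixedPoints.subring A G) A G
  haveI : IsLocalHom (algebraMap (FixedPoints.subring A G) A) :=
    Algebra.IsIntegral.isLocalHom _ _
  haveI : IsLocalRing (FixedPoints.subring A G) :=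
    RingHom.domain_isLocalRing (algebraMap (FixedPoints.subring A G) A)
  haveI : Module.FaithfullyFlat (FixedPoints.subring A G) A :=
    Module.FaithfullyFlat.of_flat_of_isLocalHom
  haveI : IsNoetherianRing (FixedPoints.subring A G) :=
    Groth.Agent.Lib.Helper5.SerreLoc.isNoetherianRing_of_faithfullyFlat
      (FixedPoints.subring A G) A
  have hdimeq : ringKrullDim A = ringKrullDim (FixedPoints.subring A G) :=
    Groth.Agent.Lib.Helper7.NNInt.ringKrullDim_eq_of_injective_isIntegral
      (algebraMap (FixedPoints.subring A G) A) Subtype.val_injective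
      (algebraMap_isIntegral_iff.mpr inferInstance)
  -- the zero ideal of the invariants is not maximal
  have hbot : ¬ (⊥ : Ideal (FixedPoints.subring A G)).IsMaximal := by
    intro hmax
    have hfield : IsField (FixedPoints.subring A G) := Ring.isField_iff_maximal_bot.2 hmax
    have h0 := ringKrullDim_eq_zero_of_isField hfield
    rw [← hdimeq] at h0
    rw [h0] at hdim
    exact absurd hdim (by norm_num)
  obtain ⟨s₀, hs₀ne, hs₀⟩ := exists_valid_notMem hram (⊥ : Ideal (FixedPoints.subring A G)) hbot
  -- finiteness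
  obtain ⟨N, J, hJ, φ, ψ, hφψ⟩ := exists_factor A G s₀ hs₀
  have hφinj : Function.Injective φ := by
    rw [injective_iff_map_eq_zero]
    intro b hb
    have h2 := hφψ b
    rw [hb, map_zero, Subring.smul_def, smul_eq_mul, SubmonoidClass.coe_pow] at h2
    rcases mul_eq_zero.1 h2.symm with h | h
    · exfalso
      apply hs₀ne
      rw [Ideal.mem_bot]
      exact Subtype.ext (eq_zero_of_pow_eq_zero h)
    · exact h
  haveI : Module.Finite (FixedPoints.subring A G) A := Module.Finite.of_injective φ hφinj
  haveI : Module.Free (FixedPoints.subring A G) A := Module.free_of_flat_of_isLocalRing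
  let e : Module.Basis (Fin (Module.finrank (FixedPoints.subring A G) A))
    (FixedPoints.subring A G) A := Module.finBasis (FixedPoints.subring A G) A
  have hn : Nonempty (Fin (Module.finrank (FixedPoints.subring A G) A)) := by
    by_contra h
    rw [not_nonempty_iff] at h
    have : Subsingleton A := e.repr.toEquiv.subsingleton
    exact not_subsingleton A this
  -- the discriminant lies in the maximal ideal
  have hentry : ∀ k l, discMatrix e k l ∈ maximalIdeal (FixedPoints.subring A G) := by
    intro k l
    have h1 : ((discMatrix e k l : FixedPoints.subring A G) : A) ∈ maximalIdeal A := htr _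
    rw [IsLocalRing.mem_maximalIdeal, mem_nonunits_iff] at h1 ⊢
    intro hu
    exact h1 (hu.map (algebraMap (FixedPoints.subring A G) A))
  have hd : (discMatrix e).det ∈ maximalIdeal (FixedPoints.subring A G) := by
    rw [← Ideal.Quotient.eq_zero_iff_mem, RingHom.map_det]
    have h0 : (Ideal.Quotient.mk (maximalIdeal (FixedPoints.subring A G))).mapMatrix
        (discMatrix e) = 0 := by
      refine Matrix.ext (fun k l => ?_)
      rw [RingHom.mapMatrix_apply, Matrix.map_apply, Matrix.zero_apply,
        Ideal.Quotient.eq_zero_iff_mem]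
      exact hentry k l
    rw [h0, Matrix.det_zero]
  -- Krull's principal ideal theorem
  have hne : Ideal.span {(discMatrix e).det} ≠ ⊤ := by
    intro h
    have h1 : maximalIdeal (FixedPoints.subring A G) = ⊤ :=
      top_le_iff.1 (h ▸ (Ideal.span_singleton_le_iff_mem _).2 hd)
    exact (maximalIdeal.isMaximal (FixedPoints.subring A G)).ne_top h1
  obtain ⟨⟨𝔭, h𝔭⟩⟩ := Ideal.nonempty_minimalPrimes hne
  haveI : 𝔭.IsPrime := h𝔭.1.1
  have hht : 𝔭.height ≤ 1 :=
    Ideal.height_le_one_of_isPrincipal_of_mem_minimalPrimes _ 𝔭 h𝔭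
  have h𝔭max : ¬ 𝔭.IsMaximal := by
    intro hmax
    have h1 : 𝔭 = maximalIdeal (FixedPoints.subring A G) := IsLocalRing.eq_maximalIdeal hmax
    rw [h1] at hht
    have h2 : ((maximalIdeal (FixedPoints.subring A G)).height : WithBot ℕ∞) =
        ringKrullDim (FixedPoints.subring A G) :=
      IsLocalRing.maximalIdeal_height_eq_ringKrullDim
    rw [← hdimeq] at h2
    rw [← h2] at hdim
    have h3' : ((2 : ℕ∞) : WithBot ℕ∞) ≤ ((maximalIdeal (FixedPoints.subring A G)).height :
        WithBot ℕ∞) := hdim
    have h3 : (2 : ℕ∞) ≤ 1 := (WithBot.coe_le_coe.1 h3').trans hht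
    exact absurd h3 (by norm_num)
  obtain ⟨s, hs𝔭, hs⟩ := exists_valid_notMem hram 𝔭 h𝔭max
  obtain ⟨J', hJ', U, V, h1, h2⟩ := exists_family (A := A) (G := G) (s : A) hs
  have hsum := sum_mul_tr (G := G) U V _ h1 h2
  have hdvd := det_discMatrix_dvd e U V (s ^ (Fintype.card G - 1))
    (fun b => by rw [SubmonoidClass.coe_pow]; exact hsum b)
  have hmem : (s ^ (Fintype.card G - 1)) ^ (Module.finrank (FixedPoints.subring A G) A) ∈ 𝔭 :=
    Ideal.mem_of_dvd 𝔭 hdvd (h𝔭.1.2 (Ideal.mem_span_singleton_self _))
  exact hs𝔭 (Ideal.IsPrime.mem_of_pow_mem ‹_› _ (Ideal.IsPrime.mem_of_pow_mem ‹_› _ hmem))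

end Main

end Groth.Agent.Lib.Helper7.GaloisNotFlat
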