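import Mathlib
import Groth.Agent.Lib.Helper7.GaloisFlat
import Groth.Agent.Lib.Helper22.TowerPts3

/-!
# Helper7 — GaloisRegular: regularity of localizations of a ring of invariants at primes where the
group acts with trivial inertia.
-/

set_option autoImplicit false

namespace Groth.Agent.Lib.Helper7.GaloisRegular

open Groth.Agent.Lib.Helper7.GaloisTrace Groth.Agent.Lib.Helper7.GaloisFlat

universe u v

variable {A : Type u} [CommRing A] {G : Type v} [Group G] [MulSemiringAction G A] [Finite G]

/-- the local homomorphism `(A^G)_P → A_Q` is flat when some `s ∈ A^G ∖ P` lies in all the ideals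
`(g a - a)`, `g ≠ 1` -/
theorem flat_localRingHom (s : FixedPoints.subring A G)
    (hs : ∀ g : G, g ≠ 1 → (s : A) ∈ moveIdeal A g)
    (P : Ideal (FixedPoints.subring A G)) [P.IsPrime] (hsP : s ∉ P)
    (Q : Ideal A) [Q.IsPrime] (hQ : P = Q.comap (algebraMap (FixedPoints.subring A G) A)) :
    (Localization.localRingHom P Q (algebraMap (FixedPoints.subring A G) A) hQ).Flat := by
  have hsQ : (s : A) ∈ Q.primeCompl := by
    intro h
    apply hsP
    rw [hQ]
    exact h
  have hflat0 : Module.Flat (FixedPoints.subring A G) (LocalizedModule Q.primeCompl A) :=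
    flat_localizedModule s hs Q.primeCompl hsQ
  let e : LocalizedModule Q.primeCompl A ≃ₗ[A] Localization.AtPrime Q :=
    IsLocalizedModule.iso Q.primeCompl (Algebra.linearMap A (Localization.AtPrime Q))
  have hflat1 : Module.Flat (FixedPoints.subring A G) (Localization.AtPrime Q) :=
    Module.Flat.of_linearEquiv (e.symm.restrictScalars (FixedPoints.subring A G))
  set φ₀ := Localization.localRingHom P Q (algebraMap (FixedPoints.subring A G) A) hQ with hφ₀
  letI := φ₀.toAlgebra
  haveI : IsScalarTower (FixedPoints.subring A G) (Localization.AtPrime P)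
      (Localization.AtPrime Q) := by
    refine IsScalarTower.of_algebraMap_eq (fun x => ?_)
    rw [RingHom.algebraMap_toAlgebra, hφ₀, Localization.localRingHom_to_map,
      ← IsScalarTower.algebraMap_apply]
  show Module.Flat (Localization.AtPrime P) (Localization.AtPrime Q)
  exact (Module.flat_iff_of_isLocalization (Localization.AtPrime P) P.primeCompl
    (Localization.AtPrime Q)).2 hflat1

/-- **regularity of the invariants at primes with trivial inertia** -/
theorem isRegularLocalRing_localization (s : FixedPoints.subring A G)
    (hs : ∀ g : G, g ≠ 1 → (s : A) ∈ moveIdeal A g)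
    (P : Ideal (FixedPoints.subring A G)) [P.IsPrime] (hsP : s ∉ P)
    (Q : Ideal A) [Q.IsPrime] (hQ : P = Q.comap (algebraMap (FixedPoints.subring A G) A))
    (hreg : IsRegularLocalRing (Localization.AtPrime Q)) :
    IsRegularLocalRing (Localization.AtPrime P) :=
  Groth.Agent.Lib.Helper22.TowerPts.isRegularLocalRing_of_flat_isLocalHom _ _
    (Localization.localRingHom P Q (algebraMap (FixedPoints.subring A G) A) hQ)
    (flat_localRingHom s hs P hsP Q hQ) hreg

end Groth.Agent.Lib.Helper7.GaloisRegular
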