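import Mathlib

/-!
# Helper7 — GrSym: the symbol module of an adic filtration

For a commutative ring `C`, a finite family `g : Fin r → C` generating an ideal `J`, and a `C`-module
`M`, the *symbol module* `SymM r M = (Fin r →₀ ℕ) →₀ M` (polynomials in `r` symbols with
coefficients in `M`) carries evaluation maps `ev k : SymM r M → M` (the degree `k` part evaluated at
`g`), with image `J^k M`.  The submodule `KK` of symbols `x` with `ev k x ∈ J^(k+1) M` for all `k`
is the kernel of the surjection onto the associated graded module `gr_J M = ⊕ J^k M / J^(k+1) M`.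
-/

namespace Groth.Agent.Lib.Helper7.GrSym

open Function

universe u

/-- polynomials in `r` symbols with coefficients in `M`. -/
abbrev SymM (r : ℕ) (M : Type u) [AddCommGroup M] : Type u := (Fin r →₀ ℕ) →₀ M

section Abs

variable {C : Type u} [CommRing C] {r : ℕ} (g : Fin r → C)

/-- the monomial `g^α`. -/
noncomputable def mon (α : Fin r →₀ ℕ) : C := α.prod fun i k => g i ^ k

/-- the ideal generated by the family. -/
def JJ : Ideal C := Ideal.span (Set.range g)

theorem mon_zero : mon g 0 = 1 := by simp [mon]

theorem mon_add (α β : Fin r →₀ ℕ) : mon g (α + β) = mon g α * mon g β := by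
  unfold mon
  exact Finsupp.prod_add_index' (fun i => pow_zero _) (fun i k l => pow_add _ _ _)

theorem mon_single (i : Fin r) (n : ℕ) : mon g (Finsupp.single i n) = g i ^ n := by
  unfold mon
  exact Finsupp.prod_single_index (pow_zero _)

theorem mon_mem_pow (α : Fin r →₀ ℕ) : mon g α ∈ JJ g ^ α.degree := by
  induction α using Finsupp.induction_linear with
  | zero => simp [mon_zero]
  | add α β hα hβ =>
    rw [mon_add, map_add, pow_add]
    exact Ideal.mul_mem_mul hα hβ
  | single i n =>
    rw [mon_single, Finsupp.degree_single]
    exact Ideal.pow_mem_pow (Ideal.subset_span (Set.mem_range_self i)) n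

variable (M : Type u) [AddCommGroup M] [Module C M]

/-- the `J`-adic filtration. -/
def Fil (k : ℕ) : Submodule C M := (JJ g ^ k) • (⊤ : Submodule C M)

theorem Fil_zero : Fil g M 0 = ⊤ := by simp [Fil, Ideal.one_eq_top]

theorem Fil_succ (k : ℕ) : Fil g M (k + 1) = JJ g • Fil g M k := by
  unfold Fil
  rw [pow_succ', Submodule.mul_smul]

theorem Fil_anti {k l : ℕ} (h : k ≤ l) : Fil g M l ≤ Fil g M k :=
  Submodule.smul_mono_left (Ideal.pow_le_pow_right h)

theorem smul_mem_Fil_succ {k : ℕ} (i : Fin r) {m : M} (hm : m ∈ Fil g M k) :
    g i • m ∈ Fil g M (k + 1) := by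
  rw [Fil_succ]
  exact Submodule.smul_mem_smul (Ideal.subset_span (Set.mem_range_self i)) hm

/-- the degree `k` part of a symbol, evaluated at `g`. -/
noncomputable def ev (k : ℕ) : SymM r M →ₗ[C] M :=
  Finsupp.lsum C fun α => if α.degree = k then mon g α • LinearMap.id else 0

theorem ev_single (k : ℕ) (α : Fin r →₀ ℕ) (m : M) :
    ev g M k (Finsupp.single α m) = if α.degree = k then mon g α • m else 0 := by
  unfold ev
  rw [Finsupp.lsum_single]
  split_ifs <;> simp

variable (C) in
/-- multiplication by the `i`-th symbol. -/
noncomputable def shift (i : Fin r) : SymM r M →ₗ[C] SymM r M :=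
  Finsupp.lmapDomain M C fun α => α + Finsupp.single i 1

variable (C) in
/-- multiplication by the monomial `β`. -/
noncomputable def shiftPow (β : Fin r →₀ ℕ) : SymM r M →ₗ[C] SymM r M :=
  Finsupp.lmapDomain M C fun α => α + β

theorem shift_single (i : Fin r) (α : Fin r →₀ ℕ) (m : M) :
    shift C M i (Finsupp.single α m) = Finsupp.single (α + Finsupp.single i 1) m := by
  simp [shift, Finsupp.lmapDomain_apply, Finsupp.mapDomain_single]

theorem shiftPow_single (β α : Fin r →₀ ℕ) (m : M) :
    shiftPow C M β (Finsupp.single α m) = Finsupp.single (α + β) m := by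
  simp [shiftPow, Finsupp.lmapDomain_apply, Finsupp.mapDomain_single]

theorem shift_eq_shiftPow (i : Fin r) : shift C M i = shiftPow C M (Finsupp.single i 1) := rfl

theorem shiftPow_zero : shiftPow C M (0 : Fin r →₀ ℕ) = LinearMap.id := by
  refine Finsupp.lhom_ext fun α m => ?_
  simp [shiftPow_single]

theorem shiftPow_add (β γ : Fin r →₀ ℕ) :
    shiftPow C M (β + γ) = (shiftPow C M γ).comp (shiftPow C M β) := by
  refine Finsupp.lhom_ext fun α m => ?_
  simp [shiftPow_single, add_assoc]

variable (C) in
/-- the homogeneous component of degree `k`. -/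
noncomputable def pi (k : ℕ) : SymM r M →ₗ[C] SymM r M :=
  Finsupp.lsum C fun α => if α.degree = k then Finsupp.lsingle α else 0

theorem pi_single (k : ℕ) (α : Fin r →₀ ℕ) (m : M) :
    pi C M k (Finsupp.single α m) = if α.degree = k then Finsupp.single α m else 0 := by
  unfold pi
  rw [Finsupp.lsum_single]
  split_ifs <;> simp

theorem ev_shift (k : ℕ) (i : Fin r) (x : SymM r M) :
    ev g M (k + 1) (shift C M i x) = g i • ev g M k x := by
  have : (ev g M (k + 1)).comp (shift C M i) = g i • ev g M k := by
    refine Finsupp.lhom_ext fun α m => ?_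
    simp only [LinearMap.comp_apply, shift_single, ev_single, LinearMap.smul_apply, map_add,
      Finsupp.degree_single, add_left_inj]
    split_ifs with h
    · rw [mon_add, mon_single, pow_one, mul_comm, mul_smul]
    · simp
  exact LinearMap.congr_fun this x

theorem ev_zero_shift (i : Fin r) (x : SymM r M) : ev g M 0 (shift C M i x) = 0 := by
  have : (ev g M 0).comp (shift C M i) = 0 := by
    refine Finsupp.lhom_ext fun α m => ?_
    simp [shift_single, ev_single]
  exact LinearMap.congr_fun this x

theorem ev_pi (j k : ℕ) (x : SymM r M) :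
    ev g M j (pi C M k x) = if j = k then ev g M k x else 0 := by
  have : (ev g M j).comp (pi C M k) = if j = k then ev g M k else 0 := by
    refine Finsupp.lhom_ext fun α m => ?_
    simp only [LinearMap.comp_apply, pi_single]
    by_cases hk : α.degree = k
    · rw [if_pos hk, ev_single]
      by_cases hj : j = k
      · subst hj
        rw [if_pos hk, if_pos rfl, ev_single, if_pos hk]
      · rw [if_neg (fun h : α.degree = j => hj (h.symm.trans hk)), if_neg hj]
        simp
    · rw [if_neg hk, map_zero]
      by_cases hj : j = k
      · subst hj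
        rw [if_pos rfl, ev_single, if_neg hk]
      · rw [if_neg hj]; simp
  have h2 := LinearMap.congr_fun this x
  rw [LinearMap.comp_apply] at h2
  rw [h2]
  split_ifs <;> simp

theorem ev_mem_Fil (k : ℕ) (x : SymM r M) : ev g M k x ∈ Fil g M k := by
  induction x using Finsupp.induction_linear with
  | zero => simp
  | add x y hx hy => rw [map_add]; exact add_mem hx hy
  | single α m =>
    rw [ev_single]
    split_ifs with h
    · exact Submodule.smul_mem_smul (h ▸ mon_mem_pow g α) trivial
    · exact zero_mem _

theorem Fil_le_range_ev (k : ℕ) : Fil g M k ≤ LinearMap.range (ev g M k) := by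
  induction k with
  | zero =>
    intro m _
    exact ⟨Finsupp.single 0 m, by simp [ev_single, mon_zero]⟩
  | succ k ih =>
    rw [Fil_succ]
    refine Submodule.smul_le.2 fun a ha n hn => ?_
    obtain ⟨x, rfl⟩ := ih hn
    unfold JJ at ha
    induction ha using Submodule.span_induction with
    | mem a ha =>
      obtain ⟨i, rfl⟩ := ha
      exact ⟨shift C M i x, ev_shift g M k i x⟩
    | zero => rw [zero_smul]; exact zero_mem _
    | add a b _ _ iha ihb => rw [add_smul]; exact add_mem iha ihb
    | smul c a _ iha => rw [smul_assoc]; exact Submodule.smul_mem _ c iha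

theorem range_ev (k : ℕ) : LinearMap.range (ev g M k) = Fil g M k :=
  le_antisymm (by rintro _ ⟨x, rfl⟩; exact ev_mem_Fil g M k x) (Fil_le_range_ev g M k)

end Abs

end Groth.Agent.Lib.Helper7.GrSym
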