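import Mathlib
import Groth.Agent.Lib.Helper7.GrSym

/-!
# Helper7 — GrSymK: the kernel of the symbol map and the graded pieces

`lam k : SymM r M → M / J^(k+1) M`, `KK = ⋂ ker (lam k)`, its homogeneous parts `KKdeg k`,
shift-saturation `Sat`, and the degree bound `Bound d`.
-/

namespace Groth.Agent.Lib.Helper7.GrSym

open Function

universe u

section Abs

variable {C : Type u} [CommRing C] {r : ℕ} (g : Fin r → C)
variable (M : Type u) [AddCommGroup M] [Module C M]

/-- the symbol map in degree `k`, with values in `M / J^(k+1) M`. -/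
noncomputable def lam (k : ℕ) : SymM r M →ₗ[C] M ⧸ Fil g M (k + 1) :=
  (Fil g M (k + 1)).mkQ ∘ₗ ev g M k

theorem lam_apply (k : ℕ) (x : SymM r M) :
    lam g M k x = Submodule.Quotient.mk (ev g M k x) := rfl

theorem mem_ker_lam {k : ℕ} {x : SymM r M} :
    x ∈ LinearMap.ker (lam g M k) ↔ ev g M k x ∈ Fil g M (k + 1) := by
  rw [LinearMap.mem_ker, lam_apply, Submodule.Quotient.mk_eq_zero]

/-- the kernel of the symbol map onto the associated graded module. -/
noncomputable def KK : Submodule C (SymM r M) := ⨅ k, LinearMap.ker (lam g M k)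

theorem mem_KK {x : SymM r M} : x ∈ KK g M ↔ ∀ k, ev g M k x ∈ Fil g M (k + 1) := by
  simp only [KK, Submodule.mem_iInf, mem_ker_lam]

theorem KK_le_ker_lam (k : ℕ) : KK g M ≤ LinearMap.ker (lam g M k) := iInf_le _ k

/-- the homogeneous part of degree `k` of `KK`. -/
noncomputable def KKdeg (k : ℕ) : Submodule C (SymM r M) := KK g M ⊓ LinearMap.range (pi C M k)

theorem KKdeg_le_KK (k : ℕ) : KKdeg g M k ≤ KK g M := inf_le_left

variable {M}

theorem pi_pi (j k : ℕ) (x : SymM r M) :
    pi C M j (pi C M k x) = if j = k then pi C M k x else 0 := by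
  have : (pi C M j).comp (pi C M k) = if j = k then (pi C M k : SymM r M →ₗ[C] SymM r M) else 0 := by
    refine Finsupp.lhom_ext fun α m => ?_
    simp only [LinearMap.comp_apply, pi_single]
    by_cases hk : α.degree = k
    · rw [if_pos hk, pi_single]
      by_cases hj : j = k
      · subst hj
        rw [if_pos hk, if_pos rfl, pi_single, if_pos hk]
      · rw [if_neg (fun h : α.degree = j => hj (h.symm.trans hk)), if_neg hj]
        simp
    · rw [if_neg hk, map_zero]
      by_cases hj : j = k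
      · subst hj
        rw [if_pos rfl, pi_single, if_neg hk]
      · rw [if_neg hj]; simp
  have h2 := LinearMap.congr_fun this x
  rw [LinearMap.comp_apply] at h2
  rw [h2]
  split_ifs <;> simp

theorem pi_pi_self (k : ℕ) (x : SymM r M) : pi C M k (pi C M k x) = pi C M k x := by
  rw [pi_pi, if_pos rfl]

theorem mem_range_pi {k : ℕ} {x : SymM r M} :
    x ∈ LinearMap.range (pi C M k) ↔ pi C M k x = x := by
  constructor
  · rintro ⟨y, rfl⟩
    exact pi_pi_self k y
  · intro h
    exact ⟨x, h⟩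

theorem ev_pi_self (k : ℕ) (x : SymM r M) : ev g M k (pi C M k x) = ev g M k x := by
  rw [ev_pi, if_pos rfl]

theorem pi_mem_KK {x : SymM r M} (hx : x ∈ KK g M) (k : ℕ) : pi C M k x ∈ KK g M := by
  rw [mem_KK] at hx ⊢
  intro j
  rw [ev_pi]
  split_ifs with h
  · subst h; exact hx j
  · exact zero_mem _

theorem pi_mem_KKdeg {x : SymM r M} (hx : x ∈ KK g M) (k : ℕ) : pi C M k x ∈ KKdeg g M k :=
  ⟨pi_mem_KK g hx k, ⟨x, rfl⟩⟩

theorem mem_KKdeg {k : ℕ} {x : SymM r M} :
    x ∈ KKdeg g M k ↔ ev g M k x ∈ Fil g M (k + 1) ∧ pi C M k x = x := by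
  constructor
  · rintro ⟨h1, h2⟩
    exact ⟨(mem_KK g M).1 h1 k, mem_range_pi.1 h2⟩
  · rintro ⟨h1, h2⟩
    refine ⟨?_, mem_range_pi.2 h2⟩
    show x ∈ KK g M
    rw [mem_KK]
    intro j
    rw [← h2, ev_pi]
    split_ifs with h
    · subst h; exact h1
    · exact zero_mem _

theorem pi_mem_KKdeg_of_mem_ker_lam {k : ℕ} {x : SymM r M}
    (hx : x ∈ LinearMap.ker (lam g M k)) : pi C M k x ∈ KKdeg g M k := by
  rw [mem_KKdeg, ev_pi_self, pi_pi_self]
  exact ⟨(mem_ker_lam g M).1 hx, rfl⟩

theorem shift_mem_KK {x : SymM r M} (hx : x ∈ KK g M) (i : Fin r) : shift C M i x ∈ KK g M := by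
  rw [mem_KK] at hx ⊢
  intro k
  cases k with
  | zero => rw [ev_zero_shift]; exact zero_mem _
  | succ k =>
    rw [ev_shift]
    exact smul_mem_Fil_succ g M i (hx k)

theorem shiftPow_single_one (i : Fin r) :
    shiftPow C M (Finsupp.single i 1) = shift C M i := rfl

theorem shiftPow_mem_KK (β : Fin r →₀ ℕ) {x : SymM r M} (hx : x ∈ KK g M) :
    shiftPow C M β x ∈ KK g M := by
  induction β using Finsupp.induction_linear generalizing x with
  | zero => rw [shiftPow_zero]; exact hx
  | add β γ hβ hγ =>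
    rw [shiftPow_add, LinearMap.comp_apply]
    exact hγ (hβ hx)
  | single i n =>
    induction n generalizing x with
    | zero => rw [Finsupp.single_zero, shiftPow_zero]; exact hx
    | succ n ih =>
      rw [Finsupp.single_add, shiftPow_add, LinearMap.comp_apply, shiftPow_single_one]
      exact shift_mem_KK g (ih hx) i

theorem pi_shiftPow (j : ℕ) (β : Fin r →₀ ℕ) (x : SymM r M) :
    pi C M (j + β.degree) (shiftPow C M β x) = shiftPow C M β (pi C M j x) := by
  have : (pi C M (j + β.degree)).comp (shiftPow C M β) = (shiftPow C M β).comp (pi C M j) := by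
    refine Finsupp.lhom_ext fun α m => ?_
    simp only [LinearMap.comp_apply, shiftPow_single, pi_single, map_add, add_left_inj]
    split_ifs
    · rw [shiftPow_single]
    · rw [map_zero]
  exact LinearMap.congr_fun this x

theorem pi_shiftPow_pi (k j : ℕ) (β : Fin r →₀ ℕ) (x : SymM r M) :
    pi C M k (shiftPow C M β (pi C M j x)) =
      if k = j + β.degree then shiftPow C M β (pi C M j x) else 0 := by
  rw [← pi_shiftPow, pi_pi]

/-- every symbol is the sum of its homogeneous components. -/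
theorem exists_sum_pi (x : SymM r M) :
    ∃ T : Finset ℕ, ∀ T' : Finset ℕ, T ⊆ T' → ∑ k ∈ T', pi C M k x = x := by
  classical
  induction x using Finsupp.induction_linear with
  | zero => exact ⟨∅, fun T' _ => by simp⟩
  | add x y hx hy =>
    obtain ⟨T₁, h₁⟩ := hx
    obtain ⟨T₂, h₂⟩ := hy
    refine ⟨T₁ ∪ T₂, fun T' hT' => ?_⟩
    simp only [map_add, Finset.sum_add_distrib]
    rw [h₁ T' (Finset.union_subset_left hT'), h₂ T' (Finset.union_subset_right hT')]
  | single α m =>
    refine ⟨{α.degree}, fun T' hT' => ?_⟩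
    simp only [pi_single]
    rw [Finset.sum_ite_eq]
    rw [if_pos (hT' (Finset.mem_singleton_self _))]

variable (M)

theorem KK_le_iSup_KKdeg : KK g M ≤ ⨆ k, KKdeg g M k := by
  intro x hx
  obtain ⟨T, hT⟩ := exists_sum_pi (C := C) x
  rw [← hT T subset_rfl]
  refine Submodule.sum_mem _ fun k _ => ?_
  exact Submodule.mem_iSup_of_mem k (pi_mem_KKdeg g hx k)

theorem KK_eq_iSup_KKdeg : KK g M = ⨆ k, KKdeg g M k :=
  le_antisymm (KK_le_iSup_KKdeg g M) (iSup_le fun k => KKdeg_le_KK g M k)

/-- the part of `KK` of degree at most `d`. -/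
noncomputable def W (d : ℕ) : Submodule C (SymM r M) := ⨆ j : Fin (d + 1), KKdeg g M j

theorem W_le_KK (d : ℕ) : W g M d ≤ KK g M :=
  iSup_le fun j => KKdeg_le_KK g M j

theorem KKdeg_le_W {j d : ℕ} (h : j ≤ d) : KKdeg g M j ≤ W g M d :=
  le_iSup_of_le (⟨j, Nat.lt_succ_of_le h⟩ : Fin (d + 1)) le_rfl

theorem W_mono {d e : ℕ} (h : d ≤ e) : W g M d ≤ W g M e :=
  iSup_le fun j => KKdeg_le_W g M ((Nat.lt_succ_iff.1 j.2).trans h)

variable (C) in
/-- the shift-saturation of a submodule. -/
noncomputable def Sat (K : Submodule C (SymM r M)) : Submodule C (SymM r M) :=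
  ⨆ β : Fin r →₀ ℕ, K.map (shiftPow C M β)

theorem le_Sat (K : Submodule C (SymM r M)) : K ≤ Sat C M K := by
  refine le_trans ?_ (le_iSup _ (0 : Fin r →₀ ℕ))
  rw [shiftPow_zero, Submodule.map_id]

theorem Sat_mono {K L : Submodule C (SymM r M)} (h : K ≤ L) : Sat C M K ≤ Sat C M L :=
  iSup_mono fun β => Submodule.map_mono h

theorem Sat_le_KK (d : ℕ) : Sat C M (W g M d) ≤ KK g M := by
  refine iSup_le fun β => ?_
  rintro _ ⟨x, hx, rfl⟩
  exact shiftPow_mem_KK g β (W_le_KK g M d hx)

/-- `KK` is generated, as a shift-stable submodule, by its part of degree at most `d`. -/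
def Bound (d : ℕ) : Prop := KK g M ≤ Sat C M (W g M d)

theorem Bound.mono {d e : ℕ} (h : d ≤ e) (hd : Bound g M d) : Bound g M e :=
  hd.trans (Sat_mono M (W_mono g M h))

theorem pi_mem_Sat_W (d k : ℕ) {x : SymM r M} (hx : x ∈ Sat C M (W g M d)) :
    pi C M k x ∈ Sat C M (W g M d) := by
  have key : (Sat C M (W g M d)) ≤ (Sat C M (W g M d)).comap (pi C M k) := by
    refine iSup_le fun β => ?_
    rw [Submodule.map_le_iff_le_comap]
    refine iSup_le fun j => ?_
    have hj : (j : ℕ) ≤ d := Nat.lt_succ_iff.1 j.2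
    intro y hy
    rw [Submodule.mem_comap, Submodule.mem_comap]
    have hy2 : pi C M j y = y := mem_range_pi.1 hy.2
    rw [← hy2, pi_shiftPow_pi]
    split_ifs
    · rw [hy2]
      exact Submodule.mem_iSup_of_mem β
        (Submodule.mem_map_of_mem (KKdeg_le_W g M hj hy))
    · exact zero_mem _
  exact key hx

end Abs

end Groth.Agent.Lib.Helper7.GrSym
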