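import Mathlib
import Groth.Agent.Lib.Helper7.GrSymK
import Groth.Agent.Lib.Helper5.FlatKer
import Groth.Agent.Lib.helper11.GenFlatBasic

/-!
# Helper7 — GrSymFlat: flatness of the associated graded module `SymM r M ⧸ KK`
is equivalent to flatness of all truncations `M ⧸ J^k M`.
-/

namespace Groth.Agent.Lib.Helper7.GrSym

open Function DirectSum

universe u

section Flat

variable {C : Type u} [CommRing C] {r : ℕ} (g : Fin r → C)
variable (M : Type u) [AddCommGroup M] [Module C M]

/-- the graded piece of degree `k`, as a quotient of the symbol module. -/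
abbrev Gk (k : ℕ) : Type u := SymM r M ⧸ LinearMap.ker (lam g M k)

/-- the associated graded module, as a quotient of the symbol module. -/
abbrev Gr : Type u := SymM r M ⧸ KK g M

/-- inclusion of the graded piece. -/
noncomputable def inclK (k : ℕ) : Gk g M k →ₗ[C] Gr g M :=
  Submodule.liftQ _ ((KK g M).mkQ ∘ₗ pi C M k) (fun x hx => by
    rw [LinearMap.mem_ker, LinearMap.comp_apply, Submodule.mkQ_apply,
      Submodule.Quotient.mk_eq_zero]
    exact (pi_mem_KKdeg_of_mem_ker_lam g hx).1)

/-- projection onto the graded piece. -/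
noncomputable def projK (k : ℕ) : Gr g M →ₗ[C] Gk g M k :=
  Submodule.liftQ _ (LinearMap.ker (lam g M k)).mkQ (by
    rw [Submodule.ker_mkQ]
    exact KK_le_ker_lam g M k)

theorem inclK_mk (k : ℕ) (x : SymM r M) :
    inclK g M k (Submodule.Quotient.mk x) = Submodule.Quotient.mk (pi C M k x) := rfl

theorem projK_mk (k : ℕ) (x : SymM r M) :
    projK g M k (Submodule.Quotient.mk x) = Submodule.Quotient.mk x := rfl

theorem mk_pi_eq (k : ℕ) (x : SymM r M) :
    (Submodule.Quotient.mk (pi C M k x) : Gk g M k) = Submodule.Quotient.mk x := by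
  rw [Submodule.Quotient.eq, mem_ker_lam, map_sub, ev_pi_self, sub_self]
  exact zero_mem _

theorem projK_comp_inclK (k : ℕ) : (projK g M k).comp (inclK g M k) = LinearMap.id := by
  refine Submodule.linearMap_qext _ ?_
  ext x
  simp only [LinearMap.comp_apply, Submodule.mkQ_apply, LinearMap.id_apply]
  rw [inclK_mk, projK_mk, mk_pi_eq]

/-- the total symbol map to the direct sum of graded pieces. -/
noncomputable def toSum₀ : SymM r M →ₗ[C] ⨁ k, Gk g M k :=
  Finsupp.lsum C fun α => (DirectSum.lof C ℕ (fun k => Gk g M k) α.degree) ∘ₗ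
    (LinearMap.ker (lam g M α.degree)).mkQ ∘ₗ Finsupp.lsingle α

theorem toSum₀_single (α : Fin r →₀ ℕ) (m : M) :
    toSum₀ g M (Finsupp.single α m) =
      DirectSum.lof C ℕ (fun k => Gk g M k) α.degree (Submodule.Quotient.mk (Finsupp.single α m)) := by
  unfold toSum₀
  rw [Finsupp.lsum_single]
  rfl

theorem single_mem_ker_lam {α : Fin r →₀ ℕ} {k : ℕ} (h : α.degree ≠ k) (m : M) :
    Finsupp.single α m ∈ LinearMap.ker (lam g M k) := by
  rw [mem_ker_lam, ev_single, if_neg h]
  exact zero_mem _

theorem component_toSum₀ (k : ℕ) :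
    (DirectSum.component C ℕ (fun k => Gk g M k) k).comp (toSum₀ g M) =
      (LinearMap.ker (lam g M k)).mkQ := by
  classical
  refine Finsupp.lhom_ext fun α m => ?_
  rw [LinearMap.comp_apply, toSum₀_single, DirectSum.component.of]
  by_cases h : α.degree = k
  · subst h
    rw [dif_pos rfl]
    rfl
  · rw [dif_neg h, Submodule.mkQ_apply, eq_comm, Submodule.Quotient.mk_eq_zero]
    exact single_mem_ker_lam g M h m

theorem toSum₀_eq_zero {x : SymM r M} (hx : x ∈ KK g M) : toSum₀ g M x = 0 := by
  refine DirectSum.ext_component C fun k => ?_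
  have := LinearMap.congr_fun (component_toSum₀ g M k) x
  rw [LinearMap.comp_apply] at this
  rw [this, map_zero, Submodule.mkQ_apply, Submodule.Quotient.mk_eq_zero]
  exact KK_le_ker_lam g M k hx

/-- the map from the associated graded module to the direct sum of the graded pieces. -/
noncomputable def toSum : Gr g M →ₗ[C] ⨁ k, Gk g M k :=
  Submodule.liftQ (R := C) (M₂ := ⨁ k, Gk g M k) (KK g M) (toSum₀ g M)
    (fun _ hx => LinearMap.mem_ker.2 (toSum₀_eq_zero g M hx))

theorem toSum_mk (x : SymM r M) : toSum g M (Submodule.Quotient.mk x) = toSum₀ g M x := rfl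

/-- the map from the direct sum of the graded pieces to the associated graded module. -/
noncomputable def ofSum : (⨁ k, Gk g M k) →ₗ[C] Gr g M :=
  DirectSum.toModule C ℕ (Gr g M) (inclK g M)

theorem ofSum_comp_toSum : (ofSum g M).comp (toSum g M) = LinearMap.id := by
  refine Submodule.linearMap_qext _ ?_
  refine Finsupp.lhom_ext fun α m => ?_
  simp only [LinearMap.comp_apply, Submodule.mkQ_apply, LinearMap.id_apply]
  rw [toSum_mk, toSum₀_single, ofSum, DirectSum.toModule_lof, inclK_mk, pi_single, if_pos rfl]

/-- the transition map `M / J^(k+1) M → M / J^k M`. -/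
noncomputable def trans (k : ℕ) : (M ⧸ Fil g M (k + 1)) →ₗ[C] M ⧸ Fil g M k :=
  Submodule.factor (p := Fil g M (k + 1)) (p' := Fil g M k) (Fil_anti g M (Nat.le_add_right k 1))

theorem trans_surjective (k : ℕ) : Surjective (trans g M k) :=
  Submodule.factor_surjective (Fil_anti g M (Nat.le_add_right k 1))

theorem range_lam (k : ℕ) : LinearMap.range (lam g M k) = LinearMap.ker (trans g M k) := by
  unfold lam trans
  rw [LinearMap.range_comp, range_ev]
  ext y
  obtain ⟨m, rfl⟩ := Submodule.Quotient.mk_surjective _ y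
  rw [LinearMap.mem_ker]
  change _ ↔ (Submodule.Quotient.mk m : M ⧸ Fil g M k) = 0
  rw [Submodule.Quotient.mk_eq_zero]
  constructor
  · rintro ⟨m', hm', h⟩
    rw [Submodule.mkQ_apply, Submodule.Quotient.eq] at h
    have := add_mem hm' (Fil_anti g M (Nat.le_add_right k 1) (neg_mem h))
    simpa using this
  · intro hm
    exact ⟨m, hm, rfl⟩

variable (A : Type u) [CommRing A] [Algebra A C] [Module A M] [IsScalarTower A C M]

theorem flat_Gk_of_flat_Gr [Module.Flat A (Gr g M)] (k : ℕ) : Module.Flat A (Gk g M k) :=
  Module.Flat.of_retract ((inclK g M k).restrictScalars A) ((projK g M k).restrictScalars A)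
    (LinearMap.ext fun x => LinearMap.congr_fun (projK_comp_inclK g M k) x)

theorem flat_Gr_of_flat_Gk [∀ k, Module.Flat A (Gk g M k)] : Module.Flat A (Gr g M) :=
  Module.Flat.of_retract ((toSum g M).restrictScalars A) ((ofSum g M).restrictScalars A)
    (LinearMap.ext fun x => LinearMap.congr_fun (ofSum_comp_toSum g M) x)

/-- the graded piece as the kernel of the transition map. -/
noncomputable def GkEquiv (k : ℕ) : Gk g M k ≃ₗ[C] LinearMap.ker (trans g M k) :=
  (lam g M k).quotKerEquivRange ≪≫ₗ LinearEquiv.ofEq _ _ (range_lam g M k)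

theorem flat_Gk_iff_flat_ker (k : ℕ) :
    Module.Flat A (Gk g M k) ↔ Module.Flat A (LinearMap.ker (trans g M k)) :=
  ⟨fun _ => Module.Flat.of_linearEquiv ((GkEquiv g M k).restrictScalars A).symm,
    fun _ => Module.Flat.of_linearEquiv ((GkEquiv g M k).restrictScalars A)⟩

theorem flat_ker_trans (k : ℕ) [Module.Flat A (M ⧸ Fil g M (k + 1))]
    [Module.Flat A (M ⧸ Fil g M k)] : Module.Flat A (LinearMap.ker (trans g M k)) :=
  Groth.Agent.Lib.Helper5.flat_of_exact_of_flat
    ((LinearMap.ker (trans g M k)).subtype.restrictScalars A) ((trans g M k).restrictScalars A)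
    (Submodule.injective_subtype _) (trans_surjective g M k)
    (LinearMap.exact_subtype_ker_map (trans g M k))

theorem flat_quot_Fil_of_flat_ker (h : ∀ k, Module.Flat A (LinearMap.ker (trans g M k))) (k : ℕ) :
    Module.Flat A (M ⧸ Fil g M k) := by
  induction k with
  | zero =>
    have : Subsingleton (M ⧸ Fil g M 0) := by
      rw [Fil_zero]
      exact Submodule.Quotient.subsingleton_iff.2 rfl
    infer_instance
  | succ k ih =>
    have := ih
    have := h k
    exact Groth.Agent.Lib.helper11.GenFlat.flat_of_exact_flat_flat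
      ((LinearMap.ker (trans g M k)).subtype.restrictScalars A) ((trans g M k).restrictScalars A)
      (Submodule.injective_subtype _) (trans_surjective g M k)
      (LinearMap.exact_subtype_ker_map (trans g M k))

/-- **Flatness of the associated graded module** is flatness of all the truncations. -/
theorem flat_Gr_iff : Module.Flat A (Gr g M) ↔ ∀ k, Module.Flat A (M ⧸ Fil g M k) := by
  constructor
  · intro h
    refine flat_quot_Fil_of_flat_ker g M A fun k => ?_
    rw [← flat_Gk_iff_flat_ker]
    exact flat_Gk_of_flat_Gr g M A k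
  · intro h
    have : ∀ k, Module.Flat A (Gk g M k) := fun k => by
      rw [flat_Gk_iff_flat_ker]
      have := h k
      have := h (k + 1)
      exact flat_ker_trans g M A k
    exact flat_Gr_of_flat_Gk g M A

end Flat

end Groth.Agent.Lib.Helper7.GrSym
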