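import Mathlib
import Groth.Agent.Lib.Helper7.GrSymFlat
import Groth.Agent.Lib.Helper7.FPKer

/-!
# Helper7 — GrSymFG: finite generation of the homogeneous parts `KKdeg k` when the truncation
`M / J^k M` is flat over the base.
-/

namespace Groth.Agent.Lib.Helper7.GrSym

open Function

universe u

section FG

variable {C : Type u} [CommRing C] {r : ℕ} (g : Fin r → C)
variable (M : Type u) [AddCommGroup M] [Module C M]

theorem range_pi_fg [Module.Finite C M] (k : ℕ) :
    (LinearMap.range (pi (r := r) C M k)).FG := by
  classical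
  let T : Finset (Fin r →₀ ℕ) := (Finsupp.finite_of_degree_le (σ := Fin r) k).toFinset
  let U : Submodule C (SymM r M) := ⨆ α ∈ T, LinearMap.range (Finsupp.lsingle (R := C) (M := M) α)
  have hU : U.FG := by
    refine Submodule.fg_biSup T _ fun α _ => ?_
    rw [LinearMap.range_eq_map]
    exact Submodule.FG.map _ Module.Finite.fg_top
  have h1 : LinearMap.range (pi C M k) ≤ U := by
    rintro _ ⟨x, rfl⟩
    induction x using Finsupp.induction_linear with
    | zero => rw [map_zero]; exact zero_mem _
    | add x y hx hy => rw [map_add]; exact add_mem hx hy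
    | single α m =>
      rw [pi_single]
      split_ifs with h
      · have hα : α ∈ T := by
          rw [Set.Finite.mem_toFinset]
          exact le_of_eq h
        exact Submodule.mem_iSup_of_mem α (Submodule.mem_iSup_of_mem hα ⟨m, rfl⟩)
      · exact zero_mem _
  have h2 : LinearMap.range (pi C M k) = U.map (pi C M k) := by
    apply le_antisymm
    · intro y hy
      exact ⟨y, h1 hy, mem_range_pi.1 hy⟩
    · rintro _ ⟨y, -, rfl⟩
      exact ⟨y, rfl⟩
  rw [h2]
  exact hU.map _

theorem Fil_fg [Module.Finite C M] (k : ℕ) : (Fil g M k).FG := by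
  unfold Fil
  refine Submodule.FG.smul ?_ Module.Finite.fg_top
  refine Submodule.FG.pow ?_ k
  classical
  exact ⟨(Finset.univ.image g), by simp [JJ]⟩

variable (A : Type u) [CommRing A] [Algebra A C] [Module A M] [IsScalarTower A C M]

theorem KKdeg_fg [Algebra.FinitePresentation A C] [Module.FinitePresentation C M] (k : ℕ)
    [Module.Flat A (M ⧸ Fil g M k)] : (KKdeg g M k).FG := by
  have : Module.FinitePresentation C (M ⧸ Fil g M k) :=
    Module.finitePresentation_of_surjective (Fil g M k).mkQ (Submodule.mkQ_surjective _)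
      (by rw [Submodule.ker_mkQ]; exact Fil_fg g M k)
  have : Module.FinitePresentation C (M ⧸ Fil g M (k + 1)) :=
    Module.finitePresentation_of_surjective (Fil g M (k + 1)).mkQ (Submodule.mkQ_surjective _)
      (by rw [Submodule.ker_mkQ]; exact Fil_fg g M (k + 1))
  have : Module.FinitePresentation C (LinearMap.ker (trans g M k)) :=
    Groth.Agent.Lib.Helper7.FPKer.fp_ker_of_flat A C (M ⧸ Fil g M k) (trans g M k)
      (trans_surjective g M k)
  let H : Submodule C (SymM r M) := LinearMap.range (pi C M k)
  have : Module.Finite C H := Module.Finite.iff_fg.2 (range_pi_fg (r := r) M k)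
  let φ : H →ₗ[C] LinearMap.ker (trans g M k) :=
    LinearMap.codRestrict _ ((lam g M k).comp H.subtype) (fun x => by
      rw [← range_lam]
      exact ⟨x.1, rfl⟩)
  have hφ : Surjective φ := by
    rintro ⟨y, hy⟩
    rw [← range_lam] at hy
    obtain ⟨x, rfl⟩ := hy
    refine ⟨⟨pi C M k x, ⟨x, rfl⟩⟩, ?_⟩
    apply Subtype.ext
    show lam g M k (pi C M k x) = lam g M k x
    rw [lam_apply, lam_apply, ev_pi_self]
  have hker := Module.FinitePresentation.fg_ker φ hφ
  have hmap : (LinearMap.ker φ).map H.subtype = KKdeg g M k := by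
    ext x
    constructor
    · rintro ⟨y, hy, rfl⟩
      have h0 : lam g M k y.1 = 0 := congrArg Subtype.val (LinearMap.mem_ker.1 hy)
      rw [mem_KKdeg]
      exact ⟨(mem_ker_lam g M).1 h0, mem_range_pi.1 y.2⟩
    · intro hx
      rw [mem_KKdeg] at hx
      refine ⟨⟨x, mem_range_pi.2 hx.2⟩, ?_, rfl⟩
      show _ ∈ LinearMap.ker φ
      rw [LinearMap.mem_ker]
      apply Subtype.ext
      show lam g M k x = 0
      exact (mem_ker_lam g M).2 hx.1
  rw [← hmap]
  exact hker.map _

end FG

end Groth.Agent.Lib.Helper7.GrSym
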