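import Mathlib

/-!
# Helper7 — GrSymBCGen: general base change lemmas for kernels

* `ker_le_span_of_lTensor_injective`: kernels commute with base change when the image stays a
  submodule after tensoring.
* `lTensor_subtype_injective_of_flat_quot`, `lTensor_range_injective_of_exact_flat`.
* `mem_smul_of_map_eq_zero`: quotient base change, `N ∩ I X = I N` for `X / N` flat.
* `exists_smul_mem_of_mem_span`: localization base change.
-/

namespace Groth.Agent.Lib.Helper7.GrSym

open Function TensorProduct

universe u

section Gen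

variable {A A' : Type*} [CommRing A] [CommRing A'] [Algebra A A']
variable {X Y X' Y' : Type*} [AddCommGroup X] [AddCommGroup Y] [AddCommGroup X'] [AddCommGroup Y']
  [Module A X] [Module A Y] [Module A X'] [Module A Y'] [Module A' X'] [Module A' Y']
  [IsScalarTower A A' X'] [IsScalarTower A A' Y']

theorem equiv_lTensor_comm {fX : X →ₗ[A] X'} (hX : IsBaseChange A' fX) {fY : Y →ₗ[A] Y'}
    (hY : IsBaseChange A' fY) (u : X →ₗ[A] Y) (u' : X' →ₗ[A'] Y')
    (hcomm : ∀ x, u' (fX x) = fY (u x)) (z : A' ⊗[A] X) :
    hY.equiv (u.lTensor A' z) = u' (hX.equiv z) := by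
  induction z with
  | zero => simp
  | add x y hx hy => simp only [map_add, hx, hy]
  | tmul a x =>
    rw [LinearMap.lTensor_tmul, hY.equiv_tmul, hX.equiv_tmul, map_smul, hcomm]

theorem equiv_lTensor_subtype_mem {fX : X →ₗ[A] X'} (hX : IsBaseChange A' fX) (N : Submodule A X)
    (w : A' ⊗[A] N) : hX.equiv (N.subtype.lTensor A' w) ∈ Submodule.span A' (fX '' (N : Set X)) := by
  induction w with
  | zero => simp
  | add x y hx hy =>
    simp only [map_add]
    exact add_mem hx hy
  | tmul a x =>
    rw [LinearMap.lTensor_tmul, hX.equiv_tmul]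
    exact Submodule.smul_mem _ _ (Submodule.subset_span ⟨x.1, x.2, rfl⟩)

/-- **Kernels commute with base change** as soon as the image of `u` remains a submodule after
tensoring. -/
theorem ker_le_span_of_lTensor_injective {fX : X →ₗ[A] X'} (hX : IsBaseChange A' fX)
    {fY : Y →ₗ[A] Y'} (hY : IsBaseChange A' fY) (u : X →ₗ[A] Y) (u' : X' →ₗ[A'] Y')
    (hcomm : ∀ x, u' (fX x) = fY (u x))
    (hinj : Injective ((LinearMap.range u).subtype.lTensor A')) :
    LinearMap.ker u' ≤ Submodule.span A' (fX '' (LinearMap.ker u : Set X)) := by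
  intro x' hx'
  obtain ⟨z, rfl⟩ := hX.equiv.surjective x'
  have h1 : u.lTensor A' z = 0 := by
    apply hY.equiv.injective
    rw [equiv_lTensor_comm hX hY u u' hcomm, map_zero]
    exact hx'
  have hfac : u = (LinearMap.range u).subtype ∘ₗ u.rangeRestrict := by
    ext x; rfl
  have h2 : u.rangeRestrict.lTensor A' z = 0 := by
    apply hinj
    rw [map_zero, ← LinearMap.comp_apply, ← LinearMap.lTensor_comp, ← hfac, h1]
  have hex := lTensor_exact A' (LinearMap.exact_subtype_ker_map u.rangeRestrict)
    (LinearMap.surjective_rangeRestrict u)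
  obtain ⟨w, rfl⟩ := (hex z).1 h2
  have := equiv_lTensor_subtype_mem hX (LinearMap.ker u.rangeRestrict) w
  have hk : (LinearMap.ker u.rangeRestrict : Set X) = (LinearMap.ker u : Set X) := by
    rw [LinearMap.ker_rangeRestrict]
  exact hk ▸ this

/-- if the quotient by `N` is flat, `N` stays a submodule after any tensoring. -/
theorem lTensor_subtype_injective_of_flat_quot (N : Submodule A X) [Module.Flat A (X ⧸ N)]
    (T : Type*) [AddCommGroup T] [Module A T] : Injective (N.subtype.lTensor T) :=
  LinearMap.lTensor_injective_of_exact_of_flat N.mkQ (Submodule.mkQ_surjective N) N.subtype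
    (Submodule.injective_subtype N) (LinearMap.exact_subtype_mkQ N) T

/-- if `u` is followed by a surjection `v` onto a flat module with `ker v = range u`, the range of
`u` stays a submodule after any tensoring. -/
theorem lTensor_range_injective_of_exact_flat {Z : Type*} [AddCommGroup Z] [Module A Z]
    [Module.Flat A Z] (u : X →ₗ[A] Y) (v : Y →ₗ[A] Z) (hv : Surjective v)
    (h : LinearMap.range u = LinearMap.ker v) (T : Type*) [AddCommGroup T] [Module A T] :
    Injective ((LinearMap.range u).subtype.lTensor T) := by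
  refine LinearMap.lTensor_injective_of_exact_of_flat v hv (LinearMap.range u).subtype
    (Submodule.injective_subtype _) ?_ T
  rw [LinearMap.exact_iff, Submodule.range_subtype, h]

/-- flat base change: every submodule stays a submodule. -/
theorem lTensor_subtype_injective_of_flat (N : Submodule A X) [Module.Flat A A'] :
    Injective (N.subtype.lTensor A') :=
  Module.Flat.lTensor_preserves_injective_linearMap N.subtype (Submodule.injective_subtype N)

end Gen

section Quot

variable {A : Type*} [CommRing A] (I : Ideal A)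
variable {X X' : Type*} [AddCommGroup X] [AddCommGroup X'] [Module A X] [Module A X']
  [Module (A ⧸ I) X'] [IsScalarTower A (A ⧸ I) X']

/-- base change to a quotient ring: an element of `N` dying in `X / I X` lies in `I N`, when
`X / N` is flat. -/
theorem mem_smul_of_map_eq_zero {fX : X →ₗ[A] X'} (hX : IsBaseChange (A ⧸ I) fX)
    (N : Submodule A X) (hinj : Injective (N.subtype.lTensor (A ⧸ I))) {z : X} (hz : z ∈ N)
    (h0 : fX z = 0) : z ∈ I • N := by
  have h1 : (1 : A ⧸ I) ⊗ₜ[A] (⟨z, hz⟩ : N) = 0 := by
    apply hinj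
    rw [LinearMap.lTensor_tmul, map_zero]
    apply hX.equiv.injective
    rw [hX.equiv_tmul, one_smul, map_zero]
    exact h0
  have h2 := congrArg (TensorProduct.quotTensorEquivQuotSMul N I) h1
  have h3 : (1 : A ⧸ I) = Ideal.Quotient.mk I 1 := rfl
  rw [h3, TensorProduct.quotTensorEquivQuotSMul_mk_tmul, map_zero, one_smul,
    Submodule.Quotient.mk_eq_zero] at h2
  have h4 : (I • (⊤ : Submodule A N)).map N.subtype = I • N := by
    rw [Submodule.map_smul'', Submodule.map_top, Submodule.range_subtype]
  rw [← h4]
  exact ⟨⟨z, hz⟩, h2, rfl⟩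

/-- elements of the span (over the quotient ring) of the image are images. -/
theorem exists_of_mem_span_quot {fX : X →ₗ[A] X'} (N : Submodule A X) {x' : X'}
    (hx' : x' ∈ Submodule.span (A ⧸ I) (fX '' (N : Set X))) : ∃ y ∈ N, fX y = x' := by
  induction hx' using Submodule.span_induction with
  | mem x hx =>
    obtain ⟨y, hy, rfl⟩ := hx
    exact ⟨y, hy, rfl⟩
  | zero => exact ⟨0, zero_mem _, map_zero _⟩
  | add x y _ _ hx hy =>
    obtain ⟨a, ha, rfl⟩ := hx
    obtain ⟨b, hb, rfl⟩ := hy
    exact ⟨a + b, add_mem ha hb, map_add _ _ _⟩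
  | smul c x _ hx =>
    obtain ⟨a, ha, rfl⟩ := hx
    obtain ⟨c, rfl⟩ := Ideal.Quotient.mk_surjective c
    refine ⟨c • a, Submodule.smul_mem _ _ ha, ?_⟩
    rw [map_smul]
    exact (algebraMap_smul (A ⧸ I) c (fX a)).symm

end Quot

section Loc

variable {A A' : Type*} [CommRing A] [CommRing A'] [Algebra A A'] (t : A)
  [IsLocalization.Away t A']
variable {X X' : Type*} [AddCommGroup X] [AddCommGroup X'] [Module A X] [Module A X']
  [Module A' X'] [IsScalarTower A A' X']

/-- base change to a localization `A_t`: if the image of `x` lies in the span of the image of `N`,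
some `t^m x` lies in `N`. -/
theorem exists_pow_smul_mem_of_mem_span {fX : X →ₗ[A] X'} (hX : IsBaseChange A' fX)
    (N : Submodule A X) {x : X} (hx : fX x ∈ Submodule.span A' (fX '' (N : Set X))) :
    ∃ m : ℕ, t ^ m • x ∈ N := by
  have : IsLocalizedModule (Submonoid.powers t) fX :=
    (isLocalizedModule_iff_isBaseChange (Submonoid.powers t) A' fX).2 hX
  rw [← Submodule.localized'_eq_span A' (Submonoid.powers t) fX N, Submodule.mem_localized'] at hx
  obtain ⟨y, hy, s, hs⟩ := hx
  rw [IsLocalizedModule.mk'_eq_iff] at hs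
  have h1 : fX (y - s • x) = 0 := by
    rw [map_sub, hs]
    simp only [Submonoid.smul_def, map_smul, sub_self]
  obtain ⟨c, hc⟩ := (IsLocalizedModule.eq_zero_iff (Submonoid.powers t) fX).1 h1
  obtain ⟨c, m₁, rfl⟩ := c
  obtain ⟨s, m₂, rfl⟩ := s
  refine ⟨m₁ + m₂, ?_⟩
  simp only [Submonoid.smul_def] at hc
  rw [smul_sub, sub_eq_zero] at hc
  have : t ^ (m₁ + m₂) • x = t ^ m₁ • y := by
    rw [pow_add, mul_smul]
    exact hc.symm
  rw [this]
  exact Submodule.smul_mem _ _ hy

end Loc

end Groth.Agent.Lib.Helper7.GrSym
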