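import Mathlib
import Groth.Agent.Lib.Helper7.GrSymFlat
import Groth.Agent.Lib.Helper7.GrSymBCGen

/-!
# Helper7 — GrSymBC: base change of the symbol module, of `KK` and of the associated graded module
-/

namespace Groth.Agent.Lib.Helper7.GrSym

open Function TensorProduct

universe u

section BC

variable {A A' C C' : Type u} [CommRing A] [CommRing A'] [CommRing C] [CommRing C']
  [Algebra A A'] [Algebra A C] [Algebra C C'] [Algebra A' C'] [Algebra A C']
  {r : ℕ} (g : Fin r → C)
  {M M' : Type u} [AddCommGroup M] [AddCommGroup M'] [Module C M] [Module A M]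
  [IsScalarTower A C M]
  [Module C' M'] [Module C M'] [IsScalarTower C C' M'] [Module A' M'] [IsScalarTower A' C' M']
  [Module A M'] [IsScalarTower A A' M'] [IsScalarTower A C M'] [IsScalarTower A C' M']
  (f : M →ₗ[C] M')

variable (C') in
/-- the image family in `C'`. -/
def gmap : Fin r → C' := fun i => algebraMap C C' (g i)

theorem mon_gmap (α : Fin r →₀ ℕ) : mon (gmap C' g) α = algebraMap C C' (mon g α) := by
  unfold mon gmap
  rw [map_finsuppProd]
  simp only [map_pow]

/-- the base change map on symbol modules. -/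
noncomputable def bc : SymM r M →ₗ[C] SymM r M' := Finsupp.mapRange.linearMap f

theorem bc_single (α : Fin r →₀ ℕ) (m : M) :
    bc f (Finsupp.single α m) = Finsupp.single α (f m) := by
  unfold bc
  rw [Finsupp.mapRange.linearMap_apply, Finsupp.mapRange_single]

theorem ev_bc (k : ℕ) (x : SymM r M) : ev (gmap C' g) M' k (bc f x) = f (ev g M k x) := by
  have : ((ev (gmap C' g) M' k).restrictScalars C).comp (bc f) = f.comp (ev g M k) := by
    refine Finsupp.lhom_ext fun α m => ?_
    simp only [LinearMap.comp_apply, LinearMap.restrictScalars_apply, bc_single, ev_single]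
    split_ifs
    · rw [mon_gmap, algebraMap_smul, map_smul]
    · rw [map_zero]
  exact LinearMap.congr_fun this x

theorem shiftPow_bc (γ : Fin r →₀ ℕ) (x : SymM r M) :
    bc f (shiftPow C M γ x) = shiftPow C' M' γ (bc f x) := by
  have : (bc f).comp (shiftPow C M γ) = ((shiftPow C' M' γ).restrictScalars C).comp (bc (r := r) f) := by
    refine Finsupp.lhom_ext fun α m => ?_
    simp only [LinearMap.comp_apply, LinearMap.restrictScalars_apply, bc_single, shiftPow_single]
  exact LinearMap.congr_fun this x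

theorem pi_bc (k : ℕ) (x : SymM r M) : bc f (pi C M k x) = pi C' M' k (bc f x) := by
  have : (bc f).comp (pi C M k) = ((pi C' M' k).restrictScalars C).comp (bc (r := r) f) := by
    refine Finsupp.lhom_ext fun α m => ?_
    simp only [LinearMap.comp_apply, LinearMap.restrictScalars_apply, bc_single, pi_single]
    split_ifs
    · rw [bc_single]
    · rw [map_zero]
  exact LinearMap.congr_fun this x

theorem map_mem_Fil {k : ℕ} {m : M} (hm : m ∈ Fil g M k) : f m ∈ Fil (gmap C' g) M' k := by
  rw [← range_ev] at hm ⊢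
  obtain ⟨x, rfl⟩ := hm
  exact ⟨bc f x, ev_bc g f k x⟩

theorem bc_mem_KK {x : SymM r M} (hx : x ∈ KK g M) : bc f x ∈ KK (gmap C' g) M' := by
  rw [mem_KK] at hx ⊢
  intro k
  rw [ev_bc]
  exact map_mem_Fil g f (hx k)

theorem bc_mem_KKdeg {k : ℕ} {x : SymM r M} (hx : x ∈ KKdeg g M k) :
    bc f x ∈ KKdeg (gmap C' g) M' k := by
  refine ⟨bc_mem_KK g f hx.1, ?_⟩
  exact mem_range_pi.2 (by rw [← pi_bc, mem_range_pi.1 hx.2])

theorem bc_mem_ker_lam {k : ℕ} {x : SymM r M} (hx : x ∈ LinearMap.ker (lam g M k)) :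
    bc f x ∈ LinearMap.ker (lam (gmap C' g) M' k) := by
  rw [mem_ker_lam] at hx ⊢
  rw [ev_bc]
  exact map_mem_Fil g f hx

variable (C') in
/-- the induced map on truncations. -/
noncomputable def fQ (k : ℕ) : (M ⧸ Fil g M k) →ₗ[C] M' ⧸ Fil (gmap C' g) M' k :=
  Submodule.liftQ _ (((Fil (gmap C' g) M' k).mkQ.restrictScalars C).comp f) (fun m hm => by
    rw [LinearMap.mem_ker, LinearMap.comp_apply, LinearMap.restrictScalars_apply,
      Submodule.mkQ_apply, Submodule.Quotient.mk_eq_zero]
    exact map_mem_Fil g f hm)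

theorem fQ_mk (k : ℕ) (m : M) :
    fQ C' g f k (Submodule.Quotient.mk m : M ⧸ Fil g M k) =
      (Submodule.Quotient.mk (f m) : M' ⧸ Fil (gmap C' g) M' k) := rfl

theorem lam_bc (k : ℕ) (x : SymM r M) :
    lam (gmap C' g) M' k (bc f x) = fQ C' g f (k + 1) (lam g M k x) := by
  rw [lam_apply, lam_apply, fQ_mk, ev_bc]

variable (hf : IsBaseChange A' (f.restrictScalars A))

include hf

theorem bc_isBaseChange : IsBaseChange A' ((bc (r := r) f).restrictScalars A) := by
  have h := IsBaseChange.finsuppPow (ι := Fin r →₀ ℕ) hf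
  have e : (bc (r := r) f).restrictScalars A = Finsupp.mapRange.linearMap (f.restrictScalars A) := by
    refine Finsupp.lhom_ext fun α m => ?_
    rw [LinearMap.restrictScalars_apply, bc_single, Finsupp.mapRange.linearMap_apply,
      Finsupp.mapRange_single]
    rfl
  rw [e]
  exact h

theorem fQ_isBaseChange (k : ℕ) : IsBaseChange A' ((fQ C' g f k).restrictScalars A) := by
  refine IsBaseChange.of_right_exact A'
    (h₁ := (bc f).restrictScalars A) (h₂ := f.restrictScalars A)
    (h₃ := (fQ C' g f k).restrictScalars A)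
    (f := (ev g M k).restrictScalars A) (g := (Fil g M k).mkQ.restrictScalars A)
    (f' := (ev (gmap C' g) M' k).restrictScalars A')
    (g' := (Fil (gmap C' g) M' k).mkQ.restrictScalars A')
    ?_ ?_ (bc_isBaseChange f hf) hf ?_ ?_ ?_ ?_
  · exact LinearMap.ext fun x => (ev_bc g f k x).symm
  · exact LinearMap.ext fun m => rfl
  · intro m
    show (Submodule.Quotient.mk m : M ⧸ Fil g M k) = 0 ↔ m ∈ Set.range (ev g M k)
    rw [Submodule.Quotient.mk_eq_zero, ← range_ev]
    rfl
  · intro y
    obtain ⟨m, rfl⟩ := Submodule.Quotient.mk_surjective _ y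
    exact ⟨m, rfl⟩
  · intro m
    show (Submodule.Quotient.mk m : M' ⧸ Fil (gmap C' g) M' k) = 0 ↔
      m ∈ Set.range (ev (gmap C' g) M' k)
    rw [Submodule.Quotient.mk_eq_zero, ← range_ev]
    rfl
  · intro y
    obtain ⟨m, rfl⟩ := Submodule.Quotient.mk_surjective _ y
    exact ⟨m, rfl⟩

end BC

end Groth.Agent.Lib.Helper7.GrSym
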