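import Mathlib
import Groth.Agent.Lib.Helper7.GrSymBC

/-!
# Helper7 — GrSymBC2: base change of `KK`, `KKdeg`, `Sat`, `Bound`, and of the associated graded
module, under the Tor-vanishing hypothesis `TorInj`.
-/

namespace Groth.Agent.Lib.Helper7.GrSym

open Function TensorProduct

universe u

section TorInjDef

variable {C : Type u} [CommRing C] {r : ℕ} (g : Fin r → C)
  (M : Type u) [AddCommGroup M] [Module C M]
  (A A' : Type u) [CommRing A] [CommRing A'] [Algebra A A'] [Algebra A C] [Module A M]
  [IsScalarTower A C M]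

/-- the image of the degree `k` symbol map stays a submodule after tensoring with `A'`. -/
def TorInj (k : ℕ) : Prop :=
  Injective ((LinearMap.range ((lam g M k).restrictScalars A)).subtype.lTensor A')

theorem range_lam_restrict (k : ℕ) :
    LinearMap.range ((lam g M k).restrictScalars A) =
      LinearMap.ker ((trans g M k).restrictScalars A) := by
  ext y
  show y ∈ LinearMap.range (lam g M k) ↔ y ∈ LinearMap.ker (trans g M k)
  rw [range_lam]

theorem torInj_of_flat (k : ℕ) [Module.Flat A (M ⧸ Fil g M k)] : TorInj g M A A' k :=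
  lTensor_range_injective_of_exact_flat ((lam g M k).restrictScalars A)
    ((trans g M k).restrictScalars A) (trans_surjective g M k) (range_lam_restrict g M A k) A'

theorem torInj_of_flat_alg (k : ℕ) [Module.Flat A A'] : TorInj g M A A' k :=
  lTensor_subtype_injective_of_flat _

end TorInjDef

section BC

variable {A A' C C' : Type u} [CommRing A] [CommRing A'] [CommRing C] [CommRing C']
  [Algebra A A'] [Algebra A C] [Algebra C C'] [Algebra A' C'] [Algebra A C']
  {r : ℕ} (g : Fin r → C)
  {M M' : Type u} [AddCommGroup M] [AddCommGroup M'] [Module C M] [Module A M]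
  [IsScalarTower A C M]
  [Module C' M'] [Module C M'] [IsScalarTower C C' M'] [Module A' M'] [IsScalarTower A' C' M']
  [Module A M'] [IsScalarTower A A' M'] [IsScalarTower A C M'] [IsScalarTower A C' M']
  (f : M →ₗ[C] M')

theorem bc_mem_W {d : ℕ} {w : SymM r M} (hw : w ∈ W g M d) : bc f w ∈ W (gmap C' g) M' d := by
  unfold W at hw
  induction hw using Submodule.iSup_induction' with
  | mem j x hx => exact KKdeg_le_W _ _ (Nat.lt_succ_iff.1 j.2) (bc_mem_KKdeg g f hx)
  | zero => rw [map_zero]; exact zero_mem _
  | add x y _ _ hx hy => rw [map_add]; exact add_mem hx hy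

theorem bc_mem_Sat_W {d : ℕ} {y : SymM r M} (hy : y ∈ Sat C M (W g M d)) :
    bc f y ∈ Sat C' M' (W (gmap C' g) M' d) := by
  unfold Sat at hy
  induction hy using Submodule.iSup_induction' with
  | mem γ x hx =>
    obtain ⟨w, hw, rfl⟩ := hx
    rw [shiftPow_bc (C' := C')]
    exact Submodule.mem_iSup_of_mem γ (Submodule.mem_map_of_mem (bc_mem_W g f hw))
  | zero => rw [map_zero]; exact zero_mem _
  | add x y _ _ hx hy => rw [map_add]; exact add_mem hx hy

variable (hf : IsBaseChange A' (f.restrictScalars A))

include hf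

theorem ker_lam_le_span {k : ℕ} (h : TorInj g M A A' k) {x' : SymM r M'}
    (hx' : x' ∈ LinearMap.ker (lam (gmap C' g) M' k)) :
    x' ∈ Submodule.span A' (bc f '' (LinearMap.ker (lam g M k) : Set (SymM r M))) := by
  have hc : ∀ x : SymM r M, ((lam (gmap C' g) M' k).restrictScalars A')
      (((bc f).restrictScalars A) x) =
      ((fQ C' g f (k + 1)).restrictScalars A) (((lam g M k).restrictScalars A) x) := by
    intro x
    simp only [LinearMap.restrictScalars_apply]
    exact lam_bc g f k x
  have h0 := ker_le_span_of_lTensor_injective (bc_isBaseChange (r := r) f hf)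
    (fQ_isBaseChange g f hf (k + 1))
    ((lam g M k).restrictScalars A) ((lam (gmap C' g) M' k).restrictScalars A')
    hc h
  have h1 : x' ∈ LinearMap.ker ((lam (gmap C' g) M' k).restrictScalars A') := hx'
  have h2 := h0 h1
  rw [LinearMap.ker_restrictScalars, Submodule.coe_restrictScalars,
    LinearMap.coe_restrictScalars] at h2
  exact h2

theorem KKdeg_le_span {k : ℕ} (h : TorInj g M A A' k) {x' : SymM r M'}
    (hx' : x' ∈ KKdeg (gmap C' g) M' k) :
    x' ∈ Submodule.span A' (bc f '' (KKdeg g M k : Set (SymM r M))) := by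
  have h1 := ker_lam_le_span g f hf h (KK_le_ker_lam _ _ k hx'.1)
  have key : Submodule.span A' (bc f '' (LinearMap.ker (lam g M k) : Set (SymM r M))) ≤
      (Submodule.span A' (bc f '' (KKdeg g M k : Set (SymM r M)))).comap
        ((pi C' M' k).restrictScalars A') := by
    rw [Submodule.span_le]
    rintro _ ⟨y, hy, rfl⟩
    rw [SetLike.mem_coe, Submodule.mem_comap, LinearMap.restrictScalars_apply, ← pi_bc]
    exact Submodule.subset_span ⟨_, pi_mem_KKdeg_of_mem_ker_lam g hy, rfl⟩
  have h2 := key h1
  rw [Submodule.mem_comap, LinearMap.restrictScalars_apply, mem_range_pi.1 hx'.2] at h2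
  exact h2

theorem KK_le_span (h : ∀ k, TorInj g M A A' k) {x' : SymM r M'}
    (hx' : x' ∈ KK (gmap C' g) M') :
    x' ∈ Submodule.span A' (bc f '' (KK g M : Set (SymM r M))) := by
  obtain ⟨T, hT⟩ := exists_sum_pi (C := C') x'
  rw [← hT T subset_rfl]
  refine Submodule.sum_mem _ fun k _ => ?_
  have h1 := KKdeg_le_span g f hf (h k) (pi_mem_KKdeg _ hx' k)
  exact Submodule.span_mono (Set.image_mono (KKdeg_le_KK g M k)) h1

theorem W_le_span {d : ℕ} (h : ∀ j, j ≤ d → TorInj g M A A' j) {x' : SymM r M'}
    (hx' : x' ∈ W (gmap C' g) M' d) :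
    x' ∈ Submodule.span A' (bc f '' (W g M d : Set (SymM r M))) := by
  unfold W at hx'
  induction hx' using Submodule.iSup_induction' with
  | mem j x hx =>
    have hj : (j : ℕ) ≤ d := Nat.lt_succ_iff.1 j.2
    exact Submodule.span_mono (Set.image_mono (KKdeg_le_W g M hj))
      (KKdeg_le_span g f hf (h j hj) hx)
  | zero => exact zero_mem _
  | add x y _ _ hx hy => exact add_mem hx hy

theorem Sat_W_le_span {d : ℕ} (h : ∀ j, j ≤ d → TorInj g M A A' j) {x' : SymM r M'}
    (hx' : x' ∈ Sat C' M' (W (gmap C' g) M' d)) :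
    x' ∈ Submodule.span A' (bc f '' (Sat C M (W g M d) : Set (SymM r M))) := by
  unfold Sat at hx'
  induction hx' using Submodule.iSup_induction' with
  | mem γ x hx =>
    obtain ⟨w', hw', rfl⟩ := hx
    have h1 := W_le_span g f hf h hw'
    have key : Submodule.span A' (bc f '' (W g M d : Set (SymM r M))) ≤
        (Submodule.span A' (bc f '' (Sat C M (W g M d) : Set (SymM r M)))).comap
          ((shiftPow C' M' γ).restrictScalars A') := by
      rw [Submodule.span_le]
      rintro _ ⟨y, hy, rfl⟩
      rw [SetLike.mem_coe, Submodule.mem_comap, LinearMap.restrictScalars_apply, ← shiftPow_bc]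
      exact Submodule.subset_span ⟨_, Submodule.mem_iSup_of_mem γ (Submodule.mem_map_of_mem hy), rfl⟩
    exact key h1
  | zero => exact zero_mem _
  | add x y _ _ hx hy => exact add_mem hx hy

omit hf in
theorem span_bc_Sat_W_le {d : ℕ} {x' : SymM r M'}
    (hx' : x' ∈ Submodule.span A' (bc f '' (Sat C M (W g M d) : Set (SymM r M)))) :
    x' ∈ Sat C' M' (W (gmap C' g) M' d) := by
  have : Submodule.span A' (bc f '' (Sat C M (W g M d) : Set (SymM r M))) ≤
      (Sat C' M' (W (gmap C' g) M' d)).restrictScalars A' := by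
    rw [Submodule.span_le]
    rintro _ ⟨y, hy, rfl⟩
    exact bc_mem_Sat_W g f hy
  exact this hx'

/-- the degree bound passes to base changes. -/
theorem Bound.baseChange {d : ℕ} (h : ∀ k, TorInj g M A A' k) (hb : Bound g M d) :
    Bound (gmap C' g) M' d := by
  intro x' hx'
  have h1 := KK_le_span g f hf h hx'
  refine span_bc_Sat_W_le g f (Submodule.span_mono (Set.image_mono ?_) h1)
  exact hb

end BC

end Groth.Agent.Lib.Helper7.GrSym
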