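import Mathlib
import Groth.Agent.Lib.Helper7.GrSymBC2

/-!
# Helper7 — GrSymBC3: base change of the associated graded module
-/

namespace Groth.Agent.Lib.Helper7.GrSym

open Function TensorProduct

universe u

section BC

variable {A A' C C' : Type u} [CommRing A] [CommRing A'] [CommRing C] [CommRing C']
  [Algebra A A'] [Algebra A C] [Algebra C C'] [Algebra A' C'] [Algebra A C']
  {r : ℕ} (g : Fin r → C)
  {M M' : Type u} [AddCommGroup M] [AddCommGroup M'] [Module C M] [Module A M]
  [IsScalarTower A C M]
  [Module C' M'] [Module C M'] [IsScalarTower C C' M'] [Module A' M'] [IsScalarTower A' C' M']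
  [Module A M'] [IsScalarTower A A' M'] [IsScalarTower A C M'] [IsScalarTower A C' M']
  (f : M →ₗ[C] M')

variable (C') in
/-- the induced map on associated graded modules. -/
noncomputable def grMap : Gr g M →ₗ[C] Gr (gmap C' g) M' :=
  Submodule.liftQ _ (((KK (gmap C' g) M').mkQ.restrictScalars C).comp (bc f)) (fun x hx => by
    rw [LinearMap.mem_ker, LinearMap.comp_apply, LinearMap.restrictScalars_apply,
      Submodule.mkQ_apply, Submodule.Quotient.mk_eq_zero]
    exact bc_mem_KK g f hx)

theorem grMap_mk (x : SymM r M) :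
    grMap C' g f (Submodule.Quotient.mk x : Gr g M) =
      (Submodule.Quotient.mk (bc f x) : Gr (gmap C' g) M') := rfl

variable (hf : IsBaseChange A' (f.restrictScalars A))

include hf

/-- **Base change of the associated graded module**, when `KK` commutes with the base change. -/
theorem grMap_isBaseChange
    (hspan : ∀ x' ∈ KK (gmap C' g) M',
      x' ∈ Submodule.span A' (bc f '' (KK g M : Set (SymM r M)))) :
    IsBaseChange A' ((grMap C' g f).restrictScalars A) := by
  let K : Submodule A (SymM r M) := (KK g M).restrictScalars A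
  let h₁ : K →ₗ[A] A' ⊗[A] K := TensorProduct.mk A A' K 1
  have hh₁ : IsBaseChange A' h₁ := TensorProduct.isBaseChange A K A'
  let u : K →ₗ[A] SymM r M' := ((bc f).restrictScalars A).comp K.subtype
  let f' : A' ⊗[A] K →ₗ[A'] SymM r M' := hh₁.lift u
  have hf' : ∀ x : K, f' (h₁ x) = bc f x.1 := fun x => hh₁.lift_eq u x
  have hrange : ∀ z, f' z ∈ KK (gmap C' g) M' := by
    intro z
    induction z with
    | zero => rw [map_zero]; exact zero_mem _
    | add x y hx hy => rw [map_add]; exact add_mem hx hy
    | tmul a x =>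
      have : a ⊗ₜ[A] x = a • h₁ x := by
        show a ⊗ₜ[A] x = a • ((1 : A') ⊗ₜ[A] x)
        rw [TensorProduct.smul_tmul', smul_eq_mul, mul_one]
      rw [this, map_smul, hf']
      have h3 := bc_mem_KK (C' := C') g f x.2
      have h4 : algebraMap A' C' a • bc f x.1 ∈ KK (gmap C' g) M' := Submodule.smul_mem _ _ h3
      rwa [algebraMap_smul] at h4
  refine IsBaseChange.of_right_exact A'
    (h₁ := h₁) (h₂ := (bc f).restrictScalars A)
    (h₃ := (grMap C' g f).restrictScalars A)
    (f := K.subtype) (g := (KK g M).mkQ.restrictScalars A)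
    (f' := f')
    (g' := (KK (gmap C' g) M').mkQ.restrictScalars A')
    ?_ ?_ hh₁ (bc_isBaseChange f hf) ?_ ?_ ?_ ?_
  · exact LinearMap.ext fun x => (hf' x).symm
  · exact LinearMap.ext fun m => rfl
  · intro x
    show (Submodule.Quotient.mk x : Gr g M) = 0 ↔ x ∈ Set.range K.subtype
    rw [Submodule.Quotient.mk_eq_zero]
    constructor
    · intro hx
      exact ⟨⟨x, hx⟩, rfl⟩
    · rintro ⟨y, rfl⟩
      exact y.2
  · intro y
    obtain ⟨m, rfl⟩ := Submodule.Quotient.mk_surjective _ y
    exact ⟨m, rfl⟩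
  · intro x'
    show (Submodule.Quotient.mk x' : Gr (gmap C' g) M') = 0 ↔ x' ∈ Set.range f'
    rw [Submodule.Quotient.mk_eq_zero]
    constructor
    · intro hx'
      have h1 := hspan x' hx'
      have h2 : Submodule.span A' (bc f '' (KK g M : Set (SymM r M))) ≤ LinearMap.range f' := by
        rw [Submodule.span_le]
        rintro _ ⟨y, hy, rfl⟩
        exact ⟨h₁ ⟨y, hy⟩, hf' ⟨y, hy⟩⟩
      exact h2 h1
    · rintro ⟨z, rfl⟩
      exact hrange z
  · intro y
    obtain ⟨m, rfl⟩ := Submodule.Quotient.mk_surjective _ y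
    exact ⟨m, rfl⟩

omit hf in
/-- variant of `grMap` with a prescribed target family. -/
noncomputable def grMapOf (g₂ : Fin r → C') (hg : gmap C' g = g₂) : Gr g M →ₗ[C] Gr g₂ M' :=
  Submodule.liftQ _ (((KK g₂ M').mkQ.restrictScalars C).comp (bc f)) (fun x hx => by
    subst hg
    rw [LinearMap.mem_ker, LinearMap.comp_apply, LinearMap.restrictScalars_apply,
      Submodule.mkQ_apply, Submodule.Quotient.mk_eq_zero]
    exact bc_mem_KK g f hx)

omit hf in
theorem grMapOf_mk (g₂ : Fin r → C') (hg : gmap C' g = g₂) (x : SymM r M) :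
    grMapOf g f g₂ hg (Submodule.Quotient.mk x : Gr g M) =
      (Submodule.Quotient.mk (bc f x) : Gr g₂ M') := rfl

theorem grMapOf_isBaseChange (g₂ : Fin r → C') (hg : gmap C' g = g₂)
    (hspan : ∀ x' ∈ KK g₂ M', x' ∈ Submodule.span A' (bc f '' (KK g M : Set (SymM r M)))) :
    IsBaseChange A' ((grMapOf g f g₂ hg).restrictScalars A) := by
  subst hg
  exact grMap_isBaseChange g f hf hspan

end BC

end Groth.Agent.Lib.Helper7.GrSym
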