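import Mathlib
import Groth.Agent.Lib.Helper7.GrSymFlat

/-!
# Helper7 — GrSymNoeth: the symbol module as a module over the polynomial ring `C[T₁..T_r]`;
the degree bound in the Noetherian case; the associated graded module as a finite `C[T]`-module.
-/

namespace Groth.Agent.Lib.Helper7.GrSym

open Function TensorProduct MvPolynomial

universe u

section Noeth

variable {C : Type u} [CommRing C] {r : ℕ} (g : Fin r → C)
variable (M : Type u) [AddCommGroup M] [Module C M]

variable (C) in
/-- the symbol module as `C[T] ⊗ M`. -/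
noncomputable def EE : (MvPolynomial (Fin r) C) ⊗[C] M ≃ₗ[C] SymM r M :=
  TensorProduct.equivFinsuppOfBasisLeft (MvPolynomial.basisMonomials (Fin r) C)

theorem EE_symm_single (α : Fin r →₀ ℕ) (m : M) :
    (EE C M).symm (Finsupp.single α m) = (monomial α (1 : C)) ⊗ₜ[C] m := by
  unfold EE
  rw [TensorProduct.equivFinsuppOfBasisLeft_symm_apply, Finsupp.sum_single_index (by simp)]
  rfl

theorem EE_symm_shiftPow (β : Fin r →₀ ℕ) (y : SymM r M) :
    (EE C M).symm (shiftPow C M β y) = (monomial β (1 : C)) • (EE C M).symm y := by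
  have : (EE C M).symm.toLinearMap.comp (shiftPow C M β) =
      ((LinearMap.lsmul (MvPolynomial (Fin r) C) ((MvPolynomial (Fin r) C) ⊗[C] M)
        (monomial β (1 : C))).restrictScalars C).comp (EE C M).symm.toLinearMap := by
    refine Finsupp.lhom_ext fun α m => ?_
    simp only [LinearMap.comp_apply, LinearEquiv.coe_coe, LinearMap.restrictScalars_apply,
      LinearMap.lsmul_apply, shiftPow_single, EE_symm_single]
    rw [TensorProduct.smul_tmul', smul_eq_mul, monomial_mul, one_mul, add_comm]
  exact LinearMap.congr_fun this y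

theorem EE_X_smul (i : Fin r) (z : (MvPolynomial (Fin r) C) ⊗[C] M) :
    EE C M ((X i : MvPolynomial (Fin r) C) • z) = shift C M i (EE C M z) := by
  have h := EE_symm_shiftPow (C := C) M (Finsupp.single i 1) (EE C M z)
  rw [LinearEquiv.symm_apply_apply] at h
  rw [LinearEquiv.symm_apply_eq] at h
  exact h.symm

theorem EE_monomial_smul (β : Fin r →₀ ℕ) (z : (MvPolynomial (Fin r) C) ⊗[C] M) :
    EE C M ((monomial β (1 : C)) • z) = shiftPow C M β (EE C M z) := by
  have h := EE_symm_shiftPow (C := C) M β (EE C M z)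
  rw [LinearEquiv.symm_apply_apply] at h
  rw [LinearEquiv.symm_apply_eq] at h
  exact h.symm

variable {M}

/-- a shift-stable submodule of the symbol module, as a `C[T]`-submodule of `C[T] ⊗ M`. -/
noncomputable def toS (K : Submodule C (SymM r M)) (hK : ∀ i, ∀ x ∈ K, shift C M i x ∈ K) :
    Submodule (MvPolynomial (Fin r) C) ((MvPolynomial (Fin r) C) ⊗[C] M) where
  carrier := {z | EE C M z ∈ K}
  add_mem' := fun {a b} ha hb => by
    show EE C M (a + b) ∈ K
    rw [map_add]; exact add_mem ha hb
  zero_mem' := by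
    show EE C M 0 ∈ K
    rw [map_zero]; exact zero_mem _
  smul_mem' := fun p z hz => by
    show EE C M (p • z) ∈ K
    have hz' : EE C M z ∈ K := hz
    clear hz
    induction p using MvPolynomial.induction_on generalizing z with
    | C a =>
      rw [← MvPolynomial.algebraMap_eq, algebraMap_smul, map_smul]
      exact Submodule.smul_mem _ _ hz'
    | add p q hp hq =>
      rw [add_smul, map_add]
      exact add_mem (hp z hz') (hq z hz')
    | mul_X p i hp =>
      rw [mul_smul]
      refine hp _ ?_
      rw [EE_X_smul]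
      exact hK i _ hz'

theorem mem_toS {K : Submodule C (SymM r M)} {hK : ∀ i, ∀ x ∈ K, shift C M i x ∈ K}
    {z : (MvPolynomial (Fin r) C) ⊗[C] M} : z ∈ toS K hK ↔ EE C M z ∈ K := Iff.rfl

variable (M)

theorem shift_mem_Sat (K : Submodule C (SymM r M)) (i : Fin r) (x : SymM r M)
    (hx : x ∈ Sat C M K) : shift C M i x ∈ Sat C M K := by
  unfold Sat at hx ⊢
  induction hx using Submodule.iSup_induction' with
  | mem γ x hx =>
    obtain ⟨w, hw, rfl⟩ := hx
    refine Submodule.mem_iSup_of_mem (γ + Finsupp.single i 1) ⟨w, hw, ?_⟩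
    rw [shiftPow_add, LinearMap.comp_apply]
    rfl
  | zero => rw [map_zero]; exact zero_mem _
  | add x y _ _ hx hy => rw [map_add]; exact add_mem hx hy

/-- **Degree bound in the Noetherian case.** -/
theorem exists_bound_of_noetherian [IsNoetherianRing C] [Module.Finite C M] :
    ∃ d, Bound g M d := by
  classical
  have : IsNoetherian (MvPolynomial (Fin r) C) ((MvPolynomial (Fin r) C) ⊗[C] M) :=
    isNoetherian_of_isNoetherianRing_of_finite _ _
  let KS := toS (KK g M) (fun i x hx => shift_mem_KK g hx i)
  obtain ⟨G, hG⟩ := IsNoetherian.noetherian KS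
  choose T hT using fun z : (MvPolynomial (Fin r) C) ⊗[C] M => exists_sum_pi (C := C) (EE C M z)
  let d : ℕ := (G.biUnion T).sup id
  refine ⟨d, ?_⟩
  have hGW : ∀ z ∈ G, EE C M z ∈ W g M d := by
    intro z hz
    have hzK : EE C M z ∈ KK g M := by
      have : z ∈ KS := by rw [← hG]; exact Submodule.subset_span hz
      exact this
    rw [← hT z (T z) subset_rfl]
    refine Submodule.sum_mem _ fun k hk => ?_
    have hkd : k ≤ d := Finset.le_sup (f := id) (Finset.mem_biUnion.2 ⟨z, hz, hk⟩)
    exact KKdeg_le_W g M hkd (pi_mem_KKdeg g hzK k)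
  let SS := toS (Sat C M (W g M d)) (fun i x hx => shift_mem_Sat M _ i x hx)
  have hle : KS ≤ SS := by
    rw [← hG, Submodule.span_le]
    intro z hz
    exact le_Sat M _ (hGW z hz)
  intro x hx
  have h1 : (EE C M).symm x ∈ KS := by
    show EE C M ((EE C M).symm x) ∈ KK g M
    rw [LinearEquiv.apply_symm_apply]; exact hx
  have h2 := hle h1
  have h3 : EE C M ((EE C M).symm x) ∈ Sat C M (W g M d) := h2
  rwa [LinearEquiv.apply_symm_apply] at h3

/-- the associated graded module as a quotient of `C[T] ⊗ M` by a `C[T]`-submodule. -/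
abbrev GrS : Type u :=
  ((MvPolynomial (Fin r) C) ⊗[C] M) ⧸ toS (KK g M) (fun i x hx => shift_mem_KK g hx i)

instance [Module.Finite C M] : Module.Finite (MvPolynomial (Fin r) C) (GrS g M) :=
  Module.Finite.quotient _ _

theorem map_toS_KK :
    ((toS (KK g M) (fun i x hx => shift_mem_KK g hx i)).restrictScalars C).map
      (EE C M).toLinearMap = KK g M := by
  ext x
  constructor
  · rintro ⟨z, hz, rfl⟩
    exact hz
  · intro hx
    refine ⟨(EE C M).symm x, ?_, LinearEquiv.apply_symm_apply _ _⟩
    show EE C M ((EE C M).symm x) ∈ KK g M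
    rw [LinearEquiv.apply_symm_apply]; exact hx

/-- the two models of the associated graded module agree. -/
noncomputable def GrSEquiv : GrS g M ≃ₗ[C] Gr g M :=
  (Submodule.Quotient.restrictScalarsEquiv C
    (toS (KK g M) (fun i x hx => shift_mem_KK g hx i))).symm ≪≫ₗ
  Submodule.Quotient.equiv _ _ (EE C M) (map_toS_KK g M)

end Noeth

end Groth.Agent.Lib.Helper7.GrSym
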