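import Mathlib
import Groth.Agent.Lib.Helper7.GrSymBC3
import Groth.Agent.Lib.Helper7.GrSymNoeth
import Groth.Agent.Lib.Helper21.FlatDescP

/-!
# Helper7 — GrSymStage: the stage family `A ↦ A[X] ⊗_{R[X]} M₀` and its base change maps
-/

namespace Groth.Agent.Lib.Helper7.GrSym

open Function TensorProduct MvPolynomial
open Groth.Agent.Lib.Helper21.FlatDesc

attribute [local instance] MvPolynomial.algebraMvPolynomial

universe u

section Pushout

variable {A A' C C' : Type*} [CommRing A] [CommRing A'] [CommRing C] [CommRing C']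
  [Algebra A A'] [Algebra A C] [Algebra C C'] [Algebra A' C'] [Algebra A C']
  [IsScalarTower A C C'] [IsScalarTower A A' C'] [Algebra.IsPushout A A' C C']
  {M M' : Type*} [AddCommGroup M] [AddCommGroup M'] [Module C M] [Module A M]
  [IsScalarTower A C M]
  [Module C' M'] [Module C M'] [IsScalarTower C C' M'] [Module A' M'] [IsScalarTower A' C' M']
  [Module A M'] [IsScalarTower A A' M'] [IsScalarTower A C M']

/-- a base change along `C → C'` is a base change along `A → A'` when `C' = A' ⊗_A C`. -/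
theorem isBaseChange_of_isPushout (f : M →ₗ[C] M') (hf : IsBaseChange C' f) :
    IsBaseChange A' (f.restrictScalars A) := by
  refine IsBaseChange.of_equiv
    ((Algebra.IsPushout.cancelBaseChange A A' C C' M).symm ≪≫ₗ hf.equiv.restrictScalars A')
    (fun x => ?_)
  rw [LinearEquiv.trans_apply, Algebra.IsPushout.cancelBaseChange_symm_tmul, map_one,
    LinearEquiv.restrictScalars_apply, hf.equiv_tmul, one_smul]
  rfl

end Pushout

section Stage

variable (R : Type u) [CommRing R] (n : ℕ) {r : ℕ} (g₀ : Fin r → MvPolynomial (Fin n) R)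
  (M₀ : Type u) [AddCommGroup M₀] [Module (MvPolynomial (Fin n) R) M₀]

/-- the family of generators at stage `A`. -/
noncomputable def gSt (A : Type u) [CommRing A] [Algebra R A] : Fin r → MvPolynomial (Fin n) A :=
  fun i => algebraMap (MvPolynomial (Fin n) R) (MvPolynomial (Fin n) A) (g₀ i)

variable (A₁ A₂ : Type u) [CommRing A₁] [CommRing A₂] [Algebra R A₁] [Algebra R A₂]
  [Algebra A₁ A₂] [IsScalarTower R A₁ A₂]

theorem gmap_gSt : gmap (MvPolynomial (Fin n) A₂) (gSt R n g₀ A₁) = gSt R n g₀ A₂ := by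
  funext i
  unfold gmap gSt
  rw [← IsScalarTower.algebraMap_apply]

/-- the transition map between stages. -/
noncomputable def stMap : St R n M₀ A₁ →ₗ[MvPolynomial (Fin n) A₁] St R n M₀ A₂ :=
  AlgebraTensorModule.map (Algebra.linearMap (MvPolynomial (Fin n) A₁) (MvPolynomial (Fin n) A₂))
    (LinearMap.id : M₀ →ₗ[MvPolynomial (Fin n) R] M₀)

theorem stMap_tmul (c : MvPolynomial (Fin n) A₁) (m : M₀) :
    stMap R n M₀ A₁ A₂ (c ⊗ₜ m) =
      (algebraMap (MvPolynomial (Fin n) A₁) (MvPolynomial (Fin n) A₂) c) ⊗ₜ m := rfl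

theorem stMap_isBaseChange_pol : IsBaseChange (MvPolynomial (Fin n) A₂) (stMap R n M₀ A₁ A₂) := by
  refine IsBaseChange.of_equiv
    (AlgebraTensorModule.cancelBaseChange (MvPolynomial (Fin n) R) (MvPolynomial (Fin n) A₁)
      (MvPolynomial (Fin n) A₂) (MvPolynomial (Fin n) A₂) M₀) (fun x => ?_)
  induction x using TensorProduct.induction_on with
  | zero => simp
  | add x y hx hy => rw [TensorProduct.tmul_add, map_add, map_add, hx, hy]
  | tmul c m =>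
    rw [AlgebraTensorModule.cancelBaseChange_tmul, stMap_tmul, Algebra.smul_def, mul_one]

theorem stMap_isBaseChange : IsBaseChange A₂ ((stMap R n M₀ A₁ A₂).restrictScalars A₁) :=
  isBaseChange_of_isPushout (stMap R n M₀ A₁ A₂) (stMap_isBaseChange_pol R n M₀ A₁ A₂)

/-- all the truncations of the stage module over `A` are flat. -/
def FF (A : Type u) [CommRing A] [Algebra R A] : Prop :=
  ∀ k, Module.Flat A (St R n M₀ A ⧸ Fil (gSt R n g₀ A) (St R n M₀ A) k)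

/-- the base change map on symbol modules between stages. -/
noncomputable abbrev bcSt :
    SymM r (St R n M₀ A₁) →ₗ[MvPolynomial (Fin n) A₁] SymM r (St R n M₀ A₂) :=
  bc (stMap R n M₀ A₁ A₂)

theorem stage_flat (k : ℕ)
    (h : Module.Flat A₁ (St R n M₀ A₁ ⧸ Fil (gSt R n g₀ A₁) (St R n M₀ A₁) k)) :
    Module.Flat A₂ (St R n M₀ A₂ ⧸ Fil (gSt R n g₀ A₂) (St R n M₀ A₂) k) := by
  rw [← gmap_gSt R n g₀ A₁ A₂]
  exact Module.Flat.isBaseChange _ _ _ _
    (fQ_isBaseChange (gSt R n g₀ A₁) (stMap R n M₀ A₁ A₂) (stMap_isBaseChange R n M₀ A₁ A₂) k)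

theorem FF.baseChange (h : FF R n g₀ M₀ A₁) : FF R n g₀ M₀ A₂ :=
  fun k => stage_flat R n g₀ M₀ A₁ A₂ k (h k)

theorem FF.torInj (h : FF R n g₀ M₀ A₁) (k : ℕ) :
    TorInj (gSt R n g₀ A₁) (St R n M₀ A₁) A₁ A₂ k := by
  haveI := h k
  exact torInj_of_flat _ _ _ _ k

theorem stage_bc_mem_KK {x : SymM r (St R n M₀ A₁)}
    (hx : x ∈ KK (gSt R n g₀ A₁) (St R n M₀ A₁)) :
    bcSt R n M₀ A₁ A₂ x ∈ KK (gSt R n g₀ A₂) (St R n M₀ A₂) := by
  rw [← gmap_gSt R n g₀ A₁ A₂]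
  exact bc_mem_KK _ _ hx

theorem stage_bc_mem_Sat_W {d : ℕ} {x : SymM r (St R n M₀ A₁)}
    (hx : x ∈ Sat (MvPolynomial (Fin n) A₁) (St R n M₀ A₁)
      (W (gSt R n g₀ A₁) (St R n M₀ A₁) d)) :
    bcSt R n M₀ A₁ A₂ x ∈ Sat (MvPolynomial (Fin n) A₂) (St R n M₀ A₂)
      (W (gSt R n g₀ A₂) (St R n M₀ A₂) d) := by
  rw [← gmap_gSt R n g₀ A₁ A₂]
  exact bc_mem_Sat_W _ _ hx

theorem stage_KK_le_span (h : ∀ k, TorInj (gSt R n g₀ A₁) (St R n M₀ A₁) A₁ A₂ k)
    {x' : SymM r (St R n M₀ A₂)} (hx' : x' ∈ KK (gSt R n g₀ A₂) (St R n M₀ A₂)) :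
    x' ∈ Submodule.span A₂ (bcSt R n M₀ A₁ A₂ ''
      (KK (gSt R n g₀ A₁) (St R n M₀ A₁) : Set (SymM r (St R n M₀ A₁)))) := by
  rw [← gmap_gSt R n g₀ A₁ A₂] at hx'
  exact KK_le_span _ _ (stMap_isBaseChange R n M₀ A₁ A₂) h hx'

theorem stage_Sat_W_le_span {d : ℕ}
    (h : ∀ j, j ≤ d → TorInj (gSt R n g₀ A₁) (St R n M₀ A₁) A₁ A₂ j)
    {x' : SymM r (St R n M₀ A₂)}
    (hx' : x' ∈ Sat (MvPolynomial (Fin n) A₂) (St R n M₀ A₂)
      (W (gSt R n g₀ A₂) (St R n M₀ A₂) d)) :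
    x' ∈ Submodule.span A₂ (bcSt R n M₀ A₁ A₂ ''
      (Sat (MvPolynomial (Fin n) A₁) (St R n M₀ A₁)
        (W (gSt R n g₀ A₁) (St R n M₀ A₁) d) : Set (SymM r (St R n M₀ A₁)))) := by
  rw [← gmap_gSt R n g₀ A₁ A₂] at hx'
  exact Sat_W_le_span _ _ (stMap_isBaseChange R n M₀ A₁ A₂) h hx'

theorem stage_bound_up {d : ℕ} (h : ∀ k, TorInj (gSt R n g₀ A₁) (St R n M₀ A₁) A₁ A₂ k)
    (hb : Bound (gSt R n g₀ A₁) (St R n M₀ A₁) d) :
    Bound (gSt R n g₀ A₂) (St R n M₀ A₂) d := by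
  rw [← gmap_gSt R n g₀ A₁ A₂]
  exact Bound.baseChange _ _ (stMap_isBaseChange R n M₀ A₁ A₂) h hb

/-- the induced map on associated graded modules between stages. -/
noncomputable def stGrMap : Gr (gSt R n g₀ A₁) (St R n M₀ A₁) →ₗ[MvPolynomial (Fin n) A₁]
    Gr (gSt R n g₀ A₂) (St R n M₀ A₂) :=
  grMapOf (gSt R n g₀ A₁) (stMap R n M₀ A₁ A₂) (gSt R n g₀ A₂) (gmap_gSt R n g₀ A₁ A₂)

theorem stGrMap_mk (x : SymM r (St R n M₀ A₁)) :
    stGrMap R n g₀ M₀ A₁ A₂ (Submodule.Quotient.mk x) =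
      Submodule.Quotient.mk (bcSt R n M₀ A₁ A₂ x) := rfl

theorem stGrMap_isBaseChange
    (hspan : ∀ x' ∈ KK (gSt R n g₀ A₂) (St R n M₀ A₂),
      x' ∈ Submodule.span A₂ (bcSt R n M₀ A₁ A₂ ''
        (KK (gSt R n g₀ A₁) (St R n M₀ A₁) : Set (SymM r (St R n M₀ A₁))))) :
    IsBaseChange A₂ ((stGrMap R n g₀ M₀ A₁ A₂).restrictScalars A₁) :=
  grMapOf_isBaseChange _ _ (stMap_isBaseChange R n M₀ A₁ A₂) _ _ hspan

end Stage

end Groth.Agent.Lib.Helper7.GrSym
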