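import Mathlib
import Groth.Agent.Lib.Helper7.GrSymStage
import Groth.Agent.Lib.Helper7.GrSymFG

/-!
# Helper7 — GrSymDev: dévissage of the degree bound along `A → A/a` and `A → A_t`
-/

namespace Groth.Agent.Lib.Helper7.GrSym

open Function TensorProduct MvPolynomial
open Groth.Agent.Lib.Helper21.FlatDesc

attribute [local instance] MvPolynomial.algebraMvPolynomial

universe u

section Dev

variable (R : Type u) [CommRing R] (n : ℕ) {r : ℕ} (g₀ : Fin r → MvPolynomial (Fin n) R)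
  (M₀ : Type u) [AddCommGroup M₀] [Module (MvPolynomial (Fin n) R) M₀]
  (A : Type u) [CommRing A] [Algebra R A]

theorem FF.flat_Gr (hF : FF R n g₀ M₀ A) :
    Module.Flat A (Gr (gSt R n g₀ A) (St R n M₀ A)) :=
  (flat_Gr_iff (gSt R n g₀ A) (St R n M₀ A) A).2 hF

theorem FF.lTensor_KK_injective (hF : FF R n g₀ M₀ A) (T : Type u) [AddCommGroup T] [Module A T] :
    Injective (((KK (gSt R n g₀ A) (St R n M₀ A)).restrictScalars A).subtype.lTensor T) := by
  have := hF.flat_Gr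
  refine LinearMap.lTensor_injective_of_exact_of_flat
    ((KK (gSt R n g₀ A) (St R n M₀ A)).mkQ.restrictScalars A) ?_ _
    (Submodule.injective_subtype _) ?_ T
  · intro y
    obtain ⟨m, rfl⟩ := Submodule.Quotient.mk_surjective _ y
    exact ⟨m, rfl⟩
  · intro x
    show (Submodule.Quotient.mk x : Gr (gSt R n g₀ A) (St R n M₀ A)) = 0 ↔ _
    rw [Submodule.Quotient.mk_eq_zero]
    constructor
    · intro hx
      exact ⟨⟨x, hx⟩, rfl⟩
    · rintro ⟨y, rfl⟩
      exact y.2

/-- dévissage along a quotient `A → A/a`. -/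
theorem dev_quot (hF : FF R n g₀ M₀ A) (a : A) {d : ℕ}
    (hb : Bound (gSt R n g₀ (A ⧸ Ideal.span {a})) (St R n M₀ (A ⧸ Ideal.span {a})) d)
    {x : SymM r (St R n M₀ A)} (hx : x ∈ KK (gSt R n g₀ A) (St R n M₀ A)) :
    ∃ w ∈ Sat (MvPolynomial (Fin n) A) (St R n M₀ A) (W (gSt R n g₀ A) (St R n M₀ A) d),
      ∃ y ∈ KK (gSt R n g₀ A) (St R n M₀ A), x = w + a • y := by
  have hbc := bc_isBaseChange (r := r) (stMap R n M₀ A (A ⧸ Ideal.span {a}))
    (stMap_isBaseChange R n M₀ A (A ⧸ Ideal.span {a}))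
  have h1 := stage_bc_mem_KK R n g₀ M₀ A (A ⧸ Ideal.span {a}) hx
  have h2 := hb h1
  have h3 := stage_Sat_W_le_span R n g₀ M₀ A (A ⧸ Ideal.span {a})
    (fun j _ => hF.torInj R n g₀ M₀ A (A ⧸ Ideal.span {a}) j) h2
  obtain ⟨w, hw, hwx⟩ := exists_of_mem_span_quot (Ideal.span {a})
    (fX := (bcSt R n M₀ A (A ⧸ Ideal.span {a})).restrictScalars A)
    ((Sat (MvPolynomial (Fin n) A) (St R n M₀ A)
      (W (gSt R n g₀ A) (St R n M₀ A) d)).restrictScalars A) h3
  have hwK : w ∈ KK (gSt R n g₀ A) (St R n M₀ A) := Sat_le_KK _ _ d hw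
  have hz : x - w ∈ (KK (gSt R n g₀ A) (St R n M₀ A)).restrictScalars A := sub_mem hx hwK
  have h0 : ((bcSt R n M₀ A (A ⧸ Ideal.span {a})).restrictScalars A) (x - w) = 0 := by
    rw [map_sub, hwx]
    exact sub_self _
  have h4 := mem_smul_of_map_eq_zero (Ideal.span {a}) hbc
    ((KK (gSt R n g₀ A) (St R n M₀ A)).restrictScalars A)
    (hF.lTensor_KK_injective R n g₀ M₀ A _) hz h0
  rw [Submodule.ideal_span_singleton_smul] at h4
  obtain ⟨y, hy, hyz⟩ := (Submodule.mem_smul_pointwise_iff_exists _ _ _).1 h4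
  refine ⟨w, hw, y, hy, ?_⟩
  rw [hyz]; abel

/-- dévissage along a localization `A → A_t`. -/
theorem dev_loc (t : A) {d : ℕ}
    (htor : ∀ j, j ≤ d → TorInj (gSt R n g₀ A) (St R n M₀ A) A (Localization.Away t) j)
    (hb : Bound (gSt R n g₀ (Localization.Away t)) (St R n M₀ (Localization.Away t)) d)
    {x : SymM r (St R n M₀ A)} (hx : x ∈ KK (gSt R n g₀ A) (St R n M₀ A)) :
    ∃ m : ℕ, t ^ m • x ∈
      Sat (MvPolynomial (Fin n) A) (St R n M₀ A) (W (gSt R n g₀ A) (St R n M₀ A) d) := by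
  have hbc := bc_isBaseChange (r := r) (stMap R n M₀ A (Localization.Away t))
    (stMap_isBaseChange R n M₀ A (Localization.Away t))
  have h1 := stage_bc_mem_KK R n g₀ M₀ A (Localization.Away t) hx
  have h2 := hb h1
  have h3 := stage_Sat_W_le_span R n g₀ M₀ A (Localization.Away t) htor h2
  exact exists_pow_smul_mem_of_mem_span t hbc
    ((Sat (MvPolynomial (Fin n) A) (St R n M₀ A)
      (W (gSt R n g₀ A) (St R n M₀ A) d)).restrictScalars A) h3

/-- conclusion of the dévissage when `a b = 0`. -/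
theorem bound_of_dev_mul (a b : A) (hab : a * b = 0) {d : ℕ}
    (h1 : ∀ x ∈ KK (gSt R n g₀ A) (St R n M₀ A),
      ∃ w ∈ Sat (MvPolynomial (Fin n) A) (St R n M₀ A) (W (gSt R n g₀ A) (St R n M₀ A) d),
      ∃ y ∈ KK (gSt R n g₀ A) (St R n M₀ A), x = w + a • y)
    (h2 : ∀ x ∈ KK (gSt R n g₀ A) (St R n M₀ A),
      ∃ w ∈ Sat (MvPolynomial (Fin n) A) (St R n M₀ A) (W (gSt R n g₀ A) (St R n M₀ A) d),
      ∃ y ∈ KK (gSt R n g₀ A) (St R n M₀ A), x = w + b • y) :
    Bound (gSt R n g₀ A) (St R n M₀ A) d := by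
  intro x hx
  obtain ⟨w, hw, y, hy, e⟩ := h1 x hx
  obtain ⟨w', hw', y', -, e'⟩ := h2 y hy
  have h3 : a • (w' + b • y') = a • w' := by
    calc a • (w' + b • y') = a • w' + a • b • y' := smul_add a w' (b • y')
      _ = a • w' + (a * b) • y' := congrArg (a • w' + ·) (mul_smul a b y').symm
      _ = a • w' + (0 : A) • y' := by rw [hab]
      _ = a • w' + 0 := congrArg (a • w' + ·) (zero_smul A y')
      _ = a • w' := add_zero _
  have e2 : x = w + a • w' := by
    rw [e, e', h3]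
  rw [e2]
  exact add_mem hw (Submodule.smul_of_tower_mem _ a hw')

/-- conclusion of the dévissage along `A_t` and `A/t`. -/
theorem bound_of_dev [Module.FinitePresentation (MvPolynomial (Fin n) R) M₀]
    (hF : FF R n g₀ M₀ A) (t : A) {d : ℕ}
    (h1 : ∀ x ∈ KK (gSt R n g₀ A) (St R n M₀ A),
      ∃ w ∈ Sat (MvPolynomial (Fin n) A) (St R n M₀ A) (W (gSt R n g₀ A) (St R n M₀ A) d),
      ∃ y ∈ KK (gSt R n g₀ A) (St R n M₀ A), x = w + t • y)
    (h2 : ∀ x ∈ KK (gSt R n g₀ A) (St R n M₀ A), ∃ m : ℕ, t ^ m • x ∈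
      Sat (MvPolynomial (Fin n) A) (St R n M₀ A) (W (gSt R n g₀ A) (St R n M₀ A) d)) :
    Bound (gSt R n g₀ A) (St R n M₀ A) d := by
  classical
  have key : ∀ k, KKdeg (gSt R n g₀ A) (St R n M₀ A) k ≤
      Sat (MvPolynomial (Fin n) A) (St R n M₀ A) (W (gSt R n g₀ A) (St R n M₀ A) d) := by
    intro k
    have s1 : ∀ x ∈ KKdeg (gSt R n g₀ A) (St R n M₀ A) k,
        ∃ w ∈ Sat (MvPolynomial (Fin n) A) (St R n M₀ A) (W (gSt R n g₀ A) (St R n M₀ A) d),
        ∃ y ∈ KKdeg (gSt R n g₀ A) (St R n M₀ A) k, x = w + t • y := by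
      intro x hx
      obtain ⟨w, hw, y, hy, e⟩ := h1 x hx.1
      refine ⟨pi _ _ k w, pi_mem_Sat_W _ _ d k hw, pi _ _ k y, pi_mem_KKdeg _ hy k, ?_⟩
      have := congrArg (pi (MvPolynomial (Fin n) A) (St R n M₀ A) k) e
      rw [mem_range_pi.1 hx.2, map_add, LinearMap.map_smul_of_tower] at this
      exact this
    have s2 : ∀ m : ℕ, ∀ x ∈ KKdeg (gSt R n g₀ A) (St R n M₀ A) k,
        ∃ w ∈ Sat (MvPolynomial (Fin n) A) (St R n M₀ A) (W (gSt R n g₀ A) (St R n M₀ A) d),
        ∃ y ∈ KKdeg (gSt R n g₀ A) (St R n M₀ A) k, x = w + t ^ m • y := by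
      intro m
      induction m with
      | zero =>
        intro x hx
        refine ⟨0, zero_mem _, x, hx, ?_⟩
        rw [pow_zero, zero_add]
        exact (one_smul A x).symm
      | succ m ih =>
        intro x hx
        obtain ⟨w, hw, y, hy, e⟩ := ih x hx
        obtain ⟨w', hw', y', hy', e'⟩ := s1 y hy
        refine ⟨w + t ^ m • w', add_mem hw (Submodule.smul_of_tower_mem _ _ hw'), y', hy', ?_⟩
        have h3 : t ^ m • (w' + t • y') = t ^ m • w' + t ^ (m + 1) • y' := by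
          calc t ^ m • (w' + t • y') = t ^ m • w' + t ^ m • t • y' := smul_add (t ^ m) w' (t • y')
            _ = t ^ m • w' + (t ^ m * t) • y' := congrArg (t ^ m • w' + ·) (mul_smul (t ^ m) t y').symm
            _ = t ^ m • w' + t ^ (m + 1) • y' := by rw [pow_succ]
        rw [e, e', h3, add_assoc]
    have := hF k
    have hfg : (KKdeg (gSt R n g₀ A) (St R n M₀ A) k).FG :=
      KKdeg_fg (gSt R n g₀ A) (St R n M₀ A) A k
    obtain ⟨G, hG⟩ := hfg
    choose! mm hmm using h2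
    let m := G.sup mm
    have s3 : ∀ y ∈ KKdeg (gSt R n g₀ A) (St R n M₀ A) k, t ^ m • y ∈
        Sat (MvPolynomial (Fin n) A) (St R n M₀ A) (W (gSt R n g₀ A) (St R n M₀ A) d) := by
      have hle : KKdeg (gSt R n g₀ A) (St R n M₀ A) k ≤
          (Sat (MvPolynomial (Fin n) A) (St R n M₀ A)
            (W (gSt R n g₀ A) (St R n M₀ A) d)).comap
            ((algebraMap A (MvPolynomial (Fin n) A) (t ^ m)) •
              (LinearMap.id : SymM r (St R n M₀ A) →ₗ[MvPolynomial (Fin n) A] _)) := by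
        rw [← hG, Submodule.span_le]
        intro y hy
        have hyN : y ∈ KKdeg (gSt R n g₀ A) (St R n M₀ A) k := by
          rw [← hG]; exact Submodule.subset_span hy
        rw [SetLike.mem_coe, Submodule.mem_comap, LinearMap.smul_apply, LinearMap.id_apply,
          algebraMap_smul]
        have hle : mm y ≤ m := Finset.le_sup hy
        have e : t ^ m • y = t ^ (m - mm y) • (t ^ mm y • y) := by
          have e1 : t ^ m = t ^ (m - mm y) * t ^ mm y := by
            rw [← pow_add, Nat.sub_add_cancel hle]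
          rw [e1]
          exact mul_smul (t ^ (m - mm y)) (t ^ mm y) y
        rw [e]
        exact Submodule.smul_of_tower_mem _ _ (hmm y hyN.1)
      intro y hy
      have := hle hy
      rwa [Submodule.mem_comap, LinearMap.smul_apply, LinearMap.id_apply, algebraMap_smul] at this
    intro x hx
    obtain ⟨w, hw, y, hy, e⟩ := s2 m x hx
    rw [e]
    exact add_mem hw (s3 y hy)
  exact (KK_le_iSup_KKdeg _ _).trans (iSup_le key)

end Dev

end Groth.Agent.Lib.Helper7.GrSym
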