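import Mathlib
import Groth.Agent.Lib.Helper7.GrSymDev
import Groth.Agent.Lib.helper11.GenFreeTools

/-!
# Helper7 — GrSymBound: the uniform degree bound for the kernel of the symbol map, over all
stages with flat truncations (Noetherian induction, generic freeness, dévissage).
-/

namespace Groth.Agent.Lib.Helper7.GrSym

open Function TensorProduct MvPolynomial
open Groth.Agent.Lib.Helper21.FlatDesc

attribute [local instance] MvPolynomial.algebraMvPolynomial

universe u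

set_option synthInstance.maxHeartbeats 400000
set_option maxHeartbeats 1000000

section GrSBC

variable (R : Type u) [CommRing R] (n : ℕ) {r : ℕ}
  (g₀ : Fin r → MvPolynomial (Fin n) R)
  (M₀ : Type u) [AddCommGroup M₀] [Module (MvPolynomial (Fin n) R) M₀]
  (A₁ A₂ : Type u) [CommRing A₁] [CommRing A₂] [Algebra R A₁] [Algebra R A₂]
  [Algebra A₁ A₂] [IsScalarTower R A₁ A₂]

/-- the `A₁`-linear identification of the two models of the associated graded module. -/
noncomputable def GrSEquivA :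
    GrS (gSt R n g₀ A₁) (St R n M₀ A₁) ≃ₗ[A₁] Gr (gSt R n g₀ A₁) (St R n M₀ A₁) :=
  (GrSEquiv (gSt R n g₀ A₁) (St R n M₀ A₁)).restrictScalars A₁

/-- base change of the finite model of the associated graded module. -/
noncomputable def tensorGrSEquiv
    (hgr : IsBaseChange A₂ ((stGrMap R n g₀ M₀ A₁ A₂).restrictScalars A₁)) :
    A₂ ⊗[A₁] GrS (gSt R n g₀ A₁) (St R n M₀ A₁) ≃ₗ[A₂] Gr (gSt R n g₀ A₂) (St R n M₀ A₂) :=
  (AlgebraTensorModule.congr (LinearEquiv.refl A₂ A₂) (GrSEquivA R n g₀ M₀ A₁)) ≪≫ₗ hgr.equiv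

theorem flat_Gr_of_flat_tensor_GrS
    (hgr : IsBaseChange A₂ ((stGrMap R n g₀ M₀ A₁ A₂).restrictScalars A₁))
    [Module.Flat A₂ (A₂ ⊗[A₁] GrS (gSt R n g₀ A₁) (St R n M₀ A₁))] :
    Module.Flat A₂ (Gr (gSt R n g₀ A₂) (St R n M₀ A₂)) :=
  Module.Flat.of_linearEquiv (tensorGrSEquiv R n g₀ M₀ A₁ A₂ hgr).symm

theorem flat_tensor_GrS_of_flat_Gr
    (hgr : IsBaseChange A₂ ((stGrMap R n g₀ M₀ A₁ A₂).restrictScalars A₁))
    [Module.Flat A₂ (Gr (gSt R n g₀ A₂) (St R n M₀ A₂))] :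
    Module.Flat A₂ (A₂ ⊗[A₁] GrS (gSt R n g₀ A₁) (St R n M₀ A₁)) :=
  Module.Flat.of_linearEquiv (tensorGrSEquiv R n g₀ M₀ A₁ A₂ hgr)

end GrSBC

section GenFree

variable (R : Type u) [CommRing R] [IsNoetherianRing R] (n : ℕ) {r : ℕ}
  (g₀ : Fin r → MvPolynomial (Fin n) R)
  (M₀ : Type u) [AddCommGroup M₀] [Module (MvPolynomial (Fin n) R) M₀]
  [Module.Finite (MvPolynomial (Fin n) R) M₀]

theorem exists_free_tensor_GrS (I : Ideal R) [I.IsPrime] :
    ∃ t : R, t ∉ I ∧ Module.Free (Localization.Away (Ideal.Quotient.mk I t))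
      ((Localization.Away (Ideal.Quotient.mk I t)) ⊗[R ⧸ I]
        GrS (gSt R n g₀ (R ⧸ I)) (St R n M₀ (R ⧸ I))) := by
  haveI : Module.Finite (MvPolynomial (Fin n) (R ⧸ I)) (St R n M₀ (R ⧸ I)) :=
    Module.Finite.base_change _ _ _
  have hgen := helper11.GenFreeTools.genFree_of_finiteType (R := R ⧸ I)
    (MvPolynomial (Fin r) (MvPolynomial (Fin n) (R ⧸ I)))
    (GrS (gSt R n g₀ (R ⧸ I)) (St R n M₀ (R ⧸ I)))
  obtain ⟨f, hf, H⟩ := helper11.GenFreeTools.GenFree.exists_spec hgen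
  obtain ⟨t, rfl⟩ := Ideal.Quotient.mk_surjective f
  refine ⟨t, fun h => hf (Ideal.Quotient.eq_zero_iff_mem.2 h), ?_⟩
  exact (H _ (dvd_refl _) hf).1

/-- generic flatness of the associated graded module: after inverting a suitable `t ∉ I`, all
truncations over `(R/I)_t` are flat. -/
theorem exists_FF_localization (I : Ideal R) [I.IsPrime] :
    ∃ t : R, t ∉ I ∧ FF R n g₀ M₀ (Localization.Away (Ideal.Quotient.mk I t)) := by
  obtain ⟨t, ht, hfree⟩ := exists_free_tensor_GrS R n g₀ M₀ I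
  refine ⟨t, ht, ?_⟩
  have : Module.Flat (R ⧸ I) (Localization.Away (Ideal.Quotient.mk I t)) :=
    IsLocalization.flat _ (Submonoid.powers (Ideal.Quotient.mk I t))
  have tor : ∀ k, TorInj (gSt R n g₀ (R ⧸ I)) (St R n M₀ (R ⧸ I)) (R ⧸ I)
      (Localization.Away (Ideal.Quotient.mk I t)) k :=
    fun k => torInj_of_flat_alg _ _ _ _ k
  have hgr := stGrMap_isBaseChange R n g₀ M₀ (R ⧸ I) (Localization.Away (Ideal.Quotient.mk I t))
    (fun x' hx' => stage_KK_le_span R n g₀ M₀ (R ⧸ I)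
      (Localization.Away (Ideal.Quotient.mk I t)) tor hx')
  have hflat : Module.Flat (Localization.Away (Ideal.Quotient.mk I t))
      ((Localization.Away (Ideal.Quotient.mk I t)) ⊗[R ⧸ I]
        GrS (gSt R n g₀ (R ⧸ I)) (St R n M₀ (R ⧸ I))) := inferInstance
  have h2 := flat_Gr_of_flat_tensor_GrS R n g₀ M₀ (R ⧸ I)
    (Localization.Away (Ideal.Quotient.mk I t)) hgr
  exact (flat_Gr_iff _ _ _).1 h2

end GenFree

end Groth.Agent.Lib.Helper7.GrSym
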