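import Mathlib
import Groth.Agent.Lib.Helper7.GrSymBound

/-!
# Helper7 — GrSymBound2: Noetherian induction for the uniform degree bound
-/

namespace Groth.Agent.Lib.Helper7.GrSym

open Function TensorProduct MvPolynomial
open Groth.Agent.Lib.Helper21.FlatDesc

attribute [local instance] MvPolynomial.algebraMvPolynomial

universe u

set_option synthInstance.maxHeartbeats 400000
set_option maxHeartbeats 1000000

section Ind

variable (R : Type u) [CommRing R] (n : ℕ) {r : ℕ}
  (g₀ : Fin r → MvPolynomial (Fin n) R)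
  (M₀ : Type u) [AddCommGroup M₀] [Module (MvPolynomial (Fin n) R) M₀]

/-- the induction predicate: a uniform bound for all stages killed by `I` with flat truncations. -/
def PP (I : Ideal R) : Prop :=
  ∃ d : ℕ, ∀ (A : Type u) [CommRing A] [Algebra R A], (∀ x ∈ I, algebraMap R A x = 0) →
    FF R n g₀ M₀ A → Bound (gSt R n g₀ A) (St R n M₀ A) d

theorem PP_top : PP R n g₀ M₀ ⊤ := by
  refine ⟨0, fun A _ _ h _ => ?_⟩
  have h1 : (1 : A) = 0 := by simpa using h 1 trivial
  haveI : Subsingleton A := subsingleton_of_zero_eq_one h1.symm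
  haveI : Subsingleton (SymM r (St R n M₀ A)) := Module.subsingleton A _
  intro x _
  rw [Subsingleton.elim x 0]
  exact zero_mem _

theorem quot_step (I : Ideal R) (a : R) (hPP : PP R n g₀ M₀ (I ⊔ Ideal.span {a})) :
    ∃ d : ℕ, ∀ (A : Type u) [CommRing A] [Algebra R A], (∀ x ∈ I, algebraMap R A x = 0) →
      FF R n g₀ M₀ A → ∀ e, d ≤ e → ∀ x ∈ KK (gSt R n g₀ A) (St R n M₀ A),
      ∃ w ∈ Sat (MvPolynomial (Fin n) A) (St R n M₀ A) (W (gSt R n g₀ A) (St R n M₀ A) e),
      ∃ y ∈ KK (gSt R n g₀ A) (St R n M₀ A), x = w + algebraMap R A a • y := by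
  obtain ⟨d, hd⟩ := hPP
  refine ⟨d, fun A _ _ hI hF e he x hx => ?_⟩
  have hI' : ∀ x ∈ I ⊔ Ideal.span {a},
      algebraMap R (A ⧸ Ideal.span {algebraMap R A a}) x = 0 := by
    have hle : I ⊔ Ideal.span {a} ≤
        RingHom.ker (algebraMap R (A ⧸ Ideal.span {algebraMap R A a})) := by
      refine sup_le (fun x hx => ?_) ?_
      · rw [RingHom.mem_ker, IsScalarTower.algebraMap_apply R A (A ⧸ Ideal.span {algebraMap R A a}),
          hI x hx, map_zero]
      · rw [Ideal.span_le, Set.singleton_subset_iff, SetLike.mem_coe, RingHom.mem_ker,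
          IsScalarTower.algebraMap_apply R A (A ⧸ Ideal.span {algebraMap R A a})]
        exact Ideal.Quotient.eq_zero_iff_mem.2 (Ideal.subset_span (Set.mem_singleton _))
    exact fun x hx => hle hx
  have hF' := hF.baseChange R n g₀ M₀ A (A ⧸ Ideal.span {algebraMap R A a})
  have hb := (hd (A ⧸ Ideal.span {algebraMap R A a}) hI' hF').mono _ _ he
  exact dev_quot R n g₀ M₀ A hF (algebraMap R A a) hb hx

theorem loc_step [IsNoetherianRing R] [Module.Finite (MvPolynomial (Fin n) R) M₀]
    (I : Ideal R) [I.IsPrime] :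
    ∃ t : R, t ∉ I ∧ ∃ d : ℕ, ∀ (A : Type u) [CommRing A] [Algebra R A],
      (∀ x ∈ I, algebraMap R A x = 0) →
      FF R n g₀ M₀ A → ∀ e, d ≤ e → ∀ x ∈ KK (gSt R n g₀ A) (St R n M₀ A),
      ∃ m : ℕ, (algebraMap R A t) ^ m • x ∈
        Sat (MvPolynomial (Fin n) A) (St R n M₀ A) (W (gSt R n g₀ A) (St R n M₀ A) e) := by
  obtain ⟨t, ht, hFD⟩ := exists_FF_localization R n g₀ M₀ I
  refine ⟨t, ht, ?_⟩
  haveI : IsNoetherianRing (Localization.Away (Ideal.Quotient.mk I t)) :=
    IsLocalization.isNoetherianRing (Submonoid.powers (Ideal.Quotient.mk I t)) _ inferInstance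
  haveI : Module.Finite (MvPolynomial (Fin n) (Localization.Away (Ideal.Quotient.mk I t)))
      (St R n M₀ (Localization.Away (Ideal.Quotient.mk I t))) := Module.Finite.base_change _ _ _
  obtain ⟨d, hd⟩ := exists_bound_of_noetherian
    (gSt R n g₀ (Localization.Away (Ideal.Quotient.mk I t)))
    (St R n M₀ (Localization.Away (Ideal.Quotient.mk I t)))
  refine ⟨d, fun A _ _ hI hF e he x hx => ?_⟩
  -- the algebra structure `(R/I)_t → A_t`
  have hI' : ∀ x ∈ I, algebraMap R (Localization.Away (algebraMap R A t)) x = 0 := by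
    intro x hx
    rw [IsScalarTower.algebraMap_apply R A (Localization.Away (algebraMap R A t)), hI x hx,
      map_zero]
  let φ₀ : R ⧸ I →+* Localization.Away (algebraMap R A t) :=
    Ideal.Quotient.lift I (algebraMap R (Localization.Away (algebraMap R A t))) hI'
  have hunit : IsUnit (φ₀ (Ideal.Quotient.mk I t)) := by
    show IsUnit (algebraMap R (Localization.Away (algebraMap R A t)) t)
    rw [IsScalarTower.algebraMap_apply R A (Localization.Away (algebraMap R A t))]
    exact IsLocalization.Away.algebraMap_isUnit (algebraMap R A t)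
  let φ : Localization.Away (Ideal.Quotient.mk I t) →+* Localization.Away (algebraMap R A t) :=
    IsLocalization.Away.lift (Ideal.Quotient.mk I t) hunit
  letI : Algebra (Localization.Away (Ideal.Quotient.mk I t))
      (Localization.Away (algebraMap R A t)) := φ.toAlgebra
  haveI : IsScalarTower R (Localization.Away (Ideal.Quotient.mk I t))
      (Localization.Away (algebraMap R A t)) := by
    refine IsScalarTower.of_algebraMap_eq fun x => ?_
    show _ = φ (algebraMap R (Localization.Away (Ideal.Quotient.mk I t)) x)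
    rw [IsScalarTower.algebraMap_apply R (R ⧸ I) (Localization.Away (Ideal.Quotient.mk I t))]
    show _ = IsLocalization.Away.lift (Ideal.Quotient.mk I t) hunit _
    rw [IsLocalization.Away.lift_eq]
    rfl
  have hb : Bound (gSt R n g₀ (Localization.Away (algebraMap R A t)))
      (St R n M₀ (Localization.Away (algebraMap R A t))) e :=
    (stage_bound_up R n g₀ M₀ (Localization.Away (Ideal.Quotient.mk I t))
      (Localization.Away (algebraMap R A t))
      (fun k => hFD.torInj R n g₀ M₀ _ _ k) hd).mono _ _ he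
  exact dev_loc R n g₀ M₀ A (algebraMap R A t)
    (fun j _ => hF.torInj R n g₀ M₀ A (Localization.Away (algebraMap R A t)) j) hb hx

variable [IsNoetherianRing R] [Module.Finite (MvPolynomial (Fin n) R) M₀]

theorem PP_of_prime (I : Ideal R) [I.IsPrime] (ih : ∀ J : Ideal R, I < J → PP R n g₀ M₀ J) :
    PP R n g₀ M₀ I := by
  haveI : Module.FinitePresentation (MvPolynomial (Fin n) R) M₀ :=
    Module.finitePresentation_of_finite _ _
  obtain ⟨t, ht, d₁, h₁⟩ := loc_step R n g₀ M₀ I
  have hlt : I < I ⊔ Ideal.span {t} := by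
    refine lt_of_le_of_ne le_sup_left fun h => ht ?_
    rw [h]
    exact Ideal.mem_sup_right (Ideal.subset_span (Set.mem_singleton t))
  obtain ⟨d₂, h₂⟩ := quot_step R n g₀ M₀ I t (ih _ hlt)
  refine ⟨max d₁ d₂, fun A _ _ hI hF => ?_⟩
  exact bound_of_dev R n g₀ M₀ A hF (algebraMap R A t)
    (h₂ A hI hF _ (le_max_right _ _)) (h₁ A hI hF _ (le_max_left _ _))

theorem PP_of_not_prime (I : Ideal R) (hI : ¬ I.IsPrime)
    (ih : ∀ J : Ideal R, I < J → PP R n g₀ M₀ J) : PP R n g₀ M₀ I := by
  rcases Ideal.not_isPrime_iff.1 hI with h | ⟨a, ha, b, hb, hab⟩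
  · rw [h]; exact PP_top R n g₀ M₀
  · have hlta : I < I ⊔ Ideal.span {a} := by
      refine lt_of_le_of_ne le_sup_left fun h => ha ?_
      rw [h]
      exact Ideal.mem_sup_right (Ideal.subset_span (Set.mem_singleton a))
    have hltb : I < I ⊔ Ideal.span {b} := by
      refine lt_of_le_of_ne le_sup_left fun h => hb ?_
      rw [h]
      exact Ideal.mem_sup_right (Ideal.subset_span (Set.mem_singleton b))
    obtain ⟨d₁, h₁⟩ := quot_step R n g₀ M₀ I a (ih _ hlta)
    obtain ⟨d₂, h₂⟩ := quot_step R n g₀ M₀ I b (ih _ hltb)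
    refine ⟨max d₁ d₂, fun A _ _ hIA hF => ?_⟩
    refine bound_of_dev_mul R n g₀ M₀ A (algebraMap R A a) (algebraMap R A b) ?_
      (h₁ A hIA hF _ (le_max_left _ _)) (h₂ A hIA hF _ (le_max_right _ _))
    rw [← map_mul]
    exact hIA _ hab

theorem PP_all (I : Ideal R) : PP R n g₀ M₀ I := by
  classical
  induction I using IsNoetherian.induction with
  | hgt I ih =>
    by_cases hI : Ideal.IsPrime I
    · haveI := hI
      exact PP_of_prime R n g₀ M₀ I ih
    · exact PP_of_not_prime R n g₀ M₀ I hI ih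

/-- **Uniform degree bound**: there is `d` such that, for every `R`-algebra `A` over which all the
truncations `M_A / J^k M_A` are flat, the kernel of the symbol map is generated in degrees `≤ d`. -/
theorem exists_uniform_bound :
    ∃ d : ℕ, ∀ (A : Type u) [CommRing A] [Algebra R A], FF R n g₀ M₀ A →
      Bound (gSt R n g₀ A) (St R n M₀ A) d := by
  obtain ⟨d, hd⟩ := PP_all R n g₀ M₀ ⊥
  refine ⟨d, fun A _ _ hF => hd A (fun x hx => ?_) hF⟩
  rw [Ideal.mem_bot.1 hx, map_zero]

end Ind

end Groth.Agent.Lib.Helper7.GrSym
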