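import Mathlib

/-!
# Helper7 — GrSymInj: the injectivity trick

`A₁ → A₂ ↪ A₃`, `G` an `A₁`-module with maps `G → H₂ → H₃` such that `H₃` is the base change of `G`
to `A₃`, `H₂` is generated by the image of `G` and `A₂ ⊗ G` is flat over `A₂`. Then `H₂ ≅ A₂ ⊗ G` is
flat over `A₂`.
-/

namespace Groth.Agent.Lib.Helper7.GrSym

open Function TensorProduct

theorem flat_of_injective_tower {A₁ A₂ A₃ : Type*} [CommRing A₁] [CommRing A₂] [CommRing A₃]
    [Algebra A₁ A₂] [Algebra A₂ A₃] [Algebra A₁ A₃] [IsScalarTower A₁ A₂ A₃]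
    (hinj : Injective (algebraMap A₂ A₃))
    {G H₂ H₃ : Type*} [AddCommGroup G] [AddCommGroup H₂] [AddCommGroup H₃]
    [Module A₁ G] [Module A₁ H₂] [Module A₂ H₂] [IsScalarTower A₁ A₂ H₂]
    [Module A₁ H₃] [Module A₂ H₃] [Module A₃ H₃] [IsScalarTower A₁ A₃ H₃] [IsScalarTower A₂ A₃ H₃]
    [IsScalarTower A₁ A₂ H₃]
    (φ₁ : G →ₗ[A₁] H₂) (φ₂ : H₂ →ₗ[A₂] H₃)
    (hφ : IsBaseChange A₃ ((φ₂.restrictScalars A₁).comp φ₁))
    (hspan : Submodule.span A₂ (Set.range φ₁) = ⊤)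
    [Module.Flat A₂ (A₂ ⊗[A₁] G)] : Module.Flat A₂ H₂ := by
  have hmk : IsBaseChange A₂ (TensorProduct.mk A₁ A₂ G 1) := TensorProduct.isBaseChange A₁ G A₂
  let ψ : A₂ ⊗[A₁] G →ₗ[A₂] H₂ := hmk.lift φ₁
  have hψ : ∀ x : G, ψ ((1 : A₂) ⊗ₜ[A₁] x) = φ₁ x := fun x => hmk.lift_eq φ₁ x
  have hsurj : Surjective ψ := by
    rw [← LinearMap.range_eq_top, eq_top_iff, ← hspan, Submodule.span_le]
    rintro _ ⟨x, rfl⟩
    exact ⟨(1 : A₂) ⊗ₜ[A₁] x, hψ x⟩
  have hcomp : IsBaseChange A₃ (φ₂.comp ψ) := by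
    refine IsBaseChange.of_comp hmk ?_
    have e : ((φ₂.comp ψ).restrictScalars A₁).comp (TensorProduct.mk A₁ A₂ G 1) =
        (φ₂.restrictScalars A₁).comp φ₁ := by
      ext x
      simp only [LinearMap.comp_apply, LinearMap.restrictScalars_apply, TensorProduct.mk_apply]
      rw [hψ]
    rw [e]
    exact hφ
  have hinj' : Injective ψ := by
    rw [injective_iff_map_eq_zero]
    intro z hz
    have h1 : hcomp.equiv ((1 : A₃) ⊗ₜ[A₂] z) = 0 := by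
      rw [hcomp.equiv_tmul, one_smul, LinearMap.comp_apply, hz, map_zero]
    have h2 : (1 : A₃) ⊗ₜ[A₂] z = 0 := hcomp.equiv.injective (by rw [h1, map_zero])
    have h3 : Injective ((Algebra.linearMap A₂ A₃).rTensor (A₂ ⊗[A₁] G)) :=
      Module.Flat.rTensor_preserves_injective_linearMap _ hinj
    have h4 : (Algebra.linearMap A₂ A₃).rTensor (A₂ ⊗[A₁] G) ((1 : A₂) ⊗ₜ[A₂] z) = 0 := by
      rw [LinearMap.rTensor_tmul, Algebra.linearMap_apply, map_one]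
      exact h2
    have h5 : (1 : A₂) ⊗ₜ[A₂] z = 0 := h3 (by rw [h4, map_zero])
    have h6 := congrArg (TensorProduct.lid A₂ (A₂ ⊗[A₁] G)) h5
    rwa [TensorProduct.lid_tmul, one_smul, map_zero] at h6
  exact Module.Flat.of_linearEquiv (LinearEquiv.ofBijective ψ ⟨hinj', hsurj⟩).symm

end Groth.Agent.Lib.Helper7.GrSym
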