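import Mathlib
import Groth.Agent.Lib.Helper7.GrSymBound2
import Groth.Agent.Lib.Helper7.GrSymInj

/-!
# Helper7 — GrSymCore: descent of gr-flatness to a finitely generated subalgebra
-/

namespace Groth.Agent.Lib.Helper7.GrSym

open Function TensorProduct MvPolynomial
open Groth.Agent.Lib.Helper21.FlatDesc

attribute [local instance] MvPolynomial.algebraMvPolynomial

universe u

set_option synthInstance.maxHeartbeats 400000
set_option maxHeartbeats 1000000

section QE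

variable (R : Type u) [CommRing R] (n : ℕ) {r : ℕ}
  (g₀ : Fin r → MvPolynomial (Fin n) R)
  (M₀ : Type u) [AddCommGroup M₀] [Module (MvPolynomial (Fin n) R) M₀]
  (A : Type u) [CommRing A] [Algebra R A]

/-- the truncation of the stage module is the stage module of the truncation. -/
noncomputable def QEquiv (k : ℕ) :
    St R n (M₀ ⧸ Fil g₀ M₀ k) A ≃ₗ[MvPolynomial (Fin n) A]
      (St R n M₀ A ⧸ Fil (gSt R n g₀ A) (St R n M₀ A) k) :=
  (fQ_isBaseChange (A := MvPolynomial (Fin n) R) (A' := MvPolynomial (Fin n) A)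
    (C' := MvPolynomial (Fin n) A) g₀
    (TensorProduct.mk (MvPolynomial (Fin n) R) (MvPolynomial (Fin n) A) M₀ 1)
    (TensorProduct.isBaseChange (MvPolynomial (Fin n) R) M₀ (MvPolynomial (Fin n) A)) k).equiv

theorem flat_St_quot_iff (k : ℕ) :
    Module.Flat A (St R n (M₀ ⧸ Fil g₀ M₀ k) A) ↔
      Module.Flat A (St R n M₀ A ⧸ Fil (gSt R n g₀ A) (St R n M₀ A) k) :=
  ⟨fun _ => Module.Flat.of_linearEquiv ((QEquiv R n g₀ M₀ A k).restrictScalars A).symm,
    fun _ => Module.Flat.of_linearEquiv ((QEquiv R n g₀ M₀ A k).restrictScalars A)⟩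

end QE

section Functor

variable (R : Type u) [CommRing R] (n : ℕ) {r : ℕ}
  (g₀ : Fin r → MvPolynomial (Fin n) R)
  (M₀ : Type u) [AddCommGroup M₀] [Module (MvPolynomial (Fin n) R) M₀]
  (A₁ A₂ A₃ : Type u) [CommRing A₁] [CommRing A₂] [CommRing A₃]
  [Algebra R A₁] [Algebra R A₂] [Algebra R A₃]
  [Algebra A₁ A₂] [Algebra A₂ A₃] [Algebra A₁ A₃]
  [IsScalarTower R A₁ A₂] [IsScalarTower R A₂ A₃] [IsScalarTower R A₁ A₃]
  [IsScalarTower A₁ A₂ A₃]

theorem stMap_comp (x : St R n M₀ A₁) :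
    stMap R n M₀ A₂ A₃ (stMap R n M₀ A₁ A₂ x) = stMap R n M₀ A₁ A₃ x := by
  induction x using TensorProduct.induction_on with
  | zero => simp
  | add x y hx hy => rw [map_add, map_add, map_add, hx, hy]
  | tmul c m =>
    rw [stMap_tmul, stMap_tmul, stMap_tmul, ← IsScalarTower.algebraMap_apply]

theorem bcSt_comp (x : SymM r (St R n M₀ A₁)) :
    bcSt R n M₀ A₂ A₃ (bcSt R n M₀ A₁ A₂ x) = bcSt R n M₀ A₁ A₃ x := by
  induction x using Finsupp.induction_linear with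
  | zero => simp
  | add x y hx hy => rw [map_add, map_add, map_add, hx, hy]
  | single α m => rw [bc_single, bc_single, bc_single, stMap_comp]

theorem stGrMap_comp (y : Gr (gSt R n g₀ A₁) (St R n M₀ A₁)) :
    stGrMap R n g₀ M₀ A₂ A₃ (stGrMap R n g₀ M₀ A₁ A₂ y) = stGrMap R n g₀ M₀ A₁ A₃ y := by
  obtain ⟨x, rfl⟩ := Submodule.Quotient.mk_surjective _ y
  rw [stGrMap_mk, stGrMap_mk, stGrMap_mk, bcSt_comp]

omit [Algebra R A₃] [Algebra A₂ A₃] [Algebra A₁ A₃] [IsScalarTower R A₂ A₃]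
  [IsScalarTower R A₁ A₃] [IsScalarTower A₁ A₂ A₃] in
theorem span_range_stGrMap :
    Submodule.span A₂ (Set.range ((stGrMap R n g₀ M₀ A₁ A₂).restrictScalars A₁)) = ⊤ := by
  rw [eq_top_iff]
  rintro y -
  obtain ⟨x, rfl⟩ := Submodule.Quotient.mk_surjective _ y
  have hbc := bc_isBaseChange (r := r) (stMap R n M₀ A₁ A₂) (stMap_isBaseChange R n M₀ A₁ A₂)
  induction x using hbc.inductionOn with
  | zero => exact zero_mem _
  | tmul m =>
    exact Submodule.subset_span ⟨Submodule.Quotient.mk m, rfl⟩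
  | smul a x hx =>
    exact Submodule.smul_mem _ a hx
  | add x y hx hy =>
    exact add_mem hx hy

theorem FF_of_flat_tensor (hinj : Injective (algebraMap A₂ A₃))
    (hgr : IsBaseChange A₃ ((stGrMap R n g₀ M₀ A₁ A₃).restrictScalars A₁))
    [Module.Flat A₂ (A₂ ⊗[A₁] GrS (gSt R n g₀ A₁) (St R n M₀ A₁))] :
    FF R n g₀ M₀ A₂ := by
  haveI : Module.Flat A₂ (A₂ ⊗[A₁] Gr (gSt R n g₀ A₁) (St R n M₀ A₁)) :=
    Module.Flat.of_linearEquiv
      (AlgebraTensorModule.congr (LinearEquiv.refl A₂ A₂) (GrSEquivA R n g₀ M₀ A₁)).symm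
  have hφ : IsBaseChange A₃
      ((((stGrMap R n g₀ M₀ A₂ A₃).restrictScalars A₂).restrictScalars A₁).comp
        ((stGrMap R n g₀ M₀ A₁ A₂).restrictScalars A₁)) := by
    have e : (((stGrMap R n g₀ M₀ A₂ A₃).restrictScalars A₂).restrictScalars A₁).comp
        ((stGrMap R n g₀ M₀ A₁ A₂).restrictScalars A₁) =
        (stGrMap R n g₀ M₀ A₁ A₃).restrictScalars A₁ :=
      LinearMap.ext fun y => stGrMap_comp R n g₀ M₀ A₁ A₂ A₃ y
    rw [e]
    exact hgr
  have hflatGr : Module.Flat A₂ (Gr (gSt R n g₀ A₂) (St R n M₀ A₂)) :=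
    flat_of_injective_tower (A₁ := A₁) (A₂ := A₂) (A₃ := A₃) hinj
      ((stGrMap R n g₀ M₀ A₁ A₂).restrictScalars A₁)
      ((stGrMap R n g₀ M₀ A₂ A₃).restrictScalars A₂) hφ
      (span_range_stGrMap R n g₀ M₀ A₁ A₂)
  exact (flat_Gr_iff _ _ _).1 hflatGr

end Functor

end Groth.Agent.Lib.Helper7.GrSym
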