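import Mathlib
import Groth.Agent.Lib.Helper7.GrSymCore

/-!
# Helper7 — GrSymCore2: descent of gr-flatness to a finitely generated algebra
-/

namespace Groth.Agent.Lib.Helper7.GrSym

open Function TensorProduct MvPolynomial
open Groth.Agent.Lib.Helper21.FlatDesc

attribute [local instance] MvPolynomial.algebraMvPolynomial

universe u

set_option synthInstance.maxHeartbeats 400000
set_option maxHeartbeats 1000000

section Core

variable (R : Type u) [CommRing R] (n : ℕ) {r : ℕ}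
  (g₀ : Fin r → MvPolynomial (Fin n) R)
  (M₀ : Type u) [AddCommGroup M₀] [Module (MvPolynomial (Fin n) R) M₀]
  (A : Type u) [CommRing A] [Algebra R A]

theorem stage_flat_mono {A₁ A₂ : Subalgebra R A} (h : A₁ ≤ A₂) (k : ℕ)
    (hflat : Module.Flat A₁ (St R n M₀ A₁ ⧸ Fil (gSt R n g₀ A₁) (St R n M₀ A₁) k)) :
    Module.Flat A₂ (St R n M₀ A₂ ⧸ Fil (gSt R n g₀ A₂) (St R n M₀ A₂) k) := by
  letI : Algebra A₁ A₂ := (Subalgebra.inclusion h).toRingHom.toAlgebra
  haveI : IsScalarTower R A₁ A₂ := IsScalarTower.of_algebraMap_eq fun r => rfl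
  exact stage_flat R n g₀ M₀ A₁ A₂ k hflat

variable [IsNoetherianRing R] [Module.Finite (MvPolynomial (Fin n) R) M₀]
  [Module R M₀] [IsScalarTower R (MvPolynomial (Fin n) R) M₀]

theorem exists_fg_flat_upto (hF : FF R n g₀ M₀ A) (d : ℕ) :
    ∃ A₁ : Subalgebra R A, A₁.FG ∧ ∀ k, k ≤ d →
      Module.Flat A₁ (St R n M₀ A₁ ⧸ Fil (gSt R n g₀ A₁) (St R n M₀ A₁) k) := by
  induction d with
  | zero =>
    refine ⟨⊥, Subalgebra.fg_bot, fun k hk => ?_⟩
    obtain rfl : k = 0 := Nat.le_zero.1 hk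
    haveI : Subsingleton (St R n M₀ (⊥ : Subalgebra R A) ⧸
        Fil (gSt R n g₀ (⊥ : Subalgebra R A)) (St R n M₀ (⊥ : Subalgebra R A)) 0) := by
      rw [Fil_zero]
      exact Submodule.Quotient.subsingleton_iff.2 rfl
    infer_instance
  | succ d ih =>
    obtain ⟨A₁, hfg₁, hflat₁⟩ := ih
    haveI : Module.Flat A (St R n (M₀ ⧸ Fil g₀ M₀ (d + 1)) A) :=
      (flat_St_quot_iff R n g₀ M₀ A (d + 1)).2 (hF (d + 1))
    obtain ⟨A₂, hfg₂, hflat₂⟩ := exists_fg_flat_St (R₀ := R) (n := n)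
      (M₀ ⧸ Fil g₀ M₀ (d + 1)) A
    refine ⟨A₁ ⊔ A₂, hfg₁.sup hfg₂, fun k hk => ?_⟩
    rcases Nat.lt_or_ge k (d + 1) with h | h
    · exact stage_flat_mono R n g₀ M₀ A le_sup_left k (hflat₁ k (Nat.lt_succ_iff.1 h))
    · obtain rfl : k = d + 1 := le_antisymm hk h
      exact stage_flat_mono R n g₀ M₀ A le_sup_right (d + 1)
        ((flat_St_quot_iff R n g₀ M₀ A₂ (d + 1)).1 hflat₂)

/-- **Descent of gr-flatness** (polynomial stage form): if all truncations `M_A / J^k M_A` are flat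
over `A`, the same holds over a finitely generated `R`-algebra mapping to `A`. -/
theorem exists_fg_FF (hF : FF R n g₀ M₀ A) :
    ∃ (A' : Type u) (_ : CommRing A') (_ : Algebra R A') (_ : Algebra A' A)
      (_ : IsScalarTower R A' A), Algebra.FiniteType R A' ∧ FF R n g₀ M₀ A' := by
  obtain ⟨d, hd⟩ := exists_uniform_bound R n g₀ M₀
  have hb := hd A hF
  obtain ⟨A₁, hfg₁, hflat₁⟩ := exists_fg_flat_upto R n g₀ M₀ A hF d
  haveI : Algebra.FiniteType R A₁ := (Subalgebra.fg_iff_finiteType A₁).1 hfg₁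
  haveI : IsNoetherianRing A₁ := Algebra.FiniteType.isNoetherianRing R A₁
  have tor : ∀ (B : Type u) [CommRing B] [Algebra A₁ B] (j : ℕ), j ≤ d →
      TorInj (gSt R n g₀ A₁) (St R n M₀ A₁) A₁ B j := fun B _ _ j hj => by
    haveI := hflat₁ j hj
    exact torInj_of_flat _ _ _ _ j
  have hspan : ∀ x' ∈ KK (gSt R n g₀ A) (St R n M₀ A),
      x' ∈ Submodule.span A (bcSt R n M₀ A₁ A ''
        (KK (gSt R n g₀ A₁) (St R n M₀ A₁) : Set (SymM r (St R n M₀ A₁)))) := by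
    intro x' hx'
    have h1 := stage_Sat_W_le_span R n g₀ M₀ A₁ A (tor A) (hb hx')
    exact Submodule.span_mono (Set.image_mono (Sat_le_KK _ _ d)) h1
  have hgrA := stGrMap_isBaseChange R n g₀ M₀ A₁ A hspan
  haveI : Module.Flat A (Gr (gSt R n g₀ A) (St R n M₀ A)) := hF.flat_Gr
  haveI : Module.Flat A (A ⊗[A₁] GrS (gSt R n g₀ A₁) (St R n M₀ A₁)) :=
    flat_tensor_GrS_of_flat_Gr R n g₀ M₀ A₁ A hgrA
  haveI : Module.Finite (MvPolynomial (Fin n) A₁) (St R n M₀ A₁) :=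
    Module.Finite.base_change _ _ _
  obtain ⟨A₂, hfg₂, hflat₂⟩ := exists_fg_flat_baseChange (R₁ := A₁)
    (S₁ := MvPolynomial (Fin r) (MvPolynomial (Fin n) A₁))
    (GrS (gSt R n g₀ A₁) (St R n M₀ A₁)) A
  haveI : Algebra.FiniteType A₁ A₂ := (Subalgebra.fg_iff_finiteType A₂).1 hfg₂
  refine ⟨A₂, inferInstance, inferInstance, inferInstance, inferInstance,
    Algebra.FiniteType.trans (inferInstance : Algebra.FiniteType R A₁) inferInstance, ?_⟩
  exact FF_of_flat_tensor R n g₀ M₀ A₁ A₂ A Subtype.val_injective hgrA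

end Core

end Groth.Agent.Lib.Helper7.GrSym
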