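import Mathlib
import Groth.Agent.Lib.Helper7.GrSymCore2

/-!
# Helper7 — GrSymApply: translation between the truncations `(C ⊗ M₀) / im (C ⊗ J₀^k M₀)` of a
finitely presented module over a finitely presented algebra and the stage family of a Noetherian model.
-/

namespace Groth.Agent.Lib.Helper7.GrSym

open Function TensorProduct MvPolynomial
open Groth.Agent.Lib.Helper21.FlatDesc

attribute [local instance] MvPolynomial.algebraMvPolynomial

universe u

section E1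

variable {A₀ C : Type*} [CommRing A₀] [CommRing C] [Algebra A₀ C]
  {M₀ : Type*} [AddCommGroup M₀] [Module A₀ M₀] (F : Submodule A₀ M₀)

/-- right exactness of base change, quotient form. -/
noncomputable def quotRangeBaseChangeEquiv :
    ((C ⊗[A₀] M₀) ⧸ LinearMap.range (F.subtype.baseChange C)) ≃ₗ[C] C ⊗[A₀] (M₀ ⧸ F) :=
  Submodule.quotEquivOfEq _ _ (by
    ext z
    have hex := lTensor_exact C (LinearMap.exact_subtype_mkQ F) (Submodule.mkQ_surjective F)
    rw [LinearMap.mem_ker]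
    constructor
    · rintro ⟨w, rfl⟩
      have := (hex (F.subtype.lTensor C w)).2 ⟨w, rfl⟩
      simpa [LinearMap.baseChange_eq_ltensor] using this
    · intro hz
      have h2 : F.mkQ.lTensor C z = 0 := by
        simpa [LinearMap.baseChange_eq_ltensor] using hz
      obtain ⟨w, hw⟩ := (hex z).1 h2
      exact ⟨w, by simpa [LinearMap.baseChange_eq_ltensor] using hw⟩) ≪≫ₗ
  (F.mkQ.baseChange C).quotKerEquivOfSurjective (by
    have := LinearMap.lTensor_surjective C (Submodule.mkQ_surjective F)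
    intro y
    obtain ⟨x, hx⟩ := this y
    exact ⟨x, by simpa [LinearMap.baseChange_eq_ltensor] using hx⟩)

theorem flat_quot_range_baseChange_iff :
    Module.Flat C ((C ⊗[A₀] M₀) ⧸ LinearMap.range (F.subtype.baseChange C)) ↔
      Module.Flat C (C ⊗[A₀] (M₀ ⧸ F)) :=
  ⟨fun _ => Module.Flat.of_linearEquiv (quotRangeBaseChangeEquiv F).symm,
    fun _ => Module.Flat.of_linearEquiv (quotRangeBaseChangeEquiv F)⟩

end E1

section E3

variable (R : Type u) [CommRing R] (n : ℕ) {r : ℕ} (g₀ : Fin r → MvPolynomial (Fin n) R)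
  (M₀ : Type u) [AddCommGroup M₀] [Module (MvPolynomial (Fin n) R) M₀]
  (A₁ A₂ : Type u) [CommRing A₁] [CommRing A₂] [Algebra R A₁] [Algebra R A₂]
  [Algebra A₁ A₂] [IsScalarTower R A₁ A₂]

theorem stage_flat_tensor_iff (k : ℕ) :
    Module.Flat A₂ (A₂ ⊗[A₁] (St R n M₀ A₁ ⧸ Fil (gSt R n g₀ A₁) (St R n M₀ A₁) k)) ↔
      Module.Flat A₂ (St R n M₀ A₂ ⧸ Fil (gSt R n g₀ A₂) (St R n M₀ A₂) k) := by
  rw [← gmap_gSt R n g₀ A₁ A₂]
  have h := fQ_isBaseChange (C' := MvPolynomial (Fin n) A₂) (gSt R n g₀ A₁) (stMap R n M₀ A₁ A₂)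
    (stMap_isBaseChange R n M₀ A₁ A₂) k
  exact ⟨fun _ => Module.Flat.of_linearEquiv h.equiv.symm,
    fun _ => Module.Flat.of_linearEquiv h.equiv⟩

end E3

section E2

variable {Z₀ A₀ B₀ : Type u} [CommRing Z₀] [CommRing A₀] [CommRing B₀] [Algebra Z₀ A₀]
  [Algebra A₀ B₀] {n r : ℕ} (q : Fin r → MvPolynomial (Fin n) Z₀)
  (N₀ : Type u) [AddCommGroup N₀] [Module (MvPolynomial (Fin n) Z₀) N₀]
  (f₀ : MvPolynomial (Fin n) A₀ →ₐ[A₀] B₀) (hf₀ : Surjective f₀)
  {M₀ : Type u} [AddCommGroup M₀] [Module B₀ M₀] [Module A₀ M₀] [IsScalarTower A₀ B₀ M₀]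
  [Module (MvPolynomial (Fin n) A₀) M₀] [IsScalarTower A₀ (MvPolynomial (Fin n) A₀) M₀]
  (hP : ∀ (p : MvPolynomial (Fin n) A₀) (m : M₀), p • m = f₀ p • m)

include hf₀ hP in
theorem mem_map_smul_top_iff (I : Ideal (MvPolynomial (Fin n) A₀)) (m : M₀) :
    m ∈ (I.map f₀ • (⊤ : Submodule B₀ M₀)) ↔
      m ∈ (I • (⊤ : Submodule (MvPolynomial (Fin n) A₀) M₀)) := by
  constructor
  · intro hm
    refine Submodule.smul_induction_on hm (fun b hb m _ => ?_) (fun x y hx hy => add_mem hx hy)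
    obtain ⟨p, hp, rfl⟩ := (Ideal.mem_map_iff_of_surjective f₀ hf₀).1 hb
    rw [← hP]
    exact Submodule.smul_mem_smul hp trivial
  · intro hm
    refine Submodule.smul_induction_on hm (fun p hp m _ => ?_) (fun x y hx hy => add_mem hx hy)
    rw [hP]
    exact Submodule.smul_mem_smul (Ideal.mem_map_of_mem f₀ hp) trivial

variable (J₀ : Ideal B₀)
  (hJ : J₀ = Ideal.span (Set.range fun i => f₀ (gSt Z₀ n q A₀ i)))

include hf₀ hP hJ in
theorem mem_pow_smul_top_iff (k : ℕ) (m : M₀) :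
    m ∈ (J₀ ^ k • (⊤ : Submodule B₀ M₀)) ↔ m ∈ Fil (gSt Z₀ n q A₀) M₀ k := by
  have h1 : J₀ = (JJ (gSt Z₀ n q A₀)).map f₀ := by
    rw [hJ, JJ, Ideal.map_span, ← Set.range_comp]
    rfl
  rw [h1, ← Ideal.map_pow]
  exact mem_map_smul_top_iff f₀ hf₀ hP _ m

variable (e : St Z₀ n N₀ A₀ ≃ₗ[MvPolynomial (Fin n) A₀] M₀)

omit [IsScalarTower A₀ (MvPolynomial (Fin n) A₀) M₀] in
theorem mem_Fil_iff_symm (k : ℕ) (m : M₀) :
    m ∈ Fil (gSt Z₀ n q A₀) M₀ k ↔
      e.symm m ∈ Fil (gSt Z₀ n q A₀) (St Z₀ n N₀ A₀) k := by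
  have h : (Fil (gSt Z₀ n q A₀) M₀ k).map e.symm.toLinearMap =
      Fil (gSt Z₀ n q A₀) (St Z₀ n N₀ A₀) k := by
    unfold Fil
    rw [Submodule.map_smul'', Submodule.map_top, LinearMap.range_eq_top.2 e.symm.surjective]
  rw [← h]
  constructor
  · intro hm
    exact ⟨m, hm, rfl⟩
  · rintro ⟨m', hm', h'⟩
    have : m' = m := e.symm.injective h'
    rwa [← this]

/-- the truncation `M₀ / J₀^k M₀` is the truncation of the stage module over `A₀`. -/
noncomputable def truncEquiv (k : ℕ) :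
    (M₀ ⧸ (J₀ ^ k • (⊤ : Submodule B₀ M₀)).restrictScalars A₀) ≃ₗ[A₀]
      (St Z₀ n N₀ A₀ ⧸ Fil (gSt Z₀ n q A₀) (St Z₀ n N₀ A₀) k) :=
  Submodule.quotEquivOfEq _
    (LinearMap.ker (((Fil (gSt Z₀ n q A₀) (St Z₀ n N₀ A₀) k).mkQ.restrictScalars A₀).comp
      (e.symm.toLinearMap.restrictScalars A₀))) (by
    ext m
    rw [Submodule.restrictScalars_mem, mem_pow_smul_top_iff q f₀ hf₀ hP J₀ hJ k m,
      mem_Fil_iff_symm q N₀ e k m, LinearMap.mem_ker, LinearMap.comp_apply]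
    exact (Submodule.Quotient.mk_eq_zero _).symm) ≪≫ₗ
  LinearMap.quotKerEquivOfSurjective _ (by
    intro y
    obtain ⟨x, rfl⟩ := Submodule.Quotient.mk_surjective _ y
    exact ⟨e x, by simp⟩)

variable (C : Type u) [CommRing C] [Algebra A₀ C] [Algebra Z₀ C] [IsScalarTower Z₀ A₀ C]

include hf₀ hP hJ e in
/-- **Translation**: flatness of all truncations `(C ⊗ M₀) / im (C ⊗ J₀^k M₀)` is the condition `FF`
for the stage family of the model. -/
theorem flat_quot_iff_FF :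
    (∀ k : ℕ, Module.Flat C ((C ⊗[A₀] M₀) ⧸ LinearMap.range
      (((J₀ ^ k • (⊤ : Submodule B₀ M₀)).restrictScalars A₀).subtype.baseChange C))) ↔
      FF Z₀ n q N₀ C := by
  refine forall_congr' fun k => ?_
  rw [flat_quot_range_baseChange_iff, ← stage_flat_tensor_iff Z₀ n q N₀ A₀ C k]
  have E := AlgebraTensorModule.congr (LinearEquiv.refl C C)
    (truncEquiv q N₀ f₀ hf₀ hP J₀ hJ e k)
  exact ⟨fun _ => Module.Flat.of_linearEquiv E.symm, fun _ => Module.Flat.of_linearEquiv E⟩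

end E2

end Groth.Agent.Lib.Helper7.GrSym
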