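import Mathlib
import Groth.Agent.Lib.Helper7.GrSymApply

/-!
# Helper7 — GrSymColim: descent of gr-flatness to a stage of a directed colimit of rings
-/

namespace Groth.Agent.Lib.Helper7.GrSym

open Function TensorProduct MvPolynomial
open Groth.Agent.Lib.Helper21.FlatDesc

attribute [local instance] MvPolynomial.algebraMvPolynomial

universe u

set_option synthInstance.maxHeartbeats 400000
set_option maxHeartbeats 1000000

section Main

variable {ι : Type u} [Preorder ι] [IsDirected ι (· ≤ ·)] [Nonempty ι]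
  {A₀ : Type u} [CommRing A₀] {G : ι → Type u} [∀ i, CommRing (G i)] [∀ i, Algebra A₀ (G i)]
  {A : Type u} [CommRing A] [Algebra A₀ A] (g : ∀ i, G i →ₐ[A₀] A)
  (f : ∀ i j, i ≤ j → (G i →ₐ[A₀] G j))
  (hg : ∀ i j (h : i ≤ j), (g j).comp (f i j h) = g i)
  (hsurj : ∀ a : A, ∃ i, ∃ x : G i, g i x = a)
  (hker : ∀ i (x : G i), g i x = 0 → ∃ j, ∃ h : i ≤ j, f i j h x = 0)

include hg hsurj hker in
/-- polynomial form. -/
theorem exists_gr_flat_stage_pol (n : ℕ) {B₀ : Type u} [CommRing B₀] [Algebra A₀ B₀]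
    (f₀ : MvPolynomial (Fin n) A₀ →ₐ[A₀] B₀) (hf₀ : Surjective f₀)
    (J₀ : Ideal B₀) (hJ₀ : J₀.FG)
    (M₀ : Type u) [AddCommGroup M₀] [Module B₀ M₀] [Module A₀ M₀] [IsScalarTower A₀ B₀ M₀]
    [Module (MvPolynomial (Fin n) A₀) M₀] [IsScalarTower A₀ (MvPolynomial (Fin n) A₀) M₀]
    (hP : ∀ (p : MvPolynomial (Fin n) A₀) (m : M₀), p • m = f₀ p • m)
    [Module.FinitePresentation (MvPolynomial (Fin n) A₀) M₀]
    (h : ∀ k : ℕ, Module.Flat A ((A ⊗[A₀] M₀) ⧸ LinearMap.range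
      (((J₀ ^ k • (⊤ : Submodule B₀ M₀)).restrictScalars A₀).subtype.baseChange A))) :
    ∃ i : ι, ∀ k : ℕ, Module.Flat (G i) ((G i ⊗[A₀] M₀) ⧸ LinearMap.range
      (((J₀ ^ k • (⊤ : Submodule B₀ M₀)).restrictScalars A₀).subtype.baseChange (G i))) := by
  classical
  obtain ⟨r, b, hb⟩ := Submodule.fg_iff_exists_fin_generating_family.1 hJ₀
  choose p hp using fun i => hf₀ (b i)
  obtain ⟨Z₀, m, bb, v', hfg, hsub, ⟨e⟩⟩ := exists_fg_model_pol A₀ n M₀
    (Finset.univ.biUnion fun i => (p i).coeffs)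
  haveI := noetherian_of_fg_int Z₀ hfg
  have hmem : ∀ i, p i ∈ Set.range (MvPolynomial.map (algebraMap Z₀ A₀)) := by
    intro i
    rw [MvPolynomial.mem_range_map_iff_coeffs_subset]
    intro x hx
    have hx' : x ∈ ((Finset.univ.biUnion fun i => (p i).coeffs : Finset A₀) : Set A₀) := by
      rw [Finset.mem_coe, Finset.mem_biUnion]
      exact ⟨i, Finset.mem_univ _, hx⟩
    exact ⟨⟨x, hsub hx'⟩, rfl⟩
  choose q hq using hmem
  have hJ : J₀ = Ideal.span (Set.range fun i => f₀ (gSt Z₀ n q A₀ i)) := by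
    rw [← hb]
    congr 1
    ext x
    constructor
    · rintro ⟨i, rfl⟩
      exact ⟨i, by show f₀ (MvPolynomial.map (algebraMap Z₀ A₀) (q i)) = b i; rw [hq, hp]⟩
    · rintro ⟨i, rfl⟩
      exact ⟨i, by show b i = f₀ (MvPolynomial.map (algebraMap Z₀ A₀) (q i)); rw [hq, hp]⟩
  have hF : FF Z₀ n q (PresMod v') A :=
    (flat_quot_iff_FF q (PresMod v') f₀ hf₀ hP J₀ hJ e A).1 h
  obtain ⟨A', _, _, _, _, hft, hFA'⟩ := exists_fg_FF Z₀ n q (PresMod v') A hF
  haveI : Algebra.FinitePresentation Z₀ A' := Algebra.FinitePresentation.of_finiteType.1 hft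
  obtain ⟨l, ⟨φ⟩⟩ := exists_algHom_stage g f hg hsurj hker Z₀ A' (IsScalarTower.toAlgHom Z₀ A' A)
  refine ⟨l, ?_⟩
  letI : Algebra A' (G l) := φ.toRingHom.toAlgebra
  haveI : IsScalarTower Z₀ A' (G l) := IsScalarTower.of_algebraMap_eq fun r => (φ.commutes r).symm
  have hFl : FF Z₀ n q (PresMod v') (G l) := hFA'.baseChange Z₀ n q (PresMod v') A' (G l)
  exact (flat_quot_iff_FF q (PresMod v') f₀ hf₀ hP J₀ hJ e (G l)).2 hFl

include hg hsurj hker in
/-- **Descent of gr-flatness to a stage of a directed colimit.** -/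
theorem exists_gr_flat_stage {B₀ : Type u} [CommRing B₀] [Algebra A₀ B₀]
    [Algebra.FinitePresentation A₀ B₀] (J₀ : Ideal B₀) (hJ₀ : J₀.FG)
    (M₀ : Type u) [AddCommGroup M₀] [Module B₀ M₀] [Module A₀ M₀] [IsScalarTower A₀ B₀ M₀]
    [Module.FinitePresentation B₀ M₀]
    (h : ∀ k : ℕ, Module.Flat A ((A ⊗[A₀] M₀) ⧸ LinearMap.range
      (((J₀ ^ k • (⊤ : Submodule B₀ M₀)).restrictScalars A₀).subtype.baseChange A))) :
    ∃ i : ι, ∀ k : ℕ, Module.Flat (G i) ((G i ⊗[A₀] M₀) ⧸ LinearMap.range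
      (((J₀ ^ k • (⊤ : Submodule B₀ M₀)).restrictScalars A₀).subtype.baseChange (G i))) := by
  obtain ⟨n, f₀, hf, hkerf⟩ := Algebra.FinitePresentation.out (R := A₀) (A := B₀)
  letI : Algebra (MvPolynomial (Fin n) A₀) B₀ := f₀.toRingHom.toAlgebra
  letI : Module (MvPolynomial (Fin n) A₀) M₀ := Module.compHom M₀ f₀.toRingHom
  haveI : IsScalarTower (MvPolynomial (Fin n) A₀) B₀ M₀ :=
    IsScalarTower.of_algebraMap_smul fun _ _ => rfl
  haveI : IsScalarTower A₀ (MvPolynomial (Fin n) A₀) B₀ :=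
    IsScalarTower.of_algebraMap_eq fun r => (f₀.commutes r).symm
  haveI : IsScalarTower A₀ (MvPolynomial (Fin n) A₀) M₀ := ⟨fun r p m => by
    show f₀ (r • p) • m = r • (f₀ p • m)
    rw [map_smul, smul_assoc]⟩
  haveI : Module.FinitePresentation (MvPolynomial (Fin n) A₀) B₀ := by
    refine Module.finitePresentation_of_surjective
      (Algebra.linearMap (MvPolynomial (Fin n) A₀) B₀) hf ?_
    have : LinearMap.ker (Algebra.linearMap (MvPolynomial (Fin n) A₀) B₀) =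
        RingHom.ker f₀.toRingHom := by
      ext x; rfl
    rw [this]; exact hkerf
  haveI : Module.FinitePresentation (MvPolynomial (Fin n) A₀) M₀ :=
    Module.FinitePresentation.trans (MvPolynomial (Fin n) A₀) M₀ B₀
  exact exists_gr_flat_stage_pol g f hg hsurj hker n f₀ hf J₀ hJ₀ M₀ (fun _ _ => rfl) h

end Main

end Groth.Agent.Lib.Helper7.GrSym
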