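import Mathlib
import Groth.Agent.Lib.helper11.GenFlatBasic

/-!
# Helper7 — GrSymLocal: flatness at the points of `V(J)` from flatness of the truncations
`M / J^k M`, over a Noetherian ring (Krull's intersection theorem).
-/

namespace Groth.Agent.Lib.Helper7.GrSym

open Function TensorProduct

universe u

section LC

variable {A C : Type*} [CommRing A] [CommRing C] [Algebra A C]
  {M : Type*} [AddCommGroup M] [Module C M] [Module A M] [IsScalarTower A C M]

theorem finite_tensor_of_finite [Module.Finite C M] (P : Type*) [AddCommGroup P] [Module A P]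
    [Module.Finite A P] : Module.Finite C (M ⊗[A] P) :=
  Module.Finite.equiv (AlgebraTensorModule.cancelBaseChange A C C M P)

/-- elements of the image of `J^k M ⊗ P` in `M ⊗ P` lie in `J^k (M ⊗ P)`. -/
theorem rTensor_subtype_mem (I : Ideal C) (P : Type*) [AddCommGroup P] [Module A P]
    (w : ↥((I • (⊤ : Submodule C M)).restrictScalars A) ⊗[A] P) :
    LinearMap.rTensor P ((I • (⊤ : Submodule C M)).restrictScalars A).subtype w ∈
      I • (⊤ : Submodule C (M ⊗[A] P)) := by
  induction w using TensorProduct.induction_on with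
  | zero => simp
  | add x y hx hy => rw [map_add]; exact add_mem hx hy
  | tmul m a =>
    rw [LinearMap.rTensor_tmul]
    obtain ⟨m, hm⟩ := m
    show m ⊗ₜ[A] a ∈ _
    have hm' : m ∈ I • (⊤ : Submodule C M) := hm
    refine Submodule.smul_induction_on hm' (fun j hj m' _ => ?_) (fun x y hx hy => ?_)
    · rw [← TensorProduct.smul_tmul']
      exact Submodule.smul_mem_smul hj trivial
    · rw [TensorProduct.add_tmul]
      exact add_mem hx hy

/-- if `M / I M` is `A`-flat, then the kernel of `M ⊗ 𝔞 → M ⊗ A` lies in `I (M ⊗ 𝔞)`. -/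
theorem ker_lTensor_le_smul (I : Ideal C) [Module.Flat A (M ⧸ (I • (⊤ : Submodule C M)))]
    (𝔞 : Ideal A) (x : M ⊗[A] 𝔞) (hx : LinearMap.lTensor M 𝔞.subtype x = 0) :
    x ∈ I • (⊤ : Submodule C (M ⊗[A] 𝔞)) := by
  set Mk : Submodule C M := I • ⊤ with hMk
  have hex : Function.Exact ((Mk.restrictScalars A).subtype) (Mk.mkQ.restrictScalars A) := by
    intro m
    rw [LinearMap.restrictScalars_apply, Submodule.mkQ_apply, Submodule.Quotient.mk_eq_zero]
    constructor
    · intro hm; exact ⟨⟨m, hm⟩, rfl⟩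
    · rintro ⟨⟨m', hm'⟩, rfl⟩; exact hm'
  have hsurj : Surjective (Mk.mkQ.restrictScalars A) := Mk.mkQ_surjective
  have hex2 := rTensor_exact 𝔞 hex hsurj
  have hinj : Injective (LinearMap.lTensor (M ⧸ Mk) 𝔞.subtype) :=
    Module.Flat.lTensor_preserves_injective_linearMap _ Subtype.val_injective
  have h0 : LinearMap.rTensor 𝔞 (Mk.mkQ.restrictScalars A) x = 0 := by
    apply hinj
    rw [map_zero, ← LinearMap.comp_apply, LinearMap.lTensor_comp_rTensor,
      ← LinearMap.rTensor_comp_lTensor, LinearMap.comp_apply, hx, map_zero]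
  obtain ⟨w, rfl⟩ := (hex2 x).1 h0
  exact rTensor_subtype_mem I 𝔞 w

variable [IsNoetherianRing C] [Module.Finite C M]

/-- **Flatness at the points of `V(J)` from flatness of the truncations** (Noetherian case). -/
theorem flat_localized_of_flat_quot (J : Ideal C)
    (h : ∀ k : ℕ, Module.Flat A (M ⧸ (J ^ k • (⊤ : Submodule C M))))
    (Q : Ideal C) [Q.IsPrime] (hQ : J ≤ Q) :
    Module.Flat A (LocalizedModule Q.primeCompl M) := by
  rw [Module.Flat.iff_lTensor_injective]
  intro 𝔞 h𝔞
  have : Module.Finite A 𝔞 := Module.Finite.iff_fg.2 h𝔞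
  have : Module.Finite C (M ⊗[A] 𝔞) := finite_tensor_of_finite 𝔞
  -- kernel elements are killed by an element outside `Q`
  have hkill : ∀ x : M ⊗[A] 𝔞, LinearMap.lTensor M 𝔞.subtype x = 0 →
      ∃ s : Q.primeCompl, s • x = 0 := by
    intro x hx
    have hmem : x ∈ (⨅ i : ℕ, J ^ i • ⊤ : Submodule C (M ⊗[A] 𝔞)) := by
      rw [Submodule.mem_iInf]
      intro k
      have := h k
      exact ker_lTensor_le_smul (J ^ k) 𝔞 x hx
    obtain ⟨r, hr⟩ := (Ideal.mem_iInf_smul_pow_eq_bot_iff J x).1 hmem
    refine ⟨⟨1 - (r : C), ?_⟩, ?_⟩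
    · intro hmemQ
      have h1 : (1 : C) ∈ Q := by
        have := Q.add_mem hmemQ (hQ r.2)
        simpa using this
      exact (Ideal.IsPrime.ne_top inferInstance) ((Ideal.eq_top_iff_one Q).2 h1)
    · show (1 - (r : C)) • x = 0
      rw [sub_smul, one_smul, hr, sub_self]
  set f : M →ₗ[C] LocalizedModule Q.primeCompl M := LocalizedModule.mkLinearMap Q.primeCompl M
  set F𝔞 := AlgebraTensorModule.rTensor A 𝔞 f
  set FA := AlgebraTensorModule.rTensor A A f
  rw [injective_iff_map_eq_zero]
  intro y hy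
  obtain ⟨⟨x, s⟩, hxs⟩ := IsLocalizedModule.surj Q.primeCompl F𝔞 y
  simp only at hxs
  -- naturality
  have hnat : ∀ z : M ⊗[A] 𝔞, LinearMap.lTensor (LocalizedModule Q.primeCompl M) 𝔞.subtype (F𝔞 z) =
      FA (LinearMap.lTensor M 𝔞.subtype z) := by
    intro z
    induction z using TensorProduct.induction_on with
    | zero => simp
    | add a b ha hb => simp only [map_add, ha, hb]
    | tmul m a => rfl
  have h1 : FA (LinearMap.lTensor M 𝔞.subtype x) = 0 := by
    rw [← hnat, ← hxs]
    have : LinearMap.lTensor (LocalizedModule Q.primeCompl M) 𝔞.subtype (s • y) =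
        s • LinearMap.lTensor (LocalizedModule Q.primeCompl M) 𝔞.subtype y := by
      rw [← AlgebraTensorModule.coe_lTensor (A := C)]
      exact map_smul _ (s : C) _
    rw [this, hy, smul_zero]
  obtain ⟨t, ht⟩ := (IsLocalizedModule.eq_zero_iff Q.primeCompl FA).1 h1
  have h2 : LinearMap.lTensor M 𝔞.subtype (t • x) = 0 := by
    have : LinearMap.lTensor M 𝔞.subtype (t • x) = t • LinearMap.lTensor M 𝔞.subtype x := by
      rw [← AlgebraTensorModule.coe_lTensor (A := C)]
      exact map_smul _ (t : C) _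
    rw [this, ht]
  obtain ⟨s', hs'⟩ := hkill _ h2
  have h3 : F𝔞 x = 0 :=
    (IsLocalizedModule.eq_zero_iff Q.primeCompl F𝔞).2 ⟨s' * t, by rw [mul_smul]; exact hs'⟩
  rw [h3] at hxs
  exact IsLocalizedModule.smul_injective F𝔞 s (by simpa using hxs)

end LC

section Gr

variable {A C : Type u} [CommRing A] [CommRing C] [Algebra A C]
  {M : Type u} [AddCommGroup M] [Module C M] [Module A M] [IsScalarTower A C M]

/-- flatness of all the graded pieces `J^k M / J^{k+1} M` gives flatness of all the truncations. -/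
theorem flat_quot_of_gr_flat (J : Ideal C)
    (hgr : ∀ k : ℕ, Module.Flat A
      (↥(J ^ k • (⊤ : Submodule C M)) ⧸
        Submodule.comap (J ^ k • (⊤ : Submodule C M)).subtype (J ^ (k + 1) • ⊤)))
    (k : ℕ) : Module.Flat A (M ⧸ (J ^ k • (⊤ : Submodule C M))) := by
  induction k with
  | zero =>
    have : Subsingleton (M ⧸ (J ^ 0 • (⊤ : Submodule C M))) := by
      rw [pow_zero, Ideal.one_eq_top, Submodule.top_smul]
      exact Submodule.Quotient.subsingleton_iff.2 rfl
    infer_instance
  | succ k ih =>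
    have := ih
    have := hgr k
    have hle : J ^ (k + 1) • (⊤ : Submodule C M) ≤ J ^ k • ⊤ :=
      Submodule.smul_mono_left (Ideal.pow_le_pow_right (Nat.le_succ k))
    let f : (↥(J ^ k • (⊤ : Submodule C M)) ⧸
        Submodule.comap (J ^ k • (⊤ : Submodule C M)).subtype (J ^ (k + 1) • ⊤)) →ₗ[C]
        M ⧸ (J ^ (k + 1) • (⊤ : Submodule C M)) :=
      Submodule.mapQ _ _ (J ^ k • (⊤ : Submodule C M)).subtype le_rfl
    let g : (M ⧸ (J ^ (k + 1) • (⊤ : Submodule C M))) →ₗ[C] M ⧸ (J ^ k • (⊤ : Submodule C M)) :=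
      Submodule.mapQ _ _ LinearMap.id (by simpa using hle)
    refine Groth.Agent.Lib.helper11.GenFlat.flat_of_exact_flat_flat
      (f.restrictScalars A) (g.restrictScalars A) ?_ ?_ ?_
    · rw [injective_iff_map_eq_zero]
      intro x hx
      obtain ⟨x, rfl⟩ := Submodule.Quotient.mk_surjective _ x
      have hx' : Submodule.Quotient.mk (p := J ^ (k + 1) • (⊤ : Submodule C M)) (x : M) = 0 := hx
      rw [Submodule.Quotient.mk_eq_zero] at hx'
      exact (Submodule.Quotient.mk_eq_zero _).2 hx'
    · intro y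
      obtain ⟨m, rfl⟩ := Submodule.Quotient.mk_surjective _ y
      exact ⟨Submodule.Quotient.mk m, rfl⟩
    · intro y
      obtain ⟨m, rfl⟩ := Submodule.Quotient.mk_surjective _ y
      constructor
      · intro hy
        have hy' : Submodule.Quotient.mk (p := J ^ k • (⊤ : Submodule C M)) m = 0 := hy
        rw [Submodule.Quotient.mk_eq_zero] at hy'
        exact ⟨Submodule.Quotient.mk ⟨m, hy'⟩, rfl⟩
      · rintro ⟨x, hx⟩
        obtain ⟨x, rfl⟩ := Submodule.Quotient.mk_surjective _ x
        have hx' : Submodule.Quotient.mk (p := J ^ (k + 1) • (⊤ : Submodule C M)) (x : M) =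
            Submodule.Quotient.mk m := hx
        show Submodule.Quotient.mk (p := J ^ k • (⊤ : Submodule C M)) m = 0
        rw [Submodule.Quotient.mk_eq_zero]
        have h1 : (x : M) - m ∈ J ^ (k + 1) • (⊤ : Submodule C M) :=
          (Submodule.Quotient.eq _).1 hx'
        have h2 : m = (x : M) - ((x : M) - m) := by abel
        rw [h2]
        exact sub_mem x.2 (hle h1)

end Gr

end Groth.Agent.Lib.Helper7.GrSym
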