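import Mathlib
import Groth.Agent.Lib.Helper7.GrSymColim
import Groth.Agent.Lib.Helper7.GrSymLocal
import Groth.Agent.Lib.Helper21.FlatDescI

/-!
# Helper7 — GrSymLocal2: flatness of `gr_J(M)` gives flatness of `M` at the points of `V(J)`
(`B` finitely presented over an arbitrary ring `A`, `M` finitely presented over `B`).
-/

namespace Groth.Agent.Lib.Helper7.GrSym

open Function TensorProduct MvPolynomial
open Groth.Agent.Lib.Helper21.FlatDesc

attribute [local instance] MvPolynomial.algebraMvPolynomial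

universe u

set_option synthInstance.maxHeartbeats 400000
set_option maxHeartbeats 1000000

section Main

variable {A : Type u} [CommRing A]

/-- polynomial form. -/
theorem flat_localized_of_quot_flat_pol (n : ℕ) {B : Type u} [CommRing B] [Algebra A B]
    (f₀ : MvPolynomial (Fin n) A →ₐ[A] B) (hf₀ : Surjective f₀)
    (J : Ideal B) (hJfg : J.FG)
    (M : Type u) [AddCommGroup M] [Module B M] [Module A M] [IsScalarTower A B M]
    [Module (MvPolynomial (Fin n) A) M] [IsScalarTower A (MvPolynomial (Fin n) A) M]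
    (hP : ∀ (p : MvPolynomial (Fin n) A) (m : M), p • m = f₀ p • m)
    [Module.FinitePresentation (MvPolynomial (Fin n) A) M]
    (h : ∀ k : ℕ, Module.Flat A (M ⧸ (J ^ k • (⊤ : Submodule B M))))
    (Q : Ideal (MvPolynomial (Fin n) A)) [Q.IsPrime] (hQ : J.comap f₀ ≤ Q) :
    Module.Flat A (LocalizedModule Q.primeCompl M) := by
  classical
  obtain ⟨r, b, hb⟩ := Submodule.fg_iff_exists_fin_generating_family.1 hJfg
  choose p hp using fun i => hf₀ (b i)
  obtain ⟨Z₀, m, bb, v', hfg, hsub, ⟨e⟩⟩ := exists_fg_model_pol A n M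
    (Finset.univ.biUnion fun i => (p i).coeffs)
  haveI := noetherian_of_fg_int Z₀ hfg
  have hmem : ∀ i, p i ∈ Set.range (MvPolynomial.map (algebraMap Z₀ A)) := by
    intro i
    rw [MvPolynomial.mem_range_map_iff_coeffs_subset]
    intro x hx
    have hx' : x ∈ ((Finset.univ.biUnion fun i => (p i).coeffs : Finset A) : Set A) := by
      rw [Finset.mem_coe, Finset.mem_biUnion]
      exact ⟨i, Finset.mem_univ _, hx⟩
    exact ⟨⟨x, hsub hx'⟩, rfl⟩
  choose q hq using hmem
  have hqb : ∀ i, f₀ (gSt Z₀ n q A i) = b i := fun i => by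
    show f₀ (MvPolynomial.map (algebraMap Z₀ A) (q i)) = b i
    rw [hq, hp]
  have hJ : J = Ideal.span (Set.range fun i => f₀ (gSt Z₀ n q A i)) := by
    rw [← hb]
    congr 1
    ext x
    constructor
    · rintro ⟨i, rfl⟩
      exact ⟨i, hqb i⟩
    · rintro ⟨i, rfl⟩
      exact ⟨i, (hqb i).symm⟩
  have hF : FF Z₀ n q (PresMod v') A := fun k => by
    have := h k
    exact Module.Flat.of_linearEquiv
      ((Submodule.Quotient.restrictScalarsEquiv A (J ^ k • (⊤ : Submodule B M))).symm ≪≫ₗ
        truncEquiv q (PresMod v') f₀ hf₀ hP J hJ e k).symm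
  obtain ⟨A', _, _, _, _, hft, hFA'⟩ := exists_fg_FF Z₀ n q (PresMod v') A hF
  haveI : IsNoetherianRing A' := Algebra.FiniteType.isNoetherianRing Z₀ A'
  set Q' : Ideal (MvPolynomial (Fin n) A') :=
    Q.comap (algebraMap (MvPolynomial (Fin n) A') (MvPolynomial (Fin n) A)) with hQ'
  have hle : JJ (gSt Z₀ n q A') ≤ Q' := by
    unfold JJ
    rw [Ideal.span_le]
    rintro _ ⟨i, rfl⟩
    show algebraMap (MvPolynomial (Fin n) A') (MvPolynomial (Fin n) A) (gSt Z₀ n q A' i) ∈ Q
    have h1 : algebraMap (MvPolynomial (Fin n) A') (MvPolynomial (Fin n) A) (gSt Z₀ n q A' i) =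
        gSt Z₀ n q A i := congrFun (gmap_gSt Z₀ n q A' A) i
    rw [h1]
    apply hQ
    rw [Ideal.mem_comap, hqb, ← hb]
    exact Submodule.subset_span ⟨i, rfl⟩
  haveI : Module.Flat A' (LocalizedModule Q'.primeCompl (St Z₀ n (PresMod v') A')) :=
    flat_localized_of_flat_quot (A := A') (C := MvPolynomial (Fin n) A')
      (M := St Z₀ n (PresMod v') A') (JJ (gSt Z₀ n q A')) (fun k => hFA' k) Q' hle
  haveI : Module.Flat A (LocalizedModule Q.primeCompl (St Z₀ n (PresMod v') A)) :=
    stage_baseChange (PresMod v') A' A Q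
  exact flat_localized_congr A e Q.primeCompl

end Main

end Groth.Agent.Lib.Helper7.GrSym
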