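import Mathlib
import Groth.Agent.Lib.Helper7.GrSymFlat

/-!
# Helper7 — GrSymPoly: the associated graded module as a module over the polynomial ring in the
symbols: `GrP g M = (B[T₁..T_r] ⊗_B M) / KKP`, finitely presented when `KK` is finitely generated
under shifts.
-/

namespace Groth.Agent.Lib.Helper7.GrSym

open Function TensorProduct MvPolynomial

universe u

section Poly

variable {B : Type u} [CommRing B] {r : ℕ} (M : Type u) [AddCommGroup M] [Module B M]

variable (B r) in
/-- the polynomial model of the symbol module. -/
abbrev TT : Type u := MvPolynomial (Fin r) B ⊗[B] M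

/-- the polynomial model is the symbol module. -/
noncomputable def eT : TT B r M ≃ₗ[B] SymM r M :=
  TensorProduct.congr (AddMonoidAlgebra.coeffLinearEquiv B) (LinearEquiv.refl B M) ≪≫ₗ
  TensorProduct.finsuppScalarLeft B M (Fin r →₀ ℕ)

theorem eT_monomial_tmul (α : Fin r →₀ ℕ) (a : B) (m : M) :
    eT M (monomial α a ⊗ₜ[B] m) = Finsupp.single α (a • m) := by
  unfold eT
  rw [LinearEquiv.trans_apply, TensorProduct.congr_tmul,
    TensorProduct.finsuppScalarLeft_apply_tmul]
  have : (AddMonoidAlgebra.coeffLinearEquiv B) (monomial α a) = Finsupp.single α a := rfl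
  rw [this]
  exact Finsupp.sum_single_index (by simp)

theorem eT_monomial_smul (β : Fin r →₀ ℕ) (c : B) (t : TT B r M) :
    eT M (monomial β c • t) = c • shiftPow B M β (eT M t) := by
  induction t using TensorProduct.induction_on with
  | zero => simp
  | add x y hx hy => rw [smul_add, map_add, hx, hy, map_add, map_add, smul_add]
  | tmul p m =>
    induction p using MvPolynomial.induction_on' with
    | monomial α a =>
      rw [TensorProduct.smul_tmul', smul_eq_mul, monomial_mul, eT_monomial_tmul, eT_monomial_tmul,
        shiftPow_single, Finsupp.smul_single, mul_smul, add_comm]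
    | add p q hp hq =>
      rw [TensorProduct.add_tmul, smul_add, map_add, hp, hq, map_add, map_add, smul_add]

theorem eT_X_smul (i : Fin r) (t : TT B r M) :
    eT M ((X i : MvPolynomial (Fin r) B) • t) = shift B M i (eT M t) := by
  have := eT_monomial_smul M (Finsupp.single i 1) (1 : B) t
  rw [one_smul] at this
  exact this

variable (g : Fin r → B)

/-- the kernel of the symbol map, as a submodule over the polynomial ring. -/
noncomputable def KKP : Submodule (MvPolynomial (Fin r) B) (TT B r M) where
  carrier := {t | eT M t ∈ KK g M}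
  add_mem' := fun {a b} ha hb => by
    show eT M (a + b) ∈ KK g M
    rw [map_add]; exact add_mem ha hb
  zero_mem' := by
    show eT M 0 ∈ KK g M
    rw [map_zero]; exact zero_mem _
  smul_mem' := fun p t ht => by
    show eT M (p • t) ∈ KK g M
    induction p using MvPolynomial.induction_on' with
    | monomial β c =>
      rw [eT_monomial_smul]
      exact Submodule.smul_mem _ c (shiftPow_mem_KK g β ht)
    | add p q hp hq =>
      rw [add_smul, map_add]; exact add_mem hp hq

theorem mem_KKP {t : TT B r M} : t ∈ KKP M g ↔ eT M t ∈ KK g M := Iff.rfl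

/-- the associated graded module, as a module over the polynomial ring. -/
abbrev GrP : Type u := TT B r M ⧸ KKP M g

/-- comparison with the symbol description. -/
noncomputable def eG : GrP M g ≃ₗ[B] Gr g M :=
  (Submodule.Quotient.restrictScalarsEquiv B (KKP M g)).symm ≪≫ₗ
  Submodule.Quotient.equiv ((KKP M g).restrictScalars B) (KK g M) (eT M) (by
    ext x
    constructor
    · rintro ⟨t, ht, rfl⟩
      exact ht
    · intro hx
      exact ⟨(eT M).symm x, by
        show eT M ((eT M).symm x) ∈ KK g M
        rw [LinearEquiv.apply_symm_apply]; exact hx, LinearEquiv.apply_symm_apply _ _⟩)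

theorem eG_mk (t : TT B r M) :
    eG M g (Submodule.Quotient.mk t) = Submodule.Quotient.mk (eT M t) := rfl

theorem eG_symm_mk (x : SymM r M) :
    (eG M g).symm (Submodule.Quotient.mk x) = Submodule.Quotient.mk ((eT M).symm x) := by
  rw [LinearEquiv.symm_apply_eq, eG_mk, LinearEquiv.apply_symm_apply]

/-- inclusion of the graded piece. -/
noncomputable def inclP (k : ℕ) : Gk g M k →ₗ[B] GrP M g :=
  (eG M g).symm.toLinearMap ∘ₗ inclK g M k

/-- projection onto the graded piece. -/
noncomputable def projP (k : ℕ) : GrP M g →ₗ[B] Gk g M k :=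
  projK g M k ∘ₗ (eG M g).toLinearMap

theorem smul_mem_KK_of_mem_JJ {b : B} (hb : b ∈ JJ g) (x : SymM r M) : b • x ∈ KK g M := by
  rw [mem_KK]
  intro k
  rw [map_smul, Fil_succ]
  exact Submodule.smul_mem_smul hb (ev_mem_Fil g M k x)

/-- `J` kills the associated graded module. -/
theorem smul_GrP_eq_zero {b : B} (hb : b ∈ JJ g) (y : GrP M g) : b • y = 0 := by
  obtain ⟨t, rfl⟩ := Submodule.Quotient.mk_surjective _ y
  rw [← Submodule.Quotient.mk_smul, Submodule.Quotient.mk_eq_zero, mem_KKP, map_smul]
  exact smul_mem_KK_of_mem_JJ M g hb _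

theorem smul_Gk_eq_zero {b : B} (hb : b ∈ JJ g) (k : ℕ) (y : Gk g M k) : b • y = 0 := by
  obtain ⟨x, rfl⟩ := Submodule.Quotient.mk_surjective _ y
  rw [← Submodule.Quotient.mk_smul, Submodule.Quotient.mk_eq_zero]
  exact KK_le_ker_lam g M k (smul_mem_KK_of_mem_JJ M g hb x)

/-- the degree `k` part of `p • (degree k part)` is the constant coefficient. -/
theorem projP_smul_inclP (k : ℕ) (p : MvPolynomial (Fin r) B) (n : Gk g M k) :
    projP M g k (p • inclP M g k n) = constantCoeff p • n := by
  obtain ⟨x, rfl⟩ := Submodule.Quotient.mk_surjective _ n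
  unfold inclP projP
  simp only [LinearMap.comp_apply, LinearEquiv.coe_coe]
  rw [inclK_mk, eG_symm_mk, ← Submodule.Quotient.mk_smul, eG_mk, projK_mk]
  induction p using MvPolynomial.induction_on' with
  | monomial β c =>
    rw [eT_monomial_smul, LinearEquiv.apply_symm_apply, constantCoeff_monomial]
    by_cases hβ : β = 0
    · subst hβ
      rw [if_pos rfl, shiftPow_zero, LinearMap.id_apply, Submodule.Quotient.mk_smul, mk_pi_eq]
    · rw [if_neg hβ, zero_smul, Submodule.Quotient.mk_smul]
      have h0 : (Submodule.Quotient.mk (shiftPow B M β (pi B M k x)) : Gk g M k) = 0 := by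
        rw [Submodule.Quotient.mk_eq_zero, mem_ker_lam, ← ev_pi_self, pi_shiftPow_pi]
        have hdeg : β.degree ≠ 0 := by
          intro h0
          exact hβ ((Finsupp.degree_eq_zero_iff β).1 h0)
        rw [if_neg (by omega), map_zero]
        exact zero_mem _
      rw [h0, smul_zero]
  | add p q hp hq =>
    rw [add_smul, map_add, Submodule.Quotient.mk_add, hp, hq, map_add, add_smul]

theorem projP_inclP (k : ℕ) (n : Gk g M k) : projP M g k (inclP M g k n) = n := by
  have := projP_smul_inclP M g k 1 n
  rwa [one_smul, map_one, one_smul] at this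

/-- every element is the sum of its homogeneous components. -/
theorem exists_sum_inclP_projP (y : GrP M g) :
    ∃ K, ∀ K', K ≤ K' → y = ∑ k ∈ Finset.range K', inclP M g k (projP M g k y) := by
  obtain ⟨t, rfl⟩ := Submodule.Quotient.mk_surjective _ y
  obtain ⟨T, hT⟩ := exists_sum_pi (C := B) (M := M) (eT M t)
  refine ⟨T.sup id + 1, fun K' hK' => ?_⟩
  have hsub : T ⊆ Finset.range K' := by
    intro k hk
    rw [Finset.mem_range]
    have : k ≤ T.sup id := Finset.le_sup (f := id) hk
    omega
  have h1 := hT _ hsub
  apply (eG M g).injective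
  rw [map_sum, eG_mk]
  conv_lhs => rw [← h1]
  rw [← Submodule.mkQ_apply, map_sum]
  refine Finset.sum_congr rfl fun k _ => ?_
  unfold inclP projP
  simp only [LinearMap.comp_apply, LinearEquiv.coe_coe, LinearEquiv.apply_symm_apply]
  rw [eG_mk, projK_mk, inclK_mk, Submodule.mkQ_apply]

/-- `KK` is generated by finitely many elements under scalars and shifts. -/
def ShiftFG : Prop :=
  ∃ F : Finset (SymM r M), (∀ f ∈ F, f ∈ KK g M) ∧
    KK g M ≤ Sat B M (Submodule.span B (F : Set (SymM r M)))

theorem eT_symm_shiftPow (β : Fin r →₀ ℕ) (x : SymM r M) :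
    (eT M).symm (shiftPow B M β x) = (monomial β (1 : B)) • (eT (B := B) M).symm x := by
  rw [LinearEquiv.symm_apply_eq, eT_monomial_smul, LinearEquiv.apply_symm_apply, one_smul]

theorem KKP_fg (h : ShiftFG M g) : (KKP M g).FG := by
  classical
  obtain ⟨F, hF1, hF2⟩ := h
  refine ⟨F.image (eT M).symm, ?_⟩
  apply le_antisymm
  · rw [Submodule.span_le]
    intro t ht
    rw [Finset.coe_image] at ht
    obtain ⟨f, hf, rfl⟩ := ht
    show eT M ((eT M).symm f) ∈ KK g M
    rw [LinearEquiv.apply_symm_apply]
    exact hF1 f hf
  · intro t ht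
    have key : ∀ x ∈ Sat B M (Submodule.span B (F : Set (SymM r M))),
        (eT M).symm x ∈ Submodule.span (MvPolynomial (Fin r) B)
          ((F.image (eT M).symm : Finset (TT B r M)) : Set (TT B r M)) := by
      intro x hx
      unfold Sat at hx
      refine Submodule.iSup_induction _ (motive := fun x => (eT M).symm x ∈
        Submodule.span (MvPolynomial (Fin r) B)
          ((F.image (eT M).symm : Finset (TT B r M)) : Set (TT B r M))) hx ?_ ?_ ?_
      · rintro β _ ⟨z, hz, rfl⟩
        rw [eT_symm_shiftPow]
        refine Submodule.smul_mem _ _ ?_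
        refine Submodule.span_induction (p := fun z _ => (eT M).symm z ∈
          Submodule.span (MvPolynomial (Fin r) B)
            ((F.image (eT M).symm : Finset (TT B r M)) : Set (TT B r M))) ?_ ?_ ?_ ?_ hz
        · intro f hf
          refine Submodule.subset_span ?_
          rw [Finset.coe_image]
          exact ⟨f, hf, rfl⟩
        · rw [map_zero]; exact zero_mem _
        · intro a b _ _ ha hb
          rw [map_add]; exact add_mem ha hb
        · intro b a _ ha
          rw [map_smul]
          exact Submodule.smul_of_tower_mem _ b ha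
      · rw [map_zero]; exact zero_mem _
      · intro a b ha hb
        rw [map_add]; exact add_mem ha hb
    have := key _ (hF2 ht)
    rwa [LinearEquiv.symm_apply_apply] at this

theorem GrP_finitePresentation [Module.FinitePresentation B M] (h : ShiftFG M g) :
    Module.FinitePresentation (MvPolynomial (Fin r) B) (GrP M g) :=
  Module.finitePresentation_of_surjective (KKP M g).mkQ (Submodule.mkQ_surjective _)
    (by rw [Submodule.ker_mkQ]; exact KKP_fg M g h)

end Poly

end Groth.Agent.Lib.Helper7.GrSym
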