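import Mathlib
import Groth.Agent.Lib.Helper21.FlatDescI

/-!
# Helper7 — GrSymVertex: flatness of the graded pieces of a graded module over an augmented algebra
is flatness at the vertex; openness of the locus where all graded pieces are flat.
-/

namespace Groth.Agent.Lib.Helper7.GrSym

open Function TensorProduct

universe u

section L

variable {A C : Type*} [CommRing A] [CommRing C] [Algebra A C]
  {M : Type*} [AddCommGroup M] [Module C M] [Module A M] [IsScalarTower A C M] (Sg : Submonoid C)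

/-- flatness of a localization is the statement that the kernels of `M ⊗ 𝔞 → M` are torsion. -/
theorem flat_localized_iff_torsion_ker :
    Module.Flat A (LocalizedModule Sg M) ↔
      ∀ 𝔞 : Ideal A, 𝔞.FG → ∀ x : M ⊗[A] 𝔞, LinearMap.lTensor M 𝔞.subtype x = 0 →
        ∃ s : Sg, (s : C) • x = 0 := by
  set f : M →ₗ[C] LocalizedModule Sg M := LocalizedModule.mkLinearMap Sg M
  have hnat : ∀ (𝔞 : Ideal A) (z : M ⊗[A] 𝔞),
      LinearMap.lTensor (LocalizedModule Sg M) 𝔞.subtype (AlgebraTensorModule.rTensor A 𝔞 f z) =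
      AlgebraTensorModule.rTensor A A f (LinearMap.lTensor M 𝔞.subtype z) := by
    intro 𝔞 z
    induction z using TensorProduct.induction_on with
    | zero => simp
    | add a b ha hb => simp only [map_add, ha, hb]
    | tmul m a => rfl
  constructor
  · intro hflat 𝔞 h𝔞 x hx
    have hinj := (Module.Flat.iff_lTensor_injective.1 hflat) h𝔞
    have h1 : AlgebraTensorModule.rTensor A 𝔞 f x = 0 := by
      apply hinj
      rw [hnat, hx, map_zero, map_zero]
    obtain ⟨s, hs⟩ := (IsLocalizedModule.eq_zero_iff Sg (AlgebraTensorModule.rTensor A 𝔞 f)).1 h1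
    exact ⟨s, hs⟩
  · intro hkill
    rw [Module.Flat.iff_lTensor_injective]
    intro 𝔞 h𝔞
    set F𝔞 := AlgebraTensorModule.rTensor A 𝔞 f
    set FA := AlgebraTensorModule.rTensor A A f
    rw [injective_iff_map_eq_zero]
    intro y hy
    obtain ⟨⟨x, s⟩, hxs⟩ := IsLocalizedModule.surj Sg F𝔞 y
    simp only at hxs
    have h1 : FA (LinearMap.lTensor M 𝔞.subtype x) = 0 := by
      rw [← hnat, ← hxs]
      have : LinearMap.lTensor (LocalizedModule Sg M) 𝔞.subtype (s • y) =
          s • LinearMap.lTensor (LocalizedModule Sg M) 𝔞.subtype y := by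
        rw [← AlgebraTensorModule.coe_lTensor (A := C)]
        exact map_smul _ (s : C) _
      rw [this, hy, smul_zero]
    obtain ⟨t, ht⟩ := (IsLocalizedModule.eq_zero_iff Sg FA).1 h1
    have h2 : LinearMap.lTensor M 𝔞.subtype (t • x) = 0 := by
      have : LinearMap.lTensor M 𝔞.subtype (t • x) = t • LinearMap.lTensor M 𝔞.subtype x := by
        rw [← AlgebraTensorModule.coe_lTensor (A := C)]
        exact map_smul _ (t : C) _
      rw [this, ht]
    obtain ⟨s', hs'⟩ := hkill 𝔞 h𝔞 _ h2
    have h3 : F𝔞 x = 0 :=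
      (IsLocalizedModule.eq_zero_iff Sg F𝔞).2 ⟨s' * t, by
        rw [Submonoid.smul_def, Submonoid.coe_mul, mul_smul]; exact hs'⟩
    rw [h3] at hxs
    exact IsLocalizedModule.smul_injective F𝔞 s (by simpa using hxs)

end L

section Vertex

variable {R S : Type u} [CommRing R] [CommRing S] [Algebra R S]
  (ε : S →+* R) (hε : ∀ r, ε (algebraMap R S r) = r)
  {Nb : Type u} [AddCommGroup Nb] [Module S Nb] [Module R Nb] [IsScalarTower R S Nb]
  {N : ℕ → Type u} [∀ k, AddCommGroup (N k)] [∀ k, Module R (N k)]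
  (ι : ∀ k, N k →ₗ[R] Nb) (π : ∀ k, Nb →ₗ[R] N k)
  (h2 : ∀ k (s : S) (n : N k), π k (s • ι k n) = ε s • n)
  (h3 : ∀ y : Nb, ∃ K, ∀ K', K ≤ K' → y = ∑ k ∈ Finset.range K', ι k (π k y))

include h2 in
theorem vertex_aux1 (k : ℕ) (𝔞 : Ideal R) (s : S) (x : N k ⊗[R] 𝔞) :
    LinearMap.rTensor 𝔞 (π k) (s • LinearMap.rTensor 𝔞 (ι k) x) = ε s • x := by
  induction x using TensorProduct.induction_on with
  | zero => simp
  | add a b ha hb => simp only [map_add, smul_add, ha, hb]
  | tmul n a =>
    rw [LinearMap.rTensor_tmul, TensorProduct.smul_tmul', LinearMap.rTensor_tmul, h2,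
      TensorProduct.smul_tmul']

include h3 in
theorem vertex_aux2 (𝔞 : Ideal R) (x : Nb ⊗[R] 𝔞) :
    ∃ K, ∀ K', K ≤ K' →
      x = ∑ k ∈ Finset.range K', LinearMap.rTensor 𝔞 (ι k) (LinearMap.rTensor 𝔞 (π k) x) := by
  induction x using TensorProduct.induction_on with
  | zero => exact ⟨0, fun K' _ => by simp⟩
  | add a b ha hb =>
    obtain ⟨K₁, h₁⟩ := ha
    obtain ⟨K₂, h₂⟩ := hb
    refine ⟨max K₁ K₂, fun K' hK' => ?_⟩
    have e1 := h₁ K' ((le_max_left _ _).trans hK')
    have e2 := h₂ K' ((le_max_right _ _).trans hK')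
    conv_lhs => rw [e1, e2]
    rw [← Finset.sum_add_distrib]
    refine Finset.sum_congr rfl fun k _ => ?_
    simp only [map_add]
  | tmul y a =>
    obtain ⟨K, hK⟩ := h3 y
    refine ⟨K, fun K' hK' => ?_⟩
    conv_lhs => rw [hK K' hK']
    rw [TensorProduct.sum_tmul]
    refine Finset.sum_congr rfl fun k _ => ?_
    rw [LinearMap.rTensor_tmul, LinearMap.rTensor_tmul]

include hε h2 h3 in
/-- flatness at the vertex over `q` is flatness of all the graded pieces at `q`. -/
theorem vertex_iff (q : Ideal R) [q.IsPrime] :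
    Module.Flat R (LocalizedModule (q.comap ε).primeCompl Nb) ↔
      ∀ k, Module.Flat R (LocalizedModule q.primeCompl (N k)) := by
  rw [flat_localized_iff_torsion_ker (A := R) (C := S)]
  have hnat1 : ∀ (k : ℕ) (𝔞 : Ideal R) (x : N k ⊗[R] 𝔞),
      LinearMap.lTensor Nb 𝔞.subtype (LinearMap.rTensor 𝔞 (ι k) x) =
        LinearMap.rTensor R (ι k) (LinearMap.lTensor (N k) 𝔞.subtype x) := by
    intro k 𝔞 x
    rw [← LinearMap.comp_apply, ← LinearMap.comp_apply, LinearMap.lTensor_comp_rTensor,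
      LinearMap.rTensor_comp_lTensor]
  have hnat2 : ∀ (k : ℕ) (𝔞 : Ideal R) (x : Nb ⊗[R] 𝔞),
      LinearMap.lTensor (N k) 𝔞.subtype (LinearMap.rTensor 𝔞 (π k) x) =
        LinearMap.rTensor R (π k) (LinearMap.lTensor Nb 𝔞.subtype x) := by
    intro k 𝔞 x
    rw [← LinearMap.comp_apply, ← LinearMap.comp_apply, LinearMap.lTensor_comp_rTensor,
      LinearMap.rTensor_comp_lTensor]
  constructor
  · intro h k
    rw [flat_localized_iff_torsion_ker (A := R) (C := R)]
    intro 𝔞 h𝔞 x hx
    have hx' : LinearMap.lTensor Nb 𝔞.subtype (LinearMap.rTensor 𝔞 (ι k) x) = 0 := by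
      rw [hnat1, hx, map_zero]
    obtain ⟨s, hs⟩ := h 𝔞 h𝔞 _ hx'
    refine ⟨⟨ε s, fun hmem => s.2 hmem⟩, ?_⟩
    show ε (s : S) • x = 0
    rw [← vertex_aux1 ε ι π h2 k 𝔞 s x, hs, map_zero]
  · intro h 𝔞 h𝔞 x hx
    obtain ⟨K, hK⟩ := vertex_aux2 ι π h3 𝔞 x
    have hk : ∀ k, ∃ t : q.primeCompl, (t : R) • LinearMap.rTensor 𝔞 (π k) x = 0 := by
      intro k
      have := (flat_localized_iff_torsion_ker (A := R) (C := R) q.primeCompl).1 (h k) 𝔞 h𝔞
        (LinearMap.rTensor 𝔞 (π k) x) (by rw [hnat2, hx, map_zero])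
      exact this
    choose t ht using hk
    set T : R := ∏ k ∈ Finset.range K, (t k : R) with hT
    have hTq : T ∈ q.primeCompl := by
      rw [hT]
      exact Submonoid.prod_mem _ fun k _ => (t k).2
    refine ⟨⟨algebraMap R S T, ?_⟩, ?_⟩
    · show algebraMap R S T ∉ q.comap ε
      rw [Ideal.mem_comap, hε]
      exact hTq
    · show algebraMap R S T • x = 0
      rw [algebraMap_smul, hK K le_rfl, Finset.smul_sum]
      refine Finset.sum_eq_zero fun k hk => ?_
      rw [← map_smul]
      have : T • LinearMap.rTensor 𝔞 (π k) x = 0 := by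
        rw [hT, ← Finset.mul_prod_erase _ _ hk, mul_comm, mul_smul, ht k, smul_zero]
      rw [this, map_zero]

include hε h2 h3 in
/-- **Openness of the locus where all the graded pieces are flat.** -/
theorem isOpen_forall_flat_graded [Algebra.FinitePresentation R S] [Module.FinitePresentation S Nb] :
    IsOpen {q : PrimeSpectrum R | ∀ k, Module.Flat R (LocalizedModule q.asIdeal.primeCompl (N k))} := by
  have hU := Groth.Agent.Lib.Helper21.FlatDesc.isOpen_flatLocus_of_finitePresentation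
    (R := R) (S := S) (M := Nb)
  have hcont : Continuous (PrimeSpectrum.comap ε) := PrimeSpectrum.continuous_comap _
  convert hU.preimage hcont using 1
  ext q
  exact (vertex_iff ε hε ι π h2 h3 q.asIdeal).symm

end Vertex

end Groth.Agent.Lib.Helper7.GrSym
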