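import Mathlib
import Groth.Agent.Lib.Helper7.GrSymPoly
import Groth.Agent.Lib.Helper7.GrSymVertex

/-!
# Helper7 — GrSymNF: openness of the normal flatness locus, when the kernel of the symbol map is
finitely generated under shifts.
-/

namespace Groth.Agent.Lib.Helper7.GrSym

open Function TensorProduct MvPolynomial

universe u

section NF

variable {B : Type u} [CommRing B] {r : ℕ} (g : Fin r → B) (M : Type u) [AddCommGroup M] [Module B M]

variable (B r) in
/-- the polynomial ring in the symbols. -/
abbrev PolB : Type u := MvPolynomial (Fin r) B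

/-- the extension of `J` to the polynomial ring. -/
noncomputable abbrev JP : Ideal (PolB B r) := (JJ g).map (algebraMap B (PolB B r))

/-- the polynomial ring over `B / J`, as a quotient. -/
abbrev SS : Type u := PolB B r ⧸ JP g

/-- `B / J`. -/
abbrev RR : Type u := B ⧸ JJ g

theorem isTorsionBySet_GrP :
    Module.IsTorsionBySet (PolB B r) (GrP M g) (JP g : Set (PolB B r)) := by
  rw [Module.isTorsionBySet_iff_subset_annihilator]
  show JP g ≤ Module.annihilator (PolB B r) (GrP M g)
  unfold JP
  rw [Ideal.map_le_iff_le_comap]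
  intro b hb
  rw [Ideal.mem_comap, Module.mem_annihilator]
  intro y
  rw [algebraMap_smul]
  exact smul_GrP_eq_zero M g hb y

/-- `gr` as a module over the polynomial ring over `B / J`. -/
noncomputable def modS : Module (SS g) (GrP M g) := (isTorsionBySet_GrP g M).module

attribute [local instance] modS

theorem mk_smul_GrP (p : PolB B r) (y : GrP M g) :
    (Ideal.Quotient.mk (JP g) p) • y = p • y := rfl

/-- `gr` as a module over `B / J`. -/
noncomputable def modR : Module (RR g) (GrP M g) :=
  Module.compHom (GrP M g) (algebraMap (RR g) (SS g))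

attribute [local instance] modR

instance towerRS : IsScalarTower (RR g) (SS g) (GrP M g) :=
  IsScalarTower.of_algebraMap_smul fun _ _ => rfl

theorem mk_smul_GrP' (b : B) (y : GrP M g) :
    (Ideal.Quotient.mk (JJ g) b) • y = b • y := by
  show algebraMap (RR g) (SS g) (Ideal.Quotient.mk (JJ g) b) • y = b • y
  have : algebraMap (RR g) (SS g) (Ideal.Quotient.mk (JJ g) b) =
      Ideal.Quotient.mk (JP g) (algebraMap B (PolB B r) b) := rfl
  rw [this, mk_smul_GrP, algebraMap_smul]

instance towerBR : IsScalarTower B (RR g) (GrP M g) :=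
  IsScalarTower.of_algebraMap_smul fun b y => mk_smul_GrP' g M b y

/-- the augmentation. -/
noncomputable def epsS : SS g →+* RR g :=
  Ideal.Quotient.lift (JP g) ((Ideal.Quotient.mk (JJ g)).comp (constantCoeff : PolB B r →+* B)) (by
    intro a ha
    have hle : JP g ≤ RingHom.ker ((Ideal.Quotient.mk (JJ g)).comp
        (constantCoeff : PolB B r →+* B)) := by
      unfold JP
      rw [Ideal.map_le_iff_le_comap]
      intro b hb
      rw [Ideal.mem_comap, RingHom.mem_ker, RingHom.comp_apply]
      show Ideal.Quotient.mk (JJ g) (constantCoeff (C b)) = 0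
      rw [constantCoeff_C, Ideal.Quotient.eq_zero_iff_mem]
      exact hb
    exact hle ha)

theorem epsS_mk (p : PolB B r) :
    epsS g (Ideal.Quotient.mk (JP g) p) = Ideal.Quotient.mk (JJ g) (constantCoeff p) := rfl

theorem epsS_algebraMap (x : RR g) : epsS g (algebraMap (RR g) (SS g) x) = x := by
  obtain ⟨b, rfl⟩ := Ideal.Quotient.mk_surjective x
  have : algebraMap (RR g) (SS g) (Ideal.Quotient.mk (JJ g) b) =
      Ideal.Quotient.mk (JP g) (algebraMap B (PolB B r) b) := rfl
  rw [this, epsS_mk]
  show Ideal.Quotient.mk (JJ g) (constantCoeff (C b)) = _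
  rw [constantCoeff_C]

/-- the graded pieces as modules over `B / J`. -/
abbrev NN (k : ℕ) : Type u := RR g ⊗[B] Gk g M k

/-- inclusion of the graded piece. -/
noncomputable def iotaN (k : ℕ) : NN g M k →ₗ[RR g] GrP M g :=
  LinearMap.liftBaseChange (RR g) (inclP M g k)

theorem iotaN_tmul (k : ℕ) (x : RR g) (n : Gk g M k) :
    iotaN g M k (x ⊗ₜ n) = x • inclP M g k n := by
  simp [iotaN]

/-- projection onto the graded piece. -/
noncomputable def piN (k : ℕ) : GrP M g →ₗ[RR g] NN g M k :=
  ((TensorProduct.mk B (RR g) (Gk g M k) 1) ∘ₗ projP M g k).extendScalarsOfSurjective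
    Ideal.Quotient.mk_surjective

theorem piN_apply (k : ℕ) (y : GrP M g) : piN g M k y = (1 : RR g) ⊗ₜ projP M g k y := rfl

theorem piN_smul_iotaN (k : ℕ) (s : SS g) (n : NN g M k) :
    piN g M k (s • iotaN g M k n) = epsS g s • n := by
  obtain ⟨p, rfl⟩ := Ideal.Quotient.mk_surjective s
  induction n using TensorProduct.induction_on with
  | zero => simp
  | add a b ha hb => simp only [map_add, smul_add, ha, hb]
  | tmul x n =>
    obtain ⟨b, rfl⟩ := Ideal.Quotient.mk_surjective x
    rw [iotaN_tmul, mk_smul_GrP', mk_smul_GrP, piN_apply, smul_comm, map_smul, projP_smul_inclP,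
      epsS_mk, TensorProduct.smul_tmul', smul_smul, ← TensorProduct.smul_tmul]
    congr 1
    rw [smul_eq_mul, ← map_mul, Algebra.smul_def, mul_one, mul_comm]
    rfl

theorem exists_sum_iotaN_piN (y : GrP M g) :
    ∃ K, ∀ K', K ≤ K' → y = ∑ k ∈ Finset.range K', iotaN g M k (piN g M k y) := by
  obtain ⟨K, hK⟩ := exists_sum_inclP_projP M g y
  refine ⟨K, fun K' hK' => ?_⟩
  conv_lhs => rw [hK K' hK']
  refine Finset.sum_congr rfl fun k _ => ?_
  rw [piN_apply, iotaN_tmul, one_smul]

instance towerPS : IsScalarTower (PolB B r) (SS g) (GrP M g) :=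
  ⟨fun p s y => by
    obtain ⟨p', rfl⟩ := Ideal.Quotient.mk_surjective s
    show (Ideal.Quotient.mk (JP g) (p * p')) • y = p • ((Ideal.Quotient.mk (JP g) p') • y)
    rw [mk_smul_GrP, mk_smul_GrP, mul_smul]⟩

end NF

section FP

theorem isBaseChange_id_quotient {A : Type*} [CommRing A] (I : Ideal A) {N : Type*}
    [AddCommGroup N] [Module A N] [Module (A ⧸ I) N] [IsScalarTower A (A ⧸ I) N] :
    IsBaseChange (A ⧸ I) (LinearMap.id : N →ₗ[A] N) := by
  let e : (A ⧸ I) ⊗[A] N ≃ₗ[A ⧸ I] N :=
    { LinearMap.liftBaseChange (A ⧸ I) (LinearMap.id : N →ₗ[A] N) with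
      invFun := fun n => (1 : A ⧸ I) ⊗ₜ n
      left_inv := by
        intro x
        induction x using TensorProduct.induction_on with
        | zero => simp
        | add a b ha hb =>
          simp only [AddHom.toFun_eq_coe, LinearMap.coe_toAddHom, map_add] at ha hb ⊢
          rw [TensorProduct.tmul_add, ha, hb]
        | tmul s n =>
          obtain ⟨a, rfl⟩ := Ideal.Quotient.mk_surjective s
          simp only [AddHom.toFun_eq_coe, LinearMap.coe_toAddHom, LinearMap.liftBaseChange_tmul,
            LinearMap.id_coe, id_eq]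
          have h1 : (Ideal.Quotient.mk I a) • n = a • n := by
            rw [← algebraMap_smul (A ⧸ I) a n]; rfl
          rw [h1, TensorProduct.tmul_smul, TensorProduct.smul_tmul', Algebra.smul_def, mul_one]
          rfl
      right_inv := by
        intro n
        simp }
  refine IsBaseChange.of_equiv e fun x => ?_
  simp [e]

end FP

section NF2

variable {B : Type u} [CommRing B] {r : ℕ} (g : Fin r → B) (M : Type u) [AddCommGroup M] [Module B M]

attribute [local instance] modS modR

theorem SS_finitePresentation : Algebra.FinitePresentation (RR g) (SS g) := by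
  have hfg : (JP g).FG := by
    unfold JP
    refine Ideal.FG.map ?_ _
    classical
    exact ⟨Finset.univ.image g, by simp [JJ]⟩
  haveI : Algebra.FinitePresentation B (SS g) := Algebra.FinitePresentation.quotient hfg
  haveI : Algebra.FiniteType B (RR g) :=
    Algebra.FiniteType.of_surjective (Algebra.ofId B (RR g)) Ideal.Quotient.mk_surjective
  exact Algebra.FinitePresentation.of_restrict_scalars_finitePresentation B (RR g) (SS g)

theorem GrP_finitePresentation_SS [Module.FinitePresentation B M] (h : ShiftFG M g) :
    Module.FinitePresentation (SS g) (GrP M g) := by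
  haveI := GrP_finitePresentation M g h
  exact _root_.FinitePresentation.of_isBaseChange (LinearMap.id : GrP M g →ₗ[PolB B r] GrP M g)
    (isBaseChange_id_quotient (JP g))

/-- **Openness of the normal flatness locus, in `Spec (B / J)`.** -/
theorem isOpen_forall_flat_NN [Module.FinitePresentation B M] (h : ShiftFG M g) :
    IsOpen {q : PrimeSpectrum (RR g) | ∀ k,
      Module.Flat (RR g) (LocalizedModule q.asIdeal.primeCompl (NN g M k))} := by
  haveI := SS_finitePresentation g
  haveI := GrP_finitePresentation_SS g M h
  exact isOpen_forall_flat_graded (epsS g) (epsS_algebraMap g) (iotaN g M) (piN g M)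
    (piN_smul_iotaN g M) (exists_sum_iotaN_piN g M)

end NF2

end Groth.Agent.Lib.Helper7.GrSym
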