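import Mathlib
import Groth.Agent.Lib.Helper7.GrSymNF

/-!
# Helper7 — GrSymNF2: openness of the normal flatness locus in `Spec B`.
-/

namespace Groth.Agent.Lib.Helper7.GrSym

open Function TensorProduct MvPolynomial

universe u

section BCL

variable {B : Type u} [CommRing B] (J : Ideal B) (X : Type u) [AddCommGroup X] [Module B X]

/-- base change to `B / J` of a localization is the localization of the base change. -/
theorem isLocalizedModule_baseChange_quotient (q' : Ideal (B ⧸ J)) [q'.IsPrime] :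
    IsLocalizedModule q'.primeCompl
      ((LocalizedModule.mkLinearMap (q'.comap (Ideal.Quotient.mk J)).primeCompl X).baseChange
        (B ⧸ J)) := by
  set q := q'.comap (Ideal.Quotient.mk J) with hq
  set g := LocalizedModule.mkLinearMap q.primeCompl X with hg
  have hsub : Algebra.algebraMapSubmonoid (B ⧸ J) q.primeCompl = q'.primeCompl := by
    ext x
    constructor
    · rintro ⟨y, hy, rfl⟩; exact hy
    · intro hx
      obtain ⟨y, rfl⟩ := Ideal.Quotient.mk_surjective x
      exact ⟨y, hx, rfl⟩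
  rw [← hsub]
  have h1 : IsLocalizedModule q.primeCompl
      ((TensorProduct.comm B _ _).toLinearMap ∘ₗ
        (AlgebraTensorModule.rTensor B (B ⧸ J) g ∘ₗ (TensorProduct.comm B (B ⧸ J) X).toLinearMap)) :=
    inferInstance
  have h2 : ((TensorProduct.comm B _ _).toLinearMap ∘ₗ
        (AlgebraTensorModule.rTensor B (B ⧸ J) g ∘ₗ (TensorProduct.comm B (B ⧸ J) X).toLinearMap)) =
      (g.baseChange (B ⧸ J)).restrictScalars B := by
    ext x y
    simp
  rw [h2] at h1
  exact IsLocalizedModule.of_restrictScalars q.primeCompl (g.baseChange (B ⧸ J))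

theorem flat_localized_baseChange_iff (q' : Ideal (B ⧸ J)) [q'.IsPrime] :
    Module.Flat (B ⧸ J) (LocalizedModule q'.primeCompl ((B ⧸ J) ⊗[B] X)) ↔
      Module.Flat (B ⧸ J) ((B ⧸ J) ⊗[B]
        LocalizedModule (q'.comap (Ideal.Quotient.mk J)).primeCompl X) := by
  haveI := isLocalizedModule_baseChange_quotient J X q'
  let e := IsLocalizedModule.linearEquiv q'.primeCompl
    (LocalizedModule.mkLinearMap q'.primeCompl ((B ⧸ J) ⊗[B] X))
    ((LocalizedModule.mkLinearMap (q'.comap (Ideal.Quotient.mk J)).primeCompl X).baseChange (B ⧸ J))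
  exact ⟨fun _ => Module.Flat.of_linearEquiv e.symm, fun _ => Module.Flat.of_linearEquiv e⟩

variable {X} in
/-- invariance under linear equivalence. -/
theorem flat_baseChange_localized_congr {Y : Type u} [AddCommGroup Y] [Module B Y] (e : X ≃ₗ[B] Y)
    (T : Submonoid B) :
    Module.Flat (B ⧸ J) ((B ⧸ J) ⊗[B] LocalizedModule T X) ↔
      Module.Flat (B ⧸ J) ((B ⧸ J) ⊗[B] LocalizedModule T Y) := by
  let φ : X →ₗ[B] LocalizedModule T Y := LocalizedModule.mkLinearMap T Y ∘ₗ e.toLinearMap
  haveI : IsLocalizedModule T φ := inferInstance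
  let e' : LocalizedModule T X ≃ₗ[B] LocalizedModule T Y :=
    IsLocalizedModule.linearEquiv T (LocalizedModule.mkLinearMap T X) φ
  let E := e'.baseChange B (B ⧸ J) _ _
  exact ⟨fun _ => Module.Flat.of_linearEquiv E.symm, fun _ => Module.Flat.of_linearEquiv E⟩

end BCL

section Main

variable {B : Type u} [CommRing B] {r : ℕ} (g : Fin r → B) (M : Type u) [AddCommGroup M] [Module B M]

/-- the map `J^k M → M / J^{k+1} M`. -/
noncomputable def phiK (k : ℕ) : ↥(Fil g M k) →ₗ[B] M ⧸ Fil g M (k + 1) :=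
  (Fil g M (k + 1)).mkQ ∘ₗ (Fil g M k).subtype

theorem ker_phiK (k : ℕ) :
    LinearMap.ker (phiK g M k) = Submodule.comap (Fil g M k).subtype (Fil g M (k + 1)) := by
  unfold phiK
  rw [LinearMap.ker_comp, Submodule.ker_mkQ]

theorem range_phiK (k : ℕ) : LinearMap.range (phiK g M k) = LinearMap.ker (trans g M k) := by
  rw [← range_lam]
  unfold phiK lam
  rw [LinearMap.range_comp, LinearMap.range_comp, Submodule.range_subtype, range_ev]

/-- the graded piece `J^k M / J^{k+1} M` in submodule-quotient form is the graded piece `Gk`. -/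
noncomputable def grPieceEquiv (k : ℕ) :
    (↥(JJ g ^ k • (⊤ : Submodule B M)) ⧸
      Submodule.comap (JJ g ^ k • (⊤ : Submodule B M)).subtype (JJ g ^ (k + 1) • ⊤)) ≃ₗ[B]
      Gk g M k :=
  Submodule.quotEquivOfEq _ (LinearMap.ker (phiK g M k)) (ker_phiK g M k).symm ≪≫ₗ
  (phiK g M k).quotKerEquivRange ≪≫ₗ LinearEquiv.ofEq _ _ (range_phiK g M k) ≪≫ₗ
  (GkEquiv g M k).symm

/-- **Openness of the normal flatness locus**, when the kernel of the symbol map is finitely
generated under shifts. -/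
theorem isOpen_normallyFlat_of_shiftFG [Module.FinitePresentation B M] (h : ShiftFG M g) :
    IsOpen {q : PrimeSpectrum B | JJ g ≤ q.asIdeal → ∀ k : ℕ,
      Module.Flat (B ⧸ JJ g) ((B ⧸ JJ g) ⊗[B] LocalizedModule q.asIdeal.primeCompl
        (↥(JJ g ^ k • (⊤ : Submodule B M)) ⧸
          Submodule.comap (JJ g ^ k • (⊤ : Submodule B M)).subtype (JJ g ^ (k + 1) • ⊤)))} := by
  have hW := isOpen_forall_flat_NN g M h
  have hc : Topology.IsClosedEmbedding (PrimeSpectrum.comap (Ideal.Quotient.mk (JJ g))) :=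
    PrimeSpectrum.isClosedEmbedding_comap_of_surjective _ _ Ideal.Quotient.mk_surjective
  have key : ∀ q' : PrimeSpectrum (B ⧸ JJ g),
      (∀ k, Module.Flat (RR g) (LocalizedModule q'.asIdeal.primeCompl (NN g M k))) ↔
      (∀ k : ℕ, Module.Flat (B ⧸ JJ g) ((B ⧸ JJ g) ⊗[B] LocalizedModule
        (PrimeSpectrum.comap (Ideal.Quotient.mk (JJ g)) q').asIdeal.primeCompl
        (↥(JJ g ^ k • (⊤ : Submodule B M)) ⧸
          Submodule.comap (JJ g ^ k • (⊤ : Submodule B M)).subtype (JJ g ^ (k + 1) • ⊤)))) := by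
    intro q'
    refine forall_congr' fun k => ?_
    rw [flat_localized_baseChange_iff (JJ g) (Gk g M k) q'.asIdeal]
    exact (flat_baseChange_localized_congr (JJ g) (grPieceEquiv g M k) _).symm
  rw [← isClosed_compl_iff]
  have hset : {q : PrimeSpectrum B | JJ g ≤ q.asIdeal → ∀ k : ℕ,
      Module.Flat (B ⧸ JJ g) ((B ⧸ JJ g) ⊗[B] LocalizedModule q.asIdeal.primeCompl
        (↥(JJ g ^ k • (⊤ : Submodule B M)) ⧸
          Submodule.comap (JJ g ^ k • (⊤ : Submodule B M)).subtype (JJ g ^ (k + 1) • ⊤)))}ᶜ =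
      PrimeSpectrum.comap (Ideal.Quotient.mk (JJ g)) ''
        {q : PrimeSpectrum (RR g) | ∀ k,
          Module.Flat (RR g) (LocalizedModule q.asIdeal.primeCompl (NN g M k))}ᶜ := by
    ext q
    simp only [Set.mem_compl_iff, Set.mem_setOf_eq, Set.mem_image]
    constructor
    · intro hq
      rw [Classical.not_imp] at hq
      obtain ⟨hJq, hnot⟩ := hq
      have hmem : q ∈ Set.range (PrimeSpectrum.comap (Ideal.Quotient.mk (JJ g))) := by
        rw [_root_.range_comap_of_surjective _ _ Ideal.Quotient.mk_surjective,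
          PrimeSpectrum.mem_zeroLocus, Ideal.mk_ker]
        exact hJq
      obtain ⟨q', rfl⟩ := hmem
      exact ⟨q', fun hall => hnot ((key q').1 hall), rfl⟩
    · rintro ⟨q', hq', rfl⟩
      rw [Classical.not_imp]
      refine ⟨?_, fun hall => hq' ((key q').2 hall)⟩
      intro b hb
      show Ideal.Quotient.mk (JJ g) b ∈ q'.asIdeal
      rw [Ideal.Quotient.eq_zero_iff_mem.2 hb]
      exact zero_mem _
  rw [hset]
  exact hc.isClosedMap _ hW.isClosed_compl

end Main

end Groth.Agent.Lib.Helper7.GrSym
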