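import Mathlib
import Groth.Agent.Lib.Helper7.GrSymNF2
import Groth.Agent.Lib.Helper7.GrSymLocal2

/-!
# Helper7 — GrSymNF3: the kernel of the symbol map of a finitely presented module over a finitely
presented algebra with flat truncations is finitely generated under shifts; openness of the normal
flatness locus.
-/

namespace Groth.Agent.Lib.Helper7.GrSym

open Function TensorProduct MvPolynomial
open Groth.Agent.Lib.Helper21.FlatDesc

attribute [local instance] MvPolynomial.algebraMvPolynomial

universe u

set_option synthInstance.maxHeartbeats 400000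
set_option maxHeartbeats 1000000

section Transfer

variable {C B : Type u} [CommRing C] [CommRing B] [Algebra C B]
  {r : ℕ} (g : Fin r → C)
  {N M : Type u} [AddCommGroup N] [Module C N] [AddCommGroup M] [Module B M] [Module C M]
  [IsScalarTower C B M] (e : N ≃ₗ[C] M)

/-- the symbol modules correspond. -/
noncomputable def bcE : SymM r N →ₗ[C] SymM r M := Finsupp.mapRange.linearMap e.toLinearMap

/-- the inverse. -/
noncomputable def bcE' : SymM r M →ₗ[C] SymM r N := Finsupp.mapRange.linearMap e.symm.toLinearMap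

theorem bcE_bcE' (x : SymM r M) : bcE (r := r) e (bcE' e x) = x := by
  unfold bcE bcE'
  ext α
  simp

theorem bcE_single (α : Fin r →₀ ℕ) (m : N) :
    bcE e (Finsupp.single α m) = Finsupp.single α (e m) := by
  unfold bcE
  rw [Finsupp.mapRange.linearMap_apply, Finsupp.mapRange_single]
  rfl

theorem bcE'_single (α : Fin r →₀ ℕ) (m : M) :
    bcE' e (Finsupp.single α m) = Finsupp.single α (e.symm m) := by
  unfold bcE'
  rw [Finsupp.mapRange.linearMap_apply, Finsupp.mapRange_single]
  rfl

theorem ev_bcE (k : ℕ) (x : SymM r N) :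
    ev (fun i => algebraMap C B (g i)) M k (bcE e x) = e (ev g N k x) := by
  induction x using Finsupp.induction_linear with
  | zero => simp
  | add x y hx hy => simp only [map_add, hx, hy]
  | single α m =>
    rw [bcE_single, ev_single, ev_single]
    split_ifs
    · have : mon (fun i => algebraMap C B (g i)) α = algebraMap C B (mon g α) := by
        unfold mon
        rw [map_finsuppProd]
        simp only [map_pow]
      rw [this, algebraMap_smul, map_smul]
    · rw [map_zero]

theorem ev_bcE' (k : ℕ) (x : SymM r M) :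
    e (ev g N k (bcE' e x)) = ev (fun i => algebraMap C B (g i)) M k x := by
  rw [← ev_bcE (B := B) g e, bcE_bcE']

omit [Algebra C B] [IsScalarTower C B M] in
theorem shiftPow_bcE (γ : Fin r →₀ ℕ) (x : SymM r N) :
    bcE e (shiftPow C N γ x) = shiftPow B M γ (bcE e x) := by
  induction x using Finsupp.induction_linear with
  | zero => simp
  | add x y hx hy => simp only [map_add, hx, hy]
  | single α m => rw [shiftPow_single, bcE_single, bcE_single, shiftPow_single]

theorem bcE'_bcE (x : SymM r N) : bcE' (r := r) e (bcE e x) = x := by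
  unfold bcE bcE'
  ext α
  simp

omit [Algebra C B] [Module B M] [IsScalarTower C B M] in
theorem mem_Fil_e (k : ℕ) (n : N) : e n ∈ Fil g M k ↔ n ∈ Fil g N k := by
  have h : (Fil g N k).map e.toLinearMap = Fil g M k := by
    unfold Fil
    rw [Submodule.map_smul'', Submodule.map_top, LinearMap.range_eq_top.2 e.surjective]
  rw [← h]
  constructor
  · rintro ⟨n', hn', h'⟩
    have : n' = n := e.injective h'
    rwa [← this]
  · intro hn
    exact ⟨n, hn, rfl⟩

variable (hsurj : Surjective (algebraMap C B))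

include hsurj in
theorem mem_map_smul_top_iff' (I : Ideal C) (m : M) :
    m ∈ (I.map (algebraMap C B) • (⊤ : Submodule B M)) ↔ m ∈ (I • (⊤ : Submodule C M)) := by
  constructor
  · intro hm
    refine Submodule.smul_induction_on hm (fun b hb m _ => ?_) (fun x y hx hy => add_mem hx hy)
    obtain ⟨p, hp, rfl⟩ := (Ideal.mem_map_iff_of_surjective _ hsurj).1 hb
    rw [algebraMap_smul]
    exact Submodule.smul_mem_smul hp trivial
  · intro hm
    refine Submodule.smul_induction_on hm (fun p hp m _ => ?_) (fun x y hx hy => add_mem hx hy)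
    rw [← algebraMap_smul B p m]
    exact Submodule.smul_mem_smul (Ideal.mem_map_of_mem _ hp) trivial

include hsurj in
theorem mem_Fil_B_iff (k : ℕ) (m : M) :
    m ∈ Fil (fun i => algebraMap C B (g i)) M k ↔ m ∈ Fil g M k := by
  have h1 : JJ (fun i => algebraMap C B (g i)) = (JJ g).map (algebraMap C B) := by
    unfold JJ
    rw [Ideal.map_span, ← Set.range_comp]
    rfl
  unfold Fil
  rw [h1, ← Ideal.map_pow]
  exact mem_map_smul_top_iff' hsurj _ m

include hsurj in
theorem mem_KK_B_iff (x : SymM r M) :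
    x ∈ KK (fun i => algebraMap C B (g i)) M ↔ bcE' e x ∈ KK g N := by
  rw [mem_KK (g := fun i => algebraMap C B (g i)) (M := M), mem_KK (g := g) (M := N)]
  refine forall_congr' fun k => ?_
  rw [← ev_bcE' (B := B) g e k x, mem_Fil_B_iff (M := M) g hsurj, mem_Fil_e g e]

theorem bcE_mem_Sat {F₀ : Finset (SymM r N)} [DecidableEq (SymM r M)] {y : SymM r N}
    (hy : y ∈ Sat C N (Submodule.span C (F₀ : Set (SymM r N)))) :
    bcE e y ∈ Sat B M (Submodule.span B ((F₀.image (bcE e) : Finset (SymM r M)) : Set (SymM r M))) := by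
  unfold Sat at hy
  refine Submodule.iSup_induction _ (motive := fun y => bcE e y ∈ Sat B M
    (Submodule.span B ((F₀.image (bcE e) : Finset (SymM r M)) : Set (SymM r M)))) hy ?_ ?_ ?_
  · rintro γ _ ⟨z, hz, rfl⟩
    rw [shiftPow_bcE (B := B) e γ z]
    refine Submodule.mem_iSup_of_mem γ (Submodule.mem_map_of_mem ?_)
    refine Submodule.span_induction (p := fun z _ => bcE e z ∈
      Submodule.span B ((F₀.image (bcE e) : Finset (SymM r M)) : Set (SymM r M))) ?_ ?_ ?_ ?_ hz
    · intro f hf
      refine Submodule.subset_span ?_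
      rw [Finset.coe_image]
      exact ⟨f, hf, rfl⟩
    · rw [map_zero]; exact zero_mem _
    · intro a b _ _ ha hb
      rw [map_add]; exact add_mem ha hb
    · intro c a _ ha
      rw [map_smul, ← algebraMap_smul B c (bcE e a)]
      exact Submodule.smul_mem _ _ ha
  · rw [map_zero]; exact zero_mem _
  · intro a b ha hb
    rw [map_add]; exact add_mem ha hb

include e hsurj in
theorem shiftFG_transfer (F₀ : Finset (SymM r N)) (hF₀ : ∀ f ∈ F₀, f ∈ KK g N)
    (hK : KK g N ≤ Sat C N (Submodule.span C (F₀ : Set (SymM r N)))) :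
    ShiftFG M (fun i => algebraMap C B (g i)) := by
  classical
  refine ⟨F₀.image (bcE e), ?_, ?_⟩
  · intro f hf
    obtain ⟨f₀, hf₀, rfl⟩ := Finset.mem_image.1 hf
    rw [mem_KK_B_iff g e hsurj, bcE'_bcE]
    exact hF₀ f₀ hf₀
  · intro x hx
    have h1 := (mem_KK_B_iff g e hsurj x).1 hx
    have h2 := bcE_mem_Sat (B := B) e (hK h1)
    rwa [bcE_bcE'] at h2

end Transfer

section Main

variable {A : Type u} [CommRing A]

/-- the kernel of the symbol map is finitely generated under shifts (polynomial form). -/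
theorem exists_shiftFG_pol (n : ℕ) {B : Type u} [CommRing B] [Algebra A B]
    (f₀ : MvPolynomial (Fin n) A →ₐ[A] B) (hf₀ : Surjective f₀)
    (J : Ideal B) (hJfg : J.FG)
    (M : Type u) [AddCommGroup M] [Module B M] [Module A M] [IsScalarTower A B M]
    [Module (MvPolynomial (Fin n) A) M] [IsScalarTower A (MvPolynomial (Fin n) A) M]
    (hP : ∀ (p : MvPolynomial (Fin n) A) (m : M), p • m = f₀ p • m)
    [Module.FinitePresentation (MvPolynomial (Fin n) A) M]
    (h : ∀ k : ℕ, Module.Flat A (M ⧸ (J ^ k • (⊤ : Submodule B M)))) :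
    ∃ (r : ℕ) (b : Fin r → B), Ideal.span (Set.range b) = J ∧ ShiftFG M b := by
  classical
  obtain ⟨r, b, hb⟩ := Submodule.fg_iff_exists_fin_generating_family.1 hJfg
  choose p hp using fun i => hf₀ (b i)
  obtain ⟨Z₀, m, bb, v', hfg, hsub, ⟨e⟩⟩ := exists_fg_model_pol A n M
    (Finset.univ.biUnion fun i => (p i).coeffs)
  haveI := noetherian_of_fg_int Z₀ hfg
  have hmem : ∀ i, p i ∈ Set.range (MvPolynomial.map (algebraMap Z₀ A)) := by
    intro i
    rw [MvPolynomial.mem_range_map_iff_coeffs_subset]
    intro x hx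
    have hx' : x ∈ ((Finset.univ.biUnion fun i => (p i).coeffs : Finset A) : Set A) := by
      rw [Finset.mem_coe, Finset.mem_biUnion]
      exact ⟨i, Finset.mem_univ _, hx⟩
    exact ⟨⟨x, hsub hx'⟩, rfl⟩
  choose q hq using hmem
  have hqb : ∀ i, f₀ (gSt Z₀ n q A i) = b i := fun i => by
    show f₀ (MvPolynomial.map (algebraMap Z₀ A) (q i)) = b i
    rw [hq, hp]
  have hJ : J = Ideal.span (Set.range fun i => f₀ (gSt Z₀ n q A i)) := by
    rw [← hb]
    congr 1
    ext x
    constructor
    · rintro ⟨i, rfl⟩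
      exact ⟨i, hqb i⟩
    · rintro ⟨i, rfl⟩
      exact ⟨i, (hqb i).symm⟩
  have hF : FF Z₀ n q (PresMod v') A := fun k => by
    have := h k
    exact Module.Flat.of_linearEquiv
      ((Submodule.Quotient.restrictScalarsEquiv A (J ^ k • (⊤ : Submodule B M))).symm ≪≫ₗ
        truncEquiv q (PresMod v') f₀ hf₀ hP J hJ e k).symm
  obtain ⟨d, hd⟩ := exists_uniform_bound Z₀ n q (PresMod v')
  have hB : Bound (gSt Z₀ n q A) (St Z₀ n (PresMod v') A) d := hd A hF
  haveI : Module.FinitePresentation (MvPolynomial (Fin n) Z₀) (PresMod v') :=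
    Module.finitePresentation_of_finite _ _
  have hWfg : (W (gSt Z₀ n q A) (St Z₀ n (PresMod v') A) d).FG := by
    unfold W
    refine Submodule.fg_iSup _ fun j => ?_
    haveI := hF j
    exact KKdeg_fg (gSt Z₀ n q A) (St Z₀ n (PresMod v') A) A j
  obtain ⟨F₀, hF₀⟩ := hWfg
  refine ⟨r, b, hb, ?_⟩
  letI algCB : Algebra (MvPolynomial (Fin n) A) B := f₀.toRingHom.toAlgebra
  haveI : IsScalarTower (MvPolynomial (Fin n) A) B M := ⟨fun c b' m => by
    show (f₀ c * b') • m = c • (b' • m)
    rw [mul_smul, hP]⟩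
  have hsurj : Surjective (algebraMap (MvPolynomial (Fin n) A) B) := hf₀
  have hres := shiftFG_transfer (B := B) (gSt Z₀ n q A) e hsurj F₀
    (fun f hf => W_le_KK _ _ d (hF₀ ▸ Submodule.subset_span hf))
    (by rw [hF₀]; exact hB)
  have hbb : (fun i => algebraMap (MvPolynomial (Fin n) A) B (gSt Z₀ n q A i)) = b :=
    funext hqb
  rwa [hbb] at hres

end Main

end Groth.Agent.Lib.Helper7.GrSym
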