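import Groth.Agent.Lib.Helper7.ProjLinForms
import Mathlib.RingTheory.MvPolynomial.Homogeneous
import Mathlib.RingTheory.MvPolynomial.Ideal
import Mathlib.RingTheory.Finiteness.Basic
import Mathlib.RingTheory.RingHom.Finite

/-!
# Graded Nakayama for polynomial rings

If `I` is a homogeneous ideal of `k[x]`, `θ` linear forms (or any homogeneous elements of degree
one) and `𝔪 ^ N ≤ I + (θ)`, then `k[x]/I` is a finite `k[θ]`-module.
-/

set_option autoImplicit false
set_option linter.unusedVariables false
set_option linter.style.haveILetI false
set_option maxSynthPendingDepth 3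

namespace Groth.Agent.Lib.Helper7.GrNak

open MvPolynomial

attribute [local instance] MvPolynomial.gradedAlgebra

variable {σ : Type*} [Finite σ] {k : Type*} [Field k] {ι : Type*} [Fintype ι]

theorem finite_of_pow_le (I : Ideal (MvPolynomial σ k))
    (hI : I.IsHomogeneous (homogeneousSubmodule σ k))
    (θ : ι → MvPolynomial σ k) (hθ : ∀ i, (θ i).IsHomogeneous 1) (N : ℕ)
    (hN : (idealOfVars σ k) ^ N ≤ I ⊔ Ideal.span (Set.range θ)) :
    ((Ideal.Quotient.mkₐ k I).comp (aeval θ)).toRingHom.Finite := by
  classical
  set φ := (Ideal.Quotient.mkₐ k I).comp (aeval θ) with hφ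
  algebraize [φ.toRingHom]
  haveI : IsScalarTower k (MvPolynomial ι k) (MvPolynomial σ k ⧸ I) :=
    IsScalarTower.of_algebraMap_eq (fun c => by
      rw [RingHom.algebraMap_toAlgebra]
      exact (φ.commutes c).symm)
  have hsmul : ∀ (p : MvPolynomial ι k) (q : MvPolynomial σ k ⧸ I), p • q = φ p * q := by
    intro p q
    rw [Algebra.smul_def, RingHom.algebraMap_toAlgebra]
    rfl
  -- finite generating sets of the graded pieces
  choose G hG using fun t => (homogeneousSubmodule_fg σ k t)
  let Gen : Finset (MvPolynomial σ k ⧸ I) :=
    (Finset.range N).biUnion (fun t => (G t).image (Ideal.Quotient.mk I))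
  let T : Submodule (MvPolynomial ι k) (MvPolynomial σ k ⧸ I) := Submodule.span _ (Gen : Set _)
  have key : ∀ t : ℕ, ∀ f ∈ homogeneousSubmodule σ k t, Ideal.Quotient.mk I f ∈ T := by
    intro t
    induction t using Nat.strong_induction_on with
    | _ t ih =>
      intro f hf
      by_cases htN : t < N
      · -- small degree
        have h1 : f ∈ Submodule.span k (G t : Set (MvPolynomial σ k)) := by rw [hG]; exact hf
        have h2 : Submodule.span k (G t : Set (MvPolynomial σ k)) ≤
            Submodule.comap (Ideal.Quotient.mkₐ k I).toLinearMap (T.restrictScalars k) := by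
          rw [Submodule.span_le]
          intro g hg
          change Ideal.Quotient.mk I g ∈ T
          apply Submodule.subset_span
          rw [Finset.mem_coe, Finset.mem_biUnion]
          exact ⟨t, Finset.mem_range.2 htN, Finset.mem_image_of_mem _ hg⟩
        exact h2 h1
      · push Not at htN
        have hfm : f ∈ (idealOfVars σ k) ^ N := by
          rw [mem_pow_idealOfVars_iff']
          intro x hx
          exact ((mem_homogeneousSubmodule _ _).1 hf).coeff_eq_zero (by omega)
        obtain ⟨a, ha, b, hb, hab⟩ := Submodule.mem_sup.1 (hN hfm)
        obtain ⟨c, hc⟩ := (Ideal.mem_span_range_iff_exists_fun).1 hb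
        -- take the homogeneous component of degree `t`
        have hft : f = (DirectSum.decompose (homogeneousSubmodule σ k)
            (a + ∑ i, c i * θ i) t : MvPolynomial σ k) := by
          rw [hc, hab]; exact (DirectSum.decompose_of_mem_same _ hf).symm
        rcases Nat.eq_zero_or_pos t with rfl | htpos
        · -- `t = 0`, so `N = 0`; then everything is in degree `< N`: impossible unless trivial
          have hN0 : N = 0 := by omega
          -- `f` is a constant; `mk f = C (coeff 0 f) • 1`... use that `1 ∈ I ⊔ (θ)` component
          rw [DirectSum.decompose_add, DirectSum.add_apply, Submodule.coe_add,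
            DirectSum.decompose_sum, DFinsupp.finsetSum_apply, AddSubmonoidClass.coe_finsetSum]
            at hft
          have hz : ∀ i, (DirectSum.decompose (homogeneousSubmodule σ k) (c i * θ i) 0 :
              MvPolynomial σ k) = 0 := by
            intro i
            rw [DirectSum.coe_decompose_mul_of_right_mem_of_not_le _
              ((mem_homogeneousSubmodule _ _).2 (hθ i)) (by omega)]
          simp only [hz, Finset.sum_const_zero, add_zero] at hft
          rw [hft]
          have : (DirectSum.decompose (homogeneousSubmodule σ k) a 0 : MvPolynomial σ k) ∈ I :=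
            hI 0 ha
          rw [Ideal.Quotient.eq_zero_iff_mem.2 this]
          exact T.zero_mem
        · rw [DirectSum.decompose_add, DirectSum.add_apply, Submodule.coe_add,
            DirectSum.decompose_sum, DFinsupp.finsetSum_apply, AddSubmonoidClass.coe_finsetSum]
            at hft
          have hz : ∀ i, (DirectSum.decompose (homogeneousSubmodule σ k) (c i * θ i) t :
              MvPolynomial σ k) =
              (DirectSum.decompose (homogeneousSubmodule σ k) (c i) (t - 1) : MvPolynomial σ k)
                * θ i := by
            intro i
            rw [DirectSum.coe_decompose_mul_of_right_mem_of_le _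
              ((mem_homogeneousSubmodule _ _).2 (hθ i)) (by omega)]
          simp only [hz] at hft
          rw [hft, map_add, map_sum]
          have ha' : (DirectSum.decompose (homogeneousSubmodule σ k) a t : MvPolynomial σ k) ∈ I :=
            hI t ha
          rw [Ideal.Quotient.eq_zero_iff_mem.2 ha', zero_add]
          refine T.sum_mem fun i _ => ?_
          rw [map_mul, mul_comm]
          have h3 : Ideal.Quotient.mk I (θ i) = φ (X i) := by
            simp [hφ]
          rw [h3, ← hsmul]
          refine T.smul_mem _ (ih (t - 1) (by omega) _ (SetLike.coe_mem _))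
  have htop : T = ⊤ := by
    rw [eq_top_iff]
    rintro q -
    obtain ⟨f, rfl⟩ := Ideal.Quotient.mk_surjective q
    rw [← sum_homogeneousComponent f, map_sum]
    exact T.sum_mem fun t _ => key t _ (homogeneousComponent_mem t f)
  have : Module.Finite (MvPolynomial ι k) (MvPolynomial σ k ⧸ I) := ⟨⟨Gen, htop⟩⟩
  exact this

end Groth.Agent.Lib.Helper7.GrNak
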