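import Groth.Agent.Lib.Helper7.TildeHartogs
import Mathlib.AlgebraicGeometry.AffineScheme

/-!
# The complement of `V(a, b)` in `Spec A` is not affine when `a, b` is a regular pair
-/

set_option autoImplicit false
universe u

namespace Groth.Agent.Lib.Helper7.HartogsAffine

open AlgebraicGeometry CategoryTheory Opposite TopologicalSpace
open Groth.Agent.Lib.Helper7.TildeH

variable {A : Type u} [CommRing A]

/-- The canonical ring map `A → Γ(Spec A, U)`. -/
noncomputable def toΓ (U : (Spec (CommRingCat.of A)).Opens) :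
    A →+* Γ(Spec (CommRingCat.of A), U) :=
  ((Spec (CommRingCat.of A)).presheaf.map (homOfLE (le_top : U ≤ ⊤)).op).hom.comp
    (Scheme.ΓSpecIso (CommRingCat.of A)).inv.hom

theorem basicOpen_toΓ (U : (Spec (CommRingCat.of A)).Opens) (a : A) :
    (Spec (CommRingCat.of A)).basicOpen (toΓ U a) = U ⊓ PrimeSpectrum.basicOpen a := by
  unfold toΓ
  rw [RingHom.comp_apply]
  erw [Scheme.basicOpen_res]
  rw [basicOpen_eq_of_affine]

theorem toΓ_openCompl_bijective (J : Ideal A) (a b : A) (ha : a ∈ J) (hb : b ∈ J)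
    (hareg : IsSMulRegular A a)
    (hbreg : ∀ u : A, (∃ w : A, b • u = a • w) → ∃ w : A, u = a • w) :
    Function.Bijective (toΓ (EGA4.openCompl A J)) := by
  have h1 : Function.Bijective ((Spec (CommRingCat.of A)).presheaf.map
      (homOfLE (le_top : EGA4.openCompl A J ≤ ⊤)).op).hom :=
    bijective_restrCompl J a b ha hb hareg hbreg
  have h2 : Function.Bijective (Scheme.ΓSpecIso (CommRingCat.of A)).inv.hom :=
    ConcreteCategory.bijective_of_isIso (Scheme.ΓSpecIso (CommRingCat.of A)).inv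
  exact h1.comp h2

/-- If `J = (a, b)` is a proper ideal generated by a regular pair, the complement of `V(J)` is not
an affine open of `Spec A`. -/
theorem not_isAffineOpen_openCompl (J : Ideal A) (a b : A) (hJ : J = Ideal.span {a, b})
    (hareg : IsSMulRegular A a)
    (hbreg : ∀ u : A, (∃ w : A, b • u = a • w) → ∃ w : A, u = a • w) (hne : J ≠ ⊤) :
    ¬ IsAffineOpen (X := Spec (CommRingCat.of A)) (EGA4.openCompl A J) := by
  intro hU
  have ha : a ∈ J := hJ ▸ Ideal.subset_span (by simp)
  have hb : b ∈ J := hJ ▸ Ideal.subset_span (by simp)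
  set U := EGA4.openCompl A J with hUdef
  have hbij := toΓ_openCompl_bijective J a b ha hb hareg hbreg
  have hcov : U ≤ ⨆ f : ({toΓ U a, toΓ U b} : Set Γ(Spec (CommRingCat.of A), U)),
      (Spec (CommRingCat.of A)).basicOpen f.1 := by
    intro x hx
    have hx' : ¬ J ≤ x.asIdeal := hx
    have hab : a ∉ x.asIdeal ∨ b ∉ x.asIdeal := by
      by_contra hcon
      simp only [not_or, not_not] at hcon
      apply hx'
      rw [hJ, Ideal.span_le]
      intro y hy
      rcases hy with rfl | rfl
      · exact hcon.1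
      · exact hcon.2
    rw [Opens.mem_iSup]
    rcases hab with h | h
    · refine ⟨⟨toΓ U a, by simp⟩, ?_⟩
      rw [basicOpen_toΓ]
      exact ⟨hx, h⟩
    · refine ⟨⟨toΓ U b, by simp⟩, ?_⟩
      rw [basicOpen_toΓ]
      exact ⟨hx, h⟩
  have hspan := hU.self_le_iSup_basicOpen_iff.mp hcov
  have h1 : (1 : Γ(Spec (CommRingCat.of A), U)) ∈ Ideal.span {toΓ U a, toΓ U b} := by
    rw [hspan]; trivial
  obtain ⟨x, y, hxy⟩ := Ideal.mem_span_pair.mp h1
  obtain ⟨a0, rfl⟩ := hbij.2 x
  obtain ⟨b0, rfl⟩ := hbij.2 y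
  rw [← map_mul, ← map_mul, ← map_add, ← map_one (toΓ U)] at hxy
  have h2 := hbij.1 hxy
  apply hne
  rw [Ideal.eq_top_iff_one, ← h2]
  exact J.add_mem (J.mul_mem_left _ ha) (J.mul_mem_left _ hb)

end Groth.Agent.Lib.Helper7.HartogsAffine
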