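import Groth.Agent.Lib.Helper7.HartogsSpec
import Groth.Agent.Lib.Helper21.DepthKit8
import Groth.Agent.Lib.Helper2.R0S1

/-!
# Hartshorne's connectedness, algebraic form

If `a ⊓ b = ⊥` and `a ⊔ b` contains a regular sequence of length two in a ring without
nontrivial idempotents, then `a = ⊥` or `b = ⊥`.
-/

set_option autoImplicit false
set_option linter.unusedVariables false
set_option linter.style.haveILetI false

universe u

namespace Groth.Agent.Lib.Helper7.HConn

open Groth.Agent.Lib.Helper21.DepthKit Groth.Agent.Lib.Helper2.R0S1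
open Groth.Agent.Lib.Helper7.Hartogs IsLocalRing

theorem eq_bot_or_eq_bot {A : Type*} [CommRing A]
    (hidem : ∀ c : A, c * c = c → c = 0 ∨ c = 1) (a b : Ideal A) (hab : a ⊓ b = ⊥)
    (x y : A) (hx : x ∈ a ⊔ b) (hy : y ∈ a ⊔ b) (hxreg : IsSMulRegular A x)
    (hyreg : ∀ u, y * u ∈ Ideal.span {x} → u ∈ Ideal.span {x}) : a = ⊥ ∨ b = ⊥ := by
  obtain ⟨α, hα, β, hβ, rfl⟩ := Submodule.mem_sup.1 hx
  obtain ⟨α', hα', β', hβ', rfl⟩ := Submodule.mem_sup.1 hy
  have hzero : ∀ u ∈ a, ∀ v ∈ b, u * v = 0 := by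
    intro u hu v hv
    have : u * v ∈ a ⊓ b := ⟨a.mul_mem_right v hu, b.mul_mem_left u hv⟩
    rw [hab] at this
    exact (Submodule.mem_bot _).1 this
  have h1 : (α' + β') * β ∈ Ideal.span {α + β} := by
    have : (α' + β') * β = β' * (α + β) := by
      have e1 := hzero α' hα' β hβ
      have e2 := hzero α hα β' hβ'
      linear_combination e1 - e2
    rw [this]
    exact Ideal.mem_span_singleton'.2 ⟨β', rfl⟩
  obtain ⟨c, hc⟩ := Ideal.mem_span_singleton'.1 (hyreg β h1)
  have e1 := hzero α hα β hβ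
  have hidc : c * c = c := by
    apply hxreg.pow 2
    show (α + β) ^ 2 • (c * c) = (α + β) ^ 2 • c
    simp only [smul_eq_mul]
    linear_combination (c * (α + β) + β - (α + β)) * hc - e1
  rcases hidem c hidc with rfl | rfl
  · have hβ0 : β = 0 := by rw [← hc]; ring
    right
    rw [eq_bot_iff]
    intro z hz
    have h2 : (α + β) * z = 0 := by rw [hβ0, add_zero]; exact hzero α hα z hz
    refine (Submodule.mem_bot _).2 (hxreg ?_)
    show (α + β) • z = (α + β) • 0
    rw [smul_eq_mul, h2, smul_zero]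
  · have hα0 : α = 0 := by
      rw [one_mul] at hc
      exact add_eq_right.1 hc
    left
    rw [eq_bot_iff]
    intro z hz
    have h2 : (α + β) * z = 0 := by
      rw [hα0, zero_add, mul_comm]; exact hzero z hz β hβ
    refine (Submodule.mem_bot _).2 (hxreg ?_)
    show (α + β) • z = (α + β) • 0
    rw [smul_eq_mul, h2, smul_zero]

theorem idem_of_isLocalRing {A : Type*} [CommRing A] [IsLocalRing A] (c : A) (hc : c * c = c) :
    c = 0 ∨ c = 1 := by
  have h0 : c * (1 - c) = 0 := by rw [mul_sub, mul_one, hc, sub_self]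
  rcases IsLocalRing.isUnit_or_isUnit_one_sub_self c with h | h
  · right
    have := h.mul_right_eq_zero.1 h0
    exact (sub_eq_zero.1 this).symm
  · left
    exact h.mul_left_eq_zero.1 h0

variable {R : Type u} [CommRing R] [IsNoetherianRing R]

omit [IsNoetherianRing R] in
theorem exists_pow_mul_eq_zero {p : Ideal R} (hp : p ∈ minimalPrimes R) {x : R} (hx : x ∈ p) :
    ∃ n : ℕ, ∃ s ∉ p, s * x ^ n = 0 := by
  haveI := hp.1.1
  haveI : Ring.KrullDimLE 0 (Localization.AtPrime p) :=
    Ring.KrullDimLE.of_isLocalization p hp _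
  have h1 : algebraMap R (Localization.AtPrime p) x ∈
      IsLocalRing.maximalIdeal (Localization.AtPrime p) :=
    (IsLocalization.AtPrime.to_map_mem_maximal_iff _ p x).2 hx
  rw [← Ring.KrullDimLE.nilradical_eq_maximalIdeal, mem_nilradical] at h1
  obtain ⟨n, hn⟩ := h1
  rw [← map_pow, IsLocalization.map_eq_zero_iff p.primeCompl] at hn
  obtain ⟨s, hs⟩ := hn
  exact ⟨n, s.1, s.2, hs⟩

/-- `(S₂)` (indeed `(S₁)`) implies that associated primes are minimal. -/
theorem mem_minimalPrimes_of_mem_ass (hS : LocCoh.HasSk 2 R R) {Q : Ideal R}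
    (hQ : Q ∈ associatedPrimes R R) : Q ∈ minimalPrimes R := by
  haveI : Q.IsPrime := hQ.isPrime
  have h1 := hS Q
  rw [supportDim_loc] at h1
  have h2 := depth_le_ringKrullDim_quotient_of_mem_associatedPrimes
    (Module.associatedPrimes.mem_associatedPrimes_atPrime_of_mem_associatedPrimes hQ)
  have h3 : ringKrullDim (Localization.AtPrime Q ⧸ maximalIdeal (Localization.AtPrime Q)) = 0 :=
    ringKrullDim_eq_zero_of_isField
      ((Ideal.Quotient.maximal_ideal_iff_isField_quotient _).1 inferInstance)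
  rw [h3] at h2
  have h4 := h1.trans h2
  rw [← Ideal.height_eq_zero_iff]
  by_contra hne
  have h5 : (1 : ℕ∞) ≤ Q.height := Order.one_le_iff_pos.2 (pos_iff_ne_zero.2 hne)
  have h6 : (1 : WithBot ℕ∞) ≤ min ((2 : ℕ) : WithBot ℕ∞) (Q.height : WithBot ℕ∞) := by
    apply le_min
    · norm_num
    · exact_mod_cast h5
  exact absurd (h6.trans h4) (by norm_num)

end Groth.Agent.Lib.Helper7.HConn
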