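import Mathlib
import Groth.Agent.Lib.Helper21.NFlatKit5

/-!
# Associated primes along a regular sequence in the radical (helper7)

Going-up for associated primes: if `x` is in the radical and regular on `A/J`, every associated
prime of `A/J` is contained in an associated prime of `A/(J + (x))`.
-/

set_option autoImplicit false
set_option linter.style.haveILetI false
set_option linter.unusedSectionVars false
universe u

namespace Groth.Agent.Lib.Helper7.HironakaAss

open RingTheory.Sequence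

variable {A : Type u} [CommRing A] [IsNoetherianRing A]

theorem isAssociatedPrime_congr {J J' : Ideal A} (h : J = J') {P : Ideal A}
    (hP : IsAssociatedPrime P (A ⧸ J)) : IsAssociatedPrime P (A ⧸ J') := by
  subst h
  exact hP

theorem exists_le_assoc_sup_span (J : Ideal A) (x : A) (hx : x ∈ Ideal.jacobson (⊥ : Ideal A))
    (hreg : IsSMulRegular (A ⧸ J) x) (P : Ideal A) (hP : IsAssociatedPrime P (A ⧸ J)) :
    ∃ P' : Ideal A, IsAssociatedPrime P' (A ⧸ (J ⊔ Ideal.span {x})) ∧ P ≤ P' := by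
  obtain ⟨hPprime, y, hPy⟩ := isAssociatedPrime_iff.1 hP
  obtain ⟨a, rfl⟩ := Ideal.Quotient.mk_surjective y
  have hPa : ∀ p : A, p ∈ P ↔ p * a ∈ J := by
    intro p
    rw [hPy, Submodule.mem_colon_singleton, Submodule.mem_bot, ← Ideal.Quotient.mk_eq_mk,
      ← Submodule.Quotient.mk_smul, Ideal.Quotient.mk_eq_mk, Ideal.Quotient.eq_zero_iff_mem,
      smul_eq_mul]
  have ha : a ∉ J := by
    intro haJ
    apply hPprime.ne_top
    rw [Ideal.eq_top_iff_one, hPa, one_mul]
    exact haJ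
  -- the colon ideal `(J : P)`
  let I : Ideal A := (J : Submodule A A).colon (P : Set A)
  have hI : ∀ b : A, b ∈ I ↔ ∀ p ∈ P, b * p ∈ J := by
    intro b
    show b ∈ (J : Submodule A A).colon (P : Set A) ↔ _
    rw [Submodule.mem_colon]
    rfl
  have haI : a ∈ I := by
    rw [hI]
    intro p hp
    rw [mul_comm]
    exact (hPa p).1 hp
  have hnot : ¬ (I ≤ J ⊔ Ideal.span {x}) := by
    intro hle
    have hNN : I ≤ J ⊔ Ideal.span {x} • I := by
      intro b hb
      obtain ⟨j, hj, z, hz, hb'⟩ := Submodule.mem_sup.mp (hle hb)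
      obtain ⟨c, rfl⟩ := Ideal.mem_span_singleton'.mp hz
      have hc : c ∈ I := by
        rw [hI]
        intro p hp
        have h1 : (j + c * x) * p ∈ J := by
          rw [hb']
          exact (hI b).1 hb p hp
        have h2 : x * (c * p) ∈ J := by
          have : x * (c * p) = (j + c * x) * p - j * p := by ring
          rw [this]
          exact sub_mem h1 (J.mul_mem_right _ hj)
        have h3 : x • (Ideal.Quotient.mk J (c * p)) = x • (0 : A ⧸ J) := by
          rw [smul_zero, ← Ideal.Quotient.mk_eq_mk, ← Submodule.Quotient.mk_smul,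
            Ideal.Quotient.mk_eq_mk, Ideal.Quotient.eq_zero_iff_mem, smul_eq_mul]
          exact h2
        exact Ideal.Quotient.eq_zero_iff_mem.1 (hreg h3)
      rw [← hb']
      refine Submodule.add_mem_sup hj ?_
      rw [mul_comm]
      exact Submodule.smul_mem_smul (Ideal.mem_span_singleton_self x) hc
    have hIJ : I ≤ J := Submodule.le_of_le_smul_of_le_jacobson_bot
      (IsNoetherian.noetherian I) ((Ideal.span_singleton_le_iff_mem _).mpr hx) hNN
    exact ha (hIJ haI)
  obtain ⟨b, hbI, hbJ⟩ := SetLike.not_le_iff_exists.1 hnot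
  have hy' : (Ideal.Quotient.mk (J ⊔ Ideal.span {x}) b) ≠ 0 := by
    rw [Ne, Ideal.Quotient.eq_zero_iff_mem]
    exact hbJ
  obtain ⟨P', hP', hle'⟩ := exists_le_isAssociatedPrime_of_isNoetherianRing (R := A) _ hy'
  refine ⟨P', hP', fun p hp => hle' ?_⟩
  rw [Submodule.mem_colon_singleton, Submodule.mem_bot, ← Ideal.Quotient.mk_eq_mk,
    ← Submodule.Quotient.mk_smul, Ideal.Quotient.mk_eq_mk, Ideal.Quotient.eq_zero_iff_mem,
    smul_eq_mul, mul_comm]
  exact Ideal.mem_sup_left ((hI b).1 hbI p hp)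

theorem exists_le_assoc_sup_ofList (fs : List A)
    (hfs : ∀ x ∈ fs, x ∈ Ideal.jacobson (⊥ : Ideal A)) :
    ∀ (J : Ideal A), IsWeaklyRegular (A ⧸ J) fs → ∀ P : Ideal A, IsAssociatedPrime P (A ⧸ J) →
      ∃ P' : Ideal A, IsAssociatedPrime P' (A ⧸ (J ⊔ Ideal.ofList fs)) ∧ P ≤ P' := by
  induction fs with
  | nil =>
    intro J _ P hP
    exact ⟨P, isAssociatedPrime_congr (by rw [Ideal.ofList_nil, sup_bot_eq]) hP, le_rfl⟩
  | cons x fs ih =>
    intro J hreg P hP
    rw [isWeaklyRegular_cons_iff] at hreg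
    have hx : x ∈ Ideal.jacobson (⊥ : Ideal A) := hfs x List.mem_cons_self
    have hfs' : ∀ g ∈ fs, g ∈ Ideal.jacobson (⊥ : Ideal A) :=
      fun g hg => hfs g (List.mem_cons_of_mem _ hg)
    have hreg' : IsWeaklyRegular (A ⧸ (J ⊔ Ideal.span {x})) fs :=
      ((Groth.Agent.Lib.Helper21.NFlatKit.quotSMulTopQuotRingEquiv J x).isWeaklyRegular_congr
        fs).1 hreg.2
    obtain ⟨P₁, hP₁, hPP₁⟩ := exists_le_assoc_sup_span J x hx hreg.1 P hP
    obtain ⟨P', hP', hP₁P'⟩ := ih hfs' (J ⊔ Ideal.span {x}) hreg' P₁ hP₁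
    exact ⟨P', isAssociatedPrime_congr (by rw [Ideal.ofList_cons, sup_assoc]) hP',
      hPP₁.trans hP₁P'⟩

/-- transfer of associated primes from `A/Q` over `A` to `(A/R)/(Q/R)` over `A/R` -/
theorem exists_assoc_quotient (R Q : Ideal A) (hRQ : R ≤ Q) (P : Ideal A)
    (hP : IsAssociatedPrime P (A ⧸ Q)) :
    ∃ p : Ideal (A ⧸ R), p.IsPrime ∧
      p ∈ associatedPrimes (A ⧸ R) ((A ⧸ R) ⧸ Q.map (Ideal.Quotient.mk R)) ∧
      p.comap (Ideal.Quotient.mk R) = P := by
  obtain ⟨hPprime, y, hPy⟩ := isAssociatedPrime_iff.1 hP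
  obtain ⟨a, rfl⟩ := Ideal.Quotient.mk_surjective y
  have hPa : ∀ p : A, p ∈ P ↔ p * a ∈ Q := by
    intro p
    rw [hPy, Submodule.mem_colon_singleton, Submodule.mem_bot, ← Ideal.Quotient.mk_eq_mk,
      ← Submodule.Quotient.mk_smul, Ideal.Quotient.mk_eq_mk, Ideal.Quotient.eq_zero_iff_mem,
      smul_eq_mul]
  have hRP : R ≤ P := fun r hr => (hPa r).2 (hRQ (R.mul_mem_right _ hr))
  have hcomap : ∀ K : Ideal A, R ≤ K →
      (K.map (Ideal.Quotient.mk R)).comap (Ideal.Quotient.mk R) = K := by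
    intro K hK
    rw [Ideal.comap_map_of_surjective _ Ideal.Quotient.mk_surjective, ← RingHom.ker_eq_comap_bot,
      Ideal.mk_ker, sup_eq_left]
    exact hK
  have hprime : (P.map (Ideal.Quotient.mk R)).IsPrime :=
    Ideal.map_isPrime_of_surjective Ideal.Quotient.mk_surjective (by rw [Ideal.mk_ker]; exact hRP)
  refine ⟨P.map (Ideal.Quotient.mk R), hprime, ?_, hcomap P hRP⟩
  rw [AssociatedPrimes.mem_iff, isAssociatedPrime_iff]
  refine ⟨hprime, Ideal.Quotient.mk _ (Ideal.Quotient.mk R a), ?_⟩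
  ext z
  obtain ⟨b, rfl⟩ := Ideal.Quotient.mk_surjective z
  have h1 : Ideal.Quotient.mk R b ∈ P.map (Ideal.Quotient.mk R) ↔ b ∈ P := by
    rw [← Ideal.mem_comap, hcomap P hRP]
  have h2 : Ideal.Quotient.mk R (b * a) ∈ Q.map (Ideal.Quotient.mk R) ↔ b * a ∈ Q := by
    rw [← Ideal.mem_comap, hcomap Q hRQ]
  have h3 : (Ideal.Quotient.mk R b) •
      (Ideal.Quotient.mk (Q.map (Ideal.Quotient.mk R)) (Ideal.Quotient.mk R a)) =
      Ideal.Quotient.mk (Q.map (Ideal.Quotient.mk R)) (Ideal.Quotient.mk R (b * a)) := by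
    rw [map_mul]
    rfl
  rw [h1, hPa, ← h2, Submodule.mem_colon_singleton, Submodule.mem_bot, h3,
    Ideal.Quotient.eq_zero_iff_mem]

end Groth.Agent.Lib.Helper7.HironakaAss
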