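import Mathlib
import Groth.Agent.Lib.Helper7.HironakaNum

/-!
# Converse of Hironaka's step under local hypotheses (helper7)

`A` Noetherian, `f` in the radical and regular on `A/R`, `Q = R + (f)`.  If `M` is normally flat
along `Q` and, locally at a family of primes covering `Ass(A/Q)`, `f` is a nonzerodivisor on all
`M / R^i M`, then `M` is normally flat along `R`.
-/

set_option autoImplicit false
set_option linter.style.haveILetI false
set_option linter.unusedSectionVars false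
universe u

namespace Groth.Agent.Lib.Helper7.HironakaConv

open Groth.Agent.Lib.Helper7.GrLoc Groth.Agent.Lib.Helper7.HironakaStep
  Groth.Agent.Lib.Helper7.HironakaNum

section elem

variable {A : Type u} [CommRing A] {M : Type u} [AddCommGroup M] [Module A M]
variable (R : Ideal A) (f : A)

/-- level-wise version of `H_of_regular` -/
theorem H_le_of_regular (h : ℕ) (hreg : ∀ i < h, IsSMulRegular (Gr R M i) f) :
    ∀ i ≤ h, ∀ m : M, f • m ∈ (R ^ i • ⊤ : Submodule A M) → m ∈ (R ^ i • ⊤ : Submodule A M) := by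
  intro i
  induction i with
  | zero => intro _ m _; simp
  | succ i ih =>
    intro hi m hm
    have hle : (R ^ (i + 1) • ⊤ : Submodule A M) ≤ R ^ i • ⊤ :=
      Submodule.smul_mono_left (Ideal.pow_le_pow_right (Nat.le_succ i))
    have h1 : m ∈ (R ^ i • ⊤ : Submodule A M) := ih (by omega) m (hle hm)
    have h2 : f • (Submodule.Quotient.mk ⟨m, h1⟩ : Gr R M i) = 0 := by
      rw [← Submodule.Quotient.mk_smul, Submodule.Quotient.mk_eq_zero, mem_smul_top_iff]
      show f • m ∈ R • (R ^ i • ⊤ : Submodule A M)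
      rw [← Submodule.mul_smul, ← pow_succ']
      exact hm
    have h3 : (Submodule.Quotient.mk ⟨m, h1⟩ : Gr R M i) = 0 :=
      hreg i (by omega) (by show f • _ = f • (0 : Gr R M i); rw [h2, smul_zero])
    rw [Submodule.Quotient.mk_eq_zero, mem_smul_top_iff] at h3
    rw [pow_succ', Submodule.mul_smul]
    exact h3

/-- level-wise version of `Φ_injective` -/
theorem Φ_injective_level (h : ℕ)
    (hH : ∀ m : M, f • m ∈ (R ^ (h + 1) • ⊤ : Submodule A M) →
      m ∈ (R ^ (h + 1) • ⊤ : Submodule A M)) :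
    Function.Injective (Φ (M := M) R f h) := by
  rw [injective_iff_map_eq_zero]
  rintro ⟨a, c⟩ hac
  obtain ⟨⟨q, hq⟩, rfl⟩ := Submodule.Quotient.mk_surjective _ a
  obtain ⟨⟨r, hr⟩, rfl⟩ := Submodule.Quotient.mk_surjective _ c
  rw [Φ_apply, T_mk, ι_mk, ← Submodule.Quotient.mk_add,
    Submodule.Quotient.mk_eq_zero, mem_smul_top_iff, Submodule.coe_add, tFilt_coe, iFilt_coe] at hac
  have h1 : f • q + r ∈ ((R ⊔ Ideal.span {f}) ^ (h + 1 + 1) • ⊤ : Submodule A M) := by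
    rw [pow_succ' _ (h + 1), Submodule.mul_smul]
    exact hac
  obtain ⟨r2, hr2, q1, hq1, h2⟩ := exists_decomp R f (h + 1) _ h1
  have hle : (R ^ (h + 1 + 1) • ⊤ : Submodule A M) ≤ R ^ (h + 1) • ⊤ :=
    Submodule.smul_mono_left (Ideal.pow_le_pow_right (Nat.le_succ _))
  have h3' : f • (q - q1) = r2 - r := by
    rw [smul_sub, sub_eq_sub_iff_add_eq_add, ← h2, add_comm]
  have h3 : f • (q - q1) ∈ (R ^ (h + 1) • ⊤ : Submodule A M) := by
    rw [h3']
    exact sub_mem (hle hr2) hr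
  have h4 := hH _ h3
  have hincl : (R ^ (h + 1) • ⊤ : Submodule A M) ≤ (R ⊔ Ideal.span {f}) ^ (h + 1) • ⊤ :=
    Submodule.smul_mono_left (Ideal.pow_right_mono le_sup_left (h + 1))
  have h5 : q ∈ ((R ⊔ Ideal.span {f}) ^ (h + 1) • ⊤ : Submodule A M) := by
    have : q = (q - q1) + q1 := by abel
    rw [this]
    exact add_mem (hincl h4) hq1
  have h6 : r ∈ (R ⊔ Ideal.span {f}) • (R ^ (h + 1) • ⊤ : Submodule A M) := by
    have : r = r2 - f • (q - q1) := by rw [h3']; abel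
    rw [this]
    apply sub_mem
    · have : r2 ∈ R • (R ^ (h + 1) • ⊤ : Submodule A M) := by
        rw [← Submodule.mul_smul, ← pow_succ']
        exact hr2
      exact Submodule.smul_mono_left le_sup_left this
    · exact Submodule.smul_mem_smul (Ideal.mem_sup_right (Ideal.mem_span_singleton_self f)) h4
  have ha : (Submodule.Quotient.mk ⟨q, hq⟩ : Gr (R ⊔ Ideal.span {f}) M h) = 0 := by
    rw [Submodule.Quotient.mk_eq_zero, mem_smul_top_iff]
    show q ∈ (R ⊔ Ideal.span {f}) • ((R ⊔ Ideal.span {f}) ^ h • ⊤ : Submodule A M)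
    rw [← Submodule.mul_smul, ← pow_succ']
    exact h5
  have hc : (Submodule.Quotient.mk ⟨r, hr⟩ : ↥(R ^ (h + 1) • ⊤ : Submodule A M) ⧸
      ((R ⊔ Ideal.span {f}) • ⊤ : Submodule A ↥(R ^ (h + 1) • ⊤ : Submodule A M))) = 0 := by
    rw [Submodule.Quotient.mk_eq_zero, mem_smul_top_iff]
    exact h6
  rw [ha, hc]
  rfl

/-- level-wise version of `flat_C_of_bijective` -/
theorem flat_C_succ (h : ℕ)
    (hfl : Module.Flat (A ⧸ (R ⊔ Ideal.span {f})) (Gr (R ⊔ Ideal.span {f}) M (h + 1)))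
    (hbij : Function.Bijective (Φ (M := M) R f h)) :
    Module.Flat (A ⧸ (R ⊔ Ideal.span {f})) (↥(R ^ (h + 1) • ⊤ : Submodule A M) ⧸
      ((R ⊔ Ideal.span {f}) • ⊤ : Submodule A ↥(R ^ (h + 1) • ⊤ : Submodule A M))) := by
  let e0 := LinearEquiv.ofBijective (Φ (M := M) R f h) hbij
  let e : _ ≃ₗ[A ⧸ (R ⊔ Ideal.span {f})] _ :=
    e0.extendScalarsOfSurjective Ideal.Quotient.mk_surjective
  haveI : Module.Flat (A ⧸ (R ⊔ Ideal.span {f})) (Gr (R ⊔ Ideal.span {f}) M h ×
      (↥(R ^ (h + 1) • ⊤ : Submodule A M) ⧸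
        ((R ⊔ Ideal.span {f}) • ⊤ : Submodule A ↥(R ^ (h + 1) • ⊤ : Submodule A M)))) :=
    Module.Flat.of_linearEquiv e
  exact Module.Flat.of_retract
    (LinearMap.inr (A ⧸ (R ⊔ Ideal.span {f})) (Gr (R ⊔ Ideal.span {f}) M h)
      (↥(R ^ (h + 1) • ⊤ : Submodule A M) ⧸
        ((R ⊔ Ideal.span {f}) • ⊤ : Submodule A ↥(R ^ (h + 1) • ⊤ : Submodule A M))))
    (LinearMap.snd (A ⧸ (R ⊔ Ideal.span {f})) (Gr (R ⊔ Ideal.span {f}) M h)
      (↥(R ^ (h + 1) • ⊤ : Submodule A M) ⧸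
        ((R ⊔ Ideal.span {f}) • ⊤ : Submodule A ↥(R ^ (h + 1) • ⊤ : Submodule A M))))
    (LinearMap.ext fun y => rfl)

theorem flat_C_zero
    (hfl : Module.Flat (A ⧸ (R ⊔ Ideal.span {f})) (Gr (R ⊔ Ideal.span {f}) M 0)) :
    Module.Flat (A ⧸ (R ⊔ Ideal.span {f})) (↥(R ^ 0 • ⊤ : Submodule A M) ⧸
      ((R ⊔ Ideal.span {f}) • ⊤ : Submodule A ↥(R ^ 0 • ⊤ : Submodule A M))) := by
  have : ((R ⊔ Ideal.span {f}) ^ 0 • ⊤ : Submodule A M) = R ^ 0 • ⊤ := by simp
  exact flat_congr this _ hfl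

/-- local form of `(H)` at a prime `P` -/
def HLoc {A : Type u} [CommRing A] (R : Ideal A) (f : A) (M : Type u) [AddCommGroup M]
    [Module A M] (P : Ideal A) : Prop :=
  ∀ (i : ℕ) (m : M), f • m ∈ (R ^ i • ⊤ : Submodule A M) →
    ∃ s : A, s ∉ P ∧ s • m ∈ (R ^ i • ⊤ : Submodule A M)

theorem HLoc_pow {P : Ideal A} (hP : P.IsPrime) (hloc : HLoc R f M P) (i : ℕ) :
    ∀ (j : ℕ) (m : M), f ^ j • m ∈ (R ^ i • ⊤ : Submodule A M) →
      ∃ s : A, s ∉ P ∧ s • m ∈ (R ^ i • ⊤ : Submodule A M) := by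
  intro j
  induction j with
  | zero =>
    intro m hm
    refine ⟨1, (Ideal.ne_top_iff_one P).1 hP.ne_top, ?_⟩
    simpa using hm
  | succ j ih =>
    intro m hm
    rw [pow_succ', mul_smul] at hm
    obtain ⟨s₁, hs₁, h1⟩ := hloc i _ hm
    rw [smul_comm] at h1
    obtain ⟨s₂, hs₂, h2⟩ := ih _ h1
    refine ⟨s₂ * s₁, ?_, ?_⟩
    · intro hmem
      rcases hP.mem_or_mem hmem with h | h
      · exact hs₂ h
      · exact hs₁ h
    · rw [mul_smul]
      exact h2

end elem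

section core

variable {A : Type u} [CommRing A] [IsNoetherianRing A] {M : Type u} [AddCommGroup M] [Module A M]
  [Module.Finite A M]
variable (R : Ideal A) (f : A)

/-- the key step: if `f^j q ∈ R^(h+1) M` with `q ∈ Q^h M`, then `q ∈ Q^(h+1) M` -/
theorem mem_Q_succ (h : ℕ)
    (hfl : Module.Flat (A ⧸ (R ⊔ Ideal.span {f})) (Gr (R ⊔ Ideal.span {f}) M h))
    (Ps : Set (Ideal A)) (hprime : ∀ P ∈ Ps, P.IsPrime) (hloc : ∀ P ∈ Ps, HLoc R f M P)
    (hcov : ∀ P : Ideal A, IsAssociatedPrime P (A ⧸ (R ⊔ Ideal.span {f})) → ∃ P' ∈ Ps, P ≤ P')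
    (q : M) (hq : q ∈ ((R ⊔ Ideal.span {f}) ^ h • ⊤ : Submodule A M)) (j : ℕ)
    (hfq : f ^ j • q ∈ (R ^ (h + 1) • ⊤ : Submodule A M)) :
    q ∈ ((R ⊔ Ideal.span {f}) ^ (h + 1) • ⊤ : Submodule A M) := by
  by_contra hne
  have hx : (Submodule.Quotient.mk ⟨q, hq⟩ : Gr (R ⊔ Ideal.span {f}) M h) ≠ 0 := by
    intro h0
    rw [Submodule.Quotient.mk_eq_zero, mem_smul_top_iff] at h0
    apply hne
    rw [pow_succ', Submodule.mul_smul]
    exact h0
  haveI : Module.Finite (A ⧸ (R ⊔ Ideal.span {f})) (Gr (R ⊔ Ideal.span {f}) M h) :=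
    Module.Finite.of_restrictScalars_finite A _ _
  haveI : Module.FinitePresentation (A ⧸ (R ⊔ Ideal.span {f}))
      (Gr (R ⊔ Ideal.span {f}) M h) := Module.finitePresentation_of_finite _ _
  haveI : Module.Projective (A ⧸ (R ⊔ Ideal.span {f})) (Gr (R ⊔ Ideal.span {f}) M h) :=
    Module.Flat.projective_of_finitePresentation
  obtain ⟨n, F, G, -, hG, -⟩ := Module.Finite.exists_comp_eq_id_of_projective
    (A ⧸ (R ⊔ Ideal.span {f})) (Gr (R ⊔ Ideal.span {f}) M h)
  have hGx : G (Submodule.Quotient.mk ⟨q, hq⟩) ≠ 0 := fun h0 =>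
    hx (hG (h0.trans (map_zero G).symm))
  obtain ⟨k, hk⟩ := Function.ne_iff.mp hGx
  obtain ⟨P, hP, hle⟩ := exists_le_isAssociatedPrime_of_isNoetherianRing (R := A)
    (G (Submodule.Quotient.mk ⟨q, hq⟩) k) hk
  obtain ⟨P', hP', hPP'⟩ := hcov P hP
  obtain ⟨s, hs, hsq⟩ := HLoc_pow R f (hprime P' hP') (hloc P' hP') (h + 1) j q hfq
  apply hs
  apply hPP'
  apply hle
  rw [Submodule.mem_colon_singleton, Submodule.mem_bot]
  have h1 : s • (Submodule.Quotient.mk ⟨q, hq⟩ : Gr (R ⊔ Ideal.span {f}) M h) = 0 := by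
    rw [← Submodule.Quotient.mk_smul, Submodule.Quotient.mk_eq_zero, mem_smul_top_iff]
    show s • q ∈ (R ⊔ Ideal.span {f}) • ((R ⊔ Ideal.span {f}) ^ h • ⊤ : Submodule A M)
    rw [← Submodule.mul_smul, ← pow_succ']
    exact Submodule.smul_mono_left (Ideal.pow_right_mono le_sup_left (h + 1)) hsq
  have h2 : G (s • (Submodule.Quotient.mk ⟨q, hq⟩ : Gr (R ⊔ Ideal.span {f}) M h)) =
      s • G (Submodule.Quotient.mk ⟨q, hq⟩) := LinearMap.map_smul_of_tower G s _
  rw [h1, map_zero] at h2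
  have h3 := congrFun h2 k
  simpa using h3.symm

/-- regularity of `f` on `gr_R^h M` from the key step -/
theorem regular_gr (hf : f ∈ Ideal.jacobson (⊥ : Ideal A)) (h : ℕ)
    (hkey : ∀ (q : M), q ∈ ((R ⊔ Ideal.span {f}) ^ h • ⊤ : Submodule A M) → ∀ j : ℕ,
      f ^ j • q ∈ (R ^ (h + 1) • ⊤ : Submodule A M) →
        q ∈ ((R ⊔ Ideal.span {f}) ^ (h + 1) • ⊤ : Submodule A M)) :
    IsSMulRegular (Gr R M h) f := by
  have main : ∀ z : M, z ∈ (R ^ h • ⊤ : Submodule A M) →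
      f • z ∈ (R ^ (h + 1) • ⊤ : Submodule A M) → z ∈ (R ^ (h + 1) • ⊤ : Submodule A M) := by
    intro z hz hfz
    have key : ∀ j : ℕ, ∃ r ∈ (R ^ (h + 1) • ⊤ : Submodule A M),
        ∃ q ∈ ((R ⊔ Ideal.span {f}) ^ h • ⊤ : Submodule A M), z = r + f ^ j • q := by
      intro j
      induction j with
      | zero =>
        exact ⟨0, zero_mem _, z,
          Submodule.smul_mono_left (Ideal.pow_right_mono le_sup_left h) hz, by simp⟩
      | succ j ih =>
        obtain ⟨r, hr, q, hq, hzq⟩ := ih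
        have h1 : f ^ (j + 1) • q ∈ (R ^ (h + 1) • ⊤ : Submodule A M) := by
          have : f ^ (j + 1) • q = f • z - f • r := by
            rw [hzq, smul_add, pow_succ', mul_smul]; abel
          rw [this]
          exact sub_mem hfz (Submodule.smul_mem _ _ hr)
        have h2 := hkey q hq (j + 1) h1
        obtain ⟨r', hr', q', hq', hqq⟩ := exists_decomp R f h q h2
        refine ⟨r + f ^ j • r', add_mem hr (Submodule.smul_mem _ _ hr'), q', hq', ?_⟩
        rw [hzq, hqq, smul_add, pow_succ, mul_smul, add_assoc]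
    apply mem_of_forall_mem_sup (R ^ (h + 1) • ⊤ : Submodule A M) (Ideal.span {f})
      ((Ideal.span_singleton_le_iff_mem _).mpr hf) z
    intro s
    obtain ⟨r, hr, q, _, hzq⟩ := key s
    rw [hzq]
    refine Submodule.add_mem_sup hr ?_
    rw [Ideal.span_singleton_pow]
    exact Submodule.smul_mem_smul (Ideal.mem_span_singleton_self _) trivial
  intro a b hab
  obtain ⟨⟨a, ha⟩, rfl⟩ := Submodule.Quotient.mk_surjective _ a
  obtain ⟨⟨b, hb⟩, rfl⟩ := Submodule.Quotient.mk_surjective _ b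
  have hab' : f • (Submodule.Quotient.mk ⟨a, ha⟩ : Gr R M h) =
      f • (Submodule.Quotient.mk ⟨b, hb⟩ : Gr R M h) := hab
  rw [← Submodule.Quotient.mk_smul, ← Submodule.Quotient.mk_smul, Submodule.Quotient.eq,
    mem_smul_top_iff] at hab'
  rw [Submodule.Quotient.eq, mem_smul_top_iff]
  have h1 : f • (a - b) ∈ (R ^ (h + 1) • ⊤ : Submodule A M) := by
    rw [pow_succ', Submodule.mul_smul]
    simpa [smul_sub] using hab'
  have h2 := main (a - b) (sub_mem ha hb) h1
  rw [pow_succ', Submodule.mul_smul] at h2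
  simpa using h2

/-- **Converse of Hironaka's step** under local hypotheses. -/
theorem isNormallyFlat_of_sup_of_HLoc (hf : f ∈ Ideal.jacobson (⊥ : Ideal A))
    (hfreg : IsSMulRegular (A ⧸ R) (Ideal.Quotient.mk R f))
    (hQ : EGA4.IsNormallyFlat (R ⊔ Ideal.span {f}) M)
    (Ps : Set (Ideal A)) (hprime : ∀ P ∈ Ps, P.IsPrime) (hloc : ∀ P ∈ Ps, HLoc R f M P)
    (hcov : ∀ P : Ideal A, IsAssociatedPrime P (A ⧸ (R ⊔ Ideal.span {f})) → ∃ P' ∈ Ps, P ≤ P') :
    EGA4.IsNormallyFlat R M := by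
  have hfreg' : IsSMulRegular (A ⧸ R) f := by
    rw [← isSMulRegular_algebraMap_iff (A ⧸ R)]
    exact hfreg
  intro h
  induction h using Nat.strong_induction_on with
  | _ h IH =>
    have hregG : ∀ i < h, IsSMulRegular (Gr R M i) f := by
      intro i hi
      haveI : Module.Flat (A ⧸ R) (Gr R M i) := IH i hi
      have h1 := Groth.Agent.Lib.Helper21.NFlatKit.isSMulRegular_of_flat_module
        (B := A ⧸ R) (Gr R M i) hfreg
      intro a b hab
      apply h1
      show Ideal.Quotient.mk R f • a = Ideal.Quotient.mk R f • b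
      have e1 : ∀ x : Gr R M i, Ideal.Quotient.mk R f • x = f • x := fun x => by
        rw [← Ideal.Quotient.algebraMap_eq, algebraMap_smul]
      rw [e1, e1]
      exact hab
    have hH := H_le_of_regular R f h hregG
    have hC : Module.Flat (A ⧸ (R ⊔ Ideal.span {f})) (↥(R ^ h • ⊤ : Submodule A M) ⧸
        ((R ⊔ Ideal.span {f}) • ⊤ : Submodule A ↥(R ^ h • ⊤ : Submodule A M))) := by
      cases h with
      | zero => exact flat_C_zero R f (hQ 0)
      | succ h' =>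
        exact flat_C_succ R f h' (hQ (h' + 1))
          ⟨Φ_injective_level R f h' (hH (h' + 1) le_rfl), Φ_surjective R f h'⟩
    have hreg : IsSMulRegular (Gr R M h) f :=
      regular_gr R f hf h (fun q hq j hfq =>
        mem_Q_succ R f h (hQ h) Ps hprime hloc hcov q hq j hfq)
    rw [Groth.Agent.Lib.Helper21.NFlatKit.flat_quot_iff_step
      (X := ↥(R ^ h • ⊤ : Submodule A M)) R f hf hfreg']
    exact ⟨hreg, hC⟩

end core

end Groth.Agent.Lib.Helper7.HironakaConv
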