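import Mathlib
import Groth.Agent.Lib.Helper7.HironakaConv
import Groth.Agent.Lib.Helper7.HironakaAss

/-!
# Hironaka's criterion a) ⇔ d): normal flatness along `R` versus `R + (f_1, …, f_n)` (helper7)
-/

set_option autoImplicit false
set_option linter.style.haveILetI false
set_option linter.unusedSectionVars false
universe u

namespace Groth.Agent.Lib.Helper7.HironakaMain

open Groth.Agent.Lib.Helper7.GrLoc Groth.Agent.Lib.Helper7.HironakaStep
  Groth.Agent.Lib.Helper7.HironakaNum Groth.Agent.Lib.Helper7.HironakaConv
  Groth.Agent.Lib.Helper7.HironakaAss RingTheory.Sequence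

section loc

variable {A : Type u} [CommRing A] (P : Ideal A) [P.IsPrime] {M : Type u} [AddCommGroup M]
  [Module A M] (R : Ideal A) (f : A)

theorem regular_localized (hfreg : IsSMulRegular (A ⧸ R) (Ideal.Quotient.mk R f)) :
    IsSMulRegular (Localization.AtPrime P ⧸ R.map (algebraMap A (Localization.AtPrime P)))
      (Ideal.Quotient.mk (R.map (algebraMap A (Localization.AtPrime P)))
        (algebraMap A (Localization.AtPrime P) f)) := by
  have h := IsSMulRegular.of_isLocalization
    (Localization.AtPrime P ⧸ R.map (algebraMap A (Localization.AtPrime P)))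
    (Algebra.algebraMapSubmonoid (A ⧸ R) P.primeCompl) hfreg
  rwa [Ideal.Quotient.algebraMap_quotient_map_quotient] at h

/-- normal flatness of the localization at `P` passes from `R` to `R + (f)` -/
theorem locNF_sup (hfreg : IsSMulRegular (A ⧸ R) (Ideal.Quotient.mk R f))
    (hnf : EGA4.IsNormallyFlat (R.map (algebraMap A (Localization.AtPrime P)))
      (LocalizedModule P.primeCompl M)) :
    EGA4.IsNormallyFlat ((R ⊔ Ideal.span {f}).map (algebraMap A (Localization.AtPrime P)))
      (LocalizedModule P.primeCompl M) := by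
  have h := isNormallyFlat_sup_span (R.map (algebraMap A (Localization.AtPrime P)))
    (algebraMap A (Localization.AtPrime P) f) (regular_localized P R f hfreg) hnf
  rwa [Ideal.map_sup, Ideal.map_span, Set.image_singleton]

/-- normal flatness of the localization at `P` gives the local form of `(H)` at `P` -/
theorem HLoc_of_locNF (hfreg : IsSMulRegular (A ⧸ R) (Ideal.Quotient.mk R f))
    (hnf : EGA4.IsNormallyFlat (R.map (algebraMap A (Localization.AtPrime P)))
      (LocalizedModule P.primeCompl M)) : HLoc R f M P := by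
  have hH := H_of_isNormallyFlat (R.map (algebraMap A (Localization.AtPrime P)))
    (algebraMap A (Localization.AtPrime P) f) (regular_localized P R f hfreg) hnf
  intro i m hm
  have h1 : LocalizedModule.mkLinearMap P.primeCompl M (f • m) ∈
      ((R.map (algebraMap A (Localization.AtPrime P))) ^ i • ⊤ :
        Submodule (Localization.AtPrime P) (LocalizedModule P.primeCompl M)) :=
    map_mem P.primeCompl (LocalizedModule.mkLinearMap P.primeCompl M) R i _ hm
  have h2 : (algebraMap A (Localization.AtPrime P) f) •
      LocalizedModule.mkLinearMap P.primeCompl M m ∈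
      ((R.map (algebraMap A (Localization.AtPrime P))) ^ i • ⊤ :
        Submodule (Localization.AtPrime P) (LocalizedModule P.primeCompl M)) := by
    rw [algebraMap_smul, ← map_smul]
    exact h1
  have h3 := hH i _ h2
  obtain ⟨x, hx, s, hs⟩ := (mem_pow_smul_top_iff P.primeCompl
    (LocalizedModule.mkLinearMap P.primeCompl M) R i _).1 h3
  have h4 : LocalizedModule.mkLinearMap P.primeCompl M ((s : A) • m - x) = 0 := by
    rw [map_sub, map_smul, hs, sub_self]
  obtain ⟨t, ht⟩ := (IsLocalizedModule.eq_zero_iff P.primeCompl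
    (LocalizedModule.mkLinearMap P.primeCompl M)).1 h4
  refine ⟨((t * s : P.primeCompl) : A), (t * s).2, ?_⟩
  have h5 : ((t * s : P.primeCompl) : A) • m = (t : A) • x := by
    have : (t : A) • ((s : A) • m - x) = 0 := ht
    rw [smul_sub, sub_eq_zero] at this
    rw [Submonoid.coe_mul, mul_smul]
    exact this
  rw [h5]
  exact Submodule.smul_mem _ _ hx

end loc

section fromhyp

variable {A : Type u} [CommRing A] {M : Type u} [AddCommGroup M] [Module A M] (R : Ideal A)

theorem flat_of_submonoid_eq {B : Type u} [CommRing B] {X : Type u} [AddCommGroup X] [Module B X]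
    {S T : Submonoid B} (h : S = T) (hfl : Module.Flat B (LocalizedModule T X)) :
    Module.Flat B (LocalizedModule S X) := by
  subst h
  exact hfl

theorem algebraMapSubmonoid_primeCompl (p : Ideal (A ⧸ R)) [p.IsPrime] :
    Algebra.algebraMapSubmonoid (A ⧸ R) (p.comap (Ideal.Quotient.mk R)).primeCompl =
      p.primeCompl := by
  ext z
  constructor
  · rintro ⟨a, ha, rfl⟩
    exact ha
  · intro hz
    obtain ⟨a, rfl⟩ := Ideal.Quotient.mk_surjective z
    exact ⟨a, hz, rfl⟩

/-- hypothesis (ii) of the criterion gives normal flatness of the localization -/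
theorem locNF_of_flat (p : Ideal (A ⧸ R)) [p.IsPrime]
    (hfl : ∀ k : ℕ, Module.Flat (Localization.AtPrime p)
      (LocalizedModule p.primeCompl (Gr R M k))) :
    EGA4.IsNormallyFlat
      (R.map (algebraMap A (Localization.AtPrime (p.comap (Ideal.Quotient.mk R)))))
      (LocalizedModule (p.comap (Ideal.Quotient.mk R)).primeCompl M) := by
  intro k
  refine flat_gr_of_flat_localized (p.comap (Ideal.Quotient.mk R)).primeCompl
    (LocalizedModule.mkLinearMap (p.comap (Ideal.Quotient.mk R)).primeCompl M) R k ?_
  haveI := hfl k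
  have h1 : Module.Flat (A ⧸ R) (LocalizedModule p.primeCompl (Gr R M k)) :=
    Module.Flat.trans (A ⧸ R) (Localization.AtPrime p) _
  exact flat_of_submonoid_eq (algebraMapSubmonoid_primeCompl R p) h1

end fromhyp

section main

variable {A : Type u} [CommRing A] [IsNoetherianRing A] {M : Type u} [AddCommGroup M] [Module A M]
  [Module.Finite A M]

theorem isNormallyFlat_congr {J J' : Ideal A} (h : J = J') (hnf : EGA4.IsNormallyFlat J M) :
    EGA4.IsNormallyFlat J' M := by
  subst h
  exact hnf

/-- direct implication: normal flatness passes from `R` to `R + (fs)` -/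
theorem isNormallyFlat_sup_ofList (fs : List A) :
    ∀ R : Ideal A, IsWeaklyRegular (A ⧸ R) fs → EGA4.IsNormallyFlat R M →
      EGA4.IsNormallyFlat (R ⊔ Ideal.ofList fs) M := by
  induction fs with
  | nil =>
    intro R _ hnf
    exact isNormallyFlat_congr (by rw [Ideal.ofList_nil, sup_bot_eq]) hnf
  | cons x fs ih =>
    intro R hreg hnf
    rw [isWeaklyRegular_cons_iff] at hreg
    have hreg' : IsWeaklyRegular (A ⧸ (R ⊔ Ideal.span {x})) fs :=
      ((Groth.Agent.Lib.Helper21.NFlatKit.quotSMulTopQuotRingEquiv R x).isWeaklyRegular_congr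
        fs).1 hreg.2
    have hx : IsSMulRegular (A ⧸ R) (Ideal.Quotient.mk R x) := by
      rw [← Ideal.Quotient.algebraMap_eq, isSMulRegular_algebraMap_iff]
      exact hreg.1
    have h1 := ih (R ⊔ Ideal.span {x}) hreg' (isNormallyFlat_sup_span R x hx hnf)
    exact isNormallyFlat_congr (by rw [Ideal.ofList_cons, sup_assoc]) h1

/-- converse: from `R + (fs)` down to `R` under local hypotheses at the associated primes of
`A / (R + (fs))` -/
theorem isNormallyFlat_of_sup_ofList (fs : List A)
    (hfs : ∀ x ∈ fs, x ∈ Ideal.jacobson (⊥ : Ideal A)) :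
    ∀ R : Ideal A, IsWeaklyRegular (A ⧸ R) fs →
      EGA4.IsNormallyFlat (R ⊔ Ideal.ofList fs) M →
      (∀ P : Ideal A, ∀ hP : IsAssociatedPrime P (A ⧸ (R ⊔ Ideal.ofList fs)),
        haveI := hP.isPrime
        EGA4.IsNormallyFlat (R.map (algebraMap A (Localization.AtPrime P)))
          (LocalizedModule P.primeCompl M)) →
      EGA4.IsNormallyFlat R M := by
  induction fs with
  | nil =>
    intro R _ hnf _
    exact isNormallyFlat_congr (by rw [Ideal.ofList_nil, sup_bot_eq]) hnf
  | cons x fs ih =>
    intro R hreg hnf hloc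
    rw [isWeaklyRegular_cons_iff] at hreg
    have hx : x ∈ Ideal.jacobson (⊥ : Ideal A) := hfs x List.mem_cons_self
    have hfs' : ∀ g ∈ fs, g ∈ Ideal.jacobson (⊥ : Ideal A) :=
      fun g hg => hfs g (List.mem_cons_of_mem _ hg)
    have hreg' : IsWeaklyRegular (A ⧸ (R ⊔ Ideal.span {x})) fs :=
      ((Groth.Agent.Lib.Helper21.NFlatKit.quotSMulTopQuotRingEquiv R x).isWeaklyRegular_congr
        fs).1 hreg.2
    have hxreg : IsSMulRegular (A ⧸ R) (Ideal.Quotient.mk R x) := by
      rw [← Ideal.Quotient.algebraMap_eq, isSMulRegular_algebraMap_iff]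
      exact hreg.1
    have hQ : R ⊔ Ideal.ofList (x :: fs) = (R ⊔ Ideal.span {x}) ⊔ Ideal.ofList fs := by
      rw [Ideal.ofList_cons, sup_assoc]
    -- normal flatness along `R + (x)` by induction
    have h1 : EGA4.IsNormallyFlat (R ⊔ Ideal.span {x}) M := by
      apply ih hfs' (R ⊔ Ideal.span {x}) hreg' (isNormallyFlat_congr hQ hnf)
      intro P hP
      haveI := hP.isPrime
      exact locNF_sup P R x hxreg (hloc P (isAssociatedPrime_congr hQ.symm hP))
    -- descend from `R + (x)` to `R`
    refine isNormallyFlat_of_sup_of_HLoc R x hx hxreg h1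
      {P | IsAssociatedPrime P (A ⧸ (R ⊔ Ideal.ofList (x :: fs)))} (fun P hP => hP.isPrime) ?_ ?_
    · intro P hP
      haveI := hP.isPrime
      exact HLoc_of_locNF P R x hxreg (hloc P hP)
    · intro P hP
      obtain ⟨P', hP', hPP'⟩ := exists_le_assoc_sup_ofList fs hfs' (R ⊔ Ideal.span {x}) hreg' P hP
      exact ⟨P', isAssociatedPrime_congr hQ.symm hP', hPP'⟩

end main

end Groth.Agent.Lib.Helper7.HironakaMain
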