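import Mathlib
import Groth.Agent.Lib.Helper21.DepthKit13
import Groth.Agent.Lib.Helper12.DepthFiniteMap
import Groth.Agent.Lib.Helper20.GrKit18
import Groth.Agent.Lib.Helper20.GrStarLoc

/-!
# Hochster–Eagon: depth of a direct summand of a finite extension (helper7)

`A → R` finite, `A` a direct summand of `R` as an `A`-module, heights preserved under contraction.
Then `(S_r)` / Cohen–Macaulayness pass from the ring `R` to the `A`-module `R` and to `A`.
-/

set_option autoImplicit false
set_option linter.style.haveILetI false
set_option linter.unusedSectionVars false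
universe u

namespace Groth.Agent.Lib.Helper7.HochsterEagon

open RingTheory.Sequence IsLocalRing Module Groth.Agent.Lib.Helper21.DepthKit

section retract

variable {A : Type u} [CommRing A]

theorem isWeaklyRegular_of_retract (rs : List A) :
    ∀ {M M' : Type u} [AddCommGroup M] [Module A M] [AddCommGroup M'] [Module A M']
      (ι : M' →ₗ[A] M) (ρ : M →ₗ[A] M'), ρ ∘ₗ ι = LinearMap.id →
      IsWeaklyRegular M rs → IsWeaklyRegular M' rs := by
  induction rs with
  | nil => intros; exact IsWeaklyRegular.nil _ _
  | cons r rs ih =>
    intro M M' _ _ _ _ ι ρ h hreg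
    rw [isWeaklyRegular_cons_iff] at hreg ⊢
    refine ⟨?_, ih (QuotSMulTop.map r ι) (QuotSMulTop.map r ρ)
      (by rw [← QuotSMulTop.map_comp, h, QuotSMulTop.map_id]) hreg.2⟩
    have hι : Function.Injective ι := LinearMap.injective_of_comp_eq_id ι ρ h
    intro x y hxy
    apply hι
    apply hreg.1
    show r • ι x = r • ι y
    rw [← map_smul, ← map_smul]
    exact congrArg ι hxy

theorem depth_le_of_retract [IsLocalRing A] [IsNoetherianRing A]
    {M M' : Type u} [AddCommGroup M] [Module A M] [AddCommGroup M'] [Module A M']
    [Module.Finite A M] [Module.Finite A M'] [Nontrivial M']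
    (ι : M' →ₗ[A] M) (ρ : M →ₗ[A] M') (h : ρ ∘ₗ ι = LinearMap.id) :
    LocCoh.depth A M ≤ LocCoh.depth A M' := by
  have hι : Function.Injective ι := LinearMap.injective_of_comp_eq_id ι ρ h
  haveI : Nontrivial M := hι.nontrivial
  rw [← ENat.forall_natCast_le_iff_le]
  intro n hn
  obtain ⟨rs, h1, h2, h3⟩ := (natCast_le_depth_iff n).1 hn
  exact (natCast_le_depth_iff n).2 ⟨rs, h1, h2, isWeaklyRegular_of_retract rs ι ρ h h3⟩

end retract

section finite

variable {A R : Type u} [CommRing A] [CommRing R] [Algebra A R] [IsNoetherianRing A]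
  [Module.Finite A R] (p : Ideal A) [p.IsPrime]

/-- the ring `R_p` -/
abbrev Rp : Type u := Localization (Algebra.algebraMapSubmonoid R p.primeCompl)

/-- `R_p` as a localized module is the ring `R_p` -/
noncomputable def equivRp :
    LocalizedModule p.primeCompl R ≃ₗ[Localization.AtPrime p] Rp (R := R) p := by
  haveI : IsLocalizedModule p.primeCompl
      (IsScalarTower.toAlgHom A R (Rp (R := R) p)).toLinearMap :=
    (isLocalizedModule_iff_isLocalization (S := p.primeCompl) (A := R)
      (Aₛ := Rp (R := R) p)).2 inferInstance
  exact LinearEquiv.extendScalarsOfIsLocalization p.primeCompl (Localization.AtPrime p)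
    (IsLocalizedModule.iso p.primeCompl
      (IsScalarTower.toAlgHom A R (Rp (R := R) p)).toLinearMap)

theorem comap_eq_of_le (Q : Ideal (Rp (R := R) p)) [Q.IsPrime]
    (hQ : (maximalIdeal (Localization.AtPrime p)).map
      (algebraMap (Localization.AtPrime p) (Rp (R := R) p)) ≤ Q) :
    (Q.comap (algebraMap R (Rp (R := R) p))).comap (algebraMap A R) = p := by
  have h1 : Q.comap (algebraMap (Localization.AtPrime p) (Rp (R := R) p)) =
      maximalIdeal (Localization.AtPrime p) := by
    have hle := Ideal.map_le_iff_le_comap.1 hQ
    exact ((IsLocalRing.maximalIdeal.isMaximal _).eq_of_le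
      (Ideal.comap_ne_top _ (Ideal.IsPrime.ne_top inferInstance)) hle).symm
  rw [Ideal.comap_comap, ← IsScalarTower.algebraMap_eq,
    IsScalarTower.algebraMap_eq A (Localization.AtPrime p) (Rp (R := R) p), ← Ideal.comap_comap, h1]
  exact IsLocalization.AtPrime.comap_maximalIdeal (Localization.AtPrime p) p

theorem le_depth_localizedModule [IsNoetherianRing R] (n : ℕ∞)
    (h : ∀ (q : Ideal R) [q.IsPrime], q.comap (algebraMap A R) = p →
      n ≤ LocCoh.depth (Localization.AtPrime q) (LocalizedModule q.primeCompl R)) :
    n ≤ LocCoh.depth (Localization.AtPrime p) (LocalizedModule p.primeCompl R) := by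
  haveI : IsNoetherianRing (Rp (R := R) p) :=
    IsLocalization.isNoetherianRing (Algebra.algebraMapSubmonoid R p.primeCompl) _ inferInstance
  rw [depth_congr (equivRp (R := R) p)]
  unfold LocCoh.depth
  rw [Groth.Agent.Lib.Helper12.DepthBC.idealDepth_eq_of_finite (A := Localization.AtPrime p)
    (B := Rp (R := R) p) (Rp (R := R) p) (maximalIdeal (Localization.AtPrime p)),
    idealDepth_eq_iInf_depth_localization]
  refine le_iInf₂ fun Q hQ => ?_
  haveI := Q.isPrime
  have hq := comap_eq_of_le p Q.asIdeal hQ
  have h1 := h (Q.asIdeal.comap (algebraMap R (Rp (R := R) p))) hq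
  rw [depth_localization_of_isLocalization (Algebra.algebraMapSubmonoid R p.primeCompl)
    (Algebra.linearMap R (Rp (R := R) p)) Q.asIdeal] at h1
  exact h1

/-- the localization of `A` at `p` as a localized module is nontrivial -/
instance nontrivial_localizedModule_self : Nontrivial (LocalizedModule p.primeCompl A) :=
  inferInstanceAs (Nontrivial (Localization.AtPrime p))

theorem depth_localizedModule_le (ρ : R →ₗ[A] A) (hρ : ∀ a : A, ρ (algebraMap A R a) = a) :
    LocCoh.depth (Localization.AtPrime p) (LocalizedModule p.primeCompl R) ≤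
      LocCoh.depth (Localization.AtPrime p) (LocalizedModule p.primeCompl A) := by
  refine depth_le_of_retract (LocalizedModule.map p.primeCompl (Algebra.linearMap A R))
    (LocalizedModule.map p.primeCompl ρ) ?_
  refine LinearMap.ext fun x => ?_
  induction x using LocalizedModule.induction_on with
  | h m s =>
    rw [LinearMap.comp_apply, LocalizedModule.map_mk, LocalizedModule.map_mk, LinearMap.id_apply,
      Algebra.linearMap_apply, hρ]

theorem supportDim_localizedModule (hinj : Function.Injective (algebraMap A R)) :
    Module.supportDim (Localization.AtPrime p) (LocalizedModule p.primeCompl R) =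
      ((p.height : ℕ∞) : WithBot ℕ∞) := by
  apply le_antisymm
  · rw [← IsLocalization.AtPrime.ringKrullDim_eq_height p (Localization.AtPrime p)]
    exact Module.supportDim_le_ringKrullDim _ _
  · rw [← Groth.Agent.Lib.Helper20.GrKit.supportDim_localizedModule_self A p]
    exact Module.supportDim_le_of_injective
      (LocalizedModule.map p.primeCompl (Algebra.linearMap A R))
      (LocalizedModule.map_injective p.primeCompl _ hinj)

end finite

section main

variable {A R : Type u} [CommRing A] [CommRing R] [Algebra A R] [IsNoetherianRing A]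
  [Module.Finite A R] [IsNoetherianRing R]

/-- **Hochster–Eagon** for `(S_r)`. -/
theorem hasSk (hinj : Function.Injective (algebraMap A R))
    (hht : ∀ (q : Ideal R) [q.IsPrime], q.height = (q.comap (algebraMap A R)).height)
    (ρ : R →ₗ[A] A) (hρ : ∀ a : A, ρ (algebraMap A R a) = a) (r : ℕ)
    (hR : LocCoh.HasSk r R R) : LocCoh.HasSk r A R ∧ LocCoh.HasSk r A A := by
  have key : ∀ (p : Ideal A) [p.IsPrime], min (r : ℕ∞) p.height ≤
      LocCoh.depth (Localization.AtPrime p) (LocalizedModule p.primeCompl R) := by
    intro p _
    apply le_depth_localizedModule p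
    intro q _ hq
    have h1 := hR q
    rw [Groth.Agent.Lib.Helper20.GrKit.supportDim_localizedModule_self R q, hht q, hq] at h1
    have h2 : ((min (r : ℕ∞) p.height : ℕ∞) : WithBot ℕ∞) =
        min ((r : ℕ) : WithBot ℕ∞) ((p.height : ℕ∞) : WithBot ℕ∞) := by
      rw [WithBot.coe_min]
      rfl
    rw [← h2] at h1
    exact WithBot.coe_le_coe.1 h1
  have cast : ∀ (p : Ideal A) [p.IsPrime],
      min ((r : ℕ) : WithBot ℕ∞) ((p.height : ℕ∞) : WithBot ℕ∞) =
        ((min (r : ℕ∞) p.height : ℕ∞) : WithBot ℕ∞) := by
    intro p _
    rw [WithBot.coe_min]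
    rfl
  constructor
  · intro p _
    rw [supportDim_localizedModule p hinj, cast p]
    exact WithBot.coe_le_coe.2 (key p)
  · intro p _
    rw [Groth.Agent.Lib.Helper20.GrKit.supportDim_localizedModule_self A p, cast p]
    exact WithBot.coe_le_coe.2 ((key p).trans (depth_localizedModule_le p ρ hρ))

end main

section mainCM

variable {A R : Type u} [CommRing A] [CommRing R] [Algebra A R] [IsNoetherianRing A]
  [Module.Finite A R]

/-- **Hochster–Eagon** for Cohen–Macaulayness. -/
theorem isCohenMacaulay (hinj : Function.Injective (algebraMap A R))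
    (hht : ∀ (q : Ideal R) [q.IsPrime], q.height = (q.comap (algebraMap A R)).height)
    (ρ : R →ₗ[A] A) (hρ : ∀ a : A, ρ (algebraMap A R a) = a)
    [hR : LocCoh.IsCohenMacaulayRing R] :
    LocCoh.IsCohenMacaulayRing A ∧ ∀ (p : Ideal A) [p.IsPrime],
      LocCoh.IsCohenMacaulayModule (Localization.AtPrime p) (LocalizedModule p.primeCompl R) ∧
        Module.supportDim (Localization.AtPrime p) (LocalizedModule p.primeCompl R) =
          ringKrullDim (Localization.AtPrime p) := by
  have key : ∀ (p : Ideal A) [p.IsPrime], (p.height : ℕ∞) ≤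
      LocCoh.depth (Localization.AtPrime p) (LocalizedModule p.primeCompl R) := by
    intro p _
    apply le_depth_localizedModule p
    intro q _ hq
    rw [Groth.Agent.Lib.Helper20.GrStarLoc.depth_localization_self q, hht q, hq]
  have hι : ∀ (p : Ideal A) [p.IsPrime], Function.Injective
      (LocalizedModule.map p.primeCompl (Algebra.linearMap A R)) := fun p _ =>
    LocalizedModule.map_injective p.primeCompl _ hinj
  have eqR : ∀ (p : Ideal A) [p.IsPrime],
      LocCoh.depth (Localization.AtPrime p) (LocalizedModule p.primeCompl R) = p.height := by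
    intro p _
    apply le_antisymm _ (key p)
    haveI : Nontrivial (LocalizedModule p.primeCompl R) := (hι p).nontrivial
    have h1 := depth_le_supportDim (A := Localization.AtPrime p)
      (M := LocalizedModule p.primeCompl R)
    rw [supportDim_localizedModule p hinj] at h1
    exact WithBot.coe_le_coe.1 h1
  have eqA : ∀ (p : Ideal A) [p.IsPrime],
      LocCoh.depth (Localization.AtPrime p) (LocalizedModule p.primeCompl A) = p.height := by
    intro p _
    apply le_antisymm
    · have h1 := depth_le_supportDim (A := Localization.AtPrime p)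
        (M := LocalizedModule p.primeCompl A)
      rw [Groth.Agent.Lib.Helper20.GrKit.supportDim_localizedModule_self A p] at h1
      exact WithBot.coe_le_coe.1 h1
    · exact (key p).trans (depth_localizedModule_le p ρ hρ)
  refine ⟨⟨fun p _ => ⟨?_⟩⟩, fun p _ => ⟨?_, ?_⟩⟩
  · have e : LocalizedModule p.primeCompl A ≃ₗ[Localization.AtPrime p] Localization.AtPrime p :=
      LinearEquiv.refl _ _
    rw [Module.supportDim_self_eq_ringKrullDim,
      IsLocalization.AtPrime.ringKrullDim_eq_height p (Localization.AtPrime p),
      ← depth_congr e, eqA p]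
  · unfold LocCoh.IsCohenMacaulayModule
    rw [supportDim_localizedModule p hinj, eqR p]
  · rw [supportDim_localizedModule p hinj,
      IsLocalization.AtPrime.ringKrullDim_eq_height p (Localization.AtPrime p)]

end mainCM

end Groth.Agent.Lib.Helper7.HochsterEagon
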