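import Mathlib
import Groth.Agent.Lib.Helper26.FiniteInvC
import Groth.Agent.Lib.Helper26.Shear
import Groth.Agent.Lib.lead.FieldDim

/-!
# Fibres of `Spec R → Spec R^G` are orbits, going down, heights (helper7)

`H` a finite-dimensional commutative Hopf algebra over a field `k`, `R` an `H`-comodule algebra,
`A = R^H` the invariants.  Two primes of `R` with the same contraction to `A` are linked by a prime
of `R ⊗ H`; hence `A → R` has going down and contraction preserves heights.
-/

set_option autoImplicit false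
set_option linter.style.haveILetI false
set_option linter.unusedSectionVars false
universe u
open TensorProduct

namespace Groth.Agent.Lib.Helper7.HopfOrbit

open HopfRep Groth.Agent.Lib.Helper26.FiniteInv

section poly

variable {R : Type u} [CommRing R]

theorem coeff_zero_mem_span_of_aeval_eq_zero (P : Polynomial R) (f : R)
    (h : Polynomial.aeval f P = 0) : P.coeff 0 ∈ Ideal.span {f} := by
  have h1 := congrArg (Polynomial.aeval f) (Polynomial.divX_mul_X_add P)
  rw [h, map_add, map_mul, Polynomial.aeval_X, Polynomial.aeval_C, Algebra.algebraMap_self,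
    RingHom.id_apply] at h1
  have h2 : P.coeff 0 = -(Polynomial.aeval f P.divX) * f := by
    rw [neg_mul, eq_neg_iff_add_eq_zero, add_comm]
    exact h1
  rw [h2]
  exact Ideal.mul_mem_left _ _ (Ideal.mem_span_singleton_self f)

end poly

section Main

variable {k : Type u} [Field k] {H : Type u} [CommRing H] [HopfAlgebra k H] [Module.Finite k H]
  {R : Type u} [CommRing R] [Algebra k R] [Comod k H R] [GLin.IsCoactAlg k H R]

/-- if the norm of `y ∈ R ⊗ H` lies in a prime `q'` of `R`, some prime of `R ⊗ H` over `q'`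
contains `y` -/
theorem exists_prime_of_coeff_zero_mem (q' : Ideal R) [q'.IsPrime] (y : R ⊗[k] H)
    (hy : (chi R y).coeff 0 ∈ q') :
    ∃ Q : Ideal (R ⊗[k] H), Q.IsPrime ∧ Q.comap (algebraMap R (R ⊗[k] H)) = q' ∧ y ∈ Q := by
  classical
  let κ := q'.ResidueField
  let φ : R →ₐ[k] κ := IsScalarTower.toAlgHom k R κ
  let Φ : R ⊗[k] H →ₐ[k] κ ⊗[k] H := Algebra.TensorProduct.map φ (AlgHom.id k H)
  have h1 : (chi κ (Φ y)).coeff 0 = 0 := by
    rw [chi_map, Polynomial.coeff_map]
    exact Ideal.algebraMap_residueField_eq_zero.2 hy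
  have h2 : LinearMap.det (Algebra.lmul κ (κ ⊗[k] H) (Φ y)) = 0 := by
    rw [LinearMap.det_eq_sign_charpoly_coeff]
    have : (Algebra.lmul κ (κ ⊗[k] H) (Φ y)).charpoly.coeff 0 = 0 := h1
    rw [this, mul_zero]
  obtain ⟨z, hz⟩ := (Submodule.ne_bot_iff _).1 (LinearMap.bot_lt_ker_of_det_eq_zero h2).ne'
  have h3 : Φ y * z = 0 := hz.1
  have h4 : Φ y ∈ nonunits (κ ⊗[k] H) := by
    intro hu
    apply hz.2
    have := congrArg (fun w => (↑hu.unit⁻¹ : κ ⊗[k] H) * w) h3
    simpa [← mul_assoc] using this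
  obtain ⟨𝔐, h𝔐, hmem⟩ := exists_max_ideal_of_mem_nonunits h4
  haveI := h𝔐.isPrime
  refine ⟨𝔐.comap Φ.toRingHom, Ideal.comap_isPrime _ _, ?_, hmem⟩
  ext x
  rw [Ideal.mem_comap, Ideal.mem_comap]
  have h5 : Φ.toRingHom (algebraMap R (R ⊗[k] H) x) = (φ x) ⊗ₜ[k] (1 : H) := by
    rw [Algebra.TensorProduct.algebraMap_apply]
    simp [Φ]
  rw [h5]
  constructor
  · intro hx
    by_contra hxq
    have hne : φ x ≠ 0 := fun h0 => hxq (Ideal.algebraMap_residueField_eq_zero.1 h0)
    apply h𝔐.ne_top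
    rw [Ideal.eq_top_iff_one]
    have h6 : ((φ x)⁻¹ ⊗ₜ[k] (1 : H)) * ((φ x) ⊗ₜ[k] (1 : H)) = (1 : κ ⊗[k] H) := by
      rw [Algebra.TensorProduct.tmul_mul_tmul, inv_mul_cancel₀ hne, mul_one]
      rfl
    rw [← h6]
    exact 𝔐.mul_mem_left _ hx
  · intro hx
    have h0 : φ x = 0 := Ideal.algebraMap_residueField_eq_zero.2 hx
    rw [h0, TensorProduct.zero_tmul]
    exact 𝔐.zero_mem

theorem coact_of_mem_invariants (a : R) (ha : a ∈ GLin.invariants k H R) :
    GLin.coactAlgHom k H R a = algebraMap R (R ⊗[k] H) a := by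
  rw [GLin.coactAlgHom_apply, (GLin.mem_invariants_iff k H R a).1 ha,
    Algebra.TensorProduct.algebraMap_apply]
  rfl

theorem comap_coact_comap (Q : Ideal (R ⊗[k] H)) :
    (Q.comap (GLin.coactAlgHom k H R).toRingHom).comap (algebraMap (GLin.invariants k H R) R) =
      (Q.comap (algebraMap R (R ⊗[k] H))).comap (algebraMap (GLin.invariants k H R) R) := by
  ext a
  rw [Ideal.mem_comap, Ideal.mem_comap, Ideal.mem_comap, Ideal.mem_comap]
  have : (GLin.coactAlgHom k H R).toRingHom (algebraMap (GLin.invariants k H R) R a) =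
      algebraMap R (R ⊗[k] H) (algebraMap (GLin.invariants k H R) R a) :=
    coact_of_mem_invariants _ a.2
  rw [this]

instance isIntegral_inv : Algebra.IsIntegral (GLin.invariants k H R) R :=
  ⟨isIntegral_invariants⟩

/-- two primes of `R` with the same contraction to the invariants are linked by a prime of
`R ⊗ H` -/
theorem exists_prime_linking (q q' : Ideal R) [q.IsPrime] [q'.IsPrime]
    (h : q.comap (algebraMap (GLin.invariants k H R) R) =
      q'.comap (algebraMap (GLin.invariants k H R) R)) :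
    ∃ Q : Ideal (R ⊗[k] H), Q.IsPrime ∧ Q.comap (algebraMap R (R ⊗[k] H)) = q' ∧
      Q.comap (GLin.coactAlgHom k H R).toRingHom = q := by
  classical
  by_contra hne
  simp only [not_exists, not_and] at hne
  have hfin : (q'.primesOver (R ⊗[k] H)).Finite := Algebra.QuasiFinite.finite_primesOver q'
  have hsub : ¬ ((q : Set R) ⊆ ⋃ Q ∈ (hfin.toFinset : Set (Ideal (R ⊗[k] H))),
      (Q.comap (GLin.coactAlgHom k H R).toRingHom : Ideal R)) := by
    rw [Ideal.subset_union_prime (f := fun Q : Ideal (R ⊗[k] H) =>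
      Q.comap (GLin.coactAlgHom k H R).toRingHom) ⊥ ⊥]
    · rintro ⟨Q, hQs, hle⟩
      have hQ := (Set.Finite.mem_toFinset hfin).1 hQs
      haveI := hQ.1
      have hQi : Q.comap (algebraMap R (R ⊗[k] H)) = q' := (hQ.2.over).symm
      apply hne Q hQ.1 hQi
      by_contra hqq
      have hlt : q < Q.comap (GLin.coactAlgHom k H R).toRingHom :=
        lt_of_le_of_ne hle (Ne.symm hqq)
      have h1 := Ideal.IsIntegral.comap_lt_comap (R := GLin.invariants k H R) hlt
      rw [comap_coact_comap, hQi, h] at h1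
      exact lt_irrefl _ h1
    · intro Q hQs _ _
      have hQ := (Set.Finite.mem_toFinset hfin).1 hQs
      haveI := hQ.1
      exact Ideal.comap_isPrime _ _
  obtain ⟨f, hfq, hfU⟩ := Set.not_subset.1 hsub
  have ha₀A : (chi R (GLin.coactAlgHom k H R f)).coeff 0 ∈ GLin.invariants k H R :=
    coeff_chi_mem_invariants f 0
  have ha₀q : (chi R (GLin.coactAlgHom k H R f)).coeff 0 ∈ q :=
    (Ideal.span_singleton_le_iff_mem _).2 hfq
      (coeff_zero_mem_span_of_aeval_eq_zero _ f (aeval_chi_coact (k := k) (A := H) f))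
  have ha₀q' : (chi R (GLin.coactAlgHom k H R f)).coeff 0 ∈ q' := by
    have h1 : (⟨_, ha₀A⟩ : GLin.invariants k H R) ∈
        q.comap (algebraMap (GLin.invariants k H R) R) := ha₀q
    rw [h] at h1
    exact h1
  obtain ⟨Q, hQp, hQi, hQy⟩ := exists_prime_of_coeff_zero_mem q' _ ha₀q'
  apply hfU
  refine Set.mem_iUnion₂.2 ⟨Q, ?_, hQy⟩
  exact (Set.Finite.mem_toFinset hfin).2 ⟨hQp, ⟨hQi.symm⟩⟩

/-- going down for `R^H → R` -/
instance hasGoingDown_invariants : Algebra.HasGoingDown (GLin.invariants k H R) R := by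
  constructor
  intro p' _ q _ hlt
  have hker : RingHom.ker (algebraMap (GLin.invariants k H R) R) ≤ p' := by
    intro a ha
    have : a = 0 := Subtype.ext ha
    rw [this]
    exact p'.zero_mem
  obtain ⟨q'₁, -, hq'₁p, hq'₁⟩ := Ideal.exists_ideal_over_prime_of_isIntegral p' (⊥ : Ideal R)
    (by rw [Ideal.comap_bot_of_injective _ Subtype.val_injective]; exact bot_le)
  haveI := hq'₁p
  haveI : (q.under (GLin.invariants k H R)).IsPrime := Ideal.comap_isPrime _ _
  obtain ⟨q₁, hq₁le, hq₁p, hq₁⟩ := Ideal.exists_ideal_over_prime_of_isIntegral_of_isPrime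
    (q.under (GLin.invariants k H R)) q'₁ (by rw [hq'₁]; exact hlt.le)
  haveI := hq₁p
  obtain ⟨Q, hQp, hQi, hQc⟩ := exists_prime_linking (k := k) (H := H) q q₁ hq₁.symm
  haveI := hQp
  haveI : Q.LiesOver q₁ := ⟨hQi.symm⟩
  obtain ⟨Q', hQ'le, hQ'p, hQ'over⟩ := Ideal.exists_ideal_le_liesOver_of_le (p := q'₁) Q hq₁le
  haveI := hQ'p
  refine ⟨Q'.comap (GLin.coactAlgHom k H R).toRingHom, ?_, Ideal.comap_isPrime _ _, ⟨?_⟩⟩
  · rw [← hQc]
    exact Ideal.comap_mono hQ'le
  · rw [Ideal.under_def, comap_coact_comap, ← Ideal.under_def (A := R), ← hQ'over.over, hq'₁]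

end Main

section Height

variable {k : Type u} [Field k] {H : Type u} [CommRing H] [HopfAlgebra k H] [Module.Finite k H]
  {R : Type u} [CommRing R] [Algebra k R] [Comod k H R] [GLin.IsCoactAlg k H R]
  [Algebra.FiniteType k R]

theorem height_comap_invariants (q : Ideal R) [q.IsPrime] :
    q.height = (q.comap (algebraMap (GLin.invariants k H R) R)).height := by
  obtain ⟨hft, hfin⟩ := finite_and_finiteType (k := k) (A := H) (R := R)
  haveI : IsNoetherianRing (GLin.invariants k H R) := Algebra.FiniteType.isNoetherianRing k _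
  haveI : IsNoetherianRing R := Algebra.FiniteType.isNoetherianRing k _
  haveI : q.LiesOver (q.comap (algebraMap (GLin.invariants k H R) R)) := ⟨rfl⟩
  exact Groth.Agent.Lib.lead.FieldDim.height_eq_of_integral_goingDown
    (q.comap (algebraMap (GLin.invariants k H R) R)) q

end Height

end Groth.Agent.Lib.Helper7.HopfOrbit
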