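import Groth.Prelude.Def_IntMult
import Groth.Agent.Lib.Helper21.TorShift
import Groth.Agent.Lib.helper11.TorBC
import Mathlib.LinearAlgebra.TensorProduct.Quotient

/-!
# `IntMult.chi` against the quotient by a regular element
-/

set_option autoImplicit false
set_option linter.unusedVariables false
set_option linter.style.haveILetI false

universe u

namespace Groth.Agent.Lib.Helper7.IMAlg

open TensorProduct Groth.Agent.Lib.Helper21.TorShift

variable (A : Type u) [CommRing A] (M : Type u) [AddCommGroup M] [Module A M]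

/-- `χ(M, A/(g)) = length(M/gM)` when `g` is regular on `A` and on `M`. -/
theorem chi_quot_regular (g : A) (hgA : IsSMulRegular A g) (hgM : IsSMulRegular M g) :
    IntMult.chi A M (A ⧸ Ideal.span {g}) =
      ((Module.length A (M ⧸ (Ideal.span {g} • (⊤ : Submodule A M)))).toNat : ℤ) := by
  let i : A →ₗ[A] A := LinearMap.lsmul A A g
  let q : A →ₗ[A] A ⧸ Ideal.span {g} := (Ideal.span {g}).mkQ
  have hi : Function.Injective i := hgA
  have hq : Function.Surjective q := Submodule.mkQ_surjective _
  have hex : Function.Exact i q := by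
    intro x
    show (Ideal.span {g}).mkQ x = 0 ↔ x ∈ Set.range i
    rw [Submodule.mkQ_apply, Submodule.Quotient.mk_eq_zero, Ideal.mem_span_singleton']
    constructor
    · rintro ⟨a, rfl⟩; exact ⟨a, by simp [i, mul_comm]⟩
    · rintro ⟨a, rfl⟩; exact ⟨a, by simp [i, mul_comm]⟩
  have h1 : Subsingleton (DRing.Tor A 1 M (A ⧸ Ideal.span {g})) := by
    rw [subsingleton_tor_one_iff M i q hi hex hq]
    have hlt : LinearMap.lTensor M i = g • LinearMap.id := by
      apply TensorProduct.ext'
      intro m a
      show m ⊗ₜ[A] (g • a) = g • (m ⊗ₜ[A] a)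
      rw [TensorProduct.tmul_smul]
    rw [hlt]
    intro z w hzw
    have hzw' : g • z = g • w := hzw
    apply (TensorProduct.rid A M).injective
    apply hgM
    show g • (TensorProduct.rid A M) z = g • (TensorProduct.rid A M) w
    rw [← map_smul, ← map_smul, hzw']
  have h2 : ∀ n : ℕ, Subsingleton (DRing.Tor A (n + 2) M (A ⧸ Ideal.span {g})) := by
    intro n
    rw [subsingleton_tor_succ_succ_iff M i q hi hex hq n]
    exact subsingleton_tor_succ_of_projective M n
  have hzero : ∀ n : ℕ, n ≠ 0 → Module.length A (DRing.Tor A n M (A ⧸ Ideal.span {g})) = 0 := by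
    intro n hn
    rw [Module.length_eq_zero_iff]
    rcases n with _ | _ | n
    · exact absurd rfl hn
    · exact h1
    · exact h2 n
  unfold IntMult.chi
  rw [finsum_eq_single _ 0 (fun n hn => by rw [hzero n hn]; simp)]
  obtain ⟨e0⟩ := Groth.Agent.Lib.helper11.TorBC.tor_zero A M (A ⧸ Ideal.span {g})
  have e1 := TensorProduct.tensorQuotEquivQuotSMul M (Ideal.span {g})
  have hlen : Module.length A (DRing.Tor A 0 M (A ⧸ Ideal.span {g})) =
      Module.length A (M ⧸ (Ideal.span {g} • (⊤ : Submodule A M))) := (e0 ≪≫ₗ e1).length_eq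
  rw [hlen]
  simp

/-- For `M = A/I`, the quotient `M/gM` is `A/(I + (g))`. -/
theorem length_quot_smul_top (I : Ideal A) (g : A) :
    Module.length A ((A ⧸ I) ⧸ (Ideal.span {g} • (⊤ : Submodule A (A ⧸ I)))) =
      Module.length A (A ⧸ (I ⊔ Ideal.span {g})) := by
  have h : (Ideal.span {g} • (⊤ : Submodule A (A ⧸ I))) = Submodule.map I.mkQ (Ideal.span {g}) := by
    have h1 : (⊤ : Submodule A (A ⧸ I)) = Submodule.map I.mkQ ⊤ := by
      rw [Submodule.map_top, Submodule.range_mkQ]
    rw [h1, ← Submodule.map_smul'']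
    congr 1
    show Ideal.span {g} * ⊤ = Ideal.span {g}
    rw [Ideal.mul_top]
  exact ((Submodule.quotEquivOfEq _ _ h) ≪≫ₗ
    (Submodule.quotientQuotientEquivQuotientSup I (Ideal.span {g}))).length_eq

end Groth.Agent.Lib.Helper7.IMAlg
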