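import Groth.Agent.Lib.Helper7.VarietyDim
import Groth.Agent.Lib.Helper7.LocQuotDim
import Groth.Agent.Lib.Helper7.IntMultBridge

/-!
# Dimensions of the local rings in the proper-intersection setting
-/

set_option autoImplicit false
set_option linter.unusedVariables false
set_option linter.style.haveILetI false

universe u

namespace Groth.Agent.Lib.Helper7.IMDim

open AlgebraicGeometry CategoryTheory TopologicalSpace Topology
open Groth.Agent.Lib.Helper7.AffPts Groth.Agent.Lib.Helper7.IMBridge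

theorem dim_congr {T : Type*} [TopologicalSpace T] {S S' : Set T} (h : S = S') :
    topologicalKrullDim ↥S = topologicalKrullDim ↥S' := by subst h; rfl

theorem dim_mono {T : Type*} [TopologicalSpace T] {S S' : Set T} (h : S ⊆ S') :
    topologicalKrullDim ↥S ≤ topologicalKrullDim ↥S' :=
  (Topology.IsEmbedding.inclusion h).isInducing.topologicalKrullDim_le

theorem exists_nat_of_add_eq (x : WithBot ℕ∞) (z n : ℕ) (h : x + (z : WithBot ℕ∞) = n) :
    ∃ m : ℕ, x = m ∧ m + z = n := by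
  have hne : x ≠ ⊥ := by
    rintro rfl
    simp at h
  obtain ⟨e, rfl⟩ := WithBot.ne_bot_iff_exists.1 hne
  have h' : e + (z : ℕ∞) = (n : ℕ∞) := by exact_mod_cast h
  have het : e ≠ ⊤ := by
    rintro rfl
    simp at h'
  obtain ⟨m, rfl⟩ := ENat.ne_top_iff_exists.1 het
  refine ⟨m, rfl, ?_⟩
  exact_mod_cast h'

theorem exists_nat_of_le (x : WithBot ℕ∞) (m : ℕ) (h0 : 0 ≤ x) (h : x ≤ (m : WithBot ℕ∞)) :
    ∃ z : ℕ, x = z ∧ z ≤ m := by
  have hne : x ≠ ⊥ := by
    rintro rfl
    simp at h0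
  obtain ⟨e, rfl⟩ := WithBot.ne_bot_iff_exists.1 hne
  have h' : e ≤ (m : ℕ∞) := by exact_mod_cast h
  have het : e ≠ ⊤ := by
    rintro rfl
    simp at h'
  obtain ⟨z, rfl⟩ := ENat.ne_top_iff_exists.1 het
  refine ⟨z, rfl, ?_⟩
  exact_mod_cast h'

section

variable (k : Type u) [Field k] (X : Scheme.{u}) [X.Over (Spec (CommRingCat.of k))]
  [LocallyOfFiniteType (X ↘ Spec (CommRingCat.of k))]

include k in
/-- The dimension of the support of an ideal sheaf with integral subscheme, read off on an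
affine open meeting it. -/
theorem dim_support_eq (I : X.IdealSheafData) [IsIntegral I.subscheme] (U : X.affineOpens)
    (x : X) (hxU : x ∈ U.1) (hx : x ∈ I.support) :
    topologicalKrullDim ↥(I.support : Set X) = ringKrullDim (Γ(X, U.1) ⧸ I.ideal U) := by
  haveI hQ : (I.ideal U).IsPrime := isPrime_ideal I U x hxU hx
  obtain ⟨y, hy⟩ := primeIdealOf_surjective U.2 ⟨I.ideal U, hQ⟩
  have hyS : y.1 ∈ I.support := by
    rw [mem_support_iff_le I U y.1 y.2]
    show I.ideal U ≤ (U.2.primeIdealOf y).asIdeal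
    rw [hy]
  have hirr := isIrreducible_support I
  have hgen : IsGenericPoint hirr.genericPoint (I.support : Set X) :=
    hirr.isGenericPoint_genericPoint I.support.isClosed
  set η := hirr.genericPoint with hη
  have hηy : η ⤳ y.1 := hgen.specializes hyS
  have hηU : η ∈ U.1 := hηy.mem_open U.1.isOpen y.2
  have hηS : η ∈ I.support := hgen.mem
  have h1 : I.ideal U ≤ (U.2.primeIdealOf ⟨η, hηU⟩).asIdeal :=
    (mem_support_iff_le I U η hηU).1 hηS
  have h2 : U.2.primeIdealOf ⟨η, hηU⟩ ≤ U.2.primeIdealOf y :=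
    (primeIdealOf_le_iff U.2 ⟨η, hηU⟩ y).2 hηy
  have h3 : (U.2.primeIdealOf ⟨η, hηU⟩).asIdeal = I.ideal U := by
    apply le_antisymm
    · have : (U.2.primeIdealOf ⟨η, hηU⟩).asIdeal ≤ (U.2.primeIdealOf y).asIdeal := h2
      rwa [hy] at this
    · exact h1
  rw [dim_congr hgen.def.symm, VarDim.dim_closure_eq k X η U.2 hηU, h3]

include k in
/-- The dimension of an integral scheme locally of finite type over a field, read off on a
nonempty affine open. -/
theorem dim_eq_of_isIntegral [IsIntegral X] (U : X.affineOpens) (x : X) (hxU : x ∈ U.1) :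
    topologicalKrullDim X = ringKrullDim Γ(X, U.1) := by
  haveI hne : Nonempty ↥U.1 := ⟨⟨x, hxU⟩⟩
  haveI : IsDomain Γ(X, U.1) := @IsIntegral.component_integral X _ U.1 hne
  obtain ⟨y, hy⟩ := primeIdealOf_surjective U.2 (⊥ : PrimeSpectrum Γ(X, U.1))
  set η := genericPoint X with hη
  have hηy : η ⤳ y.1 := genericPoint_specializes y.1
  have hηU : η ∈ U.1 := hηy.mem_open U.1.isOpen y.2
  have h2 : U.2.primeIdealOf ⟨η, hηU⟩ ≤ U.2.primeIdealOf y :=
    (primeIdealOf_le_iff U.2 ⟨η, hηU⟩ y).2 hηy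
  have h3 : U.2.primeIdealOf ⟨η, hηU⟩ = ⊥ := by
    rw [hy] at h2
    exact le_bot_iff.1 h2
  have h4 : topologicalKrullDim X = topologicalKrullDim ↥(Set.univ : Set X) :=
    ((Homeomorph.Set.univ X).isHomeomorph.topologicalKrullDim_eq).symm
  have h5 : closure ({η} : Set X) = Set.univ := genericPoint_closure X
  rw [h4, dim_congr h5.symm, VarDim.dim_closure_eq k X η U.2 hηU, h3]
  exact ringKrullDim_eq_of_ringEquiv (RingEquiv.quotientBot _)

include k in
/-- **Dimensions in the proper-intersection setting.**  With `A = O_{X,ξ}`, `z = dim closure{ξ}`: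
`dim A = n - z`, `dim A/I_V = r - z`, `dim A/I_W = s - z` and `z ≤ r + s - n`. -/
theorem exists_dims [IsIntegral X] (IV IW : X.IdealSheafData) [IsIntegral IV.subscheme]
    [IsIntegral IW.subscheme] (n r s : ℕ) (hn : topologicalKrullDim X = n)
    (hr : topologicalKrullDim IV.support = r) (hs : topologicalKrullDim IW.support = s)
    (hprop : IntMult.ProperInt (IV.support : Set X) (IW.support : Set X) n r s) (ξ : X)
    (hξV : ξ ∈ IV.support) (hξW : ξ ∈ IW.support) :
    ∃ a v w z : ℕ, ringKrullDim (X.presheaf.stalk ξ) = a ∧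
      ringKrullDim (X.presheaf.stalk ξ ⧸ IntMult.stalkIdeal IV ξ) = v ∧
      ringKrullDim (X.presheaf.stalk ξ ⧸ IntMult.stalkIdeal IW ξ) = w ∧
      a + z = n ∧ v + z = r ∧ w + z = s ∧ z + n ≤ r + s := by
  obtain ⟨U, hU, hξU, -⟩ := exists_isAffineOpen_mem_and_subset (x := ξ) (U := ⊤) trivial
  let U' : X.affineOpens := ⟨U, hU⟩
  letI algD : Algebra k Γ(X, U) := (ResTrdeg.kToΓ k X U).toAlgebra
  haveI ft : Algebra.FiniteType k Γ(X, U) := ResTrdeg.finiteType_kToΓ k X hU
  letI algA : Algebra Γ(X, U) (X.presheaf.stalk ξ) :=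
    TopCat.Presheaf.algebra_section_stalk X.presheaf (⟨ξ, hξU⟩ : U)
  haveI hloc := hU.isLocalization_stalk ⟨ξ, hξU⟩
  haveI hne : Nonempty ↥U := ⟨⟨ξ, hξU⟩⟩
  haveI hdom : IsDomain Γ(X, U) := @IsIntegral.component_integral X _ U hne
  set P : Ideal Γ(X, U) := (hU.primeIdealOf ⟨ξ, hξU⟩).asIdeal with hP
  haveI hPp : P.IsPrime := (hU.primeIdealOf ⟨ξ, hξU⟩).isPrime
  haveI hQV : (IV.ideal U').IsPrime := isPrime_ideal IV U' ξ hξU hξV
  haveI hQW : (IW.ideal U').IsPrime := isPrime_ideal IW U' ξ hξU hξW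
  have hVP : IV.ideal U' ≤ P := (mem_support_iff_le IV U' ξ hξU).1 hξV
  have hWP : IW.ideal U' ≤ P := (mem_support_iff_le IW U' ξ hξU).1 hξW
  have eV := LocQuotDim.dim_localization_quotient_add (k := k) Γ(X, U) (X.presheaf.stalk ξ) P
    (IV.ideal U') hVP
  have eW := LocQuotDim.dim_localization_quotient_add (k := k) Γ(X, U) (X.presheaf.stalk ξ) P
    (IW.ideal U') hWP
  have sV : IntMult.stalkIdeal IV ξ =
      (IV.ideal U').map (algebraMap Γ(X, U) (X.presheaf.stalk ξ)) := stalkIdeal_eq IV U' ξ hξU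
  have sW : IntMult.stalkIdeal IW ξ =
      (IW.ideal U').map (algebraMap Γ(X, U) (X.presheaf.stalk ξ)) := stalkIdeal_eq IW U' ξ hξU
  rw [← sV] at eV
  rw [← sW] at eW
  have dV : ringKrullDim (Γ(X, U) ⧸ IV.ideal U') = r := by
    rw [← dim_support_eq k X IV U' ξ hξU hξV]; exact hr
  have dW : ringKrullDim (Γ(X, U) ⧸ IW.ideal U') = s := by
    rw [← dim_support_eq k X IW U' ξ hξU hξW]; exact hs
  have dX : ringKrullDim Γ(X, U) = n := by
    rw [← dim_eq_of_isIntegral k X U' ξ hξU]; exact hn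
  have dZ : ringKrullDim (Γ(X, U) ⧸ P) = topologicalKrullDim ↥(closure ({ξ} : Set X)) :=
    (VarDim.dim_closure_eq k X ξ hU hξU).symm
  obtain ⟨hnrs, hdim⟩ := hprop ⟨ξ, hξV, hξW⟩
  have hsub : closure ({ξ} : Set X) ⊆ (IV.support : Set X) ∩ (IW.support : Set X) := by
    apply closure_minimal
    · rw [Set.singleton_subset_iff]; exact ⟨hξV, hξW⟩
    · exact IV.support.isClosed.inter IW.support.isClosed
  have hz1 : ringKrullDim (Γ(X, U) ⧸ P) ≤ ((r + s - n : ℕ) : WithBot ℕ∞) := by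
    rw [dZ]; exact (dim_mono hsub).trans hdim
  have hz0 : 0 ≤ ringKrullDim (Γ(X, U) ⧸ P) := ringKrullDim_nonneg_of_nontrivial
  obtain ⟨z, hz, hzle⟩ := exists_nat_of_le _ _ hz0 hz1
  have eX : ringKrullDim (X.presheaf.stalk ξ) + ringKrullDim (Γ(X, U) ⧸ P) =
      ringKrullDim Γ(X, U) := by
    rw [IsLocalization.AtPrime.ringKrullDim_eq_height P (X.presheaf.stalk ξ)]
    exact AffDim.height_add_dim_quotient (k := k) Γ(X, U) P
  rw [hz, dX] at eX
  rw [hz, dV] at eV
  rw [hz, dW] at eW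
  obtain ⟨a, ha, ha'⟩ := exists_nat_of_add_eq _ z n eX
  obtain ⟨v, hv, hv'⟩ := exists_nat_of_add_eq _ z r eV
  obtain ⟨w, hw, hw'⟩ := exists_nat_of_add_eq _ z s eW
  exact ⟨a, v, w, z, ha, hv, hw, ha', hv', hw', by omega⟩

end

end Groth.Agent.Lib.Helper7.IMDim
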