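import Groth.Prelude.Def_IntMult
import Groth.Agent.Lib.Helper8.TorBal6

/-!
# Symmetry of `IntMult.chi`
-/

set_option autoImplicit false
set_option linter.unusedVariables false
set_option linter.style.haveILetI false

universe u

namespace Groth.Agent.Lib.Helper7.IMSymm

open CategoryTheory

variable (A : Type u) [CommRing A] (M N : Type u) [AddCommGroup M] [Module A M]
  [AddCommGroup N] [Module A N]

/-- `Tor_i(M, N) ≃ Tor_i(N, M)`. -/
theorem nonempty_tor_equiv (i : ℕ) :
    Nonempty (DRing.Tor A i M N ≃ₗ[A] DRing.Tor A i N M) := by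
  obtain ⟨e⟩ := Groth.Agent.Lib.Helper8.TorBal6.main A i
  exact ⟨((e.app (ModuleCat.of A M)).app (ModuleCat.of A N)).toLinearEquiv⟩

theorem length_tor_comm (i : ℕ) :
    Module.length A (DRing.Tor A i M N) = Module.length A (DRing.Tor A i N M) := by
  obtain ⟨e⟩ := nonempty_tor_equiv A M N i
  exact e.length_eq

/-- `χ(M, N) = χ(N, M)`. -/
theorem chi_comm : IntMult.chi A M N = IntMult.chi A N M := by
  unfold IntMult.chi
  refine finsum_congr fun i => ?_
  rw [length_tor_comm A M N i]

end Groth.Agent.Lib.Helper7.IMSymm
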