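import Groth.Agent.Lib.Helper7.IntMultDim
import Groth.Agent.Lib.Helper7.IntMultSymm
import Groth.Agent.Lib.Helper7.IntMultAlg
import Groth.Agent.Lib.Helper7.SupportDimParams
import Groth.Agent.Lib.Helper2.KosChi4
import Groth.Agent.S1914
import Mathlib.RingTheory.KrullDimension.Regular

/-!
# Algebraic inputs for the intersection multiplicity along a regular sequence
-/

set_option autoImplicit false
set_option linter.unusedVariables false
set_option linter.style.haveILetI false

universe u

namespace Groth.Agent.Lib.Helper7.IMSerre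

open AlgebraicGeometry CategoryTheory TopologicalSpace Topology
open Groth.Agent.Lib.Helper7.IMBridge Groth.Agent.Lib.Helper2.KosChi3

/-- For `M = A/I`, the quotient `M/JM` is `A/(I + J)`. -/
theorem length_quot_ideal_smul_top (A : Type u) [CommRing A] (I J : Ideal A) :
    Module.length A ((A ⧸ I) ⧸ (J • (⊤ : Submodule A (A ⧸ I)))) =
      Module.length A (A ⧸ (I ⊔ J)) := by
  have h : (J • (⊤ : Submodule A (A ⧸ I))) = Submodule.map I.mkQ J := by
    have h1 : (⊤ : Submodule A (A ⧸ I)) = Submodule.map I.mkQ ⊤ := by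
      rw [Submodule.map_top, Submodule.range_mkQ]
    rw [h1, ← Submodule.map_smul'']
    congr 1
    show J * ⊤ = J
    rw [Ideal.mul_top]
  exact ((Submodule.quotEquivOfEq _ _ h) ≪≫ₗ
    (Submodule.quotientQuotientEquivQuotientSup I J)).length_eq

theorem isLocallyNoetherian_of_field (K : Type u) [Field K] (X : Scheme.{u})
    (f : X ⟶ Spec (CommRingCat.of K)) [LocallyOfFiniteType f] : IsLocallyNoetherian X :=
  LocallyOfFiniteType.isLocallyNoetherian f

section

variable {X : Scheme.{u}} [IsLocallyNoetherian X] (IV IW : X.IdealSheafData) (ξ : X)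

/-- `O_{W,ξ}/I_V O_{W,ξ}` is supported at the closed point. -/
theorem sop (hmax : ∀ ξ' : X, ξ' ∈ IV.support → ξ' ∈ IW.support → ξ' ⤳ ξ → ξ' = ξ) :
    Sop (IntMult.stalkIdeal IV ξ) (X.presheaf.stalk ξ ⧸ IntMult.stalkIdeal IW ξ) := by
  intro q hq hVq
  haveI := q.isPrime
  apply eq_maximalIdeal_of_le IV IW ξ hmax q.asIdeal hVq
  rw [Module.mem_support_iff_of_finite, Ideal.annihilator_quotient] at hq
  exact hq

end

section

variable (K : Type u) [Field K] (X : Scheme.{u}) (f : X ⟶ Spec (CommRingCat.of K))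
  [LocallyOfFiniteType f] [IsIntegral X] [IsLocallyNoetherian X]
  (IV IW : X.IdealSheafData) [IsIntegral IV.subscheme] [IsIntegral IW.subscheme] (n r s : ℕ)
  (hn : topologicalKrullDim X = n) (hr : topologicalKrullDim IV.support = r)
  (hs : topologicalKrullDim IW.support = s)
  (hprop : IntMult.ProperInt (IV.support : Set X) (IW.support : Set X) n r s) (ξ : X)
  (hξV : ξ ∈ IV.support) (hξW : ξ ∈ IW.support)
  (hmax : ∀ ξ' : X, ξ' ∈ IV.support → ξ' ∈ IW.support → ξ' ⤳ ξ → ξ' = ξ)
  (c : ℕ) (g : Fin c → ↑(X.presheaf.stalk ξ))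
  (hg : IntMult.stalkIdeal IV ξ = Ideal.span (Set.range g))
  (hreg : RingTheory.Sequence.IsRegular (↑(X.presheaf.stalk ξ)) (List.ofFn g))

include hξV hg in
theorem mem_maximalIdeal (j : Fin c) : g j ∈ IsLocalRing.maximalIdeal (X.presheaf.stalk ξ) := by
  have hne : IntMult.stalkIdeal IV ξ ≠ ⊤ := (stalkIdeal_ne_top_iff IV ξ).2 hξV
  have : g j ∈ IntMult.stalkIdeal IV ξ := by
    rw [hg]; exact Ideal.subset_span ⟨j, rfl⟩
  exact IsLocalRing.le_maximalIdeal hne this

include hmax hg in
theorem isFiniteLength_quot :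
    IsFiniteLength (X.presheaf.stalk ξ) ((X.presheaf.stalk ξ ⧸ IntMult.stalkIdeal IW ξ) ⧸
      (Ideal.span (Set.range g) • (⊤ : Submodule (X.presheaf.stalk ξ)
        (X.presheaf.stalk ξ ⧸ IntMult.stalkIdeal IW ξ)))) := by
  have h := sop IV IW ξ hmax
  rw [hg] at h
  exact h.isFiniteLength _ 1 (by rw [pow_one])

include K f hn hr hs hprop hξV hξW hmax hg hreg in
/-- Under proper intersection, `dim O_{W,ξ}` is the length `c` of the regular sequence
generating `I_{V,ξ}`. -/
theorem supportDim_eq :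
    Module.supportDim (X.presheaf.stalk ξ) (X.presheaf.stalk ξ ⧸ IntMult.stalkIdeal IW ξ) = c := by
  letI : X.Over (Spec (CommRingCat.of K)) := ⟨f⟩
  haveI : LocallyOfFiniteType (X ↘ Spec (CommRingCat.of K)) := ‹LocallyOfFiniteType f›
  obtain ⟨a, v, w, z, ha, hv, hw, h1, h2, h3, h4⟩ :=
    IMDim.exists_dims K X IV IW n r s hn hr hs hprop ξ hξV hξW
  have hof : Ideal.ofList (List.ofFn g) = IntMult.stalkIdeal IV ξ := by
    rw [hg]
    show Ideal.span {a | a ∈ List.ofFn g} = _
    rw [setOf_mem_ofFn]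
  have hdim := ringKrullDim_add_length_eq_ringKrullDim_of_isRegular (List.ofFn g) hreg
  rw [hof, hv, ha, List.length_ofFn] at hdim
  have hvc : v + c = a := by exact_mod_cast hdim
  rw [Module.supportDim_quotient_eq_ringKrullDim, hw]
  have hle : Module.supportDim (X.presheaf.stalk ξ)
      (X.presheaf.stalk ξ ⧸ IntMult.stalkIdeal IW ξ) ≤ ((List.ofFn g).length : ℕ) := by
    apply SuppDimParams.supportDim_le_length (List.ofFn g)
    · intro x hx
      rw [Groth.Agent.Lib.Helper2.SamuelI.jacobson_eq_maximalIdeal]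
      rw [List.mem_ofFn] at hx
      obtain ⟨j, rfl⟩ := hx
      exact mem_maximalIdeal X IV ξ hξV c g hg j
    · have := isFiniteLength_quot X IV IW ξ hmax c g hg
      have hof' : Ideal.ofList (List.ofFn g) = Ideal.span (Set.range g) := by rw [hof, hg]
      rw [hof']
      exact this
  rw [Module.supportDim_quotient_eq_ringKrullDim, hw, List.length_ofFn] at hle
  have hwc : w ≤ c := by exact_mod_cast hle
  have : w = c := by omega
  rw [this]

end

end Groth.Agent.Lib.Helper7.IMSerre
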