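import Groth.Agent.Lib.Helper7.ModHartogs

/-!
# A criterion for a linear map to be bijective: stalkwise iso or depth ≥ 2 off the associated points

Pure algebra part (generic localization data at a prime).
-/

set_option autoImplicit false
set_option linter.unusedVariables false
set_option linter.style.haveILetI false

universe u

namespace Groth.Agent.Lib.Helper7.IsoDepthTwo

open Groth.Agent.Lib.Helper7.ModHartogs

section lemmaL

variable {R : Type*} [CommRing R] {M' N' : Type*} [AddCommGroup M'] [Module R M']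
  [AddCommGroup N'] [Module R N']

/-- if `I ν ⊆ g(M')` with `g` injective and `M'` has an `I`-regular sequence of length two,
then `ν` can be corrected by an element of `g(M')` to be killed by `I`. -/
theorem exists_sub_killed (I : Ideal R) (g : M' →ₗ[R] N') (hg : Function.Injective g)
    (a b : R) (ha : a ∈ I) (hb : b ∈ I) (hareg : IsSMulRegular M' a)
    (hbreg : ∀ u : M', (∃ z, b • u = a • z) → ∃ z, u = a • z)
    (ν : N') (hν : ∀ r ∈ I, ∃ μ, r • ν = g μ) :
    ∃ μ' : M', ∀ r ∈ I, r • (ν - g μ') = 0 := by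
  obtain ⟨μ₁, h1⟩ := hν a ha
  obtain ⟨μ₂, h2⟩ := hν b hb
  have h3 : b • μ₁ = a • μ₂ := by
    apply hg
    rw [map_smul, map_smul, ← h1, ← h2, smul_comm]
  obtain ⟨μ', hμ'⟩ := hbreg μ₁ ⟨μ₂, h3⟩
  refine ⟨μ', fun r hr => ?_⟩
  obtain ⟨μr, h4⟩ := hν r hr
  have h5 : μr = r • μ' := by
    apply hareg
    show a • μr = a • r • μ'
    apply hg
    rw [map_smul, ← h4, smul_comm a r μ', ← hμ', map_smul, ← h1, smul_comm]
  rw [smul_sub, h4, h5, map_smul, sub_self]

end lemmaL

section lemmaB

variable {A : Type*} [CommRing A] [IsNoetherianRing A] {M N : Type*} [AddCommGroup M] [Module A M]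
  [AddCommGroup N] [Module A N]

theorem exists_prime_of_not_bijective (f : M →ₗ[A] N) (hf : ¬ Function.Bijective f) :
    ∃ (p : Ideal A) (_ : p.IsPrime), (∃ k : M, f k = 0 ∧ ∀ r : A, r • k = 0 ↔ r ∈ p) ∨
      (Function.Injective f ∧ ∃ n : N, ∀ r : A, (∃ m, r • n = f m) ↔ r ∈ p) := by
  by_cases hinj : Function.Injective f
  · have hsurj : LinearMap.range f ≠ ⊤ := by
      intro h
      exact hf ⟨hinj, LinearMap.range_eq_top.1 h⟩
    haveI : Nontrivial (N ⧸ LinearMap.range f) := Submodule.Quotient.nontrivial_iff.2 hsurj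
    obtain ⟨p, hp⟩ := associatedPrimes.nonempty A (N ⧸ LinearMap.range f)
    obtain ⟨hpp, c, hc⟩ := isAssociatedPrime_iff.1 hp
    obtain ⟨n, rfl⟩ := Submodule.Quotient.mk_surjective _ c
    refine ⟨p, hpp, Or.inr ⟨hinj, n, fun r => ?_⟩⟩
    rw [hc, Submodule.mem_colon_singleton, Submodule.mem_bot, ← Submodule.Quotient.mk_smul,
      Submodule.Quotient.mk_eq_zero, LinearMap.mem_range]
    constructor
    · rintro ⟨m, hm⟩; exact ⟨m, hm.symm⟩
    · rintro ⟨m, hm⟩; exact ⟨m, hm.symm⟩
  · have hker : LinearMap.ker f ≠ ⊥ := fun h => hinj (LinearMap.ker_eq_bot.1 h)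
    haveI : Nontrivial (LinearMap.ker f) := Submodule.nontrivial_iff_ne_bot.2 hker
    obtain ⟨p, hp⟩ := associatedPrimes.nonempty A (LinearMap.ker f)
    obtain ⟨hpp, k, hk⟩ := isAssociatedPrime_iff.1 hp
    refine ⟨p, hpp, Or.inl ⟨(k : M), k.2, fun r => ?_⟩⟩
    rw [hk, Submodule.mem_colon_singleton, Submodule.mem_bot, ← Submodule.coe_smul,
      Submodule.coe_eq_zero]

end lemmaB

section lemmaC

variable {A : Type u} [CommRing A] (p : Ideal A) [p.IsPrime]
  {R' : Type u} [CommRing R'] [Algebra A R'] [IsLocalization.AtPrime R' p] [IsLocalRing R']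
  [IsNoetherianRing R']
  {M N : Type*} [AddCommGroup M] [Module A M] [AddCommGroup N] [Module A N]
  {M' N' : Type u} [AddCommGroup M'] [Module A M'] [Module R' M'] [IsScalarTower A R' M']
  [AddCommGroup N'] [Module A N'] [Module R' N'] [IsScalarTower A R' N']
  (gM : M →ₗ[A] M') [IsLocalizedModule p.primeCompl gM]
  (gN : N →ₗ[A] N') [IsLocalizedModule p.primeCompl gN]
  (f : M →ₗ[A] N) (φ' : M' →ₗ[R'] N') (hcomm : ∀ m, φ' (gM m) = gN (f m))
  [Module.Finite R' M']
  (h : Function.Bijective φ' ∨ ((2 : ℕ∞) ≤ LocCoh.depth R' M' ∧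
    ¬ IsAssociatedPrime (IsLocalRing.maximalIdeal R') N'))

omit [IsNoetherianRing R'] in
include p in
theorem exists_num_of_mem_maximalIdeal (r : R') (hr : r ∈ IsLocalRing.maximalIdeal R') :
    ∃ (s : p.primeCompl) (a₀ : A), a₀ ∈ p ∧ algebraMap A R' s * r = algebraMap A R' a₀ := by
  obtain ⟨⟨a₀, s⟩, hs⟩ := IsLocalization.surj p.primeCompl r
  refine ⟨s, a₀, ?_, ?_⟩
  · rw [← IsLocalization.AtPrime.to_map_mem_maximal_iff R' p a₀ inferInstance, ← hs]
    exact Ideal.mul_mem_right _ _ hr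
  · rw [mul_comm]; exact hs

omit [IsNoetherianRing R'] [IsLocalRing R'] [Module.Finite R' M'] [IsLocalization.AtPrime R' p] in
theorem map_smul_base (a : A) (μ : M') : φ' (a • μ) = a • φ' μ := by
  rw [← algebraMap_smul R' a μ, map_smul, algebraMap_smul]

include hcomm h in
theorem false_of_ker (k : M) (hk : f k = 0) (hp : ∀ r : A, r • k = 0 ↔ r ∈ p) : False := by
  have hgk : gM k ≠ 0 := by
    rw [Ne, IsLocalizedModule.eq_zero_iff p.primeCompl]
    rintro ⟨s, hs⟩
    exact s.2 ((hp s).1 hs)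
  rcases h with hbij | ⟨hdepth, -⟩
  · apply hgk
    apply hbij.1
    rw [hcomm, hk, map_zero, map_zero]
  · obtain ⟨a, ha, b, hb, hareg, hbreg⟩ :=
      exists_regular_pair (IsLocalRing.maximalIdeal R') hdepth
    obtain ⟨s, a₀, ha₀, hsa⟩ := exists_num_of_mem_maximalIdeal p a ha
    apply hgk
    apply hareg
    show a • gM k = a • 0
    rw [smul_zero]
    apply (IsLocalization.map_units R' s).smul_left_cancel.1
    rw [smul_zero, ← mul_smul, hsa, algebraMap_smul, ← map_smul, (hp a₀).2 ha₀, map_zero]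

include hcomm in
omit [IsNoetherianRing R'] [IsLocalRing R'] [Module.Finite R' M'] in
theorem not_mem_range (n : N) (hp : ∀ r : A, (∃ m, r • n = f m) ↔ r ∈ p) (μ : M') :
    gN n ≠ φ' μ := by
  intro hμ
  obtain ⟨⟨m, s⟩, hs⟩ := IsLocalizedModule.surj p.primeCompl gM μ
  have h1 : gN (s • n) = gN (f m) := by
    rw [← hcomm, ← hs, Submonoid.smul_def, Submonoid.smul_def, map_smul_base, map_smul, hμ]
  obtain ⟨t, ht⟩ := (IsLocalizedModule.eq_iff_exists p.primeCompl gN).1 h1
  have h2 : ((t * s : p.primeCompl) : A) ∈ p := by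
    apply (hp _).1
    refine ⟨(t : A) • m, ?_⟩
    rw [Submonoid.coe_mul, mul_smul, map_smul]
    exact ht
  exact (t * s).2 h2

include hcomm h in
theorem false_of_coker (hf : Function.Injective f) (n : N)
    (hp : ∀ r : A, (∃ m, r • n = f m) ↔ r ∈ p) : False := by
  rcases h with hbij | ⟨hdepth, hass⟩
  · obtain ⟨μ, hμ⟩ := hbij.2 (gN n)
    exact not_mem_range p gM gN f φ' hcomm n hp μ hμ.symm
  · obtain ⟨a, ha, b, hb, hareg, hbreg⟩ :=
      exists_regular_pair (IsLocalRing.maximalIdeal R') hdepth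
    have hinj : Function.Injective φ' := by
      rw [injective_iff_map_eq_zero]
      intro μ hμ
      obtain ⟨⟨m, s⟩, hs⟩ := IsLocalizedModule.surj p.primeCompl gM μ
      have h1 : gN (f m) = 0 := by
        rw [← hcomm, ← hs, Submonoid.smul_def, map_smul_base, hμ, smul_zero]
      obtain ⟨t, ht⟩ := (IsLocalizedModule.eq_zero_iff p.primeCompl gN).1 h1
      have h2 : t • m = 0 := by
        apply hf
        rw [map_zero, Submonoid.smul_def, map_smul]
        exact ht
      have h3 : gM m = 0 := (IsLocalizedModule.eq_zero_iff p.primeCompl gM).2 ⟨t, h2⟩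
      rw [h3, Submonoid.smul_def, ← algebraMap_smul R' (s : A) μ] at hs
      exact (IsLocalization.map_units R' s).smul_left_cancel.1 (by rw [hs, smul_zero])
    have hν : ∀ r ∈ IsLocalRing.maximalIdeal R', ∃ μ, r • gN n = φ' μ := by
      intro r hr
      obtain ⟨s, a₀, ha₀, hsa⟩ := exists_num_of_mem_maximalIdeal p r hr
      obtain ⟨m₀, hm₀⟩ := (hp a₀).2 ha₀
      obtain ⟨v, hv⟩ := IsLocalization.map_units R' s
      refine ⟨(↑v⁻¹ : R') • gM m₀, ?_⟩
      rw [map_smul, hcomm, ← hm₀, map_smul, ← algebraMap_smul R' a₀ (gN n), ← hsa, ← hv,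
        mul_smul, smul_smul, Units.inv_mul, one_smul]
    obtain ⟨μ', hμ'⟩ := exists_sub_killed (IsLocalRing.maximalIdeal R') φ' hinj a b ha hb hareg
      hbreg (gN n) hν
    have hne : gN n - φ' μ' ≠ 0 := by
      rw [Ne, sub_eq_zero]
      exact not_mem_range p gM gN f φ' hcomm n hp μ'
    apply hass
    refine ⟨inferInstance, gN n - φ' μ', ?_⟩
    have hcolon : (⊥ : Submodule R' N').colon {gN n - φ' μ'} = IsLocalRing.maximalIdeal R' := by
      apply le_antisymm
      · apply IsLocalRing.le_maximalIdeal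
        rw [Ne, Ideal.eq_top_iff_one, Submodule.mem_colon_singleton, one_smul, Submodule.mem_bot]
        exact hne
      · intro r hr
        rw [Submodule.mem_colon_singleton, Submodule.mem_bot]
        exact hμ' r hr
    rw [hcolon]
    exact (Ideal.IsPrime.radical inferInstance).symm

end lemmaC

end Groth.Agent.Lib.Helper7.IsoDepthTwo
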