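import Groth.Agent.Lib.Helper7.IsoDepthTwo
import Groth.Agent.Lib.Helper17.StalkExact
import Groth.Agent.Lib.Helper28.TensorIso

/-!
# A morphism of quasi-coherent modules `F → G` (F coherent) which at every point is either a
stalkwise isomorphism or has `depth F_x ≥ 2` with `x ∉ Ass G` is an isomorphism.
-/

set_option autoImplicit false
set_option linter.unusedVariables false
set_option linter.style.haveILetI false

universe u

namespace Groth.Agent.Lib.Helper7.IsoDepthTwo

open CategoryTheory AlgebraicGeometry Opposite TopologicalSpace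
open Groth.Agent.Lib.Helper28.QCohLoc Groth.Agent.Lib.Helper7.StalkLoc
open Groth.Agent.Lib.Helper17.StalkExact

variable {X : Scheme.{u}} [IsLocallyNoetherian X] {F G : X.Modules} (φ : F ⟶ G)
  [F.IsQuasicoherent] [SheafOfModules.IsFiniteType.{u} (R := X.ringCatSheaf) F]
  [G.IsQuasicoherent]

theorem isIso_of_stalk_bijective_or_depth
    (h : ∀ x : X, Function.Bijective (stalkLinearMap φ x) ∨
      ((2 : ℕ∞) ≤ LocCoh.depth (X.presheaf.stalk x) (F.presheaf.stalk x) ∧
        ¬ IsAssociatedPrime (IsLocalRing.maximalIdeal (X.presheaf.stalk x))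
          (G.presheaf.stalk x))) : IsIso φ := by
  apply Groth.Agent.Lib.Helper28.TensorIso.isIso_of_bijective_on_basis φ IsAffineOpen
  · intro U x hx
    obtain ⟨W, hW, hxW, hWU⟩ := exists_isAffineOpen_mem_and_subset (U := U) hx
    exact ⟨W, hW, hxW, hWU⟩
  intro W hW
  haveI : IsNoetherianRing Γ(X, W) := IsLocallyNoetherian.component_noetherian ⟨W, hW⟩
  haveI : Module.Finite Γ(X, W) Γ(F, W) :=
    Groth.Agent.Lib.Helper28.FinType.finite_of_isAffineOpen F hW
  let f : Γ(F, W) →ₗ[Γ(X, W)] Γ(G, W) :=
    { toFun := φ.app W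
      map_add' := fun a b => map_add _ a b
      map_smul' := fun r m => Scheme.Modules.Hom.app_smul φ r m }
  show Function.Bijective f
  by_contra hf
  obtain ⟨p, hpp, hcase⟩ := exists_prime_of_not_bijective f hf
  let P : PrimeSpectrum Γ(X, W) := ⟨p, hpp⟩
  have hxW : hW.fromSpec P ∈ W := by
    have : hW.fromSpec P ∈ Set.range hW.fromSpec := ⟨P, rfl⟩
    rw [hW.range_fromSpec] at this
    exact this
  have hPP : hW.primeIdealOf ⟨hW.fromSpec P, hxW⟩ = P := by
    apply hW.fromSpec.isOpenEmbedding.injective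
    exact hW.fromSpec_primeIdealOf ⟨hW.fromSpec P, hxW⟩
  generalize hx : hW.fromSpec P = x at hxW hPP
  letI algA : Algebra Γ(X, W) (X.presheaf.stalk x) := X.presheaf.algebra_section_stalk ⟨x, hxW⟩
  haveI hlocR : IsLocalization.AtPrime (X.presheaf.stalk x) p := by
    have := hW.isLocalization_stalk ⟨x, hxW⟩
    rw [hPP] at this
    exact this
  letI modF : Module Γ(X, W) (F.presheaf.stalk x) := stalkModule F x hxW
  letI modG : Module Γ(X, W) (G.presheaf.stalk x) := stalkModule G x hxW
  haveI stF : IsScalarTower Γ(X, W) (X.presheaf.stalk x) (F.presheaf.stalk x) :=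
    ⟨fun a r t => mul_smul _ _ _⟩
  haveI stG : IsScalarTower Γ(X, W) (X.presheaf.stalk x) (G.presheaf.stalk x) :=
    ⟨fun a r t => mul_smul _ _ _⟩
  haveI locF : IsLocalizedModule p.primeCompl (gmLin F x hxW) := by
    have := isLocalizedModule_gmLin F hW (isLocOn_of_isQuasicoherent F hW) x hxW
    rw [hPP] at this
    exact this
  haveI locG : IsLocalizedModule p.primeCompl (gmLin G x hxW) := by
    have := isLocalizedModule_gmLin G hW (isLocOn_of_isQuasicoherent G hW) x hxW
    rw [hPP] at this
    exact this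
  haveI : Module.Finite (X.presheaf.stalk x) (F.presheaf.stalk x) :=
    Module.Finite.of_isLocalizedModule p.primeCompl (gmLin F x hxW)
  have hcomm : ∀ m, stalkLinearMap φ x (gmLin F x hxW m) = gmLin G x hxW (f m) :=
    fun m => stalkHom_germ φ x W hxW m
  rcases hcase with ⟨k, hk, hp⟩ | ⟨hinj, n, hp⟩
  · exact false_of_ker p (gmLin F x hxW) (gmLin G x hxW) f (stalkLinearMap φ x) hcomm (h x) k hk hp
  · exact false_of_coker p (gmLin F x hxW) (gmLin G x hxW) f (stalkLinearMap φ x) hcomm (h x)
      hinj n hp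

end Groth.Agent.Lib.Helper7.IsoDepthTwo
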