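import Mathlib
import Groth.Prelude.Def_EGA4b

set_option autoImplicit false
set_option linter.style.haveILetI false
universe u

namespace Groth.Agent.Lib.Helper7.J2Scheme
open AlgebraicGeometry CategoryTheory TopologicalSpace

/-- regular stalk ↔ regular localization on an affine open -/
theorem regular_stalk_iff {Y : Scheme.{u}} {V : Y.Opens} (hV : IsAffineOpen V) (y : Y)
    (hy : y ∈ V) :
    IsRegularLocalRing (Y.presheaf.stalk y) ↔
      IsRegularLocalRing (Localization.AtPrime (hV.primeIdealOf ⟨y, hy⟩).asIdeal) := by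
  letI : Algebra Γ(Y, V) (Y.presheaf.stalk y) :=
    TopCat.Presheaf.algebra_section_stalk Y.presheaf (⟨y, hy⟩ : V)
  haveI : IsLocalization.AtPrime (Y.presheaf.stalk y) (hV.primeIdealOf ⟨y, hy⟩).asIdeal :=
    hV.isLocalization_stalk ⟨y, hy⟩
  let e : Localization.AtPrime (hV.primeIdealOf ⟨y, hy⟩).asIdeal ≃ₐ[Γ(Y, V)]
      Y.presheaf.stalk y :=
    IsLocalization.algEquiv (hV.primeIdealOf ⟨y, hy⟩).asIdeal.primeCompl _ _
  exact ⟨fun h => IsRegularLocalRing.of_ringEquiv e.symm.toRingEquiv,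
    fun h => IsRegularLocalRing.of_ringEquiv e.toRingEquiv⟩

theorem regLocus_congr {R : Type u} [CommRing R] {p q : PrimeSpectrum R} (h : p = q) :
    p ∈ EGA4.regLocus R ↔ q ∈ EGA4.regLocus R := by
  subst h
  exact Iff.rfl

/-- the regular locus of a scheme inside an affine open -/
theorem regular_inter_affine {Y : Scheme.{u}} {V : Y.Opens} (hV : IsAffineOpen V) :
    {y : Y | IsRegularLocalRing (Y.presheaf.stalk y)} ∩ (V : Set Y) =
      (fun q => hV.fromSpec q) '' EGA4.regLocus Γ(Y, V) := by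
  ext y
  constructor
  · rintro ⟨hy1, hy2⟩
    refine ⟨hV.primeIdealOf ⟨y, hy2⟩, ?_, hV.fromSpec_primeIdealOf ⟨y, hy2⟩⟩
    exact (regular_stalk_iff hV y hy2).mp hy1
  · rintro ⟨q, hq, rfl⟩
    have hz : hV.fromSpec q ∈ V := by
      have := hV.range_fromSpec
      rw [← SetLike.mem_coe, ← this]
      exact ⟨q, rfl⟩
    refine ⟨?_, hz⟩
    rw [Set.mem_setOf_eq, regular_stalk_iff hV _ hz]
    have e : hV.primeIdealOf ⟨hV.fromSpec q, hz⟩ = q :=
      hV.fromSpec.isOpenEmbedding.injective (hV.fromSpec_primeIdealOf ⟨hV.fromSpec q, hz⟩)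
    exact (regLocus_congr e).mpr hq

theorem isOpen_regular_inter_affine_iff {Y : Scheme.{u}} {V : Y.Opens} (hV : IsAffineOpen V) :
    IsOpen ({y : Y | IsRegularLocalRing (Y.presheaf.stalk y)} ∩ (V : Set Y)) ↔
      IsOpen (EGA4.regLocus Γ(Y, V)) := by
  rw [regular_inter_affine hV]
  exact hV.fromSpec.isOpenEmbedding.isOpen_iff_image_isOpen.symm

/-- the regular locus of `Spec S` as a scheme is the regular locus of the ring -/
theorem regular_Spec_eq (S : Type u) [CommRing S] :
    {y : Spec (CommRingCat.of S) | IsRegularLocalRing ((Spec (CommRingCat.of S)).presheaf.stalk y)} =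
      EGA4.regLocus S := by
  ext p
  haveI hp : (PrimeSpectrum.asIdeal p).IsPrime := PrimeSpectrum.isPrime p
  constructor
  · intro h
    haveI : IsRegularLocalRing ((Spec (CommRingCat.of S)).presheaf.stalk p) := h
    exact IsRegularLocalRing.of_ringEquiv
      (Spec.stalkIso (CommRingCat.of S) p).commRingCatIsoToRingEquiv
  · intro h
    haveI : IsRegularLocalRing (Localization.AtPrime (PrimeSpectrum.asIdeal p)) := h
    exact IsRegularLocalRing.of_ringEquiv
      (Spec.stalkIso (CommRingCat.of S) p).commRingCatIsoToRingEquiv.symm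

/-- J-2 schemes: the three descriptions -/
theorem j2_main (X : Scheme.{u}) :
    ((∀ (Y : Scheme.{u}) (g : Y ⟶ X), LocallyOfFiniteType g →
        IsOpen {y : Y | IsRegularLocalRing (Y.presheaf.stalk y)}) →
      ∀ U : X.affineOpens, EGA4.IsJ2 Γ(X, U)) ∧
    ((∀ x : X, ∃ U : X.affineOpens, x ∈ (U : X.Opens) ∧ EGA4.IsJ2 Γ(X, U)) →
      (∀ (Y : Scheme.{u}) (g : Y ⟶ X), LocallyOfFiniteType g →
        IsOpen {y : Y | IsRegularLocalRing (Y.presheaf.stalk y)})) := by
  constructor
  · intro h U S _ _ hS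
    let φ : Γ(X, U) ⟶ CommRingCat.of S := CommRingCat.ofHom (algebraMap Γ(X, U) S)
    let g : Spec (CommRingCat.of S) ⟶ X := Spec.map φ ≫ U.2.fromSpec
    haveI : LocallyOfFiniteType (Spec.map φ) := by
      rw [HasRingHomProperty.Spec_iff (P := @LocallyOfFiniteType)]
      exact (RingHom.finiteType_algebraMap (A := Γ(X, U)) (B := S)).mpr hS
    haveI : IsOpenImmersion U.2.fromSpec := U.2.isOpenImmersion_fromSpec
    haveI : LocallyOfFiniteType U.2.fromSpec := inferInstance
    have h1 := h (Spec (CommRingCat.of S)) g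
      (show LocallyOfFiniteType (Spec.map φ ≫ U.2.fromSpec) from inferInstance)
    rw [regular_Spec_eq] at h1
    exact h1
  · intro h Y g hg
    have hcover : ∀ y : Y, ∃ V : Y.Opens, y ∈ V ∧
        IsOpen ({y : Y | IsRegularLocalRing (Y.presheaf.stalk y)} ∩ (V : Set Y)) := by
      intro y
      obtain ⟨U, hyU, hJ⟩ := h (g y)
      obtain ⟨V, hV, hyV, hVU⟩ := exists_isAffineOpen_mem_and_subset (x := y) (U := g ⁻¹ᵁ U.1) hyU
      refine ⟨V, hyV, ?_⟩
      rw [isOpen_regular_inter_affine_iff hV]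
      letI : Algebra Γ(X, U) Γ(Y, V) := (g.appLE U.1 V hVU).hom.toAlgebra
      have hft : RingHom.FiniteType (g.appLE U.1 V hVU).hom :=
        HasRingHomProperty.appLE (P := @LocallyOfFiniteType) g hg U ⟨V, hV⟩ hVU
      exact hJ Γ(Y, V) ((RingHom.finiteType_algebraMap (A := Γ(X, U)) (B := Γ(Y, V))).mp hft)
    choose V hyV hV using hcover
    have hT : {y : Y | IsRegularLocalRing (Y.presheaf.stalk y)} =
        ⋃ y : Y, ({y : Y | IsRegularLocalRing (Y.presheaf.stalk y)} ∩ (V y : Set Y)) := by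
      ext z
      simp only [Set.mem_setOf_eq, Set.mem_iUnion, Set.mem_inter_iff, SetLike.mem_coe]
      constructor
      · intro hz
        exact ⟨z, hz, hyV z⟩
      · rintro ⟨y, hz, -⟩
        exact hz
    rw [hT]
    exact isOpen_iUnion hV

end Groth.Agent.Lib.Helper7.J2Scheme
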