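import Mathlib
import Groth.Agent.Lib.Helper5.RegKaehlerGlobal

set_option autoImplicit false
set_option linter.style.haveILetI false
universe u

namespace Groth.Agent.Lib.Helper7.KaehlerGens
open TensorProduct IsLocalRing KaehlerDifferential

section General
variable {R : Type u} [CommRing R] (M : Type u) [AddCommGroup M] [Module R M] [Module.Finite R M]

/-- the fibre rank of a finite module at a prime is at most its fibre rank at a maximal ideal
containing it -/
theorem finrank_fiber_le_of_le (q n : Ideal R) [hq : q.IsPrime] [hn : n.IsMaximal] (hqn : q ≤ n) :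
    Module.finrank q.ResidueField (q.ResidueField ⊗[R] M) ≤
      Module.finrank n.ResidueField (n.ResidueField ⊗[R] M) := by
  classical
  set r := Module.finrank n.ResidueField (n.ResidueField ⊗[R] M) with hr
  let b : Module.Basis (Fin r) n.ResidueField (n.ResidueField ⊗[R] M) := Module.finBasis _ _
  have hsurj : Function.Surjective (TensorProduct.mk R n.ResidueField M 1) :=
    TensorProduct.mk_surjective R M n.ResidueField (Ideal.algebraMap_residueField_surjective n)
  choose m hm using fun i => hsurj (b i)
  let N : Submodule R M := Submodule.span R (Set.range m)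
  have hmN : ∀ i, N.mkQ (m i) = 0 := fun i => by
    rw [Submodule.mkQ_apply, Submodule.Quotient.mk_eq_zero]
    exact Submodule.subset_span ⟨i, rfl⟩
  -- κ(n) ⊗ (M/N) = 0
  have h1 : Subsingleton (n.ResidueField ⊗[R] (M ⧸ N)) := by
    let φ : n.ResidueField ⊗[R] M →ₗ[n.ResidueField] n.ResidueField ⊗[R] (M ⧸ N) :=
      TensorProduct.AlgebraTensorModule.lTensor n.ResidueField n.ResidueField N.mkQ
    have hφs : Function.Surjective φ := by
      have := LinearMap.lTensor_surjective n.ResidueField N.mkQ_surjective
      exact this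
    have hφ0 : φ = 0 := b.ext (fun i => by
      rw [← hm i]
      change (1 : n.ResidueField) ⊗ₜ[R] N.mkQ (m i) = 0
      rw [hmN i, TensorProduct.tmul_zero])
    refine ⟨fun x y => ?_⟩
    obtain ⟨x', rfl⟩ := hφs x
    obtain ⟨y', rfl⟩ := hφs y
    rw [hφ0]; rfl
  have h2 : (⟨n, hn.isPrime⟩ : PrimeSpectrum R) ∉ Module.support R (M ⧸ N) := by
    rw [Module.mem_support_iff_nontrivial_residueField_tensorProduct]
    exact not_nontrivial _
  have h3 : (⟨q, hq⟩ : PrimeSpectrum R) ∉ Module.support R (M ⧸ N) := fun h =>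
    h2 (Module.mem_support_mono (p := ⟨q, hq⟩) (q := ⟨n, hn.isPrime⟩) hqn h)
  have h4 : Subsingleton (q.ResidueField ⊗[R] (M ⧸ N)) := by
    rw [Module.mem_support_iff_nontrivial_residueField_tensorProduct] at h3
    exact not_nontrivial_iff_subsingleton.mp h3
  have hspan : Submodule.span q.ResidueField
      (Set.range fun i => (1 : q.ResidueField) ⊗ₜ[R] m i) = ⊤ := by
    have key2 : ∀ (c : q.ResidueField) (n' : M), n' ∈ N → c ⊗ₜ[R] n' ∈
        Submodule.span q.ResidueField (Set.range fun i => (1 : q.ResidueField) ⊗ₜ[R] m i) := by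
      intro c n' hn'
      induction hn' using Submodule.span_induction with
      | mem z hz =>
        obtain ⟨i, rfl⟩ := hz
        have : c ⊗ₜ[R] m i = c • ((1 : q.ResidueField) ⊗ₜ[R] m i) := by
          rw [TensorProduct.smul_tmul', smul_eq_mul, mul_one]
        rw [this]
        exact Submodule.smul_mem _ _ (Submodule.subset_span ⟨i, rfl⟩)
      | zero => simp
      | add y z _ _ hy hz => rw [TensorProduct.tmul_add]; exact Submodule.add_mem _ hy hz
      | smul a y _ hy =>
        rw [TensorProduct.tmul_smul]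
        have : a • (c ⊗ₜ[R] y) = (algebraMap R q.ResidueField a) • (c ⊗ₜ[R] y) := by
          rw [algebraMap_smul]
        rw [this]
        exact Submodule.smul_mem _ _ hy
    have key : ∀ y : q.ResidueField ⊗[R] N, (LinearMap.lTensor q.ResidueField N.subtype) y ∈
        Submodule.span q.ResidueField (Set.range fun i => (1 : q.ResidueField) ⊗ₜ[R] m i) := by
      intro y
      induction y using TensorProduct.induction_on with
      | zero => simp
      | add y z hy hz => rw [map_add]; exact Submodule.add_mem _ hy hz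
      | tmul c n' =>
        rw [LinearMap.lTensor_tmul]
        exact key2 c n'.1 n'.2
    rw [eq_top_iff]
    intro x _
    have hex := lTensor_exact q.ResidueField (LinearMap.exact_subtype_mkQ N) N.mkQ_surjective
    have hx0 : (LinearMap.lTensor q.ResidueField N.mkQ) x = 0 := Subsingleton.elim _ _
    obtain ⟨y, rfl⟩ := (hex x).mp hx0
    exact key y
  have := finrank_le_of_span_eq_top (R := q.ResidueField) hspan
  simpa using this

/-- Nakayama: the localization of a finite module at a prime is generated by as many elements as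
its fibre rank -/
theorem exists_finset_span_localizedModule (p : Ideal R) [p.IsPrime] (n : ℕ)
    (h : Module.finrank p.ResidueField (p.ResidueField ⊗[R] M) ≤ n) :
    ∃ s : Finset (LocalizedModule p.primeCompl M), s.card ≤ n ∧
      Submodule.span (Localization.AtPrime p) (s : Set (LocalizedModule p.primeCompl M)) = ⊤ := by
  classical
  let Rp := Localization.AtPrime p
  let Mp := LocalizedModule p.primeCompl M
  let k := p.ResidueField
  let e1 : k ⊗[Rp] Mp ≃ₗ[k] k ⊗[Rp] (Rp ⊗[R] M) :=
    TensorProduct.AlgebraTensorModule.congr (LinearEquiv.refl k k)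
      (LocalizedModule.equivTensorProduct p.primeCompl M)
  let e2 : k ⊗[Rp] (Rp ⊗[R] M) ≃ₗ[k] k ⊗[R] M :=
    TensorProduct.AlgebraTensorModule.cancelBaseChange R Rp k k M
  have hr : Module.finrank k (k ⊗[Rp] Mp) ≤ n := by
    rw [(e1.trans e2).finrank_eq]; exact h
  set r := Module.finrank k (k ⊗[Rp] Mp) with hr'
  let b : Module.Basis (Fin r) k (k ⊗[Rp] Mp) := Module.finBasis _ _
  have hsurj : Function.Surjective (TensorProduct.mk Rp k Mp 1) :=
    TensorProduct.mk_surjective Rp Mp k IsLocalRing.residue_surjective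
  choose f hf using fun i => hsurj (b i)
  have hspan : Submodule.span Rp (Set.range f) = ⊤ :=
    IsLocalRing.span_eq_top_of_tmul_eq_basis f b hf
  refine ⟨Finset.univ.image f, ?_, ?_⟩
  · exact (Finset.card_image_le).trans (by simpa using hr)
  · rw [Finset.coe_image, Finset.coe_univ, Set.image_univ]
    exact hspan

end General

section Fdim

variable (R : Type u) [CommRing R] (M : Type u) [AddCommGroup M] [Module R M]
  (R₁ : Type u) [CommRing R₁] [Algebra R R₁]
  (p : Ideal R) [p.IsPrime] (p₁ : Ideal R₁) [p₁.IsPrime] [p₁.LiesOver p]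

/-- fibre rank is invariant under base change (module version of helper19's lemma) -/
theorem finrank_fiber_baseChange :
    Module.finrank p₁.ResidueField (p₁.ResidueField ⊗[R₁] (R₁ ⊗[R] M)) =
      Module.finrank p.ResidueField (p.ResidueField ⊗[R] M) := by
  letI : Algebra p.ResidueField p₁.ResidueField :=
    (Ideal.ResidueField.map p p₁ (algebraMap R R₁) (p₁.over_def p)).toAlgebra
  haveI : IsScalarTower R p.ResidueField p₁.ResidueField := .of_algebraMap_eq fun r => by
    rw [RingHom.algebraMap_toAlgebra, Ideal.ResidueField.map_algebraMap,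
      ← IsScalarTower.algebraMap_apply]
  let e1 : p₁.ResidueField ⊗[R₁] (R₁ ⊗[R] M) ≃ₗ[p₁.ResidueField] p₁.ResidueField ⊗[R] M :=
    TensorProduct.AlgebraTensorModule.cancelBaseChange R R₁ p₁.ResidueField p₁.ResidueField M
  let e2 : p₁.ResidueField ⊗[p.ResidueField] (p.ResidueField ⊗[R] M) ≃ₗ[p₁.ResidueField]
      p₁.ResidueField ⊗[R] M :=
    TensorProduct.AlgebraTensorModule.cancelBaseChange R p.ResidueField p₁.ResidueField
      p₁.ResidueField M
  rw [e1.finrank_eq, ← e2.finrank_eq, Module.finrank_baseChange]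

end Fdim

section Main

attribute [local instance] Algebra.TensorProduct.rightAlgebra

variable {K : Type u} [Field K] {A : Type u} [CommRing A] [Algebra K A] [Algebra.FiniteType K A]

theorem finrank_fiber_kaehler_le
    [IsDomain (TensorProduct K (AlgebraicClosure K) A)]
    (hhyp : ∀ (q : Ideal (TensorProduct K (AlgebraicClosure K) A)) [q.IsPrime],
      (Module.finrank (IsLocalRing.ResidueField (Localization.AtPrime q))
          (IsLocalRing.CotangentSpace (Localization.AtPrime q)) : ℕ∞) ≤ q.height + 1)
    (d : ℕ) (hd : ringKrullDim A = d) (p : Ideal A) [p.IsPrime] :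
    Module.finrank p.ResidueField (p.ResidueField ⊗[A] Ω[A⁄K]) ≤ d + 1 := by
  let Kb := AlgebraicClosure K
  let Ab := TensorProduct K Kb A
  haveI : Algebra.IsIntegral A Ab := ⟨fun x => by
    induction x using TensorProduct.induction_on with
    | zero => exact isIntegral_zero
    | add x y hx hy => exact hx.add hy
    | tmul k a =>
      have h1 : IsIntegral K k := Algebra.IsIntegral.isIntegral k
      have h2 : IsIntegral K ((Algebra.TensorProduct.includeLeft : Kb →ₐ[K] Ab) k) := h1.map _
      have h3 : IsIntegral A (k ⊗ₜ[K] (1 : A) : Ab) := h2.tower_top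
      have h4 : (k ⊗ₜ[K] a : Ab) = (k ⊗ₜ[K] (1 : A)) * algebraMap A Ab a := by
        change _ = (k ⊗ₜ[K] (1 : A)) * ((1 : Kb) ⊗ₜ[K] a)
        rw [Algebra.TensorProduct.tmul_mul_tmul, mul_one, one_mul]
      rw [h4]
      exact h3.mul isIntegral_algebraMap⟩
  have hinj : Function.Injective (algebraMap A Ab) :=
    Algebra.TensorProduct.includeRight_injective (algebraMap K Kb).injective
  obtain ⟨m, hm, hpm⟩ := Ideal.exists_le_maximal p (Ideal.IsPrime.ne_top inferInstance)
  haveI := hm
  have hker : RingHom.ker (algebraMap A Ab) ≤ m := by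
    rw [(RingHom.injective_iff_ker_eq_bot _).mp hinj]; exact bot_le
  obtain ⟨n, hn, hnm⟩ := Ideal.exists_ideal_over_maximal_of_isIntegral m hker
  haveI := hn
  haveI : n.LiesOver m := ⟨hnm.symm⟩
  -- bound at n
  have hres := Groth.Agent.Lib.Helper5.RegKaehlerGlobal.bijective_algebraMap_residueField Kb Ab n
  have h1 : Module.finrank n.ResidueField (n.ResidueField ⊗[Ab] Ω[Ab⁄Kb]) ≤ d + 1 := by
    rw [Groth.Agent.Lib.Helper5.RegKaehlerGlobal.finrank_fiber_eq Kb Ab n,
      Groth.Agent.Lib.Helper5.RegKaehler.finrank_tensor_eq Kb (Localization.AtPrime n) hres]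
    have h2 := hhyp n
    have h3 : (n.height : WithBot ℕ∞) ≤ ringKrullDim Ab :=
      Ideal.height_le_ringKrullDim_of_ne_top hn.ne_top
    have h4 : ringKrullDim Ab ≤ ringKrullDim A :=
      Order.krullDim_le_of_strictMono (PrimeSpectrum.comap (algebraMap A Ab))
        (fun _ _ hab => Ideal.IsIntegral.comap_lt_comap hab)
    have h5 : n.height ≤ (d : ℕ∞) := by
      have := h3.trans (h4.trans hd.le)
      exact_mod_cast this
    have h6 : (Module.finrank (IsLocalRing.ResidueField (Localization.AtPrime n))
          (IsLocalRing.CotangentSpace (Localization.AtPrime n)) : ℕ∞) ≤ ((d + 1 : ℕ) : ℕ∞) := by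
      refine h2.trans ?_
      push_cast
      gcongr
    exact_mod_cast h6
  -- descent to m
  have h7 : Module.finrank m.ResidueField (m.ResidueField ⊗[A] Ω[A⁄K]) ≤ d + 1 := by
    rw [← finrank_fiber_baseChange A (Ω[A⁄K]) Ab m n]
    let e : Ab ⊗[A] Ω[A⁄K] ≃ₗ[Ab] Ω[Ab⁄Kb] := KaehlerDifferential.tensorKaehlerEquiv K Kb A Ab
    let e' : n.ResidueField ⊗[Ab] (Ab ⊗[A] Ω[A⁄K]) ≃ₗ[n.ResidueField]
        n.ResidueField ⊗[Ab] Ω[Ab⁄Kb] :=
      TensorProduct.AlgebraTensorModule.congr (LinearEquiv.refl _ _) e
    rw [e'.finrank_eq]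
    exact h1
  haveI : Module.Finite A (Ω[A⁄K]) := inferInstance
  exact (finrank_fiber_le_of_le (Ω[A⁄K]) p m hpm).trans h7

end Main

end Groth.Agent.Lib.Helper7.KaehlerGens
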