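import Groth.Agent.Lib.Helper2.KosChi5

/-!
# The Koszul Euler characteristic of a regular sequence is the length of the quotient
-/

set_option autoImplicit false
set_option linter.unusedVariables false
set_option linter.style.haveILetI false

universe u

namespace Groth.Agent.Lib.Helper7.KosReg

open Groth.Agent.Lib.Helper2.KosChi2 Groth.Agent.Lib.Helper2.KosChi5

open Pointwise

attribute [local instance] HasDerivedCategory.standard

variable {A : Type u} [CommRing A] [IsNoetherianRing A] [IsLocalRing A]

theorem range_lsmul_eq (M : Type u) [AddCommGroup M] [Module A M] (x : A) :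
    LinearMap.range (LinearMap.lsmul A M x) = x • (⊤ : Submodule A M) := by
  ext m
  rw [LinearMap.mem_range, Submodule.mem_smul_pointwise_iff_exists]
  constructor
  · rintro ⟨y, rfl⟩
    exact ⟨y, Submodule.mem_top, rfl⟩
  · rintro ⟨y, -, rfl⟩
    exact ⟨y, rfl⟩

/-- If `l` is a weakly regular sequence on `M` and `M/(l)M` has finite length, the Koszul Euler
characteristic of `l` on `M` is the length of `M/(l)M`. -/
theorem chiK_of_isWeaklyRegular :
    ∀ (l : List A) (M : Type u) [AddCommGroup M] [Module A M],
      RingTheory.Sequence.IsWeaklyRegular M l →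
      Module.length A (M ⧸ (Ideal.ofList l • ⊤ : Submodule A M)) ≠ ⊤ →
      KNice l M ∧ chiK l M =
        ((Module.length A (M ⧸ (Ideal.ofList l • ⊤ : Submodule A M))).toNat : ℤ) := by
  intro l
  induction l with
  | nil =>
    intro M _ _ hreg hlen
    have hbot : (Ideal.ofList ([] : List A) • ⊤ : Submodule A M) = ⊥ := by simp
    let e : (M ⧸ (Ideal.ofList ([] : List A) • ⊤ : Submodule A M)) ≃ₗ[A] M :=
      Submodule.quotEquivOfEqBot _ hbot
    have hM : Module.length A M ≠ ⊤ := by rw [← e.length_eq]; exact hlen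
    exact ⟨kNice_nil hM, by rw [chiK_nil, e.length_eq]⟩
  | cons x l ih =>
    intro M _ _ hreg hlen
    obtain ⟨hx, hl⟩ := (RingTheory.Sequence.isWeaklyRegular_cons_iff M x l).1 hreg
    let e := Submodule.quotOfListConsSMulTopEquivQuotSMulTopInner M x l
    have ih' := ih (QuotSMulTop x M) hl (by rw [← e.length_eq]; exact hlen)
    haveI : Subsingleton (LinearMap.ker (LinearMap.lsmul A M x)) := by
      have : LinearMap.ker (LinearMap.lsmul A M x) = ⊥ := LinearMap.ker_eq_bot.2 hx
      rw [this]
      infer_instance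
    obtain ⟨k1, k2⟩ := chiK_of_subsingleton l (LinearMap.ker (LinearMap.lsmul A M x))
    let e2 : (M ⧸ LinearMap.range (LinearMap.lsmul A M x)) ≃ₗ[A] QuotSMulTop x M :=
      Submodule.quotEquivOfEq _ _ (range_lsmul_eq M x)
    have n2 : KNice l (M ⧸ LinearMap.range (LinearMap.lsmul A M x)) :=
      KNice.congr l e2.symm ih'.1
    obtain ⟨c1, c2⟩ := chiK_cons x l M k1 n2
    refine ⟨c1, ?_⟩
    rw [c2, k2, sub_zero, chiK_congr l e2, ih'.2, e.length_eq]

end Groth.Agent.Lib.Helper7.KosReg
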