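import Mathlib

/-!
# Index computations in `ℤⁿ` for diagonal maps and the sum map (helper7)
-/

set_option autoImplicit false

namespace Groth.Agent.Lib.Helper7.LatticeIndex

open Finset

variable {n : ℕ}

/-- the sum-of-coordinates map -/
noncomputable abbrev S (n : ℕ) : (Fin n → ℤ) →ₗ[ℤ] ℤ :=
  ∑ i : Fin n, (LinearMap.proj i : (Fin n → ℤ) →ₗ[ℤ] ℤ)

/-- the diagonal map -/
noncomputable abbrev D (δ : Fin n → ℤ) : (Fin n → ℤ) →ₗ[ℤ] (Fin n → ℤ) :=
  Matrix.mulVecLin (Matrix.diagonal δ)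

lemma S_apply (x : Fin n → ℤ) : S n x = ∑ i, x i := by
  simp [S, LinearMap.sum_apply]

lemma D_apply (δ x : Fin n → ℤ) (i : Fin n) : D δ x i = δ i * x i := by
  simp [D, Matrix.mulVec_diagonal]

lemma D_injective (δ : Fin n → ℤ) (hδ : ∀ i, δ i ≠ 0) : Function.Injective (D δ) := by
  intro x y hxy
  funext i
  have := congrFun hxy i
  rw [D_apply, D_apply] at this
  exact mul_left_cancel₀ (hδ i) this

lemma S_surjective (hn : 0 < n) : Function.Surjective (S n) := by
  intro k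
  refine ⟨Pi.single ⟨0, hn⟩ k, ?_⟩
  rw [S_apply, Finset.sum_pi_single']
  simp

/-- the quotient of a submodule by a comap'd submodule has the cardinality of the relative index -/
lemma card_quot_eq_relIndex {M : Type*} [AddCommGroup M] (P N : Submodule ℤ M) :
    Nat.card (P ⧸ N.comap P.subtype) = N.toAddSubgroup.relIndex P.toAddSubgroup := rfl

lemma index_range_D (δ : Fin n → ℤ) (hδ : ∀ i, δ i ≠ 0) :
    (LinearMap.range (D δ)).toAddSubgroup.index = (∏ i, δ i).natAbs := by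
  have h := Submodule.natAbs_det_equiv (LinearMap.range (D δ))
    (LinearEquiv.ofInjective (D δ) (D_injective δ hδ)).toAddEquiv
  have h2 : (LinearMap.range (D δ)).subtype ∘ₗ
      AddMonoidHom.toIntLinearMap
        ((LinearEquiv.ofInjective (D δ) (D_injective δ hδ)).toAddEquiv :
          (Fin n → ℤ) →+ LinearMap.range (D δ)) = D δ := by
    ext x i
    simp
  rw [h2] at h
  have h3 : LinearMap.det (D δ) = ∏ i, δ i := by
    change LinearMap.det (Matrix.toLin' (Matrix.diagonal δ)) = _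
    rw [LinearMap.det_toLin', Matrix.det_diagonal]
  rw [h3] at h
  rw [h]
  rfl

lemma map_S_range_D (δ : Fin n → ℤ) :
    (LinearMap.range (D δ)).toAddSubgroup.map (S n).toAddMonoidHom =
      AddSubgroup.zmultiples (univ.gcd δ) := by
  ext k
  simp only [AddSubgroup.mem_map, Submodule.mem_toAddSubgroup, LinearMap.mem_range,
    LinearMap.toAddMonoidHom_coe, Int.mem_zmultiples_iff]
  constructor
  · rintro ⟨_, ⟨y, rfl⟩, rfl⟩
    rw [S_apply]
    refine Finset.dvd_sum fun i _ => ?_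
    rw [D_apply]
    exact Dvd.dvd.mul_right (Finset.gcd_dvd (mem_univ i)) _
  · rintro ⟨c, rfl⟩
    obtain ⟨g, hg⟩ := Finset.gcd_eq_sum_mul univ δ
    refine ⟨D δ (c • g), ⟨_, rfl⟩, ?_⟩
    rw [S_apply, hg, Finset.sum_mul]
    refine Finset.sum_congr rfl fun i _ => ?_
    rw [D_apply]
    simp only [Pi.smul_apply, smul_eq_mul]
    ring

lemma index_ker_S_sup_range_D (hn : 0 < n) (δ : Fin n → ℤ) :
    ((LinearMap.ker (S n)).toAddSubgroup ⊔ (LinearMap.range (D δ)).toAddSubgroup).index =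
      (univ.gcd δ).natAbs := by
  have h1 : ((LinearMap.range (D δ)).toAddSubgroup.map (S n).toAddMonoidHom).comap
      (S n).toAddMonoidHom =
      (LinearMap.ker (S n)).toAddSubgroup ⊔ (LinearMap.range (D δ)).toAddSubgroup := by
    rw [AddSubgroup.comap_map_eq, sup_comm]
    rfl
  rw [← h1, AddSubgroup.index_comap_of_surjective _ (S_surjective hn), map_S_range_D,
    Int.index_zmultiples]

/-- The main index identity: `[ker(SD) : im A] * |∏ δ| = gcd δ * [ker S : im (D A)]`. -/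
theorem card_mul_eq (hn : 0 < n) (δ : Fin n → ℤ) (hδ : ∀ i, δ i ≠ 0)
    (A : (Fin n → ℤ) →ₗ[ℤ] (Fin n → ℤ)) (hSDA : S n ∘ₗ D δ ∘ₗ A = 0) :
    (Nat.card (LinearMap.ker (S n ∘ₗ D δ) ⧸
        (LinearMap.range A).comap (LinearMap.ker (S n ∘ₗ D δ)).subtype) : ℤ) * |∏ i, δ i| =
      (univ.gcd δ) * Nat.card (LinearMap.ker (S n) ⧸
        (LinearMap.range (D δ ∘ₗ A)).comap (LinearMap.ker (S n)).subtype) := by
  rw [card_quot_eq_relIndex, card_quot_eq_relIndex]
  set P := (LinearMap.ker (S n ∘ₗ D δ)).toAddSubgroup with hP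
  set Q := (LinearMap.ker (S n)).toAddSubgroup with hQ
  set RA := (LinearMap.range A).toAddSubgroup with hRA
  set RD := (LinearMap.range (D δ)).toAddSubgroup with hRD
  set RDA := (LinearMap.range (D δ ∘ₗ A)).toAddSubgroup with hRDA
  have hDinj : Function.Injective (D δ).toAddMonoidHom := D_injective δ hδ
  have ha : P.map (D δ).toAddMonoidHom = Q ⊓ RD := by
    ext x
    simp only [hP, hQ, hRD, AddSubgroup.mem_map, Submodule.mem_toAddSubgroup, LinearMap.mem_ker,
      LinearMap.comp_apply, LinearMap.toAddMonoidHom_coe, AddSubgroup.mem_inf, LinearMap.mem_range]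
    constructor
    · rintro ⟨y, hy, rfl⟩; exact ⟨hy, y, rfl⟩
    · rintro ⟨hx, y, rfl⟩; exact ⟨y, hx, rfl⟩
  have hb : RA.map (D δ).toAddMonoidHom = RDA := by
    ext x
    simp only [hRA, hRDA, AddSubgroup.mem_map, Submodule.mem_toAddSubgroup, LinearMap.mem_range,
      LinearMap.comp_apply, LinearMap.toAddMonoidHom_coe]
    constructor
    · rintro ⟨_, ⟨y, rfl⟩, rfl⟩; exact ⟨y, rfl⟩
    · rintro ⟨y, rfl⟩; exact ⟨_, ⟨y, rfl⟩, rfl⟩
  have hc : RA.relIndex P = RDA.relIndex (Q ⊓ RD) := by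
    rw [← ha, ← hb, AddSubgroup.relIndex_map_map_of_injective _ _ hDinj]
  have hRAP : RA ≤ P := by
    rintro _ ⟨y, rfl⟩
    have := LinearMap.congr_fun hSDA y
    simpa [hP] using this
  have hRDA_le : RDA ≤ Q ⊓ RD := by
    rw [← ha, ← hb]; exact AddSubgroup.map_mono hRAP
  have hd : RDA.relIndex (Q ⊓ RD) * (Q ⊓ RD).relIndex Q = RDA.relIndex Q :=
    AddSubgroup.relIndex_mul_relIndex _ _ _ hRDA_le inf_le_left
  have he : (Q ⊓ RD).relIndex Q = RD.relIndex Q := by
    rw [inf_comm, AddSubgroup.inf_relIndex_right]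
  have hf : RD.relIndex (Q ⊔ RD) = RD.relIndex Q := AddSubgroup.relIndex_sup_right _ _
  have hg : RD.relIndex (Q ⊔ RD) * (Q ⊔ RD).index = RD.index :=
    AddSubgroup.relIndex_mul_index le_sup_right
  have hh : RD.index = (∏ i, δ i).natAbs := index_range_D δ hδ
  have hi : (Q ⊔ RD).index = (univ.gcd δ).natAbs := index_ker_S_sup_range_D hn δ
  have hgcd : ((univ.gcd δ).natAbs : ℤ) = univ.gcd δ := by
    rw [Int.natAbs_of_nonneg]
    have := Finset.normalize_gcd (s := univ) (f := δ)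
    exact Int.nonneg_of_normalize_eq_self this
  have hnat : RA.relIndex P * (∏ i, δ i).natAbs = (univ.gcd δ).natAbs * RDA.relIndex Q := by
    rw [← hh, ← hg, hf, hi, hc, ← hd, he]
    ring
  rw [Int.abs_eq_natAbs, ← hgcd]
  exact_mod_cast hnat

end Groth.Agent.Lib.Helper7.LatticeIndex
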