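import Groth.Agent.Lib.Helper7.LatticeIndex

/-!
# Twisted index identity in `ℤⁿ` (helper7)
-/

set_option autoImplicit false

namespace Groth.Agent.Lib.Helper7.LatticeIndex

open Finset

variable {n : ℕ}

/-- If `A` has rank `n - 1` and kills `δ'` (nonzero entries), then `[ker A : ker A ∩ im D'] = gcd δ'`. -/
theorem relIndex_range_D_ker (hn : 0 < n) (δ' : Fin n → ℤ) (hδ' : ∀ i, δ' i ≠ 0)
    (A : (Fin n → ℤ) →ₗ[ℤ] (Fin n → ℤ))
    (hrank : Module.finrank ℤ (LinearMap.range A) = n - 1) (hAδ : A δ' = 0) :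
    (LinearMap.range (D δ')).toAddSubgroup.relIndex (LinearMap.ker A).toAddSubgroup =
      (univ.gcd δ').natAbs := by
  set d' := univ.gcd δ' with hd'
  have hd'0 : d' ≠ 0 := by
    intro h0
    rw [hd', Finset.gcd_eq_zero_iff] at h0
    exact hδ' ⟨0, hn⟩ (h0 _ (mem_univ _))
  have hdvd : ∀ i, d' ∣ δ' i := fun i => Finset.gcd_dvd (mem_univ i)
  choose v hv using hdvd
  have hδv : δ' = d' • v := by
    funext i; rw [Pi.smul_apply, smul_eq_mul]; exact hv i
  have hv_ker : A v = 0 := by
    have : d' • A v = 0 := by rw [← map_smul, ← hδv, hAδ]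
    exact (smul_eq_zero.mp this).resolve_left hd'0
  obtain ⟨g, hg⟩ := Finset.gcd_eq_sum_mul univ δ'
  have hbez : ∑ i, v i * g i = 1 := by
    have : d' * ∑ i, v i * g i = d' * 1 := by
      rw [mul_one, Finset.mul_sum]
      conv_rhs => rw [hd', hg]
      refine Finset.sum_congr rfl fun i _ => ?_
      rw [hv i]; ring
    exact mul_left_cancel₀ hd'0 this
  have hv0 : v ≠ 0 := by
    intro h0
    rw [h0] at hbez
    simp at hbez
  have hfin : Module.finrank ℤ (LinearMap.ker A) = 1 := by
    have h1 := (LinearMap.ker A).finrank_quotient_add_finrank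
    rw [LinearEquiv.finrank_eq A.quotKerEquivRange, hrank, Module.finrank_fin_fun] at h1
    omega
  have hker : ∀ x, A x = 0 → ∃ c : ℤ, x = c • v := by
    intro x hx
    have hnotLI : ¬ LinearIndependent ℤ ![(⟨x, hx⟩ : LinearMap.ker A), ⟨v, hv_ker⟩] := by
      intro hLI
      have := hLI.fintype_card_le_finrank
      rw [hfin] at this
      simp at this
    rw [LinearIndependent.pair_iff] at hnotLI
    push Not at hnotLI
    obtain ⟨s, t, hst, hne⟩ := hnotLI
    have hst' : s • x + t • v = 0 := by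
      have := congrArg Subtype.val hst
      simpa using this
    have hsti : ∀ i, s * x i + t * v i = 0 := by
      intro i
      have := congrFun hst' i
      simpa using this
    have hs0 : s ≠ 0 := by
      intro hs
      have ht0 : t ≠ 0 := hne hs
      rw [hs, zero_smul, zero_add] at hst'
      exact hv0 ((smul_eq_zero.mp hst').resolve_left ht0)
    refine ⟨∑ i, x i * g i, ?_⟩
    have ht : t = - (s * ∑ i, x i * g i) := by
      calc t = t * ∑ i, v i * g i := by rw [hbez, mul_one]
        _ = ∑ i, (t * v i) * g i := by rw [Finset.mul_sum]; simp [mul_assoc]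
        _ = ∑ i, (-(s * x i)) * g i := by
            refine Finset.sum_congr rfl fun i _ => ?_
            rw [eq_neg_of_add_eq_zero_right (hsti i)]
        _ = - (s * ∑ i, x i * g i) := by
            rw [Finset.mul_sum, ← Finset.sum_neg_distrib]
            refine Finset.sum_congr rfl fun i _ => by ring
    funext i
    have h1 := hsti i
    rw [ht] at h1
    have h2 : s * (x i - (∑ j, x j * g j) * v i) = 0 := by linear_combination h1
    have h3 := (mul_eq_zero.mp h2).resolve_left hs0
    rw [Pi.smul_apply, smul_eq_mul]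
    linarith
  -- the injective map ψ : ℤ → M, c ↦ c • v
  let ψ : ℤ →+ (Fin n → ℤ) := zmultiplesHom (Fin n → ℤ) v
  have hψ : ∀ c : ℤ, ψ c = c • v := fun c => rfl
  have hψinj : Function.Injective ψ := by
    intro a b hab
    rw [hψ, hψ] at hab
    have : (a - b) • v = 0 := by rw [sub_smul, hab, sub_self]
    have := (smul_eq_zero.mp this).resolve_right hv0
    linarith
  have hKA : (LinearMap.ker A).toAddSubgroup = AddSubgroup.map ψ ⊤ := by
    ext x
    simp only [Submodule.mem_toAddSubgroup, LinearMap.mem_ker, AddSubgroup.mem_map,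
      AddSubgroup.mem_top, true_and]
    constructor
    · intro hx
      obtain ⟨c, rfl⟩ := hker x hx
      exact ⟨c, rfl⟩
    · rintro ⟨c, rfl⟩
      rw [hψ, map_smul, hv_ker, smul_zero]
  have hinf : (LinearMap.range (D δ')).toAddSubgroup ⊓ (LinearMap.ker A).toAddSubgroup =
      AddSubgroup.map ψ (AddSubgroup.zmultiples d') := by
    ext x
    simp only [AddSubgroup.mem_inf, Submodule.mem_toAddSubgroup, LinearMap.mem_range,
      LinearMap.mem_ker, AddSubgroup.mem_map, Int.mem_zmultiples_iff]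
    constructor
    · rintro ⟨⟨y, rfl⟩, hx⟩
      obtain ⟨c, hc⟩ := hker _ hx
      refine ⟨c, ?_, by rw [hψ, hc]⟩
      have hci : ∀ i, c * v i = d' * v i * y i := by
        intro i
        have := congrFun hc i
        rw [D_apply, Pi.smul_apply, smul_eq_mul, hv i] at this
        exact this.symm
      refine ⟨∑ i, v i * y i * g i, ?_⟩
      calc c = c * ∑ i, v i * g i := by rw [hbez, mul_one]
        _ = ∑ i, (c * v i) * g i := by rw [Finset.mul_sum]; simp [mul_assoc]
        _ = ∑ i, d' * (v i * y i * g i) := by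
            refine Finset.sum_congr rfl fun i _ => ?_
            rw [hci i]; ring
        _ = d' * ∑ i, v i * y i * g i := by rw [Finset.mul_sum]
    · rintro ⟨c, ⟨k, rfl⟩, rfl⟩
      refine ⟨⟨fun _ => k, ?_⟩, ?_⟩
      · funext i
        rw [D_apply, hψ, Pi.smul_apply, smul_eq_mul, hv i]; ring
      · rw [hψ, map_smul, hv_ker, smul_zero]
  rw [← AddSubgroup.inf_relIndex_right, hinf, hKA,
    AddSubgroup.relIndex_map_map_of_injective _ _ hψinj, AddSubgroup.relIndex_top_right,
    Int.index_zmultiples]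

theorem card_mul_eq_twisted (hn : 0 < n) (δ δ' : Fin n → ℤ) (hδ : ∀ i, δ i ≠ 0)
    (hδ' : ∀ i, δ' i ≠ 0) (A : (Fin n → ℤ) →ₗ[ℤ] (Fin n → ℤ))
    (hrank : Module.finrank ℤ (LinearMap.range A) = n - 1)
    (hSDA : S n ∘ₗ D δ ∘ₗ A = 0) (hAδ : A δ' = 0) :
    (Nat.card (LinearMap.ker (S n ∘ₗ D δ) ⧸
        (LinearMap.range A).comap (LinearMap.ker (S n ∘ₗ D δ)).subtype) : ℤ) * |∏ i, δ i| *
        |∏ i, δ' i| =
      (univ.gcd δ) * (univ.gcd δ') * Nat.card (LinearMap.ker (S n) ⧸
        (LinearMap.range (D δ ∘ₗ A ∘ₗ D δ')).comap (LinearMap.ker (S n)).subtype) := by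
  have h1 := card_mul_eq hn δ hδ A hSDA
  rw [card_quot_eq_relIndex] at h1 ⊢
  rw [card_quot_eq_relIndex] at h1 ⊢
  set Q := (LinearMap.ker (S n)).toAddSubgroup with hQ
  set RDA := (LinearMap.range (D δ ∘ₗ A)).toAddSubgroup with hRDA
  set RDAD' := (LinearMap.range (D δ ∘ₗ A ∘ₗ D δ')).toAddSubgroup with hRDAD'
  set RD' := (LinearMap.range (D δ')).toAddSubgroup with hRD'
  set KA := (LinearMap.ker A).toAddSubgroup with hKA
  let f : (Fin n → ℤ) →+ (Fin n → ℤ) := (D δ ∘ₗ A).toAddMonoidHom
  have hf1 : AddSubgroup.map f ⊤ = RDA := by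
    ext x
    simp only [hRDA, f, AddSubgroup.mem_map, AddSubgroup.mem_top, true_and,
      LinearMap.toAddMonoidHom_coe, Submodule.mem_toAddSubgroup, LinearMap.mem_range]
  have hf2 : AddSubgroup.map f RD' = RDAD' := by
    ext x
    simp only [hRDAD', hRD', f, AddSubgroup.mem_map, LinearMap.toAddMonoidHom_coe,
      Submodule.mem_toAddSubgroup, LinearMap.mem_range, LinearMap.comp_apply]
    constructor
    · rintro ⟨_, ⟨y, rfl⟩, rfl⟩; exact ⟨y, rfl⟩
    · rintro ⟨y, rfl⟩; exact ⟨_, ⟨y, rfl⟩, rfl⟩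
  have hfker : f.ker = KA := by
    ext x
    simp only [hKA, f, AddMonoidHom.mem_ker, LinearMap.toAddMonoidHom_coe, LinearMap.comp_apply,
      Submodule.mem_toAddSubgroup, LinearMap.mem_ker]
    constructor
    · intro h
      exact D_injective δ hδ (by rw [h, map_zero])
    · intro h; rw [h, map_zero]
  have h2 : RDAD'.relIndex RDA = (RD' ⊔ KA).index := by
    rw [← hf1, ← hf2, AddSubgroup.relIndex_map_map, hfker, top_sup_eq,
      AddSubgroup.relIndex_top_right]
  have h3 : RD'.relIndex (RD' ⊔ KA) * (RD' ⊔ KA).index = RD'.index :=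
    AddSubgroup.relIndex_mul_index le_sup_left
  have h4 : RD'.relIndex (RD' ⊔ KA) = RD'.relIndex KA := AddSubgroup.relIndex_sup_left _ _
  have h5 : RD'.relIndex KA = (univ.gcd δ').natAbs := relIndex_range_D_ker hn δ' hδ' A hrank hAδ
  have h6 : RD'.index = (∏ i, δ' i).natAbs := index_range_D δ' hδ'
  have hle1 : RDAD' ≤ RDA := by
    rw [← hf1, ← hf2]; exact AddSubgroup.map_mono le_top
  have hle2 : RDA ≤ Q := by
    rintro _ ⟨y, rfl⟩
    have := LinearMap.congr_fun hSDA y
    simpa [hQ] using this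
  have h7 : RDAD'.relIndex RDA * RDA.relIndex Q = RDAD'.relIndex Q :=
    AddSubgroup.relIndex_mul_relIndex _ _ _ hle1 hle2
  have hgcd : ((univ.gcd δ').natAbs : ℤ) = univ.gcd δ' := by
    rw [Int.natAbs_of_nonneg]
    have := Finset.normalize_gcd (s := univ) (f := δ')
    exact Int.nonneg_of_normalize_eq_self this
  have hnat : RDAD'.relIndex Q * (univ.gcd δ').natAbs = RDA.relIndex Q * (∏ i, δ' i).natAbs := by
    rw [← h7, h2, ← h6, ← h3, h4, h5]; ring
  have hint : (RDAD'.relIndex Q : ℤ) * univ.gcd δ' = RDA.relIndex Q * |∏ i, δ' i| := by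
    rw [Int.abs_eq_natAbs, ← hgcd]; exact_mod_cast hnat
  calc _ = (univ.gcd δ) * ((RDA.relIndex Q : ℤ) * |∏ i, δ' i|) := by rw [h1]; ring
    _ = _ := by rw [← hint]; ring

end Groth.Agent.Lib.Helper7.LatticeIndex
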