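import Groth.Agent.Lib.Helper7.LinTopLemmas

set_option autoImplicit false
set_option linter.unusedSectionVars false

namespace Groth.Agent.Lib.Helper7.LinTopLemmas

open Filter Topology

section Complete

variable {A : Type*} [CommRing A] [UniformSpace A] [IsUniformAddGroup A] [IsTopologicalRing A]
  [IsLinearTopology A A]

/-- a linearly topologized ring is a nonarchimedean additive group -/
theorem nonarchimedeanAddGroup : NonarchimedeanAddGroup A where
  is_nonarchimedean U hU := by
    obtain ⟨I, hI, hIU⟩ := (IsLinearTopology.hasBasis_open_ideal (R := A)).mem_iff.mp hU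
    exact ⟨⟨I.toAddSubgroup, hI⟩, hIU⟩

lemma mem_smul_top_pi {ι : Type*} [Fintype ι] (J : Ideal A) {v : ι → A}
    (hv : v ∈ J • (⊤ : Submodule A (ι → A))) (i : ι) : v i ∈ J := by
  refine Submodule.smul_induction_on (p := fun v => v i ∈ J) hv ?_ ?_
  · intro r hr m _
    simpa using J.mul_mem_right _ hr
  · intro x y hx hy
    simpa using J.add_mem hx hy

/-- decomposition `cl(I^n) = I^n + cl(I^(n+1))` -/
lemma exists_sub_mem (I : Ideal A) (hopen : ∀ n : ℕ, IsOpen (closure ((I ^ n : Ideal A) : Set A)))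
    (n : ℕ) (x : A) (hx : x ∈ closure ((I ^ n : Ideal A) : Set A)) :
    ∃ y ∈ I ^ n, x - y ∈ closure ((I ^ (n + 1) : Ideal A) : Set A) := by
  have ho : IsOpen {z : A | x - z ∈ closure ((I ^ (n + 1) : Ideal A) : Set A)} :=
    (hopen (n + 1)).preimage (continuous_const.sub continuous_id)
  have hxm : x ∈ {z : A | x - z ∈ closure ((I ^ (n + 1) : Ideal A) : Set A)} := by
    simp only [Set.mem_ofPred_eq, sub_self]
    exact subset_closure (I ^ (n + 1)).zero_mem
  obtain ⟨y, hy1, hy2⟩ := mem_closure_iff.mp hx _ ho hxm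
  exact ⟨y, hy2, hy1⟩

theorem closure_pow_subset_of_fg [T2Space A] [CompleteSpace A] (I : Ideal A) (hfg : I.FG)
    (hopen : ∀ n : ℕ, IsOpen (closure ((I ^ n : Ideal A) : Set A)))
    (hbasis : ∀ U ∈ nhds (0 : A), ∃ n : ℕ, closure ((I ^ n : Ideal A) : Set A) ⊆ U) (n : ℕ) :
    closure ((I ^ n : Ideal A) : Set A) ⊆ (I ^ n : Ideal A) := by
  classical
  have := nonarchimedeanAddGroup (A := A)
  intro x hx
  -- the approximating sequences
  let dec : ℕ → A → A := fun k z =>
    if h : z ∈ closure ((I ^ (n + k) : Ideal A) : Set A) then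
      Classical.choose (exists_sub_mem I hopen (n + k) z h) else 0
  have hdec : ∀ k z, z ∈ closure ((I ^ (n + k) : Ideal A) : Set A) →
      dec k z ∈ I ^ (n + k) ∧ z - dec k z ∈ closure ((I ^ (n + k + 1) : Ideal A) : Set A) := by
    intro k z h
    simp only [dec, dif_pos h]
    exact Classical.choose_spec (exists_sub_mem I hopen (n + k) z h)
  let X : ℕ → A := fun k => Nat.rec x (fun k xk => xk - dec k xk) k
  have hX0 : X 0 = x := rfl
  have hXs : ∀ k, X (k + 1) = X k - dec k (X k) := fun k => rfl
  have hXmem : ∀ k, X k ∈ closure ((I ^ (n + k) : Ideal A) : Set A) := by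
    intro k
    induction k with
    | zero => simpa [hX0] using hx
    | succ k ih => rw [hXs]; exact (hdec k _ ih).2
  let y : ℕ → A := fun k => dec k (X k)
  have hy : ∀ k, y k ∈ I ^ (n + k) := fun k => (hdec k _ (hXmem k)).1
  have hpart : ∀ N, ∑ k ∈ Finset.range N, y k = x - X N := by
    intro N
    induction N with
    | zero => simp [hX0]
    | succ N ih => rw [Finset.sum_range_succ, ih, hXs]; ring
  -- X N → 0
  have hXtend : Tendsto X atTop (𝓝 0) := by
    rw [tendsto_atTop']
    intro U hU
    obtain ⟨N, hN⟩ := hbasis U hU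
    refine ⟨N, fun k hk => hN ?_⟩
    have : closure ((I ^ (n + k) : Ideal A) : Set A) ⊆ closure ((I ^ N : Ideal A) : Set A) :=
      _root_.closure_mono (Ideal.pow_le_pow_right (by omega))
    exact this (hXmem k)
  have hsumtend : Tendsto (fun N => ∑ k ∈ Finset.range N, y k) atTop (𝓝 x) := by
    have : Tendsto (fun N => x - X N) atTop (𝓝 (x - 0)) := tendsto_const_nhds.sub hXtend
    rw [sub_zero] at this
    exact this.congr (fun N => (hpart N).symm)
  -- tendsto to zero for sequences in I^k
  have hzero : ∀ (u : ℕ → A), (∀ k, u k ∈ I ^ k) → Tendsto u cofinite (𝓝 0) := by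
    intro u hu
    rw [Nat.cofinite_eq_atTop, tendsto_atTop']
    intro U hU
    obtain ⟨N, hN⟩ := hbasis U hU
    refine ⟨N, fun k hk => hN (subset_closure ?_)⟩
    exact Ideal.pow_le_pow_right hk (hu k)
  have hysum : Summable y :=
    NonarchimedeanAddGroup.summable_of_tendsto_cofinite_zero
      (hzero y fun k => Ideal.pow_le_pow_right (Nat.le_add_left k n) (hy k))
  have hytsum : ∑' k, y k = x :=
    tendsto_nhds_unique hysum.hasSum.tendsto_sum_nat hsumtend
  -- generators of I^n
  obtain ⟨G, hG⟩ := (hfg.pow (n := n) : (I ^ n).FG)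
  let π : (G → A) →ₗ[A] A := Fintype.linearCombination A (fun g : G => (g : A))
  have hπrange : LinearMap.range π = I ^ n := by
    rw [Fintype.range_linearCombination, Subtype.range_coe_subtype]
    simpa using hG
  have hπmap : ∀ k, Submodule.map π (I ^ k • (⊤ : Submodule A (G → A))) = I ^ (n + k) := by
    intro k
    rw [Submodule.map_smul'', Submodule.map_top, hπrange, smul_eq_mul, ← pow_add, add_comm]
  have hv : ∀ k, ∃ v : G → A, v ∈ I ^ k • (⊤ : Submodule A (G → A)) ∧ π v = y k := by
    intro k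
    have := hy k
    rw [← hπmap k] at this
    exact this
  choose v hv1 hv2 using hv
  have hvmem : ∀ k g, v k g ∈ I ^ k := fun k g => mem_smul_top_pi _ (hv1 k) g
  have hvsum : ∀ g : G, Summable (fun k => v k g) := fun g =>
    NonarchimedeanAddGroup.summable_of_tendsto_cofinite_zero (hzero _ fun k => hvmem k g)
  have hyk : ∀ k, y k = ∑ g : G, v k g * (g : A) := by
    intro k
    rw [← hv2 k]
    simp [π, Fintype.linearCombination_apply]
  have hfinal : x = ∑ g : G, (∑' k, v k g) * (g : A) := by
    rw [← hytsum]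
    have h1 : ∀ g : G, HasSum (fun k => v k g * (g : A)) ((∑' k, v k g) * (g : A)) :=
      fun g => (hvsum g).hasSum.mul_right _
    have h2 := hasSum_sum (s := Finset.univ) (fun g _ => h1 g)
    have h3 : (fun k => ∑ g : G, v k g * (g : A)) = y := by
      funext k; exact (hyk k).symm
    rw [h3] at h2
    exact h2.tsum_eq
  rw [hfinal]
  refine Ideal.sum_mem _ fun g _ => Ideal.mul_mem_left _ _ ?_
  rw [← hG]
  exact Ideal.subset_span g.2

theorem isAdic_of_fg_of_closure_pow_basis [T2Space A] [CompleteSpace A] (I : Ideal A) (hfg : I.FG)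
    (hopen : ∀ n : ℕ, IsOpen (closure ((I ^ n : Ideal A) : Set A)))
    (hbasis : ∀ U ∈ nhds (0 : A), ∃ n : ℕ, closure ((I ^ n : Ideal A) : Set A) ⊆ U) :
    IsAdic I := by
  rw [isAdic_iff]
  refine ⟨fun n => ?_, fun s hs => ?_⟩
  · have h1 : closure ((I ^ n : Ideal A) : Set A) = (I ^ n : Ideal A) :=
      subset_antisymm (closure_pow_subset_of_fg I hfg hopen hbasis n) subset_closure
    rw [← h1]; exact hopen n
  · obtain ⟨n, hn⟩ := hbasis s hs
    exact ⟨n, subset_trans subset_closure hn⟩

end Complete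

end Groth.Agent.Lib.Helper7.LinTopLemmas
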