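import Groth.Agent.Lib.Helper7.LinTopTaut

set_option autoImplicit false
set_option linter.unusedSectionVars false

namespace Groth.Agent.Lib.Helper7.LinTopLemmas

open Filter Topology UniformSpace

section TautWeak

variable {A : Type*} [CommRing A] [TopologicalSpace A] [IsTopologicalRing A]
variable {B : Type*} [CommRing B] [TopologicalSpace B] [IsTopologicalRing B]

/-- a taut map out of a weakly pre-adic ring has weakly pre-adic target -/
theorem isWeaklyPreadic_map_of_isTaut [IsLinearTopology B B] (φ : A →+* B) (hφ : LinTop.IsTaut φ)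
    (hA : LinTop.IsWeaklyPreadic A) : LinTop.IsWeaklyPreadic B := by
  obtain ⟨hlin, I, hopen, hbasis⟩ := hA
  obtain ⟨hcont, hopenφ, hbasisφ⟩ := hφ
  refine ⟨inferInstance, I.map φ, fun n => ?_, fun U hU => ?_⟩
  · rw [← Ideal.map_pow]
    have hK : IsOpen (((I ^ n).closure : Ideal A) : Set A) := by
      rw [Ideal.coe_closure]; exact hopen n
    have h1 := hopenφ _ hK
    have h2 : closure ((((I ^ n).closure).map φ : Ideal B) : Set B) =
        closure (((I ^ n).map φ : Ideal B) : Set B) := by
      refine subset_antisymm ?_ (_root_.closure_mono (Ideal.map_mono (le_closure _)))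
      have hle : ((I ^ n).closure).map φ ≤ ((I ^ n).map φ).closure := by
        rw [Ideal.map_le_iff_le_comap]
        intro a ha
        rw [Ideal.mem_comap, ← SetLike.mem_coe, Ideal.coe_closure]
        rw [← SetLike.mem_coe, Ideal.coe_closure] at ha
        exact map_mem_closure hcont ha (fun x hx => Ideal.mem_map_of_mem φ hx)
      refine closure_minimal ?_ isClosed_closure
      intro x hx
      have := hle hx
      rwa [← SetLike.mem_coe, Ideal.coe_closure] at this
    rw [← h2]; exact h1
  · obtain ⟨K', hK'open, hK'U⟩ := hbasisφ U hU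
    obtain ⟨n, hn⟩ := hbasis (K' : Set A) (hK'open.mem_nhds K'.zero_mem)
    refine ⟨n, subset_trans ?_ hK'U⟩
    rw [← Ideal.map_pow]
    refine _root_.closure_mono (Ideal.map_mono ?_)
    exact fun x hx => hn (subset_closure hx)

end TautWeak

section Completion

variable {A : Type*} [CommRing A] [UniformSpace A] [IsUniformAddGroup A] [IsTopologicalRing A]

/-- the closure of the image of an ideal in the completion, as an ideal -/
def closureIdeal (I : Ideal A) : Ideal (Completion A) where
  carrier := closure ((Completion.coeRingHom : A →+* Completion A) '' (I : Set A))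
  add_mem' := fun {a b} ha hb => by
    refine map_mem_closure₂ (f := fun x y : Completion A => x + y) continuous_add ha hb ?_
    rintro _ ⟨i, hi, rfl⟩ _ ⟨j, hj, rfl⟩
    exact ⟨i + j, I.add_mem hi hj, map_add _ _ _⟩
  zero_mem' := subset_closure ⟨0, I.zero_mem, map_zero _⟩
  smul_mem' := fun c x hx => by
    have hc : c ∈ closure (Set.range (Completion.coeRingHom : A →+* Completion A)) := by
      have := (Completion.denseRange_coe (α := A)).closure_eq
      change closure (Set.range ((↑) : A → Completion A)) = Set.univ at this
      change c ∈ closure (Set.range ((↑) : A → Completion A))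
      rw [this]; trivial
    refine map_mem_closure₂ (f := fun x y : Completion A => x * y) continuous_mul hc hx ?_
    rintro _ ⟨a, rfl⟩ _ ⟨i, hi, rfl⟩
    exact ⟨a * i, I.mul_mem_left _ hi, map_mul _ _ _⟩

lemma closure_map_coe (I : Ideal A) :
    closure ((I.map (Completion.coeRingHom : A →+* Completion A) : Ideal (Completion A)) :
      Set (Completion A)) =
    closure ((Completion.coeRingHom : A →+* Completion A) '' (I : Set A)) := by
  refine subset_antisymm (closure_minimal ?_ isClosed_closure) (_root_.closure_mono ?_)
  · have hle : I.map (Completion.coeRingHom : A →+* Completion A) ≤ closureIdeal I := by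
      rw [Ideal.map_le_iff_le_comap]
      intro a ha
      exact subset_closure ⟨a, ha, rfl⟩
    exact hle
  · rintro _ ⟨a, ha, rfl⟩
    exact Ideal.mem_map_of_mem _ ha

theorem isTaut_coe [IsLinearTopology A A] :
    LinTop.IsTaut (Completion.coeRingHom : A →+* Completion A) := by
  refine ⟨Completion.continuous_coeRingHom, ?_, ?_⟩
  · intro I hI
    rw [closure_map_coe]
    have h1 : closure (((↑) : A → Completion A) '' (I : Set A)) ∈ 𝓝 (((0 : A) : Completion A)) :=
      (Completion.isDenseInducing_coe (α := A)).closure_image_mem_nhds (hI.mem_nhds I.zero_mem)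
    rw [Completion.coe_zero] at h1
    exact AddSubgroup.isOpen_of_mem_nhds (closureIdeal I).toAddSubgroup h1
  · intro U hU
    obtain ⟨V, hV, hVclosed, hVU⟩ := exists_mem_nhds_isClosed_subset hU
    have hpre : (Completion.coeRingHom : A →+* Completion A) ⁻¹' V ∈ 𝓝 (0 : A) := by
      apply Completion.continuous_coeRingHom.continuousAt
      rw [map_zero]; exact hV
    obtain ⟨I, hIopen, hIV⟩ := (IsLinearTopology.hasBasis_open_ideal (R := A)).mem_iff.mp hpre
    refine ⟨I, hIopen, subset_trans ?_ hVU⟩
    rw [closure_map_coe]
    refine closure_minimal ?_ hVclosed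
    rintro _ ⟨a, ha, rfl⟩
    exact hIV ha

theorem isLinearTopology_completion [IsLinearTopology A A] :
    IsLinearTopology (Completion A) (Completion A) := by
  obtain ⟨-, hopen, hbasis⟩ := isTaut_coe (A := A)
  rw [isLinearTopology_iff_hasBasis_ideal]
  refine ⟨fun U => ⟨fun hU => ?_, fun ⟨K, hK, hKU⟩ => mem_of_superset hK hKU⟩⟩
  obtain ⟨I, hIopen, hIU⟩ := hbasis U hU
  refine ⟨(I.map (Completion.coeRingHom : A →+* Completion A)).closure, ?_, ?_⟩
  · rw [Ideal.coe_closure]
    exact (hopen I hIopen).mem_nhds (subset_closure (Ideal.zero_mem _))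
  · rw [Ideal.coe_closure]; exact hIU

theorem isWeaklyAdic_completion [IsLinearTopology A A] (hA : LinTop.IsWeaklyPreadic A) :
    LinTop.IsWeaklyAdic (Completion A) := by
  have : IsLinearTopology (Completion A) (Completion A) := isLinearTopology_completion
  exact ⟨isWeaklyPreadic_map_of_isTaut _ isTaut_coe hA, inferInstance, inferInstance⟩

end Completion

end Groth.Agent.Lib.Helper7.LinTopLemmas
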