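import Groth.Agent.Lib.Helper7.LinTopComplete

set_option autoImplicit false
set_option linter.unusedSectionVars false

namespace Groth.Agent.Lib.Helper7.LinTopLemmas

open Filter Topology

section WeaklyPreadic

variable {A : Type*} [CommRing A] [TopologicalSpace A] [IsTopologicalRing A]

/-- In a weakly pre-adic ring, every ideal of definition `I` has `cl(I^n)` open, and these closures
form a basis of neighbourhoods of zero. -/
theorem closure_pow_of_isIdealOfDefinition (hA : LinTop.IsWeaklyPreadic A) (I : Ideal A)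
    (hI : LinTop.IsIdealOfDefinition A I) :
    (∀ n : ℕ, IsOpen (closure ((I ^ n : Ideal A) : Set A))) ∧
      ∀ U ∈ nhds (0 : A), ∃ n : ℕ, 0 < n ∧ closure ((I ^ n : Ideal A) : Set A) ⊆ U := by
  obtain ⟨hlin, I₁, hopen₁, hbasis₁⟩ := hA
  obtain ⟨hIopen, hIdef⟩ := hI
  refine ⟨fun n => ?_, fun U hU => ?_⟩
  · obtain ⟨m, hm⟩ := hbasis₁ (I : Set A) (hIopen.mem_nhds I.zero_mem)
    have h1 : I₁ ^ m ≤ I := fun x hx => hm (subset_closure hx)
    have h2 : I₁ ^ (m * n) ≤ I ^ n := by rw [pow_mul]; exact Ideal.pow_right_mono h1 n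
    have h3 : (I₁ ^ (m * n)).closure ≤ (I ^ n).closure := closure_mono h2
    have := isOpen_mono h3 (by rw [Ideal.coe_closure]; exact hopen₁ _)
    rwa [Ideal.coe_closure] at this
  · obtain ⟨J, hJopen, hJU⟩ := (IsLinearTopology.hasBasis_open_ideal (R := A)).mem_iff.mp hU
    obtain ⟨n, hn, hnJ⟩ := hIdef (J : Set A) (hJopen.mem_nhds J.zero_mem)
    refine ⟨n, hn, subset_trans ?_ hJU⟩
    exact closure_minimal hnJ (isClosed_of_isOpen J hJopen)

end WeaklyPreadic

section Cotangent

variable {A : Type*} [CommRing A] [UniformSpace A] [IsUniformAddGroup A] [IsTopologicalRing A]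

theorem exists_fg_isAdic_of_fg_cotangent (hA : LinTop.IsWeaklyAdic A) (I : Ideal A)
    (hI : LinTop.IsIdealOfDefinition A I)
    (hfg : (I.map (Ideal.Quotient.mk ((I ^ 2).closure))).FG) :
    ∃ J : Ideal A, J.FG ∧ J ≤ I ∧ IsAdic J := by
  classical
  obtain ⟨hWP, hT2, hcomp⟩ := hA
  have hlin : IsLinearTopology A A := hWP.1
  obtain ⟨hopenI, hbasisI⟩ := closure_pow_of_isIdealOfDefinition hWP I hI
  have hIopen : IsOpen (I : Set A) := hI.1
  set C₂ := (I ^ 2).closure with hC₂
  -- Step 1: the finitely generated ideal J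
  obtain ⟨s, hs⟩ := hfg
  have hlift : ∀ g : s, ∃ a ∈ I, Ideal.Quotient.mk C₂ a = (g : A ⧸ C₂) := by
    intro g
    have hg : (g : A ⧸ C₂) ∈ I.map (Ideal.Quotient.mk C₂) := by
      rw [← hs]; exact Ideal.subset_span g.2
    exact (Ideal.mem_map_iff_of_surjective _ Ideal.Quotient.mk_surjective).mp hg
  choose a haI ha using hlift
  set J : Ideal A := Ideal.span (Set.range a) with hJ
  have hJfg : J.FG := Submodule.fg_span (Set.finite_range a)
  have hJI : J ≤ I := by
    rw [hJ, Ideal.span_le]; rintro _ ⟨g, rfl⟩; exact haI g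
  have hJmap : J.map (Ideal.Quotient.mk C₂) = I.map (Ideal.Quotient.mk C₂) := by
    rw [hJ, Ideal.map_span, ← hs]
    congr 1
    ext x
    simp only [Set.mem_image, Set.mem_range, exists_exists_eq_and, Finset.mem_coe]
    constructor
    · rintro ⟨g, rfl⟩; rw [ha g]; exact g.2
    · intro hx; exact ⟨⟨x, hx⟩, ha ⟨x, hx⟩⟩
  have hIle : I ≤ J ⊔ C₂ := by
    have h1 : I ≤ (I.map (Ideal.Quotient.mk C₂)).comap (Ideal.Quotient.mk C₂) := Ideal.le_comap_map
    rw [← hJmap, Ideal.comap_map_of_surjective _ Ideal.Quotient.mk_surjective] at h1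
    refine h1.trans (sup_le_sup_left ?_ _)
    intro x hx
    rw [Ideal.mem_comap, Submodule.mem_bot, Ideal.Quotient.eq_zero_iff_mem] at hx
    exact hx
  -- Step 3: I^n ≤ J^n ⊔ cl(I^(n+1))
  have hclmul : ∀ p q : ℕ, (I ^ p).closure * (I ^ q).closure ≤ (I ^ (p + q)).closure := by
    intro p q
    rw [pow_add]; exact closure_mul_closure_le _ _
  have hclanti : ∀ {p q : ℕ}, p ≤ q → (I ^ q).closure ≤ (I ^ p).closure := fun h =>
    closure_mono (Ideal.pow_le_pow_right h)
  have hJpow : ∀ p : ℕ, J ^ p ≤ (I ^ p).closure := fun p =>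
    (Ideal.pow_right_mono hJI p).trans (le_closure _)
  have h3 : ∀ n : ℕ, I ^ n ≤ J ^ n ⊔ (I ^ (n + 1)).closure := by
    intro n
    induction n with
    | zero => simp
    | succ n ih =>
      calc I ^ (n + 1) = I ^ n * I := pow_succ _ _
        _ ≤ (J ^ n ⊔ (I ^ (n + 1)).closure) * (J ⊔ C₂) := Ideal.mul_mono ih hIle
        _ ≤ J ^ (n + 1) ⊔ (I ^ (n + 1 + 1)).closure := by
          rw [Ideal.sup_mul, Ideal.mul_sup, Ideal.mul_sup]
          refine sup_le (sup_le ?_ ?_) (sup_le ?_ ?_)
          · rw [← pow_succ]; exact le_sup_left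
          · refine le_trans ?_ le_sup_right
            calc J ^ n * C₂ ≤ (I ^ n).closure * (I ^ 2).closure := Ideal.mul_mono (hJpow n) le_rfl
              _ ≤ (I ^ (n + 2)).closure := hclmul n 2
          · refine le_trans ?_ le_sup_right
            calc (I ^ (n + 1)).closure * J ≤ (I ^ (n + 1)).closure * (I ^ 1).closure :=
                  Ideal.mul_mono le_rfl (by simpa using hJpow 1)
              _ ≤ (I ^ (n + 1 + 1)).closure := hclmul (n + 1) 1
          · refine le_trans ?_ le_sup_right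
            calc (I ^ (n + 1)).closure * C₂ ≤ (I ^ (n + 1 + 2)).closure := hclmul (n + 1) 2
              _ ≤ (I ^ (n + 1 + 1)).closure := hclanti (by omega)
  -- Step 4
  have hopen' : ∀ n : ℕ, IsOpen (((I ^ n).closure : Ideal A) : Set A) := by
    intro n; rw [Ideal.coe_closure]; exact hopenI n
  have h4 : ∀ n m : ℕ, I ^ n ≤ J ^ n ⊔ (I ^ (n + m + 1)).closure := by
    intro n m
    induction m with
    | zero => exact h3 n
    | succ m ih =>
      refine ih.trans (sup_le le_sup_left ?_)
      -- cl(I^(n+m+1)) ≤ J^n ⊔ cl(I^(n+m+2))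
      have hopenK : IsOpen ((J ^ n ⊔ (I ^ (n + (m + 1) + 1)).closure : Ideal A) : Set A) :=
        isOpen_mono le_sup_right (hopen' _)
      have hle : I ^ (n + m + 1) ≤ J ^ n ⊔ (I ^ (n + (m + 1) + 1)).closure := by
        refine (h3 (n + m + 1)).trans (sup_le ?_ le_sup_right)
        exact (Ideal.pow_le_pow_right (by omega)).trans le_sup_left
      intro x hx
      rw [← SetLike.mem_coe, Ideal.coe_closure] at hx
      exact closure_minimal hle (isClosed_of_isOpen _ hopenK) hx
  -- Step 5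
  have h5 : ∀ n : ℕ, ((I ^ n : Ideal A) : Set A) ⊆ closure ((J ^ n : Ideal A) : Set A) := by
    intro n x hx
    rw [mem_closure_iff]
    intro o ho hxo
    have hV : {z : A | x - z ∈ o} ∈ nhds (0 : A) := by
      refine (ho.preimage (continuous_const.sub continuous_id)).mem_nhds ?_
      simpa using hxo
    obtain ⟨M, -, hM⟩ := hbasisI _ hV
    have hx' := h4 n M hx
    obtain ⟨j, hj, c, hc, rfl⟩ := Submodule.mem_sup.mp hx'
    have hc' : c ∈ closure ((I ^ M : Ideal A) : Set A) := by
      have := hclanti (show M ≤ n + M + 1 by omega) hc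
      rwa [← SetLike.mem_coe, Ideal.coe_closure] at this
    have := hM hc'
    simp only [Set.mem_ofPred_eq, add_sub_cancel_right] at this
    exact ⟨j, this, hj⟩
  have h6 : ∀ n : ℕ, closure ((J ^ n : Ideal A) : Set A) = closure ((I ^ n : Ideal A) : Set A) := by
    intro n
    refine subset_antisymm (_root_.closure_mono (Ideal.pow_right_mono hJI n)) ?_
    exact closure_minimal (h5 n) isClosed_closure
  refine ⟨J, hJfg, hJI, ?_⟩
  refine isAdic_of_fg_of_closure_pow_basis J hJfg ?_ ?_
  · intro n; rw [h6]; exact hopenI n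
  · intro U hU
    obtain ⟨n, -, hn⟩ := hbasisI U hU
    exact ⟨n, by rw [h6]; exact hn⟩

end Cotangent

end Groth.Agent.Lib.Helper7.LinTopLemmas
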