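import Mathlib
import Groth.Prelude.Def_W4stk3formalspacesTaut

/-!
# Lemmas on linearly topologized rings (helper7)
-/

set_option autoImplicit false

namespace Groth.Agent.Lib.Helper7.LinTopLemmas

open Filter Topology

variable {B : Type*} [CommRing B] [TopologicalSpace B] [IsTopologicalRing B]

lemma closure_mul_closure_le (K K' : Ideal B) : K.closure * K'.closure ≤ (K * K').closure := by
  rw [Ideal.mul_le]
  intro r hr s hs
  have hr' : r ∈ closure (K : Set B) := by rwa [← Ideal.coe_closure]
  have hs' : s ∈ closure (K' : Set B) := by rwa [← Ideal.coe_closure]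
  have := map_mem_closure₂ (f := fun a b : B => a * b) continuous_mul hr' hs'
    (u := ((K * K' : Ideal B) : Set B)) (fun a ha b hb => Ideal.mul_mem_mul ha hb)
  rw [← Ideal.coe_closure] at this
  exact this

lemma le_closure (K : Ideal B) : K ≤ K.closure := fun _ hx => by
  rw [← SetLike.mem_coe, Ideal.coe_closure]; exact subset_closure hx

lemma closure_mono {K K' : Ideal B} (h : K ≤ K') : K.closure ≤ K'.closure := fun x hx => by
  rw [← SetLike.mem_coe, Ideal.coe_closure] at hx ⊢
  exact _root_.closure_mono h hx

lemma closure_pow_le (K : Ideal B) (n : ℕ) : K.closure ^ n ≤ (K ^ n).closure := by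
  induction n with
  | zero => rw [pow_zero, pow_zero]; exact le_closure _
  | succ n ih =>
    rw [pow_succ, pow_succ]
    exact (Ideal.mul_mono_left ih).trans (closure_mul_closure_le _ _)

lemma isClosed_of_isOpen (K : Ideal B) (h : IsOpen (K : Set B)) : IsClosed (K : Set B) :=
  AddSubgroup.isClosed_of_isOpen K.toAddSubgroup h

lemma closure_eq_of_isOpen (K : Ideal B) (h : IsOpen (K : Set B)) :
    closure (K : Set B) = K := (isClosed_of_isOpen K h).closure_eq

lemma isOpen_mono {K K' : Ideal B} (h : K ≤ K') (hK : IsOpen (K : Set B)) : IsOpen (K' : Set B) :=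
  AddSubgroup.isOpen_mono (H₁ := K.toAddSubgroup) (H₂ := K'.toAddSubgroup) h hK

lemma isTopologicallyNilpotent_of_mem_closure [IsLinearTopology B B] {N : Set B}
    (hN : ∀ g ∈ N, IsTopologicallyNilpotent g) {f : B} (hf : f ∈ closure N) :
    IsTopologicallyNilpotent f := by
  unfold IsTopologicallyNilpotent
  rw [(IsLinearTopology.hasBasis_open_ideal (R := B)).tendsto_right_iff]
  intro U hU
  -- find g ∈ N with g - f ∈ U
  have hopen : IsOpen {x : B | x - f ∈ U} := hU.preimage (continuous_id.sub continuous_const)
  have hfmem : f ∈ {x : B | x - f ∈ U} := by simp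
  obtain ⟨g, hgU, hgN⟩ := mem_closure_iff.mp hf _ hopen hfmem
  have hg := hN g hgN
  have hgev : ∀ᶠ n in atTop, g ^ n ∈ (U : Set B) := hg.eventually_mem (hU.mem_nhds U.zero_mem)
  filter_upwards [hgev] with n hn
  have hsub : f ^ n - g ^ n ∈ U := by
    have h1 : Ideal.Quotient.mk U f = Ideal.Quotient.mk U g := by
      rw [Ideal.Quotient.eq]
      have : f - g = -(g - f) := by ring
      rw [this]; exact U.neg_mem hgU
    rw [← Ideal.Quotient.eq, map_pow, map_pow, h1]
  have : f ^ n = (f ^ n - g ^ n) + g ^ n := by ring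
  rw [this]
  exact U.add_mem hsub hn

end Groth.Agent.Lib.Helper7.LinTopLemmas
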