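import Groth.Agent.Lib.Helper7.LinTopCompletion

set_option autoImplicit false
set_option linter.unusedSectionVars false

namespace Groth.Agent.Lib.Helper7.LinTopLemmas

open Filter Topology UniformSpace Uniformity

theorem surjective_open_complete_of_isTaut_of_denseRange
    {A : Type*} [CommRing A] [UniformSpace A] [IsUniformAddGroup A] [IsTopologicalRing A]
    [IsLinearTopology A A] [T2Space A] [CompleteSpace A] (hA : (nhds (0 : A)).IsCountablyGenerated)
    {B : Type*} [CommRing B] [UniformSpace B] [IsUniformAddGroup B] [IsTopologicalRing B]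
    [IsLinearTopology B B] [T2Space B]
    (φ : A →+* B) (hφ : LinTop.IsTaut φ) (hd : DenseRange φ) :
    Function.Surjective φ ∧ IsOpenQuotientMap φ ∧ CompleteSpace B := by
  classical
  have := nonarchimedeanAddGroup (A := A)
  obtain ⟨hcont, hopenφ, hbasisφ⟩ := hφ
  -- Step 0: a decreasing countable basis of open ideals
  obtain ⟨I, hIopen, hIanti⟩ :=
    (IsLinearTopology.hasBasis_open_ideal (R := A)).exists_antitone_subbasis
  have hIbasis := hIanti.toHasBasis
  have hIle : ∀ {m n : ℕ}, m ≤ n → I n ≤ I m := fun h => hIanti.antitone h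
  set J : ℕ → Ideal B := fun n => ((I n).map φ).closure with hJ
  have hJopen : ∀ n, IsOpen ((J n : Ideal B) : Set B) := by
    intro n; rw [hJ, Ideal.coe_closure]; exact hopenφ _ (hIopen n)
  have hJle : ∀ {m n : ℕ}, m ≤ n → J n ≤ J m := fun h => closure_mono (Ideal.map_mono (hIle h))
  have hJbasis : ∀ U ∈ 𝓝 (0 : B), ∃ N, ((J N : Ideal B) : Set B) ⊆ U := by
    intro U hU
    obtain ⟨I', hI'open, hI'U⟩ := hbasisφ U hU
    obtain ⟨N, -, hN⟩ := hIbasis.mem_iff.mp (hI'open.mem_nhds I'.zero_mem)
    refine ⟨N, subset_trans ?_ hI'U⟩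
    rw [hJ, Ideal.coe_closure]
    exact _root_.closure_mono (Ideal.map_mono (show I N ≤ I' from hN))
  have hdense : ∀ (b : B) (m : ℕ), ∃ c : A, b - φ c ∈ J m := by
    intro b m
    have hb : b ∈ closure (Set.range φ) := hd b
    have ho : IsOpen {z : B | b - z ∈ J m} :=
      (hJopen m).preimage (continuous_const.sub continuous_id)
    obtain ⟨_, hz1, ⟨c, rfl⟩⟩ := mem_closure_iff.mp hb _ ho (by simp [zero_mem])
    exact ⟨c, hz1⟩
  -- Step 2
  have hK : ∀ n m : ℕ, ∀ y ∈ J n, ∃ a ∈ I n, y - φ a ∈ J m := by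
    intro n m y hy
    have hspan : ∀ z ∈ (I n).map φ, ∃ a ∈ I n, z - φ a ∈ J m := by
      intro z hz
      refine Submodule.span_induction (p := fun z _ => ∃ a ∈ I n, z - φ a ∈ J m)
        ?_ ?_ ?_ ?_ hz
      · rintro _ ⟨a, ha, rfl⟩
        exact ⟨a, ha, by simp [zero_mem]⟩
      · exact ⟨0, zero_mem _, by simp [zero_mem]⟩
      · rintro z₁ z₂ _ _ ⟨a₁, h₁, h₁'⟩ ⟨a₂, h₂, h₂'⟩
        refine ⟨a₁ + a₂, add_mem h₁ h₂, ?_⟩
        have : z₁ + z₂ - φ (a₁ + a₂) = (z₁ - φ a₁) + (z₂ - φ a₂) := by rw [map_add]; ring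
        rw [this]; exact add_mem h₁' h₂'
      · rintro b z _ ⟨a, ha, ha'⟩
        obtain ⟨c, hc⟩ := hdense b m
        refine ⟨c * a, Ideal.mul_mem_left _ _ ha, ?_⟩
        have : b • z - φ (c * a) = b * (z - φ a) + (b - φ c) * φ a := by
          rw [smul_eq_mul, map_mul]; ring
        rw [this]
        exact add_mem (Ideal.mul_mem_left _ _ ha') (Ideal.mul_mem_right _ _ hc)
    have hy' : y ∈ closure (((I n).map φ : Ideal B) : Set B) := by
      rw [← Ideal.coe_closure]; exact hy
    have ho : IsOpen {z : B | y - z ∈ J m} :=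
      (hJopen m).preimage (continuous_const.sub continuous_id)
    obtain ⟨z, hz1, hz2⟩ := mem_closure_iff.mp hy' _ ho (by simp [zero_mem])
    obtain ⟨a, ha, ha'⟩ := hspan z hz2
    refine ⟨a, ha, ?_⟩
    have : y - φ a = (y - z) + (z - φ a) := by ring
    rw [this]; exact add_mem hz1 ha'
  -- sequences in I k tend to zero, hence are summable
  have hzero : ∀ (u : ℕ → A), (∀ k, u k ∈ I k) → Tendsto u cofinite (𝓝 0) := by
    intro u hu
    rw [Nat.cofinite_eq_atTop, hIbasis.tendsto_right_iff]
    intro N _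
    filter_upwards [eventually_ge_atTop N] with k hk
    exact hIle hk (hu k)
  have hJzero : ∀ (w : ℕ → B), (∀ k, w k ∈ J k) → Tendsto w atTop (𝓝 0) := by
    intro w hw
    rw [tendsto_atTop']
    intro U hU
    obtain ⟨N, hN⟩ := hJbasis U hU
    exact ⟨N, fun k hk => hN (hJle hk (hw k))⟩
  -- Step 3
  have hS : ∀ n : ℕ, ∀ y ∈ J n, ∃ a ∈ I n, φ a = y := by
    intro n y hy
    let dec : ℕ → B → A := fun k z =>
      if h : z ∈ J (n + k) then Classical.choose (hK (n + k) (n + k + 1) z h) else 0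
    have hdec : ∀ k z, z ∈ J (n + k) →
        dec k z ∈ I (n + k) ∧ z - φ (dec k z) ∈ J (n + k + 1) := by
      intro k z h
      simp only [dec, dif_pos h]
      exact Classical.choose_spec (hK (n + k) (n + k + 1) z h)
    let Y : ℕ → B := fun k => Nat.rec y (fun k yk => yk - φ (dec k yk)) k
    have hY0 : Y 0 = y := rfl
    have hYs : ∀ k, Y (k + 1) = Y k - φ (dec k (Y k)) := fun k => rfl
    have hYmem : ∀ k, Y k ∈ J (n + k) := by
      intro k
      induction k with
      | zero => simpa [hY0] using hy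
      | succ k ih => rw [hYs]; exact (hdec k _ ih).2
    let a : ℕ → A := fun k => dec k (Y k)
    have ha : ∀ k, a k ∈ I (n + k) := fun k => (hdec k _ (hYmem k)).1
    have hpart : ∀ N, φ (∑ k ∈ Finset.range N, a k) = y - Y N := by
      intro N
      induction N with
      | zero => simp [hY0]
      | succ N ih => rw [Finset.sum_range_succ, map_add, ih, hYs]; ring
    have hasum : Summable a :=
      NonarchimedeanAddGroup.summable_of_tendsto_cofinite_zero
        (hzero a fun k => hIle (Nat.le_add_left k n) (ha k))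
    have hmem : ∑' k, a k ∈ I n := by
      have hcl : IsClosed ((I n : Ideal A) : Set A) := isClosed_of_isOpen _ (hIopen n)
      refine hcl.mem_of_tendsto hasum.hasSum.tendsto_sum_nat (Eventually.of_forall fun N => ?_)
      exact Ideal.sum_mem _ fun k _ => hIle (Nat.le_add_right n k) (ha k)
    have hlim1 : Tendsto (fun N => φ (∑ k ∈ Finset.range N, a k)) atTop (𝓝 (φ (∑' k, a k))) :=
      (hcont.tendsto _).comp hasum.hasSum.tendsto_sum_nat
    have hlim2 : Tendsto (fun N => φ (∑ k ∈ Finset.range N, a k)) atTop (𝓝 y) := by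
      have hY : Tendsto Y atTop (𝓝 0) :=
        hJzero Y fun k => hJle (Nat.le_add_left k n) (hYmem k)
      have : Tendsto (fun N => y - Y N) atTop (𝓝 (y - 0)) := tendsto_const_nhds.sub hY
      rw [sub_zero] at this
      exact this.congr (fun N => (hpart N).symm)
    exact ⟨∑' k, a k, hmem, tendsto_nhds_unique hlim1 hlim2⟩
  -- Step 4: surjectivity
  have hsurj : Function.Surjective φ := by
    intro y
    obtain ⟨c, hc⟩ := hdense y 0
    obtain ⟨a, -, ha⟩ := hS 0 _ hc
    exact ⟨c + a, by rw [map_add, ha]; ring⟩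
  -- Step 5: openness
  have hopenmap : IsOpenMap φ := by
    intro s hs
    rw [isOpen_iff_mem_nhds]
    rintro _ ⟨x, hx, rfl⟩
    have h0 : {z : A | x + z ∈ s} ∈ 𝓝 (0 : A) := by
      refine (hs.preimage (continuous_const.add continuous_id)).mem_nhds ?_
      simpa using hx
    obtain ⟨N, -, hN⟩ := hIbasis.mem_iff.mp h0
    have hnb : {w : B | w - φ x ∈ J N} ∈ 𝓝 (φ x) := by
      refine ((hJopen N).preimage (continuous_id.sub continuous_const)).mem_nhds ?_
      simp [zero_mem]
    refine mem_of_superset hnb ?_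
    intro w hw
    obtain ⟨a, ha, haw⟩ := hS N _ hw
    exact ⟨x + a, hN ha, by rw [map_add, haw]; ring⟩
  refine ⟨hsurj, ⟨hsurj, hcont, hopenmap⟩, ?_⟩
  -- Step 6: completeness
  have hcg : (𝓝 (0 : B)).IsCountablyGenerated := by
    have hb : (𝓝 (0 : B)).HasBasis (fun _ : ℕ => True) (fun n => ((J n : Ideal B) : Set B)) := by
      refine ⟨fun U => ⟨fun hU => ?_, fun ⟨n, _, hn⟩ => ?_⟩⟩
      · obtain ⟨n, hn⟩ := hJbasis U hU
        exact ⟨n, trivial, hn⟩
      · exact mem_of_superset ((hJopen n).mem_nhds (J n).zero_mem) hn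
    exact hb.isCountablyGenerated
  have : (𝓤 B).IsCountablyGenerated := IsUniformAddGroup.uniformity_countably_generated
  refine UniformSpace.complete_of_convergent_controlled_sequences
    (fun N => {p : B × B | p.2 - p.1 ∈ J N}) ?_ ?_
  · intro N
    rw [uniformity_eq_comap_nhds_zero B]
    exact ⟨(J N : Set B), (hJopen N).mem_nhds (J N).zero_mem, fun p hp => hp⟩
  · intro u hu
    have hd' : ∀ k, u (k + 1) - u k ∈ J k := fun k => hu k k (k + 1) le_rfl (Nat.le_succ k)
    have hlift : ∀ k, ∃ a ∈ I k, φ a = u (k + 1) - u k := fun k => hS k _ (hd' k)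
    choose a ha haφ using hlift
    have hasum : Summable a := NonarchimedeanAddGroup.summable_of_tendsto_cofinite_zero (hzero a ha)
    have hpart : ∀ N, u N = u 0 + φ (∑ k ∈ Finset.range N, a k) := by
      intro N
      induction N with
      | zero => simp
      | succ N ih => rw [Finset.sum_range_succ, map_add, haφ, ← add_assoc, ← ih]; ring
    refine ⟨u 0 + φ (∑' k, a k), ?_⟩
    have hlim : Tendsto (fun N => u 0 + φ (∑ k ∈ Finset.range N, a k)) atTop
        (𝓝 (u 0 + φ (∑' k, a k))) :=
      tendsto_const_nhds.add ((hcont.tendsto _).comp hasum.hasSum.tendsto_sum_nat)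
    exact hlim.congr (fun N => (hpart N).symm)

end Groth.Agent.Lib.Helper7.LinTopLemmas
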