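import Groth.Agent.Lib.Helper7.LinTopCotangent

set_option autoImplicit false
set_option linter.unusedSectionVars false

namespace Groth.Agent.Lib.Helper7.LinTopLemmas

open Filter Topology

/-- A copy of `A` carrying the `I`-adic topology. -/
def AdicCopy {A : Type*} [CommRing A] (_I : Ideal A) : Type _ := A

namespace AdicCopy

variable {A : Type*} [CommRing A] (I : Ideal A)

instance : CommRing (AdicCopy I) := inferInstanceAs (CommRing A)
instance : TopologicalSpace (AdicCopy I) := I.adicTopology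
instance : IsTopologicalRing (AdicCopy I) :=
  @NonarchimedeanRing.toIsTopologicalRing A _ I.adicTopology (Ideal.nonarchimedean I)

/-- the ideal `I` in the copy -/
def ideal : Ideal (AdicCopy I) := I

/-- the identity ring hom -/
def toRing : AdicCopy I →+* A := RingHom.id A

lemma isAdic : IsAdic (ideal I) := rfl

lemma isPreadic : LinTop.IsPreadic (AdicCopy I) := ⟨ideal I, isAdic I⟩

lemma map_toRing (K : Ideal (AdicCopy I)) : K.map (toRing I) = (K : Ideal A) :=
  Ideal.map_id K

end AdicCopy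

section TFAE

variable {A : Type*} [CommRing A] [TopologicalSpace A] [IsTopologicalRing A]

theorem isTaut_adicCopy (I₁ : Ideal A)
    (hopen₁ : ∀ n : ℕ, IsOpen (closure ((I₁ ^ n : Ideal A) : Set A)))
    (hbasis₁ : ∀ U ∈ nhds (0 : A), ∃ n : ℕ, closure ((I₁ ^ n : Ideal A) : Set A) ⊆ U) :
    LinTop.IsTaut (AdicCopy.toRing I₁) := by
  have hadic := isAdic_iff.mp (AdicCopy.isAdic I₁)
  refine ⟨?_, ?_, ?_⟩
  · refine continuous_of_continuousAt_zero (AdicCopy.toRing I₁) ?_
    rw [ContinuousAt, map_zero, (AdicCopy.isAdic I₁).hasBasis_nhds_zero.tendsto_left_iff]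
    intro t ht
    obtain ⟨n, hn⟩ := hbasis₁ t ht
    exact ⟨n, trivial, fun x hx => hn (subset_closure hx)⟩
  · intro K hK
    rw [AdicCopy.map_toRing]
    obtain ⟨n, hn⟩ := hadic.2 (K : Set (AdicCopy I₁)) (hK.mem_nhds K.zero_mem)
    have h1 : (I₁ ^ n : Ideal A) ≤ (K : Ideal A) := hn
    have h2 := closure_mono h1
    have := isOpen_mono h2 (by rw [Ideal.coe_closure]; exact hopen₁ n)
    exact this
  · intro U hU
    obtain ⟨n, hn⟩ := hbasis₁ U hU
    refine ⟨AdicCopy.ideal I₁ ^ n, hadic.1 n, ?_⟩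
    rw [AdicCopy.map_toRing]
    exact hn

theorem isWeaklyPreadic_of_isTaut [IsLinearTopology A A] {A' : Type*} [CommRing A']
    [TopologicalSpace A'] [IsTopologicalRing A'] (φ : A' →+* A) (hA' : LinTop.IsPreadic A')
    (hφ : LinTop.IsTaut φ) : LinTop.IsWeaklyPreadic A := by
  obtain ⟨I', hI'⟩ := hA'
  have hI'' := isAdic_iff.mp hI'
  obtain ⟨hcont, hopen, hbasis⟩ := hφ
  refine ⟨inferInstance, I'.map φ, fun n => ?_, fun U hU => ?_⟩
  · rw [← Ideal.map_pow]; exact hopen _ (hI''.1 n)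
  · obtain ⟨K, hK, hKU⟩ := hbasis U hU
    obtain ⟨n, hn⟩ := hI''.2 (K : Set A') (hK.mem_nhds K.zero_mem)
    refine ⟨n, subset_trans ?_ hKU⟩
    rw [← Ideal.map_pow]
    exact _root_.closure_mono (Ideal.map_mono hn)

end TFAE

end Groth.Agent.Lib.Helper7.LinTopLemmas
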