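import Mathlib.RingTheory.Ideal.Over
import Mathlib.RingTheory.Localization.AtPrime.Basic

set_option autoImplicit false
universe u

namespace Groth.Agent.Lib.Helper7

theorem isLocalization_atPrime_of_forall_le {R S : Type u} [CommRing R] [CommRing S] [Algebra R S]
    (p : Ideal R) [p.IsPrime] (q : Ideal S) [q.IsPrime] [q.LiesOver p]
    (H : ∀ q' : Ideal S, q'.IsPrime → q'.under R ≤ p → q' ≤ q) :
    IsLocalization.AtPrime (Localization (Algebra.algebraMapSubmonoid S p.primeCompl)) q := by
  have h1 : Algebra.algebraMapSubmonoid S p.primeCompl ≤ q.primeCompl := by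
    rintro _ ⟨r, hr, rfl⟩ hq
    apply hr
    rw [Ideal.LiesOver.over (P := q) (p := p)]
    exact hq
  refine IsLocalization.of_le (Algebra.algebraMapSubmonoid S p.primeCompl) q.primeCompl h1 ?_
  intro s hs
  by_contra hnu
  obtain ⟨m, hm, hsm⟩ := exists_max_ideal_of_mem_nonunits hnu
  have hq' : (m.comap (algebraMap S (Localization
      (Algebra.algebraMapSubmonoid S p.primeCompl)))).IsPrime := Ideal.comap_isPrime _ _
  have hle : (m.comap (algebraMap S (Localization
      (Algebra.algebraMapSubmonoid S p.primeCompl)))).under R ≤ p := by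
    intro r hr
    by_contra hrp
    have hmem : algebraMap S (Localization (Algebra.algebraMapSubmonoid S p.primeCompl))
        (algebraMap R S r) ∈ m := hr
    exact hm.ne_top (m.eq_top_of_isUnit_mem hmem
      (IsLocalization.map_units _ (⟨algebraMap R S r, r, hrp, rfl⟩ :
        Algebra.algebraMapSubmonoid S p.primeCompl)))
  exact hs (H _ hq' hle hsm)

end Groth.Agent.Lib.Helper7
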