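import Groth.Agent.Lib.Helper7.NoetherNormInt
import Mathlib.RingTheory.Localization.Integral
import Mathlib.RingTheory.MvPolynomial.Localization
import Mathlib.RingTheory.AlgebraicIndependent.Defs

/-!
# Noether normalization over a domain
-/

set_option autoImplicit false
set_option linter.unusedVariables false
set_option linter.style.haveILetI false
set_option maxSynthPendingDepth 3

namespace Groth.Agent.Lib.Helper7.NNDomain

open MvPolynomial

/-- Clearing denominators in an integral dependence relation, in two steps. -/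
theorem exists_smul_isIntegral {P S Pm Sm : Type*} [CommRing P] [CommRing S] [CommRing Pm]
    [CommRing Sm] [Algebra P S] [Algebra P Pm] [Algebra S Sm] [Algebra Pm Sm] [Algebra P Sm]
    [IsScalarTower P S Sm] [IsScalarTower P Pm Sm]
    (N : Submonoid P) [IsLocalization N Pm] [IsLocalization (Algebra.algebraMapSubmonoid S N) Sm]
    (x : S) (hx : IsIntegral Pm (algebraMap S Sm x)) : ∃ m ∈ N, IsIntegral P (m • x) := by
  obtain ⟨⟨m₁, hm₁⟩, h1⟩ :=
    IsIntegral.exists_multiple_integral_of_isLocalization N (Rₘ := Pm) (algebraMap S Sm x) hx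
  have h1' : IsIntegral P (algebraMap S Sm (m₁ • x)) := by
    rw [Algebra.smul_def, map_mul, ← IsScalarTower.algebraMap_apply, ← Algebra.smul_def]
    exact h1
  obtain ⟨m₂, hm₂, h2⟩ := IsLocalization.exists_isIntegral_smul_of_isIntegral_map N h1'
  refine ⟨m₂ * m₁, N.mul_mem hm₂ hm₁, ?_⟩
  rw [mul_smul]
  exact h2

attribute [local instance] MvPolynomial.algebraMvPolynomial

universe u

section setup

variable {R S : Type u} [CommRing R] [IsDomain R] [CommRing S] [Algebra R S]

local notation "K" => FractionRing R
local notation "SK" => Localization (Algebra.algebraMapSubmonoid S (nonZeroDivisors R))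

variable (R) in
/-- The presentation of the generic fibre. -/
noncomputable def rho {n : ℕ} (x : Fin n → S) : MvPolynomial (Fin n) K →ₐ[K] SK :=
  aeval (fun j => algebraMap S SK (x j))

theorem rho_map {n : ℕ} (π : MvPolynomial (Fin n) R →ₐ[R] S) (p : MvPolynomial (Fin n) R) :
    rho R (fun j => π (X j)) (MvPolynomial.map (algebraMap R K) p) = algebraMap S SK (π p) := by
  induction p using MvPolynomial.induction_on with
  | C a =>
    have h : π (C a) = algebraMap R S a := by simp
    simp only [rho, map_C, aeval_C, h]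
    rw [← IsScalarTower.algebraMap_apply R K SK, ← IsScalarTower.algebraMap_apply R S SK]
  | add p q hp hq => simp only [map_add, hp, hq]
  | mul_X p j hp => simp only [map_mul, hp, map_X]; simp [rho]

theorem rho_int {n : ℕ} (x : Fin n → S) (q : MvPolynomial (Fin n) ℤ) :
    rho R x (MvPolynomial.map (Int.castRingHom K) q) = algebraMap S SK (aeval x q) := by
  induction q using MvPolynomial.induction_on with
  | C a => simp [rho]
  | add p q hp hq => simp only [map_add, hp, hq]
  | mul_X p j hp => simp only [map_mul, hp, map_X]; simp [rho]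

theorem rho_surjective {n : ℕ} (π : MvPolynomial (Fin n) R →ₐ[R] S)
    (hπ : Function.Surjective π) : Function.Surjective (rho R (fun j => π (X j))) := by
  intro z
  obtain ⟨s, c, rfl⟩ :=
    IsLocalization.exists_mk'_eq (Algebra.algebraMapSubmonoid S (nonZeroDivisors R)) z
  obtain ⟨c, hc⟩ := c
  obtain ⟨c₀, hc₀, rfl⟩ := hc
  obtain ⟨p, rfl⟩ := hπ s
  refine ⟨C ((algebraMap R K c₀)⁻¹) * MvPolynomial.map (algebraMap R K) p, ?_⟩
  rw [IsLocalization.eq_mk'_iff_mul_eq, map_mul, rho_map]
  have h0 : algebraMap R K c₀ ≠ 0 :=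
    (map_ne_zero_iff _ (IsFractionRing.injective R K)).2 (nonZeroDivisors.ne_zero hc₀)
  have h1 : rho R (fun j => π (X j)) (C ((algebraMap R K c₀)⁻¹)) *
      algebraMap S SK (algebraMap R S c₀) = 1 := by
    rw [← IsScalarTower.algebraMap_apply R S SK, IsScalarTower.algebraMap_apply R K SK]
    simp only [rho, aeval_C]
    rw [← map_mul, inv_mul_cancel₀ h0, map_one]
  calc _ = (rho R (fun j => π (X j)) (C ((algebraMap R K c₀)⁻¹)) *
      algebraMap S SK (algebraMap R S c₀)) * algebraMap S SK (π p) := by ring
    _ = _ := by rw [h1, one_mul]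

theorem ker_rho_ne_top (hinj : Function.Injective (algebraMap R S)) {n : ℕ} (x : Fin n → S) :
    RingHom.ker (rho R x) ≠ ⊤ := by
  intro h
  have h1 : (1 : MvPolynomial (Fin n) K) ∈ RingHom.ker (rho R x) := h ▸ Submodule.mem_top
  rw [RingHom.mem_ker, map_one] at h1
  have h2 : algebraMap S SK 1 = 0 := by rw [map_one]; exact h1
  rw [IsLocalization.map_eq_zero_iff (Algebra.algebraMapSubmonoid S (nonZeroDivisors R))] at h2
  obtain ⟨⟨c, hc⟩, hc0⟩ := h2
  obtain ⟨c₀, hc₀, rfl⟩ := hc
  simp only [mul_one] at hc0
  have : c₀ = 0 := hinj (by rw [hc0, map_zero])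
  exact nonZeroDivisors.ne_zero hc₀ this

end setup

section main

variable {R S : Type u} [CommRing R] [IsDomain R] [CommRing S] [Algebra R S]

local notation "K" => FractionRing R
local notation "SK" => Localization (Algebra.algebraMapSubmonoid S (nonZeroDivisors R))

/-- Elements of `S` whose image in the generic fibre is integral over `K[y]` become integral over
`R[y]` after multiplication by a nonzero element of `R`. -/
theorem exists_smul_isIntegral_adjoin {s : ℕ} (y : Fin s → S)
    (g : MvPolynomial (Fin s) K →ₐ[K] SK)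
    (hg : ∀ P : MvPolynomial (Fin s) R,
      g (MvPolynomial.map (algebraMap R K) P) = algebraMap S SK (aeval y P))
    (hgint : g.IsIntegral) (x : S) :
    ∃ c ∈ nonZeroDivisors R, IsIntegral (Algebra.adjoin R (Set.range y)) (c • x) := by
  letI a1 : Algebra (MvPolynomial (Fin s) R) S := (aeval y : _ →ₐ[R] S).toRingHom.toAlgebra
  letI a2 : Algebra (MvPolynomial (Fin s) K) SK := g.toRingHom.toAlgebra
  haveI t2 : IsScalarTower (MvPolynomial (Fin s) R) (MvPolynomial (Fin s) K) SK :=
    IsScalarTower.of_algebraMap_eq (fun P => by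
      rw [IsScalarTower.algebraMap_apply (MvPolynomial (Fin s) R) S SK]
      exact (hg P).symm)
  have hsub : Algebra.algebraMapSubmonoid S ((nonZeroDivisors R).map (C (σ := Fin s))) =
      Algebra.algebraMapSubmonoid S (nonZeroDivisors R) := by
    have hC : ∀ a : R, algebraMap (MvPolynomial (Fin s) R) S (C a) = algebraMap R S a := by
      intro a
      change aeval y (C a) = algebraMap R S a
      simp
    ext z
    constructor
    · rintro ⟨_, ⟨c, hc, rfl⟩, rfl⟩
      exact ⟨c, hc, (hC c).symm⟩
    · rintro ⟨c, hc, rfl⟩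
      exact ⟨C c, ⟨c, hc, rfl⟩, hC c⟩
  haveI l2 : IsLocalization (Algebra.algebraMapSubmonoid S
      ((nonZeroDivisors R).map (C (σ := Fin s)))) SK := by
    rw [hsub]; infer_instance
  have hx : IsIntegral (MvPolynomial (Fin s) K) (algebraMap S SK x) := hgint _
  obtain ⟨m, hm, hint⟩ := exists_smul_isIntegral (P := MvPolynomial (Fin s) R) (S := S)
    (Pm := MvPolynomial (Fin s) K) (Sm := SK) ((nonZeroDivisors R).map (C (σ := Fin s))) x hx
  obtain ⟨c, hc, rfl⟩ := hm
  refine ⟨c, hc, ?_⟩
  have hcx : (C c : MvPolynomial (Fin s) R) • x = c • x := by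
    rw [Algebra.smul_def, Algebra.smul_def]
    congr 1
    change aeval y (C c) = algebraMap R S c
    simp
  change IsIntegral (MvPolynomial (Fin s) R) ((C c : MvPolynomial (Fin s) R) • x) at hint
  rw [hcx] at hint
  -- transfer integrality to the subalgebra `R[y]`
  have hmem : ∀ P : MvPolynomial (Fin s) R, aeval y P ∈ Algebra.adjoin R (Set.range y) := by
    intro P
    rw [Algebra.adjoin_range_eq_range_aeval]
    exact ⟨P, rfl⟩
  letI a4 : Algebra (MvPolynomial (Fin s) R) (Algebra.adjoin R (Set.range y)) :=
    ((aeval y : _ →ₐ[R] S).codRestrict (Algebra.adjoin R (Set.range y)) hmem).toRingHom.toAlgebra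
  haveI t3 : IsScalarTower (MvPolynomial (Fin s) R) (Algebra.adjoin R (Set.range y)) S :=
    IsScalarTower.of_algebraMap_eq (fun P => rfl)
  exact hint.tower_top

theorem noether_normalization_over_domain [Algebra.FiniteType R S]
    (hinj : Function.Injective (algebraMap R S)) :
    ∃ (d : ℕ) (y : Fin d → S) (S' : Subalgebra R S), AlgebraicIndependent R y ∧
      (∀ i, y i ∈ S') ∧ S'.FG ∧
      (∀ s ∈ S', IsIntegral (Algebra.adjoin R (Set.range y)) s) ∧
      ∃ f : R, f ≠ 0 ∧ ∀ s : S, ∃ n : ℕ, (f ^ n) • s ∈ S' := by
  classical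
  obtain ⟨n, π, hπ⟩ := Algebra.FiniteType.iff_quotient_mvPolynomial''.mp ‹Algebra.FiniteType R S›
  set x : Fin n → S := fun j => π (X j) with hx
  have hρsurj := rho_surjective π hπ
  have hker := ker_rho_ne_top hinj x
  obtain ⟨s, -, Y, hY, hinjg, hintg⟩ := NNInt.exists_int_integral_inj (RingHom.ker (rho R x)) hker
  choose Y₀ hY₀ using hY
  set y : Fin s → S := fun j => aeval x (Y₀ j) with hy
  set g : MvPolynomial (Fin s) K →ₐ[K] SK := (rho R x).comp (aeval Y) with hgdef
  have hgX : ∀ j, g (X j) = algebraMap S SK (y j) := by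
    intro j
    simp only [hgdef, AlgHom.comp_apply, aeval_X]
    rw [← hY₀ j, rho_int]
  have hg : ∀ P : MvPolynomial (Fin s) R,
      g (MvPolynomial.map (algebraMap R K) P) = algebraMap S SK (aeval y P) := by
    intro P
    induction P using MvPolynomial.induction_on with
    | C a =>
      simp only [map_C, aeval_C, AlgHom.commutes, algebraMap_eq]
      rw [← algebraMap_eq, AlgHom.commutes, ← IsScalarTower.algebraMap_apply R K SK,
        ← IsScalarTower.algebraMap_apply R S SK]
    | add p q hp hq => simp only [map_add, hp, hq]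
    | mul_X p j hp => simp only [map_mul, hp, map_X, hgX, aeval_X]
  have hginj : Function.Injective g := by
    rw [injective_iff_map_eq_zero]
    intro p hp
    apply (injective_iff_map_eq_zero _).1 hinjg
    change Ideal.Quotient.mk _ (aeval Y p) = 0
    rw [Ideal.Quotient.eq_zero_iff_mem, RingHom.mem_ker]
    exact hp
  have hgint : g.IsIntegral := by
    have h1 : g.toRingHom = (Ideal.quotientKerAlgEquivOfSurjective hρsurj).toAlgHom.toRingHom.comp
        ((Ideal.Quotient.mkₐ K (RingHom.ker (rho R x))).comp (aeval Y)).toRingHom := by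
      refine RingHom.ext fun p => ?_
      rfl
    change g.toRingHom.IsIntegral
    rw [h1]
    exact RingHom.IsIntegral.trans _ _ hintg
      (RingHom.isIntegral_of_surjective _ (Ideal.quotientKerAlgEquivOfSurjective hρsurj).surjective)
  -- algebraic independence
  have hindep : AlgebraicIndependent R y := by
    rw [algebraicIndependent_iff_injective_aeval, injective_iff_map_eq_zero]
    intro P hP
    have h1 : g (MvPolynomial.map (algebraMap R K) P) = 0 := by rw [hg, hP, map_zero]
    have h2 := (injective_iff_map_eq_zero g).1 hginj _ h1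
    exact (injective_iff_map_eq_zero _).1
      (MvPolynomial.map_injective _ (IsFractionRing.injective R K)) _ h2
  -- clearing denominators for the generators
  choose c hcM hcint using fun j => exists_smul_isIntegral_adjoin y g hg hgint (x j)
  set z : Fin n → S := fun j => c j • x j with hz
  set S' : Subalgebra R S := Algebra.adjoin R (Set.range y ∪ Set.range z) with hS'
  have hyS' : ∀ i, y i ∈ S' := fun i => Algebra.subset_adjoin (Or.inl ⟨i, rfl⟩)
  have hzS' : ∀ j, z j ∈ S' := fun j => Algebra.subset_adjoin (Or.inr ⟨j, rfl⟩)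
  refine ⟨s, y, S', hindep, hyS', ?_, ?_, ?_⟩
  · rw [Subalgebra.fg_def]
    exact ⟨_, (Set.finite_range y).union (Set.finite_range z), rfl⟩
  · -- integrality
    have hle : S' ≤ (integralClosure (Algebra.adjoin R (Set.range y)) S).restrictScalars R := by
      rw [hS']
      apply Algebra.adjoin_le
      rintro _ (⟨i, rfl⟩ | ⟨j, rfl⟩)
      · have : y i = algebraMap (Algebra.adjoin R (Set.range y)) S
            ⟨y i, Algebra.subset_adjoin ⟨i, rfl⟩⟩ := rfl
        change IsIntegral _ (y i)
        rw [this]
        exact isIntegral_algebraMap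
      · exact hcint j
    intro t ht
    exact hle ht
  · refine ⟨∏ j, c j, ?_, ?_⟩
    · rw [Finset.prod_ne_zero_iff]
      intro j _
      exact nonZeroDivisors.ne_zero (hcM j)
    · intro t
      obtain ⟨p, rfl⟩ := hπ t
      induction p using MvPolynomial.induction_on with
      | C a =>
        refine ⟨0, ?_⟩
        rw [pow_zero, one_smul]
        have : π (C a) = algebraMap R S a := by simp
        rw [this]
        exact S'.algebraMap_mem a
      | add p q hp hq =>
        obtain ⟨n₁, h₁⟩ := hp
        obtain ⟨n₂, h₂⟩ := hq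
        refine ⟨n₁ + n₂, ?_⟩
        rw [map_add, smul_add]
        refine S'.add_mem ?_ ?_
        · rw [pow_add, mul_comm, mul_smul]
          exact S'.smul_mem h₁ _
        · rw [pow_add, mul_smul]
          exact S'.smul_mem h₂ _
      | mul_X p j hp =>
        obtain ⟨n₁, h₁⟩ := hp
        refine ⟨n₁ + 1, ?_⟩
        have hfx : (∏ i, c i) • x j ∈ S' := by
          rw [← Finset.mul_prod_erase Finset.univ c (Finset.mem_univ j), mul_comm, mul_smul]
          exact S'.smul_mem (hzS' j) _
        have : (∏ i, c i) ^ (n₁ + 1) • π (p * X j) =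
            ((∏ i, c i) ^ n₁ • π p) * ((∏ i, c i) • x j) := by
          rw [map_mul, pow_succ, smul_mul_smul_comm]
        rw [this]
        exact S'.mul_mem h₁ hfx

end main

end Groth.Agent.Lib.Helper7.NNDomain
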