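import Mathlib.RingTheory.Support
import Mathlib.RingTheory.Spectrum.Prime.Module
import Mathlib.RingTheory.Spectrum.Prime.Topology
import Mathlib.RingTheory.Ideal.AssociatedPrime.Localization
import Mathlib.RingTheory.Ideal.AssociatedPrime.Finiteness
import Mathlib.RingTheory.Ideal.MinimalPrime.Noetherian
import Mathlib.RingTheory.Localization.Module

/-!
# The largest submodule with nowhere dense support
-/

set_option autoImplicit false
set_option linter.unusedVariables false
set_option linter.style.haveILetI false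

namespace Groth.Agent.Lib.Helper7.NoEmb

universe u

variable (R : Type u) [CommRing R] [IsNoetherianRing R] (M : Type u) [AddCommGroup M] [Module R M]
  [Module.Finite R M]

/-- elements vanishing at all generic points of the support -/
def Ksub : Submodule R M where
  carrier := {m | ∀ p ∈ (Module.annihilator R M).minimalPrimes, ∃ r ∉ p, r • m = 0}
  add_mem' := by
    intro a b ha hb p hp
    obtain ⟨r, hr, hra⟩ := ha p hp
    obtain ⟨t, ht, htb⟩ := hb p hp
    have hprime : p.IsPrime := hp.1.1
    refine ⟨r * t, fun h => (hprime.mem_or_mem h).elim hr ht, ?_⟩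
    show (r * t) • (a + b) = 0
    have h1 : (r * t) • a = 0 := by rw [mul_comm, mul_smul, hra, smul_zero]
    have h2 : (r * t) • b = 0 := by rw [mul_smul, htb, smul_zero]
    rw [smul_add, h1, h2, add_zero]
  zero_mem' := by
    intro p hp
    have hprime : p.IsPrime := hp.1.1
    exact ⟨1, fun h => hprime.ne_top ((Ideal.eq_top_iff_one _).2 h), smul_zero _⟩
  smul_mem' := by
    intro c m hm p hp
    obtain ⟨r, hr, h⟩ := hm p hp
    exact ⟨r, hr, by rw [smul_comm, h, smul_zero]⟩

variable {R} {M}

theorem mem_Ksub {m : M} : m ∈ Ksub R M ↔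
    ∀ p ∈ (Module.annihilator R M).minimalPrimes, ∃ r ∉ p, r • m = 0 := Iff.rfl

omit [IsNoetherianRing R] [Module.Finite R M] in
theorem notMem_support_sub (K' : Submodule R M) (p : PrimeSpectrum R) :
    p ∉ Module.support R ↥K' ↔ ∀ m ∈ K', ∃ r ∉ p.asIdeal, r • m = 0 := by
  rw [Module.notMem_support_iff']
  constructor
  · intro h m hm
    obtain ⟨r, hr, h0⟩ := h ⟨m, hm⟩
    exact ⟨r, hr, congrArg Subtype.val h0⟩
  · rintro h ⟨m, hm⟩
    obtain ⟨r, hr, h0⟩ := h m hm
    exact ⟨r, hr, Subtype.ext h0⟩

theorem minimal_mem_support {p : Ideal R} (hp : p ∈ (Module.annihilator R M).minimalPrimes) :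
    (⟨p, hp.1.1⟩ : PrimeSpectrum R) ∈ Module.support R M := by
  rw [Module.mem_support_iff_of_finite]
  exact hp.1.2

theorem exists_minimal_le {x : PrimeSpectrum R} (hx : x ∈ Module.support R M) :
    ∃ p ∈ (Module.annihilator R M).minimalPrimes, p ≤ x.asIdeal := by
  rw [Module.mem_support_iff_of_finite] at hx
  exact Ideal.exists_minimalPrimes_le hx

theorem minimal_notMem_support_Ksub {p : Ideal R}
    (hp : p ∈ (Module.annihilator R M).minimalPrimes) :
    (⟨p, hp.1.1⟩ : PrimeSpectrum R) ∉ Module.support R ↥(Ksub R M) := by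
  rw [notMem_support_sub]
  intro m hm
  exact hm p hp

theorem le_Ksub_iff (K' : Submodule R M) :
    K' ≤ Ksub R M ↔ ∀ p (hp : p ∈ (Module.annihilator R M).minimalPrimes),
      (⟨p, hp.1.1⟩ : PrimeSpectrum R) ∉ Module.support R ↥K' := by
  constructor
  · intro h p hp
    rw [notMem_support_sub]
    intro m hm
    exact h hm p hp
  · intro h m hm p hp
    have := (notMem_support_sub K' ⟨p, hp.1.1⟩).1 (h p hp) m hm
    exact this

theorem minimal_eq_of_le {p q : Ideal R} (hp : p ∈ (Module.annihilator R M).minimalPrimes)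
    (hq : q ∈ (Module.annihilator R M).minimalPrimes) (h : q ≤ p) : q = p :=
  le_antisymm h (hp.2 hq.1 h)

theorem isGreatest_Ksub :
    IsGreatest {K' : Submodule R M | ∀ U : Set (PrimeSpectrum R), IsOpen U →
      U ∩ Module.support R M ⊆ closure (Module.support R ↥K') → U ∩ Module.support R M = ∅}
      (Ksub R M) := by
  constructor
  · intro U hU hsub
    rw [(Module.isClosed_support (R := R) (M := ↥(Ksub R M))).closure_eq] at hsub
    rw [Set.eq_empty_iff_forall_notMem]
    rintro x ⟨hxU, hxM⟩
    obtain ⟨p, hp, hpx⟩ := exists_minimal_le hxM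
    have hspec : (⟨p, hp.1.1⟩ : PrimeSpectrum R) ⤳ x :=
      (PrimeSpectrum.le_iff_specializes _ _).1 hpx
    have hpU : (⟨p, hp.1.1⟩ : PrimeSpectrum R) ∈ U := hspec.mem_open hU hxU
    exact minimal_notMem_support_Ksub hp (hsub ⟨hpU, minimal_mem_support hp⟩)
  · intro K' hK'
    rw [le_Ksub_iff]
    intro p hp hpK'
    have hfin : (Module.annihilator R M).minimalPrimes.Finite :=
      Ideal.finite_minimalPrimes_of_isNoetherianRing R _
    set Z : Set (PrimeSpectrum R) :=
      ⋃ q ∈ (Module.annihilator R M).minimalPrimes \ {p}, PrimeSpectrum.zeroLocus (q : Set R)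
      with hZ
    have hZclosed : IsClosed Z :=
      (hfin.subset Set.sdiff_subset).isClosed_biUnion fun q _ =>
        PrimeSpectrum.isClosed_zeroLocus _
    have hempty := hK' Zᶜ hZclosed.isOpen_compl (by
      rintro x ⟨hxZ, hxM⟩
      apply subset_closure
      obtain ⟨q, hq, hqx⟩ := exists_minimal_le hxM
      have hqp : q = p := by
        by_contra hne
        apply hxZ
        simp only [hZ, Set.mem_iUnion]
        exact ⟨q, ⟨hq, hne⟩, hqx⟩
      subst hqp
      exact Module.mem_support_mono hqx hpK')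
    have hpmem : (⟨p, hp.1.1⟩ : PrimeSpectrum R) ∈ Zᶜ ∩ Module.support R M := by
      refine ⟨?_, minimal_mem_support hp⟩
      intro hpZ
      simp only [hZ, Set.mem_iUnion] at hpZ
      obtain ⟨q, ⟨hq, hne⟩, hqp⟩ := hpZ
      exact hne (minimal_eq_of_le hp hq hqp)
    rw [hempty] at hpmem
    exact hpmem

theorem support_quotient_Ksub :
    Module.support R (M ⧸ Ksub R M) = Module.support R M := by
  apply Set.Subset.antisymm
  · exact Module.support_subset_of_surjective (Ksub R M).mkQ (Ksub R M).mkQ_surjective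
  · intro x hx
    obtain ⟨p, hp, hpx⟩ := exists_minimal_le hx
    refine Module.mem_support_mono (p := ⟨p, hp.1.1⟩) hpx ?_
    have hpM := minimal_mem_support hp
    rw [Module.mem_support_iff'] at hpM ⊢
    obtain ⟨m, hm⟩ := hpM
    refine ⟨(Ksub R M).mkQ m, fun r hr h0 => ?_⟩
    rw [← map_smul, Submodule.mkQ_apply, Submodule.Quotient.mk_eq_zero] at h0
    obtain ⟨t, ht, h1⟩ := h0 p hp
    have hprime : p.IsPrime := hp.1.1
    refine hm (t * r) (fun h => (hprime.mem_or_mem h).elim ht hr) ?_
    rw [mul_smul, h1]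

theorem mem_minimalPrimes_of_mem_ass {P : Ideal R}
    (hP : P ∈ associatedPrimes R (M ⧸ Ksub R M)) :
    P ∈ (Module.annihilator R M).minimalPrimes := by
  obtain ⟨hprime, x, hx⟩ := isAssociatedPrime_iff.1 hP
  obtain ⟨m, rfl⟩ := (Ksub R M).mkQ_surjective x
  have hmem : ∀ r, r ∈ P ↔ r • m ∈ Ksub R M := by
    intro r
    rw [hx, Submodule.mem_colon_singleton, Submodule.mem_bot, ← map_smul, Submodule.mkQ_apply,
      Submodule.Quotient.mk_eq_zero]
  have hmK : m ∉ Ksub R M := by
    intro hmK
    apply hprime.ne_top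
    rw [Ideal.eq_top_iff_one, hmem, one_smul]
    exact hmK
  rw [mem_Ksub] at hmK
  push Not at hmK
  obtain ⟨p₀, hp₀, hm0⟩ := hmK
  have hprime₀ : p₀.IsPrime := hp₀.1.1
  have hle : P ≤ p₀ := by
    intro r hr
    by_contra hrn
    obtain ⟨t, ht, h1⟩ := (hmem r).1 hr p₀ hp₀
    exact hm0 (t * r) (fun h => (hprime₀.mem_or_mem h).elim ht hrn) (by rw [mul_smul, h1])
  have hPsupp : (⟨P, hprime⟩ : PrimeSpectrum R) ∈ Module.support R M := by
    rw [← support_quotient_Ksub]
    rw [Module.mem_support_iff_exists_annihilator]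
    refine ⟨(Ksub R M).mkQ m, ?_⟩
    intro r hr
    rw [Submodule.mem_annihilator_span_singleton] at hr
    show r ∈ P
    rw [hx, Submodule.mem_colon_singleton, Submodule.mem_bot]
    exact hr
  rw [Module.mem_support_iff_of_finite] at hPsupp
  have : P = p₀ := le_antisymm hle (hp₀.2 ⟨hprime, hPsupp⟩ hle)
  rw [this]
  exact hp₀

theorem exists_pow_smul_eq_zero (f : R)
    (hf : ∀ p ∈ associatedPrimes R M,
      ¬ Minimal (fun x => x ∈ associatedPrimes R M) p → f ∈ p)
    {m : M} (hm : m ∈ Ksub R M) : ∃ n : ℕ, f ^ n • m = 0 := by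
  by_contra hcon
  push Not at hcon
  set N : Submodule R M := Submodule.span R {m} with hN
  have hfrad : f ∉ (Module.annihilator R ↥N).radical := by
    rintro ⟨n, hn⟩
    apply hcon n
    have := (Module.mem_annihilator.1 hn) ⟨m, Submodule.subset_span rfl⟩
    exact congrArg Subtype.val this
  rw [Ideal.radical_eq_sInf, Ideal.mem_sInf] at hfrad
  push Not at hfrad
  obtain ⟨Q, ⟨hQle, hQprime⟩, hfQ⟩ := hfrad
  haveI := hQprime
  obtain ⟨P, hPmin, hPQ⟩ := Ideal.exists_minimalPrimes_le hQle
  have hfP : f ∉ P := fun h => hfQ (hPQ h)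
  have hPassN : P ∈ associatedPrimes R ↥N :=
    Module.associatedPrimes.minimalPrimes_annihilator_subset_associatedPrimes R ↥N hPmin
  have hPass : P ∈ associatedPrimes R M :=
    associatedPrimes.subset_of_injective N.injective_subtype hPassN
  apply hfP
  apply hf P hPass
  intro hmin
  have hPprime : P.IsPrime := hPmin.1.1
  -- `P` lies in the support of `N ≤ Ksub R M`
  have hPsuppN : (⟨P, hPprime⟩ : PrimeSpectrum R) ∈ Module.support R ↥N := by
    rw [Module.mem_support_iff_of_finite]
    exact hPmin.1.2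
  have hPsuppM : (⟨P, hPprime⟩ : PrimeSpectrum R) ∈ Module.support R M :=
    Module.support_subset_of_injective N.subtype N.injective_subtype hPsuppN
  obtain ⟨p, hp, hpP⟩ := exists_minimal_le hPsuppM
  have hpass : p ∈ associatedPrimes R M :=
    Module.associatedPrimes.minimalPrimes_annihilator_subset_associatedPrimes R M hp
  have hPp : P = p := le_antisymm (hmin.2 hpass hpP) hpP
  subst hPp
  have hNK : N ≤ Ksub R M := by
    rw [hN, Submodule.span_le]
    intro y hy
    rw [Set.mem_singleton_iff] at hy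
    rw [hy]
    exact hm
  exact (le_Ksub_iff N).1 hNK P hp hPsuppN

theorem map_bijective (f : R)
    (hf : ∀ p ∈ associatedPrimes R M,
      ¬ Minimal (fun x => x ∈ associatedPrimes R M) p → f ∈ p) :
    Function.Bijective (LocalizedModule.map (Submonoid.powers f) (Ksub R M).mkQ) := by
  constructor
  · rw [injective_iff_map_eq_zero]
    intro x hx
    induction x using LocalizedModule.induction_on with
    | _ m s =>
      rw [LocalizedModule.map_mk, ← LocalizedModule.zero_mk (1 : Submonoid.powers f),
        LocalizedModule.mk_eq] at hx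
      obtain ⟨u, hu⟩ := hx
      rw [one_smul, smul_zero, smul_zero] at hu
      have hu' : (u : R) • m ∈ Ksub R M := by
        have : (u : R) • (Ksub R M).mkQ m = 0 := hu
        rw [← map_smul, Submodule.mkQ_apply, Submodule.Quotient.mk_eq_zero] at this
        exact this
      obtain ⟨n, hn⟩ := exists_pow_smul_eq_zero f hf hu'
      rw [← LocalizedModule.zero_mk (1 : Submonoid.powers f), LocalizedModule.mk_eq]
      refine ⟨⟨f ^ n, n, rfl⟩ * u, ?_⟩
      rw [one_smul, smul_zero, smul_zero]
      change (f ^ n * (u : R)) • m = 0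
      rw [mul_smul, hn]
  · intro y
    induction y using LocalizedModule.induction_on with
    | _ n s =>
      obtain ⟨m, rfl⟩ := (Ksub R M).mkQ_surjective n
      exact ⟨LocalizedModule.mk m s, LocalizedModule.map_mk _ _ _ _⟩

end Groth.Agent.Lib.Helper7.NoEmb
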