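import Groth.Prelude.Def_Disc
import Groth.Agent.Lib.Helper7.FlatKer
import Mathlib.RingTheory.Kaehler.Basic
import Mathlib.LinearAlgebra.TensorProduct.Tower

/-!
# The Noether different commutes with flat base change
-/

set_option autoImplicit false
set_option linter.unusedVariables false

namespace Groth.Agent.Lib.Helper7.NoetherBC

open TensorProduct

universe u
variable {A B A' B' : Type u} [CommRing A] [CommRing B] [CommRing A'] [CommRing B']
  [Algebra A B] [Algebra A A'] [Algebra A B'] [Algebra B B'] [Algebra A' B']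
  [IsScalarTower A B B'] [IsScalarTower A A' B']

/-- `θ : B ⊗[A] B → B' ⊗[A'] B'`. -/
noncomputable def θ : B ⊗[A] B →ₐ[A] B' ⊗[A'] B' :=
  (Algebra.TensorProduct.mapOfCompatibleSMul A' A A B' B').comp
    (Algebra.TensorProduct.map (IsScalarTower.toAlgHom A B B') (IsScalarTower.toAlgHom A B B'))

@[simp] theorem θ_tmul (x y : B) :
    θ (A := A) (A' := A') (B' := B') (x ⊗ₜ[A] y) = algebraMap B B' x ⊗ₜ[A'] algebraMap B B' y := by
  simp [θ]

theorem lmul'_θ (t : B ⊗[A] B) :
    Algebra.TensorProduct.lmul' A' (θ (A := A) (A' := A') (B' := B') t) =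
      algebraMap B B' (Algebra.TensorProduct.lmul' A t) := by
  induction t using TensorProduct.induction_on with
  | zero => simp
  | tmul x y => simp
  | add x y hx hy => simp only [map_add, hx, hy]

/-- `B' ⊗[A'] B'` is the base change of `B ⊗[A] B`. -/
theorem isBaseChange_θ (h : Algebra.IsPushout A A' B B') :
    IsBaseChange A' (θ (A := A) (A' := A') (B := B) (B' := B')).toLinearMap := by
  let e : A' ⊗[A] (B ⊗[A] B) ≃ₗ[A'] B' ⊗[A'] B' :=
    (AlgebraTensorModule.distribBaseChange A A' B B) ≪≫ₗ
      (TensorProduct.congr h.out.equiv h.out.equiv)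
  refine IsBaseChange.of_equiv e (fun x => ?_)
  induction x using TensorProduct.induction_on with
  | zero => simp
  | tmul x y =>
    simp only [e, LinearEquiv.trans_apply, AlgebraTensorModule.distribBaseChange_tmul,
      TensorProduct.congr_tmul, IsBaseChange.equiv_tmul, one_smul, AlgHom.toLinearMap_apply,
      θ_tmul]
    rfl
  | add x y hx hy => simp only [tmul_add, map_add, hx, hy]


theorem ker_lmul'_eq_map (h : Algebra.IsPushout A A' B B') :
    RingHom.ker (Algebra.TensorProduct.lmul' (S := B') A') =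
      Ideal.map (θ (A := A) (A' := A') (B := B) (B' := B'))
        (RingHom.ker (Algebra.TensorProduct.lmul' (S := B) A)) := by
  apply le_antisymm
  · change KaehlerDifferential.ideal A' B' ≤ _
    rw [← KaehlerDifferential.span_range_eq_ideal, Ideal.span_le]
    rintro _ ⟨b', rfl⟩
    rw [SetLike.mem_coe]
    suffices H : ∀ b' : B', (1 : B') ⊗ₜ[A'] b' - b' ⊗ₜ[A'] (1 : B') ∈
        Ideal.map (θ (A := A) (A' := A') (B := B) (B' := B'))
          (RingHom.ker (Algebra.TensorProduct.lmul' (S := B) A)) from H b'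
    intro b'
    induction b' using h.out.inductionOn with
    | zero => simp
    | tmul b =>
      have e : (1 : B') ⊗ₜ[A'] ((IsScalarTower.toAlgHom A B B').toLinearMap b) -
          ((IsScalarTower.toAlgHom A B B').toLinearMap b) ⊗ₜ[A'] (1 : B') =
          θ (A := A) (A' := A') (B := B) (B' := B') ((1 : B) ⊗ₜ[A] b - b ⊗ₜ[A] (1 : B)) := by
        rw [map_sub, θ_tmul, θ_tmul, map_one]
        rfl
      rw [e]
      refine Ideal.mem_map_of_mem _ ?_
      rw [RingHom.mem_ker, map_sub]
      simp
    | smul a' b' ih =>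
      have e : (1 : B') ⊗ₜ[A'] (a' • b') - (a' • b') ⊗ₜ[A'] (1 : B') =
          algebraMap A' (B' ⊗[A'] B') a' * ((1 : B') ⊗ₜ[A'] b' - b' ⊗ₜ[A'] (1 : B')) := by
        rw [← Algebra.smul_def]
        simp only [smul_sub, TensorProduct.tmul_smul, TensorProduct.smul_tmul']
      rw [e]
      exact Ideal.mul_mem_left _ _ ih
    | add x y hx hy =>
      have e : (1 : B') ⊗ₜ[A'] (x + y) - (x + y) ⊗ₜ[A'] (1 : B') =
          ((1 : B') ⊗ₜ[A'] x - x ⊗ₜ[A'] (1 : B')) + ((1 : B') ⊗ₜ[A'] y - y ⊗ₜ[A'] (1 : B')) := by
        rw [TensorProduct.tmul_add, TensorProduct.add_tmul]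
        abel
      rw [e]
      exact Ideal.add_mem _ hx hy
  · rw [Ideal.map_le_iff_le_comap]
    intro x hx
    rw [Ideal.mem_comap, RingHom.mem_ker]
    have := lmul'_θ (A := A) (A' := A') (B := B) (B' := B') x
    rw [RingHom.mem_ker] at hx
    rw [show (Algebra.TensorProduct.lmul' (S := B') A') (θ (A := A) (A' := A') (B := B) (B' := B') x)
      = algebraMap B B' (Algebra.TensorProduct.lmul' A x) from this, hx, map_zero]

theorem noetherDifferent_baseChange (h : Algebra.IsPushout A A' B B') [Algebra.FiniteType A B]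
    [Module.Flat A A'] :
    Disc.noetherDifferent A' B' = (Disc.noetherDifferent A B).map (algebraMap B B') := by
  classical
  obtain ⟨s, hs⟩ := KaehlerDifferential.ideal_fg A B
  change Ideal.span (s : Set (B ⊗[A] B)) =
    RingHom.ker (Algebra.TensorProduct.lmul' (S := B) A) at hs
  set θ' := θ (A := A) (A' := A') (B := B) (B' := B') with hθ'
  -- the two linear maps
  let G : (B ⊗[A] B) →ₗ[A] (s → B ⊗[A] B) :=
    LinearMap.pi (fun g => LinearMap.mulRight A (g : B ⊗[A] B))
  let G' : (B' ⊗[A'] B') →ₗ[A'] (s → B' ⊗[A'] B') :=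
    LinearMap.pi (fun g => LinearMap.mulRight A' (θ' (g : B ⊗[A] B)))
  have hbc := isBaseChange_θ (A := A) (A' := A') (B := B) (B' := B') h
  have hbcQ := hbc.finitePow s
  have comm : (θ'.toLinearMap.compLeft s).comp G = (G'.restrictScalars A).comp θ'.toLinearMap := by
    ext x g
    simp [G, G']
  have hker := FlatKer.ker_eq_span hbc hbcQ G G' comm
  -- kernels are annihilators
  have hG : ∀ x, x ∈ LinearMap.ker G ↔
      x ∈ Submodule.annihilator (RingHom.ker (Algebra.TensorProduct.lmul' (S := B) A)) := by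
    intro x
    rw [← hs, Ideal.span, Submodule.mem_annihilator_span, LinearMap.mem_ker]
    constructor
    · intro hx g
      have := congrFun hx g
      simpa [G] using this
    · intro hx
      funext g
      simpa [G] using hx g
  have hG' : ∀ y, y ∈ LinearMap.ker G' ↔
      y ∈ Submodule.annihilator (RingHom.ker (Algebra.TensorProduct.lmul' (S := B') A')) := by
    intro y
    rw [ker_lmul'_eq_map h, ← hs, Ideal.map_span, Ideal.span, Submodule.mem_annihilator_span,
      LinearMap.mem_ker]
    constructor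
    · rintro hy ⟨_, g, hg, rfl⟩
      have := congrFun hy ⟨g, hg⟩
      simpa [G'] using this
    · intro hy
      funext g
      have := hy ⟨θ' g, g, g.2, rfl⟩
      simpa [G'] using this
  unfold Disc.noetherDifferent
  apply le_antisymm
  · rw [Ideal.map_le_iff_le_comap]
    intro y hy
    rw [← hG', hker] at hy
    rw [Ideal.mem_comap]
    refine Submodule.span_induction (p := fun y _ => Algebra.TensorProduct.lmul' (S := B') A' y ∈
      Ideal.map (algebraMap B B') (Ideal.map (Algebra.TensorProduct.lmul' (S := B) A)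
        (Submodule.annihilator (RingHom.ker (Algebra.TensorProduct.lmul' (S := B) A)))))
      ?_ ?_ ?_ ?_ hy
    · rintro _ ⟨x, hx, rfl⟩
      have hx' := (hG x).1 hx
      change Algebra.TensorProduct.lmul' (S := B') A' (θ' x) ∈ _
      rw [lmul'_θ]
      exact Ideal.mem_map_of_mem _ (Ideal.mem_map_of_mem _ hx')
    · simp
    · intro x y _ _ hx hy
      rw [map_add]
      exact Ideal.add_mem _ hx hy
    · intro a' x _ hx
      rw [map_smul, Algebra.smul_def]
      exact Ideal.mul_mem_left _ _ hx
  · rw [Ideal.map_le_iff_le_comap, Ideal.map_le_iff_le_comap]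
    intro x hx
    rw [Ideal.mem_comap, Ideal.mem_comap]
    have hx' : θ' x ∈ Submodule.annihilator
        (RingHom.ker (Algebra.TensorProduct.lmul' (S := B') A')) := by
      rw [← hG', hker]
      exact Submodule.subset_span ⟨x, (hG x).2 hx, rfl⟩
    have := Ideal.mem_map_of_mem (Algebra.TensorProduct.lmul' (S := B') A') hx'
    rw [lmul'_θ] at this
    exact this

end Groth.Agent.Lib.Helper7.NoetherBC
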