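import Groth.Prelude.Def_Disc
import Groth.Agent.Lib.Helper7.FlatAnn
import Mathlib.RingTheory.RingHom.Flat
import Mathlib.RingTheory.Kaehler.Basic
import Mathlib.RingTheory.EssentialFiniteness

/-!
# The Noether different along a flat epimorphism
-/

set_option autoImplicit false
set_option linter.unusedVariables false

namespace Groth.Agent.Lib.Helper7.NoetherOI

open TensorProduct

universe u
variable {A B' B : Type u} [CommRing A] [CommRing B'] [CommRing B] [Algebra A B'] [Algebra A B]
  [Algebra B' B] [IsScalarTower A B' B]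

/-- `φ : B' ⊗[A] B' → B ⊗[A] B`. -/
noncomputable def φ : B' ⊗[A] B' →ₐ[A] B ⊗[A] B :=
  Algebra.TensorProduct.map (IsScalarTower.toAlgHom A B' B) (IsScalarTower.toAlgHom A B' B)

@[simp] theorem φ_tmul (x y : B') :
    φ (A := A) (B := B) (x ⊗ₜ[A] y) = algebraMap B' B x ⊗ₜ[A] algebraMap B' B y := by
  simp [φ]

theorem lmul'_φ (t : B' ⊗[A] B') :
    Algebra.TensorProduct.lmul' A (φ (A := A) (B := B) t) =
      algebraMap B' B (Algebra.TensorProduct.lmul' A t) := by
  induction t using TensorProduct.induction_on with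
  | zero => simp
  | tmul x y => simp
  | add x y hx hy => simp only [map_add, hx, hy]

theorem ker_lmul'_eq_map
    (hepi : ∀ (Q : Type u) [CommRing Q] (g h : B →+* Q),
      g.comp (algebraMap B' B) = h.comp (algebraMap B' B) → g = h) :
    RingHom.ker (Algebra.TensorProduct.lmul' (S := B) A) =
      Ideal.map (φ (A := A) (B' := B') (B := B))
        (RingHom.ker (Algebra.TensorProduct.lmul' (S := B') A)) := by
  set J := Ideal.map (φ (A := A) (B' := B') (B := B))
        (RingHom.ker (Algebra.TensorProduct.lmul' (S := B') A)) with hJ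
  apply le_antisymm
  · change KaehlerDifferential.ideal A B ≤ _
    rw [← KaehlerDifferential.span_range_eq_ideal, Ideal.span_le]
    rintro _ ⟨b, rfl⟩
    rw [SetLike.mem_coe]
    suffices H : ∀ b : B, (1 : B) ⊗ₜ[A] b - b ⊗ₜ[A] (1 : B) ∈ J from H b
    let ι₁ : B →+* (B ⊗[A] B) ⧸ J :=
      (Ideal.Quotient.mk J).comp (Algebra.TensorProduct.includeLeft (R := A) (S := A) (A := B)
        (B := B)).toRingHom
    let ι₂ : B →+* (B ⊗[A] B) ⧸ J :=
      (Ideal.Quotient.mk J).comp (Algebra.TensorProduct.includeRight (R := A) (A := B)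
        (B := B)).toRingHom
    have h12 : ι₁ = ι₂ := by
      apply hepi
      ext b'
      simp only [RingHom.comp_apply, ι₁, ι₂]
      change Ideal.Quotient.mk J (algebraMap B' B b' ⊗ₜ[A] (1 : B)) =
        Ideal.Quotient.mk J ((1 : B) ⊗ₜ[A] algebraMap B' B b')
      rw [Ideal.Quotient.eq]
      have e : algebraMap B' B b' ⊗ₜ[A] (1 : B) - (1 : B) ⊗ₜ[A] algebraMap B' B b' =
          φ (A := A) (B' := B') (B := B) (b' ⊗ₜ[A] (1 : B') - (1 : B') ⊗ₜ[A] b') := by
        rw [map_sub, φ_tmul, φ_tmul, map_one]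
      rw [e]
      refine Ideal.mem_map_of_mem _ ?_
      rw [RingHom.mem_ker, map_sub]
      simp
    intro b
    have := RingHom.congr_fun h12 b
    simp only [RingHom.comp_apply, ι₁, ι₂] at this
    change Ideal.Quotient.mk J (b ⊗ₜ[A] (1 : B)) = Ideal.Quotient.mk J ((1 : B) ⊗ₜ[A] b) at this
    rw [eq_comm, Ideal.Quotient.eq] at this
    exact this
  · rw [hJ, Ideal.map_le_iff_le_comap]
    intro x hx
    rw [Ideal.mem_comap, RingHom.mem_ker]
    have := lmul'_φ (A := A) (B := B) (B' := B') x
    rw [RingHom.mem_ker] at hx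
    rw [show (Algebra.TensorProduct.lmul' (S := B) A) (φ (A := A) (B := B) (B' := B') x)
      = algebraMap B' B (Algebra.TensorProduct.lmul' A x) from this, hx, map_zero]

theorem noetherDifferent_eq [Algebra.FiniteType A B'] (hflat : Module.Flat B' B)
    (hepi : ∀ (Q : Type u) [CommRing Q] (g h : B →+* Q),
      g.comp (algebraMap B' B) = h.comp (algebraMap B' B) → g = h) :
    Disc.noetherDifferent A B = (Disc.noetherDifferent A B').map (algebraMap B' B) := by
  classical
  set φ' := φ (A := A) (B' := B') (B := B) with hφ'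
  letI : Algebra (B' ⊗[A] B') (B ⊗[A] B) := φ'.toRingHom.toAlgebra
  have hφflat : Module.Flat (B' ⊗[A] B') (B ⊗[A] B) := by
    have h1 : (IsScalarTower.toAlgHom A B' B).Flat := RingHom.flat_algebraMap_iff.2 hflat
    exact RingHom.Flat.tensorProductMap h1 h1
  have hfg : (RingHom.ker (Algebra.TensorProduct.lmul' (S := B') A)).FG :=
    KaehlerDifferential.ideal_fg A B'
  have hann := FlatAnn.annihilator_map (S := B ⊗[A] B)
    (RingHom.ker (Algebra.TensorProduct.lmul' (S := B') A)) hfg
  have hker := ker_lmul'_eq_map (A := A) hepi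
  unfold Disc.noetherDifferent
  rw [hker]
  change Ideal.map (Algebra.TensorProduct.lmul' (S := B) A)
    (Submodule.annihilator (Ideal.map (algebraMap (B' ⊗[A] B') (B ⊗[A] B))
      (RingHom.ker (Algebra.TensorProduct.lmul' (S := B') A)))) = _
  rw [hann]
  apply le_antisymm
  · rw [Ideal.map_le_iff_le_comap, Ideal.map_le_iff_le_comap]
    intro x hx
    rw [Ideal.mem_comap, Ideal.mem_comap]
    change Algebra.TensorProduct.lmul' (S := B) A (φ' x) ∈ _
    rw [lmul'_φ]
    exact Ideal.mem_map_of_mem _ (Ideal.mem_map_of_mem _ hx)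
  · rw [Ideal.map_le_iff_le_comap, Ideal.map_le_iff_le_comap]
    intro x hx
    rw [Ideal.mem_comap, Ideal.mem_comap]
    have h1 : φ' x ∈ Ideal.map (algebraMap (B' ⊗[A] B') (B ⊗[A] B))
        (Submodule.annihilator (RingHom.ker (Algebra.TensorProduct.lmul' (S := B') A))) :=
      Ideal.mem_map_of_mem (algebraMap (B' ⊗[A] B') (B ⊗[A] B)) hx
    have := Ideal.mem_map_of_mem (Algebra.TensorProduct.lmul' (S := B) A) h1
    rw [lmul'_φ] at this
    exact this

end Groth.Agent.Lib.Helper7.NoetherOI
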