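import Mathlib.FieldTheory.Minpoly.IsIntegrallyClosed
import Mathlib.RingTheory.Norm.Transitivity
import Mathlib.RingTheory.Ideal.GoingUp
import Mathlib.RingTheory.Ideal.HasGoingUp
import Mathlib.RingTheory.KrullDimension.NonZeroDivisors
import Mathlib.RingTheory.Spectrum.Prime.Topology
import Mathlib.Topology.KrullDimension

/-!
# Image of `V(b)` under an integral extension of a normal domain is `V(N(b))`
-/

set_option autoImplicit false
set_option linter.unusedVariables false

namespace Groth.Agent.Lib.Helper7.NormImage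

universe u

variable (A B K L : Type u) [CommRing A] [IsDomain A] [CommRing B] [IsDomain B] [Algebra A B]
    [Field K] [Field L] [Algebra A K] [IsFractionRing A K] [Algebra B L] [IsFractionRing B L]
    [Algebra A L] [Algebra K L] [IsScalarTower A B L] [IsScalarTower A K L]
    [FiniteDimensional K L] [Algebra.IsIntegral A B] [IsIntegrallyClosed A]

open IntermediateField in
/-- The norm is, up to sign, a positive power of the constant term of the minimal polynomial. -/
theorem norm_eq_pow (b : B) (a : A) (ha : algebraMap A K a = Algebra.norm K (algebraMap B L b)) :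
    ∃ m : ℕ, 0 < m ∧ ∃ u : A, (u = 1 ∨ u = -1) ∧ a = (u * (minpoly A b).coeff 0) ^ m := by
  have hb : IsIntegral A b := Algebra.IsIntegral.isIntegral b
  have hmin := minpoly.isIntegrallyClosed_eq_field_fractions K L hb
  set x := algebraMap B L b with hxdef
  have hx : IsIntegral K x := IsIntegral.of_finite K x
  have h1 := Algebra.norm_eq_norm_adjoin K x
  have h2 := Algebra.PowerBasis.norm_gen_eq_coeff_zero_minpoly (adjoin.powerBasis hx)
  rw [adjoin.powerBasis_gen, minpoly_gen, hmin, Polynomial.coeff_map] at h2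
  refine ⟨Module.finrank K⟮x⟯ L, Module.finrank_pos, (-1) ^ (adjoin.powerBasis hx).dim,
    neg_one_pow_eq_or A _, ?_⟩
  apply IsFractionRing.injective A K
  rw [ha, h1, h2]
  simp

/-- The constant term of the minimal polynomial is a multiple of `b`. -/
theorem coeff_zero_mem_span (b : B) :
    algebraMap A B ((minpoly A b).coeff 0) ∈ Ideal.span {b} := by
  have h := minpoly.aeval A b
  have h2 := Polynomial.divX_mul_X_add (minpoly A b)
  rw [← h2] at h
  simp only [map_add, map_mul, Polynomial.aeval_X, Polynomial.aeval_C] at h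
  rw [Ideal.mem_span_singleton']
  refine ⟨-(Polynomial.aeval b (minpoly A b).divX), ?_⟩
  linear_combination -h

theorem image_zeroLocus (hinj : Function.Injective (algebraMap A B))
    (b : B) (a : A) (ha : algebraMap A K a = Algebra.norm K (algebraMap B L b)) :
    PrimeSpectrum.comap (algebraMap A B) '' PrimeSpectrum.zeroLocus ({b} : Set B) =
      PrimeSpectrum.zeroLocus ({a} : Set A) := by
  obtain ⟨m, hm, u, hu, hau⟩ := norm_eq_pow A B K L b a ha
  have hb : IsIntegral A b := Algebra.IsIntegral.isIntegral b
  apply Set.Subset.antisymm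
  · rintro _ ⟨q, hq, rfl⟩
    rw [PrimeSpectrum.mem_zeroLocus, Set.singleton_subset_iff, SetLike.mem_coe] at hq ⊢
    have h0 : (minpoly A b).coeff 0 ∈ (PrimeSpectrum.comap (algebraMap A B) q).asIdeal := by
      change algebraMap A B ((minpoly A b).coeff 0) ∈ q.asIdeal
      have := coeff_zero_mem_span A B b
      exact (Ideal.span_singleton_le_iff_mem _ |>.2 hq) this
    rw [hau]
    exact Ideal.pow_mem_of_mem _ (Ideal.mul_mem_left _ _ h0) m hm
  · intro p hp
    rw [PrimeSpectrum.mem_zeroLocus, Set.singleton_subset_iff, SetLike.mem_coe, hau] at hp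
    have h0 : (minpoly A b).coeff 0 ∈ p.asIdeal := by
      have h1 := p.isPrime.mem_of_pow_mem _ hp
      rcases hu with rfl | rfl
      · simpa using h1
      · simpa using h1
    -- the prime `q₀` of `A[b]`
    haveI : FaithfulSMul A B := (faithfulSMul_iff_algebraMap_injective A B).2 hinj
    let C := Algebra.adjoin A ({b} : Set B)
    let e := minpoly.equivAdjoin hb
    let φ₀ : AdjoinRoot (minpoly A b) →+* A ⧸ p.asIdeal :=
      AdjoinRoot.lift (Ideal.Quotient.mk p.asIdeal) 0 (by
        rw [Polynomial.eval₂_at_zero, Ideal.Quotient.eq_zero_iff_mem]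
        exact h0)
    let φ : C →+* A ⧸ p.asIdeal := φ₀.comp (e.symm : C →+* AdjoinRoot (minpoly A b))
    let q₀ : Ideal C := RingHom.ker φ
    haveI : q₀.IsPrime := RingHom.ker_isPrime φ
    have hbq₀ : (⟨b, Algebra.self_mem_adjoin_singleton A b⟩ : C) ∈ q₀ := by
      rw [RingHom.mem_ker]
      have : e.symm ⟨b, Algebra.self_mem_adjoin_singleton A b⟩ = AdjoinRoot.root (minpoly A b) := by
        rw [AlgEquiv.symm_apply_eq, minpoly.coe_equivAdjoin]
        exact (Subtype.ext (AdjoinRoot.Minpoly.coe_toAdjoin_mk_X (R := A) (x := b))).symm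
      change φ₀ (e.symm _) = 0
      rw [this, AdjoinRoot.lift_root]
    have hcomap : q₀.comap (algebraMap A C) = p.asIdeal := by
      ext r
      rw [Ideal.mem_comap, RingHom.mem_ker]
      change φ₀ (e.symm (algebraMap A C r)) = 0 ↔ _
      rw [AlgEquiv.commutes, AdjoinRoot.algebraMap_eq, AdjoinRoot.lift_of,
        Ideal.Quotient.eq_zero_iff_mem]
    haveI : Algebra.IsIntegral C B := Algebra.IsIntegral.tower_top (R := A)
    have hker : RingHom.ker (algebraMap C B) ≤ q₀ := by
      intro x hx
      rw [RingHom.mem_ker] at hx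
      have : x = 0 := Subtype.ext hx
      rw [this]
      exact q₀.zero_mem
    obtain ⟨Q, -, hQp, hQ⟩ := Ideal.exists_ideal_over_prime_of_isIntegral q₀ (⊥ : Ideal B)
      (by simpa [← RingHom.ker_eq_comap_bot] using hker)
    refine ⟨⟨Q, hQp⟩, ?_, ?_⟩
    · rw [PrimeSpectrum.mem_zeroLocus, Set.singleton_subset_iff, SetLike.mem_coe]
      have : (⟨b, Algebra.self_mem_adjoin_singleton A b⟩ : C) ∈ Q.comap (algebraMap C B) := by
        rw [hQ]; exact hbq₀
      exact this
    · ext r
      change algebraMap A B r ∈ Q ↔ r ∈ p.asIdeal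
      rw [← hcomap, Ideal.mem_comap, ← hQ, Ideal.mem_comap]
      rfl

/-- The topological Krull dimension of a closed subset `V(s)` of a prime spectrum is the
Krull dimension of the poset of primes containing `s`. -/
theorem topKrullDim_zeroLocus (R : Type u) [CommRing R] (s : Set R) :
    topologicalKrullDim ↥(PrimeSpectrum.zeroLocus s) =
      Order.krullDim ↥(PrimeSpectrum.zeroLocus s) := by
  set I := Ideal.span s with hI
  have hs : PrimeSpectrum.zeroLocus s = PrimeSpectrum.zeroLocus (I : Set R) :=
    (PrimeSpectrum.zeroLocus_span s).symm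
  rw [hs, ← ringKrullDim_quotient, ← PrimeSpectrum.topologicalKrullDim_eq_ringKrullDim]
  symm
  have hemb := PrimeSpectrum.isClosedEmbedding_comap_of_surjective (R ⧸ I) (Ideal.Quotient.mk I)
    Ideal.Quotient.mk_surjective
  have hrange : Set.range (PrimeSpectrum.comap (Ideal.Quotient.mk I)) =
      PrimeSpectrum.zeroLocus (I : Set R) := by
    rw [range_comap_of_surjective _ _ Ideal.Quotient.mk_surjective, Ideal.mk_ker]
  let e : PrimeSpectrum (R ⧸ I) ≃ₜ ↥(PrimeSpectrum.zeroLocus (I : Set R)) :=
    hemb.isEmbedding.toHomeomorph.trans (Homeomorph.setCongr hrange)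
  exact IsHomeomorph.topologicalKrullDim_eq e e.isHomeomorph

theorem krullDim_zeroLocus_eq (hinj : Function.Injective (algebraMap A B))
    (b : B) (a : A) (ha : algebraMap A K a = Algebra.norm K (algebraMap B L b)) :
    Order.krullDim ↥(PrimeSpectrum.zeroLocus ({b} : Set B)) =
      Order.krullDim ↥(PrimeSpectrum.zeroLocus ({a} : Set A)) := by
  have himg := image_zeroLocus A B K L hinj b a ha
  apply le_antisymm
  · let f : ↥(PrimeSpectrum.zeroLocus ({b} : Set B)) → ↥(PrimeSpectrum.zeroLocus ({a} : Set A)) :=
      fun q => ⟨PrimeSpectrum.comap (algebraMap A B) q.1, by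
        rw [← himg]; exact ⟨q.1, q.2, rfl⟩⟩
    refine Order.krullDim_le_of_strictMono f ?_
    intro q₁ q₂ h
    have h' : q₁.1.asIdeal < q₂.1.asIdeal := h
    have := Ideal.IsIntegral.comap_lt_comap (R := A) h'
    exact this
  · refine iSup_le fun p => ?_
    let l : LTSeries (PrimeSpectrum A) := p.map Subtype.val (fun _ _ h => h)
    have hhead : l.head ∈ PrimeSpectrum.zeroLocus ({a} : Set A) := by
      rw [LTSeries.head_map]; exact p.head.2
    rw [← himg] at hhead
    obtain ⟨P, hPb, hP⟩ := hhead
    haveI : P.asIdeal.IsPrime := P.2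
    haveI : P.asIdeal.LiesOver (RelSeries.head l).asIdeal := ⟨by
      rw [← hP]; rfl⟩
    obtain ⟨Lb, hlen, hLhead, -⟩ := Ideal.exists_ltSeries_of_hasGoingUp l P.asIdeal
    have hmem : ∀ i, Lb i ∈ PrimeSpectrum.zeroLocus ({b} : Set B) := by
      intro i
      rw [PrimeSpectrum.mem_zeroLocus, Set.singleton_subset_iff, SetLike.mem_coe] at hPb ⊢
      have h1 : Lb.head ≤ Lb i := LTSeries.head_le Lb i
      rw [hLhead] at h1
      exact h1 hPb
    let q : LTSeries ↥(PrimeSpectrum.zeroLocus ({b} : Set B)) :=
      { length := Lb.length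
        toFun := fun i => ⟨Lb i, hmem i⟩
        step := fun i => Lb.step i }
    have hq : q.length = p.length := by
      change Lb.length = p.length
      rw [hlen]; rfl
    rw [← hq]
    exact Order.LTSeries.length_le_krullDim q

theorem topKrullDim_zeroLocus_eq (hinj : Function.Injective (algebraMap A B))
    (b : B) (a : A) (ha : algebraMap A K a = Algebra.norm K (algebraMap B L b)) :
    topologicalKrullDim ↥(PrimeSpectrum.zeroLocus ({b} : Set B)) =
      topologicalKrullDim ↥(PrimeSpectrum.zeroLocus ({a} : Set A)) := by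
  rw [topKrullDim_zeroLocus, topKrullDim_zeroLocus]
  exact krullDim_zeroLocus_eq A B K L hinj b a ha

end Groth.Agent.Lib.Helper7.NormImage
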