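import Groth.Agent.S1968
import Mathlib

/-!
# A normal domain is a fibre product `V ×_L K` with `V` of weak dimension ≤ 1

`V` is the product of all valuation subrings of `K` containing `A`, `L` the corresponding power of
`K`.
-/

set_option autoImplicit false
universe u

namespace Groth.Agent.Lib.Helper7.NormalCartesian

open CategoryTheory

variable (A K : Type u) [CommRing A] [IsDomain A] [Field K] [Algebra A K]
    [IsFractionRing A K] [IsIntegrallyClosed A]

/-- valuation subrings of `K` containing the image of `A`. -/
abbrev Idx : Type u := {V : ValuationSubring K // (algebraMap A K).range ≤ V.toSubring}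

instance isIntegrallyClosedIn_range : IsIntegrallyClosedIn (algebraMap A K).range K := by
  rw [isIntegrallyClosedIn_iff]
  refine ⟨Subtype.val_injective, ?_⟩
  intro x hx
  have hx' : IsIntegral A x := by
    obtain ⟨p, hp, hpx⟩ := hx
    have hsurj : Function.Surjective (algebraMap A K).rangeRestrict :=
      (algebraMap A K).rangeRestrict_surjective
    have hl : p ∈ Polynomial.lifts (algebraMap A K).rangeRestrict := by
      rw [Polynomial.mem_lifts]
      exact Polynomial.map_surjective _ hsurj p
    obtain ⟨q, hq, -, hqm⟩ := Polynomial.lifts_and_natDegree_eq_and_monic hl hp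
    refine ⟨q, hqm, ?_⟩
    rw [← hq, Polynomial.eval₂_map] at hpx
    exact hpx
  obtain ⟨a, ha⟩ := (IsIntegrallyClosed.isIntegral_iff (R := A) (K := K)).mp hx'
  exact ⟨⟨algebraMap A K a, a, rfl⟩, ha⟩

/-- an element of `K` lying in all valuation subrings containing `A` comes from `A`. -/
lemma exists_of_forall_mem (k : K) (hk : ∀ v : Idx A K, k ∈ v.1) : ∃ a : A, algebraMap A K a = k := by
  have h := Subring.eq_iInf_of_isIntegrallyClosedIn (K := K) (R := (algebraMap A K).range)
  have hk' : k ∈ (algebraMap A K).range := by
    rw [h]
    rw [Subring.mem_iInf]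
    intro v
    exact hk v
  exact hk'

theorem main :
    ∃ (V L : Type u) (_ : CommRing V) (_ : CommRing L) (f : A →+* V) (g : V →+* L) (h : K →+* L),
      g.comp f = h.comp (algebraMap A K) ∧
      (∀ I : Ideal V, Module.Flat V I) ∧ g.Flat ∧ Function.Injective g ∧ Epi (CommRingCat.ofHom g) ∧
      ∀ (v : V) (k : K), g v = h k → ∃! a : A, f a = v ∧ algebraMap A K a = k := by
  let ι : Type u := Idx A K
  let V : Type u := ∀ v : ι, ↥v.1
  let L : Type u := ι → K
  obtain ⟨hflat, hloc⟩ := Groth.Agent.S1968.result (J := ι) (A := fun v => ↥v.1) (K := fun _ => K)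
  let g : V →+* L := algebraMap V L
  let f : A →+* V := RingHom.pi fun v =>
    ((algebraMap A K).codRestrict v.1.toSubring fun a => v.2 ⟨a, rfl⟩)
  let h : K →+* L := RingHom.pi fun _ => RingHom.id K
  have hg : ∀ (x : V) (v : ι), g x v = (x v : K) := fun x v => rfl
  have hf : ∀ (a : A) (v : ι), ((f a v : ↥v.1) : K) = algebraMap A K a := fun a v => rfl
  have hh : ∀ (k : K) (v : ι), h k v = k := fun k v => rfl
  have hginj : Function.Injective g := by
    intro x y hxy
    funext v
    apply Subtype.ext
    have := congrFun hxy v
    rw [hg, hg] at this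
    exact this
  refine ⟨V, L, inferInstance, inferInstance, f, g, h, ?_, hflat, ?_, hginj, ?_, ?_⟩
  · ext a v
    rfl
  · show Module.Flat V L
    exact IsLocalization.flat L (nonZeroDivisors V)
  · constructor
    intro Z u w huw
    ext x
    have : u.hom = w.hom := by
      apply IsLocalization.ringHom_ext (nonZeroDivisors V)
      ext y
      have := congrArg (fun t => t.hom y) huw
      simpa using this
    rw [this]
  · intro x k hxk
    have hk : ∀ v : ι, k ∈ v.1 := by
      intro v
      have := congrFun hxk v
      rw [hg, hh] at this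
      rw [← this]
      exact (x v).2
    obtain ⟨a, ha⟩ := exists_of_forall_mem A K k hk
    refine ⟨a, ⟨?_, ha⟩, ?_⟩
    · apply hginj
      funext v
      rw [hg, hf, ha]
      have := congrFun hxk v
      rw [hg, hh] at this
      exact this.symm
    · intro b hb
      exact IsFractionRing.injective A K (hb.2.trans ha.symm)

end Groth.Agent.Lib.Helper7.NormalCartesian
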