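import Mathlib
import Groth.Prelude.Def_CAlg
import Groth.Agent.Lib.Helper12.SerreNormalC
import Groth.Agent.Lib.Helper21.DepthKit8
import Groth.Agent.Lib.Helper5.RegBC

/-!
# A regular pair in the singular locus of a normal quotient

For a Noetherian normal domain `A`, a prime `p` generated by a regular sequence with `A/p` normal,
and an ideal `J` all of whose primes are non-regular with `ht p + ht J ≤ ht (p + J)`, there are
`x, y ∈ J` forming a regular pair on `A/p`.
-/

set_option autoImplicit false
universe u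

namespace Groth.Agent.Lib.Helper7.NormalQuotDepth

open RingTheory.Sequence Pointwise

variable {A : Type u} [CommRing A]

/-- A non-regular prime of a Noetherian normal domain has height at least two. -/
theorem two_le_height_of_not_regular [IsDomain A] [IsIntegrallyClosed A] [IsNoetherianRing A]
    (P : Ideal A) [P.IsPrime] (h : ¬ IsRegularLocalRing (Localization.AtPrime P)) :
    (2 : ℕ∞) ≤ P.height := by
  by_contra hlt
  apply h
  haveI : IsIntegrallyClosed (Localization.AtPrime P) :=
    isIntegrallyClosed_of_isLocalization _ P.primeCompl P.primeCompl_le_nonZeroDivisors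
  apply Groth.Agent.Lib.Helper12.SerreNormal.isRegularLocalRing_of_normal_of_dim_le_one
  rw [IsLocalization.AtPrime.ringKrullDim_eq_height P]
  have h1 : P.height ≤ 1 := by
    rw [not_le] at hlt
    exact Order.le_of_lt_add_one (by simpa [one_add_one_eq_two] using hlt)
  exact_mod_cast h1

/-- An ideal all of whose primes are non-regular has height at least two. -/
theorem two_le_height_of_forall_not_regular [IsDomain A] [IsIntegrallyClosed A]
    [IsNoetherianRing A] (J : Ideal A)
    (h : ∀ (P : Ideal A) [P.IsPrime], J ≤ P → ¬ IsRegularLocalRing (Localization.AtPrime P)) :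
    (2 : ℕ∞) ≤ J.height := by
  rw [Ideal.height_eq_inf_minimalPrimes]
  refine le_iInf₂ fun P hP => ?_
  haveI := hP.1.1
  exact two_le_height_of_not_regular P (h P hP.1.2)

/-- The length of a regular sequence generating a prime is at most the height of the prime. -/
theorem length_le_height_of_isRegular [IsNoetherianRing A] (p : Ideal A) [p.IsPrime] (rs : List A)
    (hrs : IsRegular A rs) (hp : Ideal.ofList rs = p) : (rs.length : ℕ∞) ≤ p.height := by
  have hfl : (algebraMap A (Localization.AtPrime p)).Flat :=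
    RingHom.flat_algebraMap_iff.mpr (IsLocalization.flat (Localization.AtPrime p) p.primeCompl)
  have hne : Ideal.ofList (rs.map (algebraMap A (Localization.AtPrime p))) ≠ ⊤ := by
    have h1 : Ideal.ofList (rs.map (algebraMap A (Localization.AtPrime p))) =
        p.map (algebraMap A (Localization.AtPrime p)) := by
      rw [← Ideal.map_ofList, hp]
    rw [h1, Localization.AtPrime.map_eq_maximalIdeal]
    exact (IsLocalRing.maximalIdeal.isMaximal _).ne_top
  have hreg := Groth.Agent.Lib.Helper5.RegBC.isRegular_map_of_flat _ hfl rs hrs hne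
  have hdim := ringKrullDim_add_length_eq_ringKrullDim_of_isRegular _ hreg
  rw [List.length_map, IsLocalization.AtPrime.ringKrullDim_eq_height p (Localization.AtPrime p)]
    at hdim
  haveI : Nontrivial (Localization.AtPrime p ⧸
      Ideal.ofList (rs.map (algebraMap A (Localization.AtPrime p)))) :=
    Ideal.Quotient.nontrivial_iff.mpr hne
  have hnn : (0 : WithBot ℕ∞) ≤ ringKrullDim (Localization.AtPrime p ⧸
      Ideal.ofList (rs.map (algebraMap A (Localization.AtPrime p)))) :=
    ringKrullDim_nonneg_of_nontrivial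
  have h2 : ((rs.length : ℕ∞) : WithBot ℕ∞) ≤ (p.height : WithBot ℕ∞) := by
    rw [← hdim]
    calc ((rs.length : ℕ∞) : WithBot ℕ∞) = 0 + ((rs.length : ℕ) : WithBot ℕ∞) := by
          rw [zero_add]; rfl
      _ ≤ _ := add_le_add_left hnn _
  exact_mod_cast h2

/-- With `ht p + ht J ≤ ht (p + J)` and `p` generated by a regular sequence, the primes of `A/p`
over `J` have height at least `ht J`. -/
theorem height_le_height_of_map_le [IsNoetherianRing A] (p : Ideal A) [p.IsPrime] (rs : List A)
    (hrs : IsRegular A rs) (hp : Ideal.ofList rs = p) (J : Ideal A)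
    (hht : p.height + J.height ≤ (p ⊔ J).height)
    (Q : Ideal (A ⧸ p)) [Q.IsPrime] (hJQ : J.map (Ideal.Quotient.mk p) ≤ Q) :
    J.height ≤ Q.height := by
  classical
  have hpq : p ≤ Q.comap (Ideal.Quotient.mk p) := by
    intro a ha
    rw [Ideal.mem_comap, Ideal.Quotient.eq_zero_iff_mem.mpr ha]
    exact Q.zero_mem
  have hJq : J ≤ Q.comap (Ideal.Quotient.mk p) := Ideal.map_le_iff_le_comap.mp hJQ
  have h1 : (p ⊔ J).height ≤ (Q.comap (Ideal.Quotient.mk p)).height :=
    Ideal.height_mono (sup_le hpq hJq)
  have h2 := Ideal.height_le_height_add_spanFinrank_of_le hpq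
  rw [Ideal.map_comap_of_surjective _ Ideal.Quotient.mk_surjective] at h2
  have h3 : (p.spanFinrank : ℕ∞) ≤ rs.length := by
    have h4 : (p.spanFinrank : ℕ∞) ≤ {r | r ∈ rs}.encard := by
      rw [← hp]
      exact Submodule.spanFinrank_span_le_encard _
    refine h4.trans ?_
    have h5 : {r | r ∈ rs} = ((rs.toFinset : Finset A) : Set A) := by
      ext r; simp
    rw [h5, Set.encard_coe_eq_coe_finsetCard]
    exact_mod_cast rs.toFinset_card_le
  have h4 := length_le_height_of_isRegular p rs hrs hp
  have hfin : p.height ≠ ⊤ := Ideal.height_ne_top Ideal.IsPrime.ne_top'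
  have h6 : p.height + J.height ≤ p.height + Q.height := by
    calc p.height + J.height ≤ (p ⊔ J).height := hht
      _ ≤ (Q.comap (Ideal.Quotient.mk p)).height := h1
      _ ≤ Q.height + p.spanFinrank := h2
      _ ≤ Q.height + p.height := add_le_add le_rfl (h3.trans h4)
      _ = p.height + Q.height := add_comm _ _
  exact (ENat.add_le_add_iff_left hfin).mp h6

/-- The regular pair. -/
theorem exists_regular_pair [IsDomain A] [IsIntegrallyClosed A] [IsNoetherianRing A]
    (J : Ideal A)
    (hJ : ∀ (P : Ideal A) [P.IsPrime], J ≤ P → ¬ IsRegularLocalRing (Localization.AtPrime P))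
    (p : Ideal A) [p.IsPrime] (rs : List A) (hrs : IsRegular A rs) (hp : Ideal.ofList rs = p)
    (hnorm : IsIntegrallyClosed (A ⧸ p)) (hht : p.height + J.height ≤ (p ⊔ J).height) :
    ∃ x ∈ J, ∃ y ∈ J, (∀ u, x * u ∈ p → u ∈ p) ∧
      (∀ u, y * u ∈ p ⊔ Ideal.span {x} → u ∈ p ⊔ Ideal.span {x}) := by
  by_cases hIM : (J.map (Ideal.Quotient.mk p)) • (⊤ : Submodule (A ⧸ p) (A ⧸ p)) = ⊤
  · have hJb : J.map (Ideal.Quotient.mk p) = ⊤ := by
      rwa [smul_eq_mul, Ideal.mul_top] at hIM
    have h1 : (1 : A ⧸ p) ∈ J.map (Ideal.Quotient.mk p) := hJb ▸ trivial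
    obtain ⟨j, hj, hj1⟩ :=
      (Ideal.mem_map_iff_of_surjective _ Ideal.Quotient.mk_surjective).mp h1
    have hj' : 1 - j ∈ p := by
      rw [← Ideal.Quotient.eq_zero_iff_mem, map_sub, map_one, hj1, sub_self]
    refine ⟨j, hj, j, hj, fun u hu => ?_, fun u hu => ?_⟩
    · have h2 : u = (1 - j) * u + j * u := by ring
      rw [h2]
      exact p.add_mem (p.mul_mem_right _ hj') hu
    · have h2 : u = (1 - j) * u + j * u := by ring
      rw [h2]
      exact Ideal.add_mem _ (Ideal.mem_sup_left (p.mul_mem_right _ hj')) hu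
  · have hdepth : ((2 : ℕ) : ℕ∞) ≤ LocCoh.idealDepth (J.map (Ideal.Quotient.mk p)) (A ⧸ p) := by
      rw [Groth.Agent.Lib.Helper21.DepthKit.idealDepth_eq_iInf_depth_localization]
      refine le_iInf₂ fun Q hQ => ?_
      have hS2 := (Groth.Agent.Lib.Helper12.SerreNormal.forward (R := A ⧸ p)
        (fun P _ => ⟨inferInstance, isIntegrallyClosed_of_isLocalization _ P.primeCompl
          P.primeCompl_le_nonZeroDivisors⟩)).2
      have h1 := hS2 Q.asIdeal
      rw [Groth.Agent.Lib.Helper12.IndEtLocal.supportDim_localizedModule] at h1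
      have h2 : ((2 : ℕ) : ℕ∞) ≤ Q.asIdeal.height :=
        (two_le_height_of_forall_not_regular J hJ).trans
          (height_le_height_of_map_le p rs hrs hp J hht Q.asIdeal hQ)
      have h3 : ((2 : ℕ) : WithBot ℕ∞) ≤ (Q.asIdeal.height : WithBot ℕ∞) :=
        WithBot.coe_le_coe.mpr h2
      rw [min_eq_left h3] at h1
      exact WithBot.coe_le_coe.mp h1
    obtain ⟨l, hlen, hmem, hreg⟩ :=
      (Groth.Agent.Lib.Helper21.DepthKit.natCast_le_idealDepth_iff _ hIM 2).mp hdepth
    match l, hlen, hmem, hreg with
    | [xb, yb], _, hmem, hreg =>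
      rw [isWeaklyRegular_cons_iff, isWeaklyRegular_cons_iff] at hreg
      obtain ⟨ha, hb, -⟩ := hreg
      rw [isSMulRegular_quotient_iff_mem_of_smul_mem] at hb
      obtain ⟨x, hx, rfl⟩ :=
        (Ideal.mem_map_iff_of_surjective _ Ideal.Quotient.mk_surjective).mp (hmem xb (by simp))
      obtain ⟨y, hy, rfl⟩ :=
        (Ideal.mem_map_iff_of_surjective _ Ideal.Quotient.mk_surjective).mp (hmem yb (by simp))
      have hsup : ∀ u : A, u ∈ p ⊔ Ideal.span {x} ↔
          (Ideal.Quotient.mk p u) ∈ (Ideal.Quotient.mk p x) • (⊤ : Submodule (A ⧸ p) (A ⧸ p)) := by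
        intro u
        rw [Submodule.mem_smul_pointwise_iff_exists]
        constructor
        · intro hu
          obtain ⟨z, hz, xw, hxw, rfl⟩ := Submodule.mem_sup.mp hu
          obtain ⟨w, rfl⟩ := Ideal.mem_span_singleton'.mp hxw
          refine ⟨Ideal.Quotient.mk p w, trivial, ?_⟩
          rw [map_add, Ideal.Quotient.eq_zero_iff_mem.mpr hz, zero_add, map_mul, smul_eq_mul,
            mul_comm]
        · rintro ⟨wb, -, hw⟩
          obtain ⟨w, rfl⟩ := Ideal.Quotient.mk_surjective wb
          have h1 : u - w * x ∈ p := by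
            rw [← Ideal.Quotient.eq_zero_iff_mem, map_sub, map_mul, ← hw, smul_eq_mul]
            ring
          have h2 : u = (u - w * x) + w * x := by ring
          rw [h2]
          exact Ideal.add_mem _ (Ideal.mem_sup_left h1)
            (Ideal.mem_sup_right (Ideal.mem_span_singleton'.mpr ⟨w, rfl⟩))
      refine ⟨x, hx, y, hy, fun u hu => ?_, fun u hu => ?_⟩
      · rw [← Ideal.Quotient.eq_zero_iff_mem] at hu ⊢
        rw [map_mul] at hu
        exact ha.right_eq_zero_of_smul hu
      · rw [hsup] at hu ⊢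
        rw [map_mul] at hu
        exact hb _ hu

end Groth.Agent.Lib.Helper7.NormalQuotDepth
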