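import Mathlib

/-!
# Picard group of polynomial rings over a product of valuation rings

For a family `R i` of valuation domains the Picard group of `MvPolynomial (Fin n) (∀ i, R i)` is
trivial: componentwise the polynomial ring is a GCD domain, and the trivialisations have uniformly
bounded degree, hence assemble.
-/

set_option autoImplicit false
universe u

namespace Groth.Agent.Lib.Helper7.PicPiVal

open MvPolynomial TensorProduct

section GCD

lemma isGCDMonoid_of_mulEquiv {α β : Type*} [CommMonoidWithZero α] [CommMonoidWithZero β]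
    [IsCancelMulZero β] (e : α ≃* β) [h : IsGCDMonoid α] : IsGCDMonoid β := by
  rw [isGCDMonoid_iff_exists_gcd] at h ⊢
  obtain ⟨-, hg⟩ := h
  refine ⟨inferInstance, ?_⟩
  intro a b
  obtain ⟨c, hc⟩ := hg (e.symm a) (e.symm b)
  refine ⟨e c, fun d => ?_⟩
  have h1 := hc (e.symm d)
  rw [map_dvd_iff e.symm, map_dvd_iff e.symm] at h1
  rw [h1, ← map_dvd_iff e, e.apply_symm_apply]

instance isGCDMonoid_mvPolynomial_fin (V : Type u) [CommRing V] [IsDomain V] [IsGCDMonoid V]
    (n : ℕ) : IsGCDMonoid (MvPolynomial (Fin n) V) := by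
  induction n with
  | zero =>
    exact isGCDMonoid_of_mulEquiv (MvPolynomial.isEmptyAlgEquiv V (Fin 0)).symm.toMulEquiv
  | succ n ih =>
    exact isGCDMonoid_of_mulEquiv (MvPolynomial.finSuccEquiv V n).symm.toMulEquiv

end GCD

section Local

variable {B B' : Type u} [CommRing B] [CommRing B'] [Algebra B B'] [Subsingleton (CommRing.Pic B')]
  {P : Type u} [AddCommGroup P] [Module B P] [Module.Invertible B P]

/-- local factorisation of the "transition matrix" of a dual basis after base change to a ring
with trivial Picard group. -/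
lemma exists_factorisation {m : ℕ} (p : Fin m → P) (f : Fin m → (P →ₗ[B] B))
    (hpf : ∀ x : P, x = ∑ j, f j x • p j) :
    ∃ a c : Fin m → B', (∀ j k, algebraMap B B' (f j (p k)) = a k * c j) ∧
      ∑ j, c j * a j = 1 := by
  have hfree : Module.Free B' (B' ⊗[B] P) :=
    (CommRing.Pic.subsingleton_iff.mp inferInstance) (B' ⊗[B] P) inferInstance
  obtain ⟨θ⟩ := (Module.Invertible.free_iff_linearEquiv (R := B') (M := B' ⊗[B] P)).mp hfree
  let g : B' ⊗[B] P := θ.symm 1
  let a : Fin m → B' := fun k => θ (1 ⊗ₜ p k)
  let f' : Fin m → (B' ⊗[B] P →ₗ[B'] B') := fun j =>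
    LinearMap.liftBaseChange B' ((Algebra.linearMap B B').comp (f j))
  let c : Fin m → B' := fun j => f' j g
  have hg : ∀ z : B' ⊗[B] P, z = θ z • g := by
    intro z
    apply θ.injective
    rw [map_smul, θ.apply_symm_apply, smul_eq_mul, mul_one]
  have hf' : ∀ j (b : B') (x : P), f' j (b ⊗ₜ x) = b * algebraMap B B' (f j x) := by
    intro j b x
    simp only [f', LinearMap.liftBaseChange_tmul, LinearMap.comp_apply, Algebra.linearMap_apply,
      smul_eq_mul]
  have hdual : ∀ z : B' ⊗[B] P, z = ∑ j, f' j z • ((1 : B') ⊗ₜ[B] p j) := by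
    intro z
    induction z using TensorProduct.induction_on with
    | zero => simp
    | tmul b x =>
      simp only [hf']
      conv_lhs => rw [hpf x]
      rw [TensorProduct.tmul_sum]
      refine Finset.sum_congr rfl fun j _ => ?_
      rw [TensorProduct.smul_tmul', smul_eq_mul, mul_one, mul_comm, ← Algebra.smul_def,
        TensorProduct.smul_tmul]
    | add x y hx hy =>
      conv_lhs => rw [hx, hy]
      rw [← Finset.sum_add_distrib]
      refine Finset.sum_congr rfl fun j _ => ?_
      rw [map_add, add_smul]
  refine ⟨a, c, ?_, ?_⟩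
  · intro j k
    have h1 : f' j (1 ⊗ₜ p k) = algebraMap B B' (f j (p k)) := by rw [hf', one_mul]
    rw [← h1, hg (1 ⊗ₜ p k), map_smul, smul_eq_mul]
  · have h1 := hdual g
    have h2 := congrArg θ h1
    rw [map_sum] at h2
    simp only [map_smul, smul_eq_mul] at h2
    rw [show θ g = 1 from θ.apply_symm_apply 1] at h2
    exact h2.symm

end Local

section Assemble

variable {ι : Type u} (R : ι → Type u) [∀ i, CommRing (R i)] (n : ℕ)

/-- the `i`-th component map on polynomial rings. -/
noncomputable def rho (i : ι) : MvPolynomial (Fin n) (∀ i, R i) →+* MvPolynomial (Fin n) (R i) :=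
  MvPolynomial.map (Pi.evalRingHom R i)

lemma coeff_rho (i : ι) (q : MvPolynomial (Fin n) (∀ i, R i)) (s : Fin n →₀ ℕ) :
    coeff s (rho R n i q) = coeff s q i := by
  simp [rho, coeff_map]

lemma rho_jointly_injective {q q' : MvPolynomial (Fin n) (∀ i, R i)}
    (h : ∀ i, rho R n i q = rho R n i q') : q = q' := by
  ext s i
  rw [← coeff_rho, ← coeff_rho, h i]

lemma totalDegree_rho_le (i : ι) (q : MvPolynomial (Fin n) (∀ i, R i)) :
    (rho R n i q).totalDegree ≤ q.totalDegree :=
  Finset.sup_mono (MvPolynomial.support_map_subset _ _)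

lemma exists_assemble (d : ℕ) (p : ∀ i, MvPolynomial (Fin n) (R i))
    (hp : ∀ i, (p i).totalDegree ≤ d) :
    ∃ q : MvPolynomial (Fin n) (∀ i, R i), ∀ i, rho R n i q = p i := by
  classical
  let F : Finset (Fin n →₀ ℕ) :=
    (Fintype.piFinset fun _ : Fin n => Finset.range (d + 1)).map
      (Finsupp.equivFunOnFinite (α := Fin n) (M := ℕ)).symm.toEmbedding
  have hF : ∀ (i : ι) (t : Fin n →₀ ℕ), t ∉ F → coeff t (p i) = 0 := by
    intro i t ht
    by_contra hne
    apply ht
    have hmem : t ∈ (p i).support := MvPolynomial.mem_support_iff.mpr hne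
    have hle := (MvPolynomial.le_totalDegree hmem).trans (hp i)
    simp only [F, Finset.mem_map, Fintype.mem_piFinset, Finset.mem_range]
    refine ⟨⇑t, ?_, ?_⟩
    · intro j
      have : t j ≤ t.sum fun _ e => e := by
        by_cases hj : j ∈ t.support
        · exact Finset.single_le_sum (f := fun j => t j) (fun _ _ => Nat.zero_le _) hj
        · rw [Finsupp.notMem_support_iff.mp hj]; exact Nat.zero_le _
      omega
    · ext j
      simp
  refine ⟨∑ s ∈ F, monomial s (fun i => coeff s (p i)), fun i => ?_⟩
  ext t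
  rw [coeff_rho, MvPolynomial.coeff_sum, Finset.sum_apply]
  simp only [MvPolynomial.coeff_monomial]
  by_cases ht : t ∈ F
  · rw [Finset.sum_eq_single t]
    · simp
    · intro b _ hb
      simp [hb]
    · intro h; exact absurd ht h
  · rw [hF i t ht]
    apply Finset.sum_eq_zero
    intro b hb
    have : b ≠ t := fun h => ht (h ▸ hb)
    simp [this]

end Assemble

section Main

variable {ι : Type u} (R : ι → Type u) [∀ i, CommRing (R i)] [∀ i, IsDomain (R i)]
  [∀ i, ValuationRing (R i)] (n : ℕ)

theorem free_of_invertible (P : Type u) [AddCommGroup P]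
    [Module (MvPolynomial (Fin n) (∀ i, R i)) P]
    [Module.Invertible (MvPolynomial (Fin n) (∀ i, R i)) P] :
    Module.Free (MvPolynomial (Fin n) (∀ i, R i)) P := by
  classical
  set B := MvPolynomial (Fin n) (∀ i, R i) with hB
  obtain ⟨m, π, ι', hsurj, -, hcomp⟩ := Module.Finite.exists_comp_eq_id_of_projective B P
  let p : Fin m → P := fun k => π (fun j => if k = j then 1 else 0)
  let f : Fin m → (P →ₗ[B] B) := fun j => (LinearMap.proj j).comp ι'
  have hpf : ∀ x : P, x = ∑ j, f j x • p j := by
    intro x
    have h1 : x = π (ι' x) := by rw [← LinearMap.comp_apply, hcomp]; rfl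
    conv_lhs => rw [h1, LinearMap.pi_apply_eq_sum_univ]
    rfl
  -- local factorisations
  have hloc : ∀ i : ι, ∃ a c : Fin m → MvPolynomial (Fin n) (R i),
      (∀ j k, rho R n i (f j (p k)) = a k * c j) ∧ ∑ j, c j * a j = 1 := by
    intro i
    letI : Algebra B (MvPolynomial (Fin n) (R i)) := (rho R n i).toAlgebra
    exact exists_factorisation (B' := MvPolynomial (Fin n) (R i)) p f hpf
  choose a c hac hca using hloc
  -- degree bound
  obtain ⟨d, hd⟩ : ∃ d, ∀ j k, (f j (p k)).totalDegree ≤ d := by
    refine ⟨Finset.univ.sup fun jk : Fin m × Fin m => (f jk.1 (p jk.2)).totalDegree,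
      fun j k => ?_⟩
    exact Finset.le_sup (f := fun jk : Fin m × Fin m => (f jk.1 (p jk.2)).totalDegree)
      (Finset.mem_univ (j, k))
  have hnz : ∀ i, ∃ j0, c i j0 ≠ 0 ∧ a i j0 ≠ 0 := by
    intro i
    by_contra hcon
    push_neg at hcon
    have : ∑ j, c i j * a i j = 0 := by
      apply Finset.sum_eq_zero
      intro j _
      by_cases h : c i j = 0
      · rw [h, zero_mul]
      · rw [hcon j h, mul_zero]
    rw [hca i] at this
    exact one_ne_zero this
  have hda : ∀ i k, (a i k).totalDegree ≤ d := by
    intro i k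
    obtain ⟨j0, hc0, -⟩ := hnz i
    by_cases hak : a i k = 0
    · rw [hak, totalDegree_zero]; exact Nat.zero_le _
    · have h1 := MvPolynomial.totalDegree_mul_of_isDomain hak hc0
      have h2 : (a i k * c i j0).totalDegree ≤ d := by
        rw [← hac i j0 k]
        exact (totalDegree_rho_le R n i _).trans (hd j0 k)
      omega
  have hdc : ∀ i j, (c i j).totalDegree ≤ d := by
    intro i j
    obtain ⟨j0, -, ha0⟩ := hnz i
    by_cases hcj : c i j = 0
    · rw [hcj, totalDegree_zero]; exact Nat.zero_le _
    · have h1 := MvPolynomial.totalDegree_mul_of_isDomain ha0 hcj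
      have h2 : (a i j0 * c i j).totalDegree ≤ d := by
        rw [← hac i j j0]
        exact (totalDegree_rho_le R n i _).trans (hd j j0)
      omega
  obtain ⟨A, hA⟩ : ∃ A : Fin m → B, ∀ k i, rho R n i (A k) = a i k := by
    have := fun k => exists_assemble R n d (fun i => a i k) (fun i => hda i k)
    choose A hA using this
    exact ⟨A, hA⟩
  obtain ⟨C, hC⟩ : ∃ C : Fin m → B, ∀ j i, rho R n i (C j) = c i j := by
    have := fun j => exists_assemble R n d (fun i => c i j) (fun i => hdc i j)
    choose C hC using this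
    exact ⟨C, hC⟩
  have hAC : ∀ j k, f j (p k) = A k * C j := by
    intro j k
    apply rho_jointly_injective R n
    intro i
    rw [hac, map_mul, hA, hC]
  have hCA : ∑ j, C j * A j = 1 := by
    apply rho_jointly_injective R n
    intro i
    rw [map_sum, map_one, ← hca i]
    refine Finset.sum_congr rfl fun j _ => ?_
    rw [map_mul, hA, hC]
  -- generator
  let v : P := ∑ j, C j • p j
  let ψ : P →ₗ[B] B := ∑ j, A j • f j
  have hpk : ∀ k, p k = A k • v := by
    intro k
    conv_lhs => rw [hpf (p k)]
    simp only [v, Finset.smul_sum, smul_smul]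
    refine Finset.sum_congr rfl fun j _ => ?_
    rw [hAC]
  have hψv : ψ v = 1 := by
    simp only [ψ, v, LinearMap.sum_apply, LinearMap.smul_apply, map_sum, map_smul, smul_eq_mul,
      hAC]
    calc _ = (∑ j, C j * A j) * (∑ l, C l * A l) := by
          rw [Finset.sum_mul_sum]
          refine Finset.sum_congr rfl fun j _ => ?_
          rw [Finset.mul_sum]
          refine Finset.sum_congr rfl fun l _ => ?_
          ring
      _ = 1 := by rw [hCA, one_mul]
  -- the iso
  let φ : B →ₗ[B] P := LinearMap.toSpanSingleton B P v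
  have hφsurj : Function.Surjective φ := by
    intro x
    refine ⟨∑ j, f j x * A j, ?_⟩
    simp only [φ, LinearMap.toSpanSingleton_apply]
    conv_rhs => rw [hpf x]
    rw [Finset.sum_smul]
    refine Finset.sum_congr rfl fun j _ => ?_
    rw [hpk j, smul_smul]
  have hφinj : Function.Injective φ := by
    intro b b' hbb
    have := congrArg ψ hbb
    simpa [φ, LinearMap.toSpanSingleton_apply, map_smul, hψv] using this
  exact Module.Free.of_equiv (LinearEquiv.ofBijective φ ⟨hφinj, hφsurj⟩)

theorem main : Subsingleton (CommRing.Pic (MvPolynomial (Fin n) (∀ i, R i))) :=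
  CommRing.Pic.subsingleton_iff.mpr fun P _ _ _ => free_of_invertible R n P

end Main

end Groth.Agent.Lib.Helper7.PicPiVal
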