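import Groth.Agent.Lib.Helper7.VarietyDim
import Mathlib.AlgebraicGeometry.IdealSheaf.Basic
import Mathlib.AlgebraicGeometry.Morphisms.ClosedImmersion

/-!
# Lower bounds for dimensions through an embedding, and the range of a locally closed immersion
-/

set_option autoImplicit false
set_option linter.unusedVariables false
set_option linter.style.haveILetI false

universe u

namespace Groth.Agent.Lib.Helper7.VarDimEmb

open AlgebraicGeometry CategoryTheory TopologicalSpace Topology
open Groth.Agent.Lib.Helper7.SpecChain Groth.Agent.Lib.Helper7.AffPts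

/-- Let `q : W → X` be inducing, `q t = η ∈ U` with `U` affine open, and suppose that every
specialization of `η` in `U` lies in the range of `q`. Then `dim Γ(U)/𝔭_η ≤ dim closure{t}`. -/
theorem dim_quotient_le_of_inducing {X : Scheme.{u}} {U : X.Opens} (hU : IsAffineOpen U)
    {W : Type*} [TopologicalSpace W] (q : W → X) (hq : IsInducing q) (t : W) (hηU : q t ∈ U)
    (hr : ∀ x' : X, x' ∈ U → q t ⤳ x' → x' ∈ Set.range q) :
    ringKrullDim (Γ(X, U) ⧸ (hU.primeIdealOf ⟨q t, hηU⟩).asIdeal) ≤
      topologicalKrullDim ↥(closure ({t} : Set W)) := by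
  rw [AffChain.ringKrullDim_quotient_eq_coheight]
  have h0 : ((0 : ℕ) : WithBot ℕ∞) ≤ topologicalKrullDim ↥(closure ({t} : Set W)) := by
    refine le_dim_of_chain (closure ({t} : Set W)) isClosed_closure (m := 0) (fun _ => t)
      (fun _ => subset_closure rfl) ?_
    intro i
    exact i.elim0
  have hne : topologicalKrullDim ↥(closure ({t} : Set W)) ≠ ⊥ := by
    intro hbot
    rw [hbot] at h0
    simp at h0
  obtain ⟨d, hd⟩ := WithBot.ne_bot_iff_exists.1 hne
  rw [← hd, WithBot.coe_le_coe, Order.coheight_le_iff]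
  intro p hp
  let y : Fin (p.length + 1) → U := fun j => Classical.choose (primeIdealOf_surjective hU (p j))
  have hy : ∀ j, hU.primeIdealOf (y j) = p j := fun j =>
    Classical.choose_spec (primeIdealOf_surjective hU (p j))
  have hsp : ∀ j, q t ⤳ (y j).1 := by
    intro j
    have : hU.primeIdealOf ⟨q t, hηU⟩ ≤ hU.primeIdealOf (y j) := by
      rw [hy]
      exact hp.trans (LTSeries.head_le p _)
    exact (primeIdealOf_le_iff hU ⟨q t, hηU⟩ (y j)).1 this
  have hmem : ∀ j, (y j).1 ∈ Set.range q := fun j => hr _ (y j).2 (hsp j)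
  let s : Fin (p.length + 1) → W := fun j => Classical.choose (hmem j)
  have hs : ∀ j, q (s j) = (y j).1 := fun j => Classical.choose_spec (hmem j)
  let x : Fin (p.length + 1) → W := fun j => s (Fin.rev j)
  have hc : IsPtChain x := by
    intro i
    have hstep := p.step (Fin.rev i)
    have e1 : Fin.rev i.succ = (Fin.rev i).castSucc := Fin.rev_succ i
    have e2 : Fin.rev i.castSucc = (Fin.rev i).succ := Fin.rev_castSucc i
    show (s (Fin.rev i.succ) ⤳ s (Fin.rev i.castSucc)) ∧
      ¬ (s (Fin.rev i.castSucc) ⤳ s (Fin.rev i.succ))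
    rw [← hq.specializes_iff, ← hq.specializes_iff, hs, hs, e1, e2,
      ← primeIdealOf_le_iff hU, ← primeIdealOf_le_iff hU, hy, hy]
    exact ⟨hstep.le, hstep.not_ge⟩
  have hxT : ∀ i, x i ∈ closure ({t} : Set W) := by
    intro i
    rw [← specializes_iff_mem_closure, ← hq.specializes_iff]
    show q t ⤳ q (s (Fin.rev i))
    rw [hs]
    exact hsp _
  have := le_dim_of_chain (closure ({t} : Set W)) isClosed_closure x hxT hc
  rw [← hd] at this
  exact_mod_cast this

/-- Points of an affine open `U` in the range of a quasi-compact morphism `f` that restricts to a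
closed immersion over `U`: those at which the kernel of `Γ(Y, U) → Γ(X, f⁻¹U)` vanishes. -/
theorem mem_range_iff_of_isClosedImmersion_restrict {X Y : Scheme.{u}} (f : X ⟶ Y) [QuasiCompact f]
    (U : Y.affineOpens) [IsClosedImmersion (f ∣_ U.1)] (y : Y) (hy : y ∈ U.1) :
    y ∈ Set.range f ↔ RingHom.ker (f.app U.1).hom ≤ (U.2.primeIdealOf ⟨y, hy⟩).asIdeal := by
  have hzl : y ∈ f.ker.support ↔
      RingHom.ker (f.app U.1).hom ≤ (U.2.primeIdealOf ⟨y, hy⟩).asIdeal := by
    rw [Scheme.IdealSheafData.mem_support_iff_of_mem hy, Scheme.mem_zeroLocus_iff,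
      Scheme.Hom.ker_apply]
    constructor
    · intro h s hs
      exact (mem_primeIdealOf_iff U.2 ⟨y, hy⟩ s).2 (h s hs)
    · intro h s hs
      exact (mem_primeIdealOf_iff U.2 ⟨y, hy⟩ s).1 (h hs)
  rw [← hzl]
  constructor
  · intro h
    exact f.range_subset_ker_support h
  · intro h
    have h : y ∈ ((Scheme.Hom.ker f).support : Set Y) := h
    rw [Scheme.Hom.support_ker] at h
    have hcl : IsClosed (Set.range (f ∣_ U.1)) := (f ∣_ U.1).isClosedEmbedding.isClosed_range
    have hrange : Set.range (f ∣_ U.1) = Subtype.val ⁻¹' Set.range f := by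
      ext u
      constructor
      · rintro ⟨x', rfl⟩
        exact ⟨x'.1, (morphismRestrict_base_coe f U.1 x').symm⟩
      · rintro ⟨x', hx'⟩
        have hx'U : x' ∈ f ⁻¹ᵁ U.1 := by
          show f x' ∈ U.1
          rw [hx']; exact u.2
        refine ⟨⟨x', hx'U⟩, Subtype.ext ?_⟩
        rw [morphismRestrict_base_coe]
        exact hx'
    rw [hrange] at hcl
    obtain ⟨C, hC, hCeq⟩ := isClosed_induced_iff.1 hcl
    have hsub : Set.range f ⊆ C ∪ (U.1 : Set Y)ᶜ := by
      intro y' hy'
      by_cases hU' : y' ∈ (U.1 : Set Y)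
      · left
        exact ((Set.ext_iff.1 hCeq) ⟨y', hU'⟩).2 hy'
      · right; exact hU'
    have hclosed : IsClosed (C ∪ (U.1 : Set Y)ᶜ) := hC.union U.1.isOpen.isClosed_compl
    have hy2 : y ∈ C ∪ (U.1 : Set Y)ᶜ := closure_minimal hsub hclosed h
    rcases hy2 with hyC | hyU
    · exact ((Set.ext_iff.1 hCeq) ⟨y, hy⟩).1 hyC
    · exact absurd hy hyU

end Groth.Agent.Lib.Helper7.VarDimEmb
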