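import Mathlib
import Groth.Prelude.Def_RegImm
import Groth.Agent.Lib.Helper7.VarietyDimEmb
import Groth.Agent.Lib.Helper7.IntMultDim
import Groth.Agent.Lib.Helper7.AffineDimFormula
import Groth.Agent.Lib.Helper7.TopDimComponents

/-!
# Dimension of components of the preimage of a regularly immersed subscheme
-/

set_option autoImplicit false
set_option linter.unusedVariables false
set_option linter.style.haveILetI false

universe u

namespace Groth.Agent.Lib.Helper7.PreDim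

open AlgebraicGeometry CategoryTheory TopologicalSpace Topology
open Groth.Agent.Lib.Helper7.AffPts

/-- An immersion into a Noetherian scheme is quasi-compact. -/
theorem quasiCompact_of_isImmersion {W X : Scheme.{u}} (ι : W ⟶ X) [IsImmersion ι]
    [IsLocallyNoetherian X] [CompactSpace X] : QuasiCompact ι := by
  haveI : IsNoetherian X := {}
  haveI : NoetherianSpace X := inferInstance
  haveI : NoetherianSpace W := ι.isEmbedding.isInducing.noetherianSpace
  infer_instance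

section Top

variable {T : Type*} [TopologicalSpace T]

/-- A closed subset `Q` of a subspace `Y` is the trace on `Y` of the closure of its image. -/
theorem image_val_eq_of_isClosed {Y : Set T} (Q : Set ↥Y) (hQ : IsClosed Q) :
    (Subtype.val '' Q : Set T) = closure (Subtype.val '' Q) ∩ Y := by
  apply Set.Subset.antisymm
  · rintro _ ⟨z, hz, rfl⟩
    exact ⟨subset_closure ⟨z, hz, rfl⟩, z.2⟩
  · rintro y ⟨hy1, hy2⟩
    have : (⟨y, hy2⟩ : ↥Y) ∈ closure Q := by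
      rw [closure_subtype]
      exact hy1
    rw [hQ.closure_eq] at this
    exact ⟨⟨y, hy2⟩, this, rfl⟩

/-- The dimension of a subset of a subspace `Y ⊆ S` is at most `dim S`. -/
theorem dim_le_of_subset_subtype {Y S : Set T} (hYS : Y ⊆ S) (Q : Set ↥Y) :
    topologicalKrullDim ↥Q ≤ topologicalKrullDim ↥S := by
  let f : ↥Q → ↥S := fun z => ⟨z.1.1, hYS z.1.2⟩
  have hfc : Continuous f :=
    Continuous.subtype_mk (continuous_subtype_val.comp continuous_subtype_val) _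
  have h0 : IsInducing (fun z : ↥Q => ((z : ↥Y) : T)) :=
    IsInducing.subtypeVal.comp IsInducing.subtypeVal
  have h1 : IsInducing ((Subtype.val : ↥S → T) ∘ f) := h0
  have hf : IsInducing f := IsInducing.of_comp hfc continuous_subtype_val h1
  exact hf.topologicalKrullDim_le

/-- To bound `dim S` it suffices to bound the components of `P ∩ S` for the components `P` of
the ambient space. -/
theorem dim_le_of_components (S : Set T) (B : WithBot ℕ∞)
    (h : ∀ P ∈ irreducibleComponents T, ∀ Q ∈ irreducibleComponents ↥(P ∩ S),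
      topologicalKrullDim ↥Q ≤ B) :
    topologicalKrullDim ↥S ≤ B := by
  apply Groth.Agent.Lib.Helper7.TopDimComp.topologicalKrullDim_le_of_forall_component
  intro S' hS'
  have hirr : IsIrreducible (Subtype.val '' S' : Set T) :=
    hS'.1.image _ continuous_subtype_val.continuousOn
  obtain ⟨P, hP, hsub⟩ := exists_mem_irreducibleComponents_subset_of_isIrreducible _ hirr
  have hsub' : (Subtype.val '' S' : Set T) ⊆ P ∩ S := by
    rintro _ ⟨s, hs, rfl⟩
    exact ⟨hsub ⟨s, hs, rfl⟩, s.2⟩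
  let T' : Set ↥(P ∩ S) := Subtype.val ⁻¹' (Subtype.val '' S' : Set T)
  have hT'irr : IsIrreducible T' := by
    refine ⟨?_, Groth.Agent.Lib.Helper7.TopDimComp.isPreirreducible_preimage_val hirr.2 hsub'⟩
    obtain ⟨s, hs⟩ := hS'.1.nonempty
    exact ⟨⟨s.1, hsub' ⟨s, hs, rfl⟩⟩, ⟨s, hs, rfl⟩⟩
  obtain ⟨Q, hQ, hT'Q⟩ := exists_mem_irreducibleComponents_subset_of_isIrreducible T' hT'irr
  let g : ↥S' → ↥Q := fun s =>
    ⟨⟨s.1.1, hsub' ⟨s.1, s.2, rfl⟩⟩, hT'Q ⟨s.1, s.2, rfl⟩⟩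
  have hgc : Continuous g :=
    Continuous.subtype_mk (Continuous.subtype_mk
      (continuous_subtype_val.comp continuous_subtype_val) _) _
  have h0 : IsInducing (fun z : ↥S' => ((z : ↥S) : T)) :=
    IsInducing.subtypeVal.comp IsInducing.subtypeVal
  have h1 : IsInducing (((Subtype.val : ↥(P ∩ S) → T) ∘ (Subtype.val : ↥Q → ↥(P ∩ S))) ∘ g) := h0
  have hg : IsInducing g :=
    IsInducing.of_comp hgc (continuous_subtype_val.comp continuous_subtype_val) h1
  exact hg.topologicalKrullDim_le.trans (h P hP Q hQ)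

end Top


section Main

variable (k : Type u) [Field k] (C X W : Scheme.{u})
  (q : X ⟶ Spec (CommRingCat.of k)) (π : C ⟶ X) (ι : W ⟶ X)
  [LocallyOfFiniteType q] [CompactSpace X] [LocallyOfFiniteType π]

/-- The generic point of (the closure of) a component of `P ∩ π⁻¹(ι W)` together with the local
equations. -/
theorem exists_generic_data [IsImmersion ι] [QuasiCompact ι]
    (P : Set C) (hP : P ∈ irreducibleComponents (C : Type u))
    (Q : Set ↥(P ∩ π ⁻¹' Set.range ι : Set C))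
    (hQ : Q ∈ irreducibleComponents ↥(P ∩ π ⁻¹' Set.range ι : Set C))
    (UX : X.affineOpens) [IsClosedImmersion (ι ∣_ UX.1)]
    (y : C) (hyA : y ∈ (Subtype.val '' Q : Set C)) (hyU : π y ∈ UX.1) :
    ∃ ξ : C, IsGenericPoint ξ (closure (Subtype.val '' Q : Set C)) ∧ π ξ ∈ UX.1 ∧
      ξ ∈ π ⁻¹' Set.range ι := by
  classical
  set A : Set C := Subtype.val '' Q with hA
  have hQirr : IsIrreducible Q := hQ.1
  have hAirr : IsIrreducible A := hQirr.image _ continuous_subtype_val.continuousOn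
  have hAbar : IsIrreducible (closure A) := hAirr.closure
  obtain ⟨ξ, hξ⟩ := QuasiSober.sober hAbar isClosed_closure
  have hAS : A ⊆ π ⁻¹' Set.range ι := by
    rintro _ ⟨z, hz, rfl⟩
    exact z.2.2
  have hξy : ξ ⤳ y := hξ.specializes (subset_closure hyA)
  have hVopen : IsOpen (π ⁻¹' (UX.1 : Set X)) := UX.1.isOpen.preimage π.continuous
  have hξV : π ξ ∈ UX.1 := hξy.mem_open hVopen hyU
  refine ⟨ξ, hξ, hξV, ?_⟩
  show π ξ ∈ Set.range ι
  rw [Groth.Agent.Lib.Helper7.VarDimEmb.mem_range_iff_of_isClosedImmersion_restrict ι UX (π ξ) hξV]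
  intro r hr
  by_contra hrξ
  rw [mem_primeIdealOf_iff UX.2 ⟨π ξ, hξV⟩] at hrξ
  rw [not_not] at hrξ
  -- the open set `π⁻¹(D(r)) ∩ π⁻¹(UX)` contains `ξ`, hence meets `A`
  have hopen : IsOpen (π ⁻¹' ((X.basicOpen r : Set X)) ∩ π ⁻¹' (UX.1 : Set X)) :=
    ((X.basicOpen r).isOpen.preimage π.continuous).inter hVopen
  have hξmem : ξ ∈ closure A := hξ.mem
  obtain ⟨y₁, ⟨hy₁r, hy₁U⟩, hy₁A⟩ := mem_closure_iff.1 hξmem _ hopen ⟨hrξ, hξV⟩
  have hy₁S : π y₁ ∈ Set.range ι := hAS hy₁A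
  rw [Groth.Agent.Lib.Helper7.VarDimEmb.mem_range_iff_of_isClosedImmersion_restrict ι UX (π y₁) hy₁U]
    at hy₁S
  have := hy₁S hr
  rw [mem_primeIdealOf_iff UX.2 ⟨π y₁, hy₁U⟩] at this
  exact this hy₁r

theorem ringKrullDim_quotient_comap' {A : Type*} [CommRing A] (I : Ideal A) (Q : Ideal (A ⧸ I)) :
    ringKrullDim ((A ⧸ I) ⧸ Q) = ringKrullDim (A ⧸ Q.comap (Ideal.Quotient.mk I)) := by
  let g : A →+* (A ⧸ I) ⧸ Q := (Ideal.Quotient.mk Q).comp (Ideal.Quotient.mk I)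
  have hg : Function.Surjective g :=
    Ideal.Quotient.mk_surjective.comp Ideal.Quotient.mk_surjective
  have hk : Q.comap (Ideal.Quotient.mk I) = RingHom.ker g := by
    rw [RingHom.ker_eq_comap_bot, ← Ideal.comap_comap, ← RingHom.ker_eq_comap_bot, Ideal.mk_ker]
  exact (ringKrullDim_eq_of_ringEquiv
    ((Ideal.quotEquivOfEq hk).trans (RingHom.quotientKerEquivOfSurjective hg))).symm

include q in
/-- Lower bound for the dimension of a component of `P ∩ π⁻¹(ι W)`. -/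
theorem le_dim_component_add (κ : RegImm.Kind) (n c : ℕ)
    (hι : RegImm.IsRegularImmersionOfCodim κ c ι)
    (P : Set C) (hP : P ∈ irreducibleComponents (C : Type u))
    (hPn : topologicalKrullDim P = n)
    (Q : Set ↥(P ∩ π ⁻¹' Set.range ι : Set C))
    (hQ : Q ∈ irreducibleComponents ↥(P ∩ π ⁻¹' Set.range ι : Set C)) :
    (n : WithBot ℕ∞) ≤ topologicalKrullDim Q + c := by
  classical
  obtain ⟨himm, hloc⟩ := hι
  haveI := himm
  haveI : IsLocallyNoetherian X := LocallyOfFiniteType.isLocallyNoetherian q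
  haveI hqc : QuasiCompact ι := quasiCompact_of_isImmersion ι
  -- a point of `Q`
  obtain ⟨z₀, hz₀⟩ := hQ.1.nonempty
  have hy : (z₀ : C) ∈ (Subtype.val '' Q : Set C) := ⟨z₀, hz₀, rfl⟩
  obtain ⟨w, hw⟩ : π z₀ ∈ Set.range ι := z₀.2.2
  obtain ⟨UX, hwU, hci, rs, hlen, -, hker⟩ := hloc w
  rw [hw] at hwU
  haveI := hci
  obtain ⟨ξ, hξ, hξV, hξS⟩ := exists_generic_data C X W π ι P hP Q hQ UX z₀ hy hwU
  set A : Set C := Subtype.val '' Q with hA
  have hPcl : IsClosed P := isClosed_of_mem_irreducibleComponents P hP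
  have hQcl : IsClosed Q := isClosed_of_mem_irreducibleComponents Q hQ
  have hAeq : A = closure A ∩ (P ∩ π ⁻¹' Set.range ι) := image_val_eq_of_isClosed Q hQcl
  have hAP : A ⊆ P := by
    rintro _ ⟨z, hz, rfl⟩
    exact z.2.1
  have hAbarP : closure A ⊆ P := closure_minimal hAP hPcl
  have hξA : ξ ∈ A := by
    rw [hAeq]
    exact ⟨hξ.mem, hAbarP hξ.mem, hξS⟩
  have hcl : closure ({ξ} : Set C) = closure A := hξ.def
  -- maximality of `ξ`
  have hmax : ∀ ξ' : C, ξ' ∈ P → ξ' ∈ π ⁻¹' Set.range ι → ξ' ⤳ ξ → ξ' = ξ := by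
    intro ξ' h1 h2 hsp
    let z' : ↥(P ∩ π ⁻¹' Set.range ι : Set C) := ⟨ξ', h1, h2⟩
    have hirr : IsIrreducible (closure ({z'} : Set ↥(P ∩ π ⁻¹' Set.range ι : Set C))) :=
      isIrreducible_singleton.closure
    have hsub : Q ⊆ closure {z'} := by
      intro z hz
      rw [closure_subtype, Set.image_singleton]
      have : (z : C) ∈ closure A := subset_closure ⟨z, hz, rfl⟩
      rw [← hcl] at this
      exact (Specializes.closure_subset hsp) this
    have hle : closure {z'} ⊆ Q := hQ.2 hirr hsub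
    have hz'Q : z' ∈ Q := hle (subset_closure rfl)
    have h3 : ξ' ∈ closure A := subset_closure ⟨z', hz'Q, rfl⟩
    rw [← hcl] at h3
    have hsp' : ξ ⤳ ξ' := specializes_iff_mem_closure.2 h3
    exact (hsp.antisymm hsp').eq
  -- an affine open of `C`
  obtain ⟨U, hUaff, hξU, hUle⟩ : ∃ U : C.Opens, IsAffineOpen U ∧ ξ ∈ U ∧ U ≤ π ⁻¹ᵁ UX.1 := by
    obtain ⟨_, ⟨U, hU, rfl⟩, h1, h2⟩ := C.isBasis_affineOpens.exists_subset_of_mem_open
      (show ξ ∈ ((π ⁻¹ᵁ UX.1 : C.Opens) : Set C) from hξV) (π ⁻¹ᵁ UX.1).isOpen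
    exact ⟨U, hU, h1, h2⟩
  set φ := (π.appLE UX.1 U hUle).hom with hφ
  set J : Ideal Γ(C, U) := Ideal.span ((rs.map φ).toFinset : Set Γ(C, U)) with hJ
  have hJle : ∀ p : Ideal Γ(C, U), J ≤ p ↔ ∀ r ∈ rs, φ r ∈ p := by
    intro p
    rw [hJ, Ideal.span_le]
    constructor
    · intro h r hr
      apply h
      simp only [List.coe_toFinset, Set.mem_setOf_eq, List.mem_map]
      exact ⟨r, hr, rfl⟩
    · intro h a ha
      simp only [List.coe_toFinset, Set.mem_setOf_eq, List.mem_map] at ha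
      obtain ⟨r, hr, rfl⟩ := ha
      exact h r hr
  -- comparison of primes
  have hcomp : ∀ (z' : C) (hz' : z' ∈ U) (r : Γ(X, UX.1)),
      r ∈ (UX.2.primeIdealOf ⟨π z', hUle hz'⟩).asIdeal ↔
        φ r ∈ (hUaff.primeIdealOf ⟨z', hz'⟩).asIdeal := by
    intro z' hz' r
    rw [mem_primeIdealOf_iff UX.2 ⟨π z', hUle hz'⟩, mem_primeIdealOf_iff hUaff ⟨z', hz'⟩,
      hφ, Scheme.basicOpen_appLE]
    constructor
    · intro h h'
      exact h h'.2
    · intro h h'
      exact h ⟨hz', h'⟩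
  have hSU : ∀ (z' : C) (hz' : z' ∈ U), z' ∈ π ⁻¹' Set.range ι ↔
      J ≤ (hUaff.primeIdealOf ⟨z', hz'⟩).asIdeal := by
    intro z' hz'
    rw [Set.mem_preimage,
      Groth.Agent.Lib.Helper7.VarDimEmb.mem_range_iff_of_isClosedImmersion_restrict ι UX (π z')
        (hUle hz'), hker, hJle]
    show Ideal.span {r | r ∈ rs} ≤ _ ↔ _
    rw [Ideal.span_le]
    constructor
    · intro h r hr
      exact (hcomp z' hz' r).1 (h hr)
    · intro h r hr
      exact (hcomp z' hz' r).2 (h r hr)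
  -- the generic point of `P`
  obtain ⟨η, hη⟩ := QuasiSober.sober hP.1 hPcl
  have hηξ : η ⤳ ξ := hη.specializes (hAbarP hξ.mem)
  have hηU : η ∈ U := hηξ.mem_open U.isOpen hξU
  set 𝔭 := (hUaff.primeIdealOf ⟨η, hηU⟩).asIdeal with h𝔭
  set 𝔮 := (hUaff.primeIdealOf ⟨ξ, hξU⟩).asIdeal with h𝔮
  haveI h𝔭p : 𝔭.IsPrime := (hUaff.primeIdealOf _).isPrime
  haveI h𝔮p : 𝔮.IsPrime := (hUaff.primeIdealOf _).isPrime
  have h𝔭𝔮 : 𝔭 ≤ 𝔮 := (primeIdealOf_le_iff hUaff ⟨η, hηU⟩ ⟨ξ, hξU⟩).2 hηξ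
  have hJ𝔮 : J ≤ 𝔮 := (hSU ξ hξU).1 hξS
  have hmin : 𝔮 ∈ (J ⊔ 𝔭).minimalPrimes := by
    refine ⟨⟨h𝔮p, sup_le hJ𝔮 h𝔭𝔮⟩, ?_⟩
    rintro Q' ⟨hQp, hQ'le⟩ hQle
    obtain ⟨z', hz'Q⟩ := primeIdealOf_surjective hUaff ⟨Q', hQp⟩
    have hz'Q' : (hUaff.primeIdealOf z').asIdeal = Q' := congrArg PrimeSpectrum.asIdeal hz'Q
    have hz'S : z'.1 ∈ π ⁻¹' Set.range ι := by
      rw [hSU z'.1 z'.2, hz'Q']
      exact le_sup_left.trans hQ'le
    have hz'P : z'.1 ∈ P := by
      have h1 : η ⤳ z'.1 := by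
        rw [← primeIdealOf_le_iff hUaff ⟨η, hηU⟩ z']
        show 𝔭 ≤ (hUaff.primeIdealOf z').asIdeal
        rw [hz'Q']
        exact le_sup_right.trans hQ'le
      rw [← hη.def]
      exact specializes_iff_mem_closure.1 h1
    have hsp : z'.1 ⤳ ξ := by
      rw [← primeIdealOf_le_iff hUaff z' ⟨ξ, hξU⟩]
      show (hUaff.primeIdealOf z').asIdeal ≤ 𝔮
      rw [hz'Q']
      exact hQle
    have hzz : z'.1 = ξ := hmax z'.1 hz'P hz'S hsp
    have hzz' : z' = ⟨ξ, hξU⟩ := Subtype.ext hzz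
    rw [← hz'Q', hzz']
  -- algebra structure
  letI : C.Over (Spec (CommRingCat.of k)) := ⟨π ≫ q⟩
  haveI : LocallyOfFiniteType (C ↘ Spec (CommRingCat.of k)) :=
    inferInstanceAs (LocallyOfFiniteType (π ≫ q))
  letI algD : Algebra k Γ(C, U) :=
    (Groth.Agent.Lib.Helper7.ResTrdeg.kToΓ k C U).toAlgebra
  haveI ft : Algebra.FiniteType k Γ(C, U) :=
    Groth.Agent.Lib.Helper7.ResTrdeg.finiteType_kToΓ k C hUaff
  haveI : IsNoetherianRing Γ(C, U) := Algebra.FiniteType.isNoetherianRing k _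
  haveI ftq : Algebra.FiniteType k (Γ(C, U) ⧸ 𝔭) :=
    Algebra.FiniteType.of_surjective (Ideal.Quotient.mkₐ k 𝔭) (Ideal.Quotient.mkₐ_surjective k 𝔭)
  -- pass to the quotient by `𝔭`
  have hsurj : Function.Surjective (Ideal.Quotient.mk 𝔭) := Ideal.Quotient.mk_surjective
  have hcomap : (J.map (Ideal.Quotient.mk 𝔭)).comap (Ideal.Quotient.mk 𝔭) = J ⊔ 𝔭 := by
    rw [Ideal.comap_map_of_surjective _ hsurj, ← RingHom.ker_eq_comap_bot, Ideal.mk_ker]
  rw [← hcomap, Ideal.comap_minimalPrimes_eq_of_surjective hsurj] at hmin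
  obtain ⟨𝔮', h𝔮'min, h𝔮'eq⟩ := hmin
  haveI h𝔮'p : 𝔮'.IsPrime := h𝔮'min.1.1
  -- Krull's height theorem
  have hht : 𝔮'.height ≤ c := by
    have hspan : J.map (Ideal.Quotient.mk 𝔭) =
        Ideal.span (((rs.map φ).toFinset.image (Ideal.Quotient.mk 𝔭) : Finset (Γ(C, U) ⧸ 𝔭)) :
          Set (Γ(C, U) ⧸ 𝔭)) := by
      rw [hJ, Ideal.map_span, Finset.coe_image]
    rw [hspan] at h𝔮'min
    have h1 := Ideal.height_le_card_of_mem_minimalPrimes_span_finset h𝔮'min
    have h2 : ((rs.map φ).toFinset.image (Ideal.Quotient.mk 𝔭)).card ≤ c := by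
      refine Finset.card_image_le.trans ((List.toFinset_card_le _).trans ?_)
      rw [List.length_map, hlen]
    exact h1.trans (by exact_mod_cast h2)
  have hform := Groth.Agent.Lib.Helper7.AffDim.height_add_dim_quotient (k := k)
    (Γ(C, U) ⧸ 𝔭) 𝔮'
  rw [ringKrullDim_quotient_comap' 𝔭 𝔮', h𝔮'eq] at hform
  -- `dim D/𝔭 = n`
  have hdimP : ringKrullDim (Γ(C, U) ⧸ 𝔭) = n := by
    rw [← hPn, ← Groth.Agent.Lib.Helper7.VarDim.dim_closure_eq k C η hUaff hηU]
    exact Groth.Agent.Lib.Helper7.IMDim.dim_congr hη.def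
  rw [hdimP] at hform
  -- lower bound for `dim Q`
  have hind : IsInducing (fun z : ↥Q => ((z : ↥(P ∩ π ⁻¹' Set.range ι : Set C)) : C)) :=
    IsInducing.subtypeVal.comp IsInducing.subtypeVal
  have hlow := Groth.Agent.Lib.Helper7.VarDimEmb.dim_quotient_le_of_inducing hUaff
    (fun z : ↥Q => ((z : ↥(P ∩ π ⁻¹' Set.range ι : Set C)) : C)) hind
    ⟨⟨ξ, hAbarP hξ.mem, hξS⟩, by
      obtain ⟨z, hz, hzξ⟩ := hξA
      have : z = ⟨ξ, hAbarP hξ.mem, hξS⟩ := Subtype.ext hzξ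
      rw [← this]; exact hz⟩ hξU (by
      intro x' hx'U hsp
      have hx'A : x' ∈ A := by
        rw [hAeq]
        have h1 : x' ∈ closure A := by
          rw [← hcl]; exact specializes_iff_mem_closure.1 hsp
        refine ⟨h1, hAbarP h1, ?_⟩
        rw [hSU x' hx'U]
        exact hJ𝔮.trans ((primeIdealOf_le_iff hUaff ⟨ξ, hξU⟩ ⟨x', hx'U⟩).2 hsp)
      obtain ⟨z, hz, hzx⟩ := hx'A
      exact ⟨⟨z, hz⟩, hzx⟩)
  have hlow' : ringKrullDim (Γ(C, U) ⧸ 𝔮) ≤ topologicalKrullDim ↥Q :=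
    hlow.trans (IsInducing.subtypeVal.topologicalKrullDim_le)
  -- combine
  calc (n : WithBot ℕ∞) = (𝔮'.height : WithBot ℕ∞) + ringKrullDim (Γ(C, U) ⧸ 𝔮) := hform.symm
    _ ≤ (c : WithBot ℕ∞) + topologicalKrullDim ↥Q := by
        refine add_le_add ?_ hlow'
        exact_mod_cast hht
    _ = topologicalKrullDim ↥Q + c := add_comm _ _

end Main

end Groth.Agent.Lib.Helper7.PreDim
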