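import Mathlib
import Groth.Agent.Lib.Helper7.EtaleDiscr

/-!
# Purity for finite free algebras via the discriminant (helper7)

A finite free algebra `B` over a Noetherian ring `A` which is étale at all primes lying over
primes of height `≤ 1` of `A` is étale: the discriminant is a single element, so if it is not a
unit it lies in a prime of height `≤ 1` (Krull), where it must be a unit.
-/

set_option autoImplicit false

namespace Groth.Agent.Lib.Helper7.PurityDiscr

universe u v

variable {A : Type u} {B : Type v} [CommRing A] [CommRing B] [Algebra A B]

/-- If `B` is étale over `A` at all primes of `B` lying over primes contained in `p`, then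
`B_p` is (formally) étale over `A_p`. -/
theorem formallyEtale_localization (p : Ideal A) [p.IsPrime]
    (h : ∀ (q : Ideal B) [q.IsPrime], q.comap (algebraMap A B) ≤ p → Algebra.IsEtaleAt A q) :
    Algebra.FormallyEtale (Localization.AtPrime p)
      (Localization (Algebra.algebraMapSubmonoid B p.primeCompl)) := by
  set M := Algebra.algebraMapSubmonoid B p.primeCompl with hM
  rw [← Algebra.etaleLocus_eq_univ_iff, Set.eq_univ_iff_forall]
  intro Q
  rw [Algebra.mem_etaleLocus_iff]
  let q : Ideal B := Q.asIdeal.comap (algebraMap B (Localization M))
  haveI : q.IsPrime := Ideal.comap_isPrime _ _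
  have hq : q.comap (algebraMap A B) ≤ p := by
    intro a ha
    by_contra hap
    have h1 : algebraMap A B a ∈ M := ⟨a, hap, rfl⟩
    have h2 : IsUnit (algebraMap B (Localization M) (algebraMap A B a)) :=
      IsLocalization.map_units (Localization M) ⟨_, h1⟩
    exact Q.isPrime.ne_top (Ideal.eq_top_of_isUnit_mem _ ha h2)
  have h1 : Algebra.FormallyEtale A (Localization.AtPrime q) := h q hq
  let e := IsLocalization.localizationLocalizationAtPrimeIsoLocalization M Q.asIdeal
  have h2 : Algebra.FormallyEtale A (Localization.AtPrime Q.asIdeal) :=
    Algebra.FormallyEtale.of_equiv (e.restrictScalars A)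
  exact @Algebra.FormallyEtale.localization_base A (Localization.AtPrime p)
    (Localization.AtPrime Q.asIdeal) _ _ _ p.primeCompl _ _ _ _ _ h2

/-- **Purity via the discriminant.** -/
theorem etale_of_forall_height_le_one [IsNoetherianRing A] {ι : Type*} [Fintype ι] [DecidableEq ι]
    (b : Module.Basis ι A B)
    (h : ∀ (q : Ideal B) [q.IsPrime], (q.comap (algebraMap A B)).height ≤ 1 →
      Algebra.IsEtaleAt A q) :
    Algebra.Etale A B := by
  rw [Groth.Agent.Lib.Helper7.EtaleDiscr.etale_iff_isUnit_discr b]
  by_contra hd
  set d := Algebra.discr A b with hdd
  have hne : Ideal.span {d} ≠ ⊤ := by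
    rw [Ne, Ideal.span_singleton_eq_top]
    exact hd
  obtain ⟨p, hp⟩ := Ideal.nonempty_minimalPrimes hne
  haveI : p.IsPrime := hp.1.1
  have hdp : d ∈ p := hp.1.2 (Ideal.subset_span rfl)
  have hht : p.height ≤ 1 := Ideal.height_le_one_of_isPrincipal_of_mem_minimalPrimes _ p hp
  set M := Algebra.algebraMapSubmonoid B p.primeCompl with hM
  haveI : Algebra.FormallyEtale (Localization.AtPrime p) (Localization M) := by
    apply formallyEtale_localization p
    intro q _ hq
    apply h q
    exact le_trans (Ideal.height_mono hq) hht
  let bp := b.localizationLocalization (Localization.AtPrime p) p.primeCompl (Localization M)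
  haveI : Module.Finite (Localization.AtPrime p) (Localization M) := Module.Finite.of_basis bp
  haveI : IsNoetherianRing (Localization.AtPrime p) :=
    IsLocalization.isNoetherianRing p.primeCompl _ inferInstance
  haveI : Algebra.FinitePresentation (Localization.AtPrime p) (Localization M) :=
    (Algebra.FinitePresentation.of_finiteType).mp inferInstance
  haveI : Algebra.Etale (Localization.AtPrime p) (Localization M) := ⟨inferInstance, inferInstance⟩
  have hu := Groth.Agent.Lib.Helper7.EtaleDiscr.isUnit_discr_of_etale bp
  rw [Algebra.discr_localizationLocalization] at hu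
  exact (IsLocalization.AtPrime.isUnit_to_map_iff (Localization.AtPrime p) p d).mp hu hdp

/-- pointwise version of `formallyEtale_localization`. -/
theorem isEtaleAt_localization (p : Ideal A) [p.IsPrime]
    (Q : Ideal (Localization (Algebra.algebraMapSubmonoid B p.primeCompl))) [Q.IsPrime]
    (h : Algebra.FormallyEtale A (Localization.AtPrime
      (Q.comap (algebraMap B (Localization (Algebra.algebraMapSubmonoid B p.primeCompl)))))) :
    Algebra.FormallyEtale (Localization.AtPrime p) (Localization.AtPrime Q) := by
  let e := IsLocalization.localizationLocalizationAtPrimeIsoLocalization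
    (Algebra.algebraMapSubmonoid B p.primeCompl) Q
  have h2 : Algebra.FormallyEtale A (Localization.AtPrime Q) :=
    Algebra.FormallyEtale.of_equiv (e.restrictScalars A)
  exact @Algebra.FormallyEtale.localization_base A (Localization.AtPrime p)
    (Localization.AtPrime Q) _ _ _ p.primeCompl _ _ _ _ _ h2

/-- **Purity via the discriminant**, finite flat version. -/
theorem etale_of_forall_height_le_one_of_flat [IsNoetherianRing A] [Module.Finite A B]
    [Module.Flat A B]
    (h : ∀ (q : Ideal B) [q.IsPrime], (q.comap (algebraMap A B)).height ≤ 1 →
      Algebra.IsEtaleAt A q) :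
    Algebra.Etale A B := by
  classical
  haveI : Algebra.FinitePresentation A B :=
    (Algebra.FinitePresentation.of_finiteType).mp inferInstance
  rw [← Algebra.etaleLocus_eq_univ_iff_etale, Set.eq_univ_iff_forall]
  intro Q
  rw [Algebra.mem_etaleLocus_iff]
  set P : Ideal A := Q.asIdeal.comap (algebraMap A B) with hP
  haveI : P.IsPrime := Ideal.comap_isPrime _ _
  set M := Algebra.algebraMapSubmonoid B P.primeCompl with hM
  -- `B_P` is finite free over `A_P`
  haveI : Module.Finite (Localization.AtPrime P) (Localization M) :=
    Module.Finite.of_isLocalizedModule P.primeCompl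
      (IsScalarTower.toAlgHom A B (Localization M)).toLinearMap
  haveI : Module.Flat (Localization.AtPrime P) (Localization M) :=
    Module.Flat.of_isLocalizedModule (Localization.AtPrime P) P.primeCompl
      (IsScalarTower.toAlgHom A B (Localization M)).toLinearMap
  haveI : IsNoetherianRing (Localization.AtPrime P) :=
    IsLocalization.isNoetherianRing P.primeCompl _ inferInstance
  haveI : Module.FinitePresentation (Localization.AtPrime P) (Localization M) :=
    Module.finitePresentation_of_finite _ _
  haveI : Module.Free (Localization.AtPrime P) (Localization M) :=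
    Module.free_of_flat_of_isLocalRing
  let b := Module.Free.chooseBasis (Localization.AtPrime P) (Localization M)
  haveI : Fintype (Module.Free.ChooseBasisIndex (Localization.AtPrime P) (Localization M)) :=
    Module.Free.ChooseBasisIndex.fintype _ _
  have het : Algebra.Etale (Localization.AtPrime P) (Localization M) := by
    apply etale_of_forall_height_le_one b
    intro q' _ hq'
    apply isEtaleAt_localization P q'
    apply h
    have h1 : (q'.comap (algebraMap B (Localization M))).comap (algebraMap A B) =
        (q'.comap (algebraMap (Localization.AtPrime P) (Localization M))).comap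
          (algebraMap A (Localization.AtPrime P)) := by
      rw [Ideal.comap_comap, Ideal.comap_comap, ← IsScalarTower.algebraMap_eq,
        ← IsScalarTower.algebraMap_eq]
    rw [h1]
    have h2 := IsLocalization.height_under P.primeCompl
      (q'.comap (algebraMap (Localization.AtPrime P) (Localization M)))
    change ((q'.comap (algebraMap (Localization.AtPrime P) (Localization M))).comap
      (algebraMap A (Localization.AtPrime P))).height = _ at h2
    rw [h2]
    exact hq'
  -- the prime of `B_P` above `Q`
  have hdisj : Disjoint (M : Set B) (Q.asIdeal : Set B) := by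
    rw [Set.disjoint_left]
    rintro _ ⟨a, ha, rfl⟩ haQ
    exact ha haQ
  set Q' : Ideal (Localization M) := Q.asIdeal.map (algebraMap B (Localization M)) with hQ'
  haveI : Q'.IsPrime := IsLocalization.isPrime_of_isPrime_disjoint M _ _ Q.isPrime hdisj
  have hcomap : Q'.comap (algebraMap B (Localization M)) = Q.asIdeal :=
    IsLocalization.under_map_of_isPrime_disjoint M _ Q.isPrime hdisj
  have h3 : Algebra.FormallyEtale (Localization.AtPrime P) (Localization.AtPrime Q') := by
    have hall := Algebra.etaleLocus_eq_univ_iff_etale.mpr het
    have hmem : (⟨Q', inferInstance⟩ : PrimeSpectrum (Localization M)) ∈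
        Algebra.etaleLocus (Localization.AtPrime P) (Localization M) := by
      rw [hall]; trivial
    exact hmem
  haveI : Algebra.FormallyEtale A (Localization.AtPrime P) :=
    Algebra.FormallyEtale.of_isLocalization P.primeCompl
  have h5 : Algebra.FormallyEtale A (Localization.AtPrime Q') :=
    Algebra.FormallyEtale.comp A (Localization.AtPrime P) (Localization.AtPrime Q')
  let e := IsLocalization.localizationLocalizationAtPrimeIsoLocalization M Q'
  have h6 : Algebra.FormallyEtale A (Localization.AtPrime (Q'.comap (algebraMap B (Localization M)))) :=
    Algebra.FormallyEtale.of_equiv (e.symm.restrictScalars A)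
  have h7 : ∀ (I J : Ideal B) [I.IsPrime] [J.IsPrime], I = J →
      Algebra.FormallyEtale A (Localization.AtPrime I) →
      Algebra.FormallyEtale A (Localization.AtPrime J) := by
    intro I J _ _ hIJ hI
    subst hIJ
    exact hI
  exact h7 _ _ hcomap h6

end Groth.Agent.Lib.Helper7.PurityDiscr
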