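import Mathlib
import Groth.Agent.Lib.Helper21.QuasiReg

/-!
# Regular pairs modulo the powers of an ideal generated by a quasi-regular sequence

If `a` is quasi-regular, `I = (a)`, and `x, y` is a regular pair on `A/I`, then `x, y` is a regular
pair on `A/I^d` for every `d`.
-/

set_option autoImplicit false
universe u

namespace Groth.Agent.Lib.Helper7.QRegPow

open MvPolynomial Groth.Agent.Lib.Helper21.QuasiReg

variable {A : Type u} [CommRing A] {n : ℕ} (a : Fin n → A)

theorem mem_pow_sup_of_mul_mem (hqr : QR a) (x y : A)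
    (hx : ∀ u, x * u ∈ Ideal.span (Set.range a) → u ∈ Ideal.span (Set.range a))
    (hy : ∀ u, y * u ∈ Ideal.span (Set.range a) ⊔ Ideal.span {x} →
      u ∈ Ideal.span (Set.range a) ⊔ Ideal.span {x}) (d : ℕ) :
    ∀ u, y * u ∈ Ideal.span (Set.range a) ^ d ⊔ Ideal.span {x} →
      u ∈ Ideal.span (Set.range a) ^ d ⊔ Ideal.span {x} := by
  induction d with
  | zero =>
    intro u _
    rw [pow_zero, Ideal.one_eq_top, top_sup_eq]
    trivial
  | succ d ih =>
    intro u hu
    have hu' : u ∈ Ideal.span (Set.range a) ^ d ⊔ Ideal.span {x} :=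
      ih u ((sup_le_sup_right (Ideal.pow_le_pow_right (Nat.le_succ d))
        (Ideal.span {x}) :
          Ideal.span (Set.range a) ^ (d + 1) ⊔ Ideal.span {x} ≤
            Ideal.span (Set.range a) ^ d ⊔ Ideal.span {x}) hu)
    obtain ⟨z, hz, xw, hxw, rfl⟩ := Submodule.mem_sup.mp hu'
    obtain ⟨w, rfl⟩ := Ideal.mem_span_singleton'.mp hxw
    -- y * z ∈ I^{d+1} + (x)
    have hyz : y * z ∈ Ideal.span (Set.range a) ^ (d + 1) ⊔ Ideal.span {x} := by
      have h1 : y * z = y * (z + w * x) - (y * w) * x := by ring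
      rw [h1]
      exact Ideal.sub_mem _ hu (Ideal.mem_sup_right (Ideal.mem_span_singleton'.mpr ⟨_, rfl⟩))
    obtain ⟨t, ht, xv, hxv, htv⟩ := Submodule.mem_sup.mp hyz
    obtain ⟨v, rfl⟩ := Ideal.mem_span_singleton'.mp hxv
    have hv : v ∈ Ideal.span (Set.range a) ^ d := by
      apply mem_pow_of_mul_mem_pow a hqr x hx d
      have h1 : x * v = y * z - t := by rw [← htv]; ring
      rw [h1]
      exact Ideal.sub_mem _ (Ideal.mul_mem_left _ _ hz)
        (Ideal.pow_le_pow_right (Nat.le_succ d) ht)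
    obtain ⟨P, hP, rfl⟩ := exists_homogeneous_eval a d z hz
    obtain ⟨Q, hQ, rfl⟩ := exists_homogeneous_eval a d v hv
    have hcoeff := hqr d (C y * P - C x * Q) ((hP.C_mul y).sub (hQ.C_mul x)) (by
      have h1 : eval a (C y * P - C x * Q) = t := by
        simp only [map_sub, map_mul, eval_C]
        rw [← htv]; ring
      rw [h1]; exact ht)
    have hPm : ∀ m, P.coeff m ∈ Ideal.span (Set.range a) ⊔ Ideal.span {x} := by
      intro m
      apply hy
      have h1 := hcoeff m
      rw [coeff_sub, coeff_C_mul, coeff_C_mul] at h1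
      have h2 : y * coeff m P = (y * coeff m P - x * coeff m Q) + coeff m Q * x := by ring
      rw [h2]
      exact Ideal.add_mem _ (Ideal.mem_sup_left h1)
        (Ideal.mem_sup_right (Ideal.mem_span_singleton'.mpr ⟨_, rfl⟩))
    have hz' : eval a P ∈ Ideal.span (Set.range a) ^ (d + 1) ⊔ Ideal.span {x} := by
      rw [eval_eq']
      refine Ideal.sum_mem _ fun m hm => ?_
      have hdeg : ∑ i, m i = d := by
        have := hP (mem_support_iff.mp hm)
        rw [← this, ← Finsupp.degree_eq_sum]
        exact congrFun (congrArg DFunLike.coe Finsupp.degree_eq_weight_one) m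
      have hmon : ∏ i, a i ^ m i ∈ Ideal.span (Set.range a) ^ d := by
        rw [← hdeg]; exact prod_pow_mem a m
      obtain ⟨π, hπ, xc, hxc, hsum⟩ := Submodule.mem_sup.mp (hPm m)
      obtain ⟨c, rfl⟩ := Ideal.mem_span_singleton'.mp hxc
      rw [← hsum, add_mul]
      refine Ideal.add_mem _ (Ideal.mem_sup_left ?_) (Ideal.mem_sup_right ?_)
      · rw [pow_succ']
        exact Ideal.mul_mem_mul hπ hmon
      · rw [Ideal.mem_span_singleton']
        exact ⟨c * ∏ i, a i ^ m i, by ring⟩
    exact Ideal.add_mem _ hz' (Ideal.mem_sup_right (Ideal.mem_span_singleton'.mpr ⟨_, rfl⟩))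

end Groth.Agent.Lib.Helper7.QRegPow
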