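import Mathlib
import Groth.Agent.Lib.Helper7.QuasiFlat
import Groth.Agent.Lib.Helper17.FibreStalk
import Groth.Agent.Lib.Helper17.ModStalk
import Groth.Agent.Lib.Helper17.ModPullback
import Groth.Agent.Lib.Helper17.TensorSupp

/-!
# Quasi-flat morphisms are stable under base change; quasi-flat + locally of finite presentation ⇒
universally open (EGA IV 2.3.x / 2.4.6 for quasi-flat morphisms)
-/

set_option backward.isDefEq.respectTransparency.types false
set_option autoImplicit false
set_option linter.unusedVariables false
set_option linter.style.haveILetI false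
universe u

open CategoryTheory CategoryTheory.Limits AlgebraicGeometry TopologicalSpace TensorProduct

namespace Groth.Agent.Lib.Helper7.QuasiFlat

/-- a nonzero finite module over a local ring stays nonzero after base change along a local homomorphism -/
theorem nontrivial_baseChange_of_isLocalHom {R R' : Type*} [CommRing R] [CommRing R'] [IsLocalRing R]
    [IsLocalRing R'] [Algebra R R'] [IsLocalHom (algebraMap R R')] (N : Type*) [AddCommGroup N]
    [Module R N] [Module.Finite R N] [Nontrivial N] : Nontrivial (R' ⊗[R] N) := by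
  have h1 : Nontrivial (IsLocalRing.ResidueField R ⊗[R] N) := by
    rw [← not_subsingleton_iff_nontrivial, IsLocalRing.subsingleton_tensorProduct]
    exact not_subsingleton N
  have h2 : Nontrivial (IsLocalRing.ResidueField R' ⊗[IsLocalRing.ResidueField R]
      (IsLocalRing.ResidueField R ⊗[R] N)) :=
    Groth.Agent.Lib.Helper17.TensorSupp.nontrivial_tensor_field_iff.2 ⟨inferInstance, h1⟩
  let e1 := AlgebraTensorModule.cancelBaseChange R (IsLocalRing.ResidueField R)
    (IsLocalRing.ResidueField R') (IsLocalRing.ResidueField R') N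
  let e2 := AlgebraTensorModule.cancelBaseChange R R'
    (IsLocalRing.ResidueField R') (IsLocalRing.ResidueField R') N
  by_contra hnt
  rw [not_nontrivial_iff_subsingleton] at hnt
  haveI : Subsingleton (IsLocalRing.ResidueField R' ⊗[R'] (R' ⊗[R] N)) := inferInstance
  haveI : Subsingleton (IsLocalRing.ResidueField R' ⊗[R] N) :=
    e2.symm.toEquiv.injective.subsingleton
  exact (not_subsingleton _) (e1.toEquiv.injective.subsingleton)

open Groth.Agent.Lib.Helper17.ModStalk Groth.Agent.Lib.Helper17.FibreStalk
  Groth.Agent.Lib.Helper17.ModPullback in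
/-- quasi-flat morphisms are stable under base change -/
theorem isQuasiFlat_of_isPullback {X Y X' Y' : Scheme.{u}} (f : X ⟶ Y) (g : Y' ⟶ Y) (g' : X' ⟶ X)
    (f' : X' ⟶ Y') (h : IsPullback g' f' f g) (hf : FDesc.IsQuasiFlat f) : FDesc.IsQuasiFlat f' := by
  obtain ⟨M, ⟨hMq, hMft⟩, hflat, hnt⟩ := hf
  haveI : M.IsQuasicoherent := hMq
  haveI : SheafOfModules.IsFiniteType.{u} (R := X.ringCatSheaf) M := hMft
  refine ⟨(Scheme.Modules.pullback g').obj M, ⟨inferInstance,
    Groth.Agent.Lib.Helper17.TensorSupp.isFiniteType_pullback g' M⟩,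
    fun x' => isFlatOverAt_baseChange f f' g' g h M x' (hflat (g' x')), fun x' => ?_⟩
  letI := (g'.stalkMap x').hom.toAlgebra
  obtain ⟨e⟩ := nonempty_linearEquiv_stalk_pullback g' M x'
  haveI : IsLocalHom (algebraMap (X.presheaf.stalk (g' x')) (X'.presheaf.stalk x')) :=
    inferInstanceAs (IsLocalHom (g'.stalkMap x').hom)
  haveI := StalkFree.finite_stalk_of_isCoh X M ⟨hMq, hMft⟩ (g' x')
  haveI := hnt (g' x')
  haveI := nontrivial_baseChange_of_isLocalHom (R := X.presheaf.stalk (g' x'))
    (R' := X'.presheaf.stalk x') (M.presheaf.stalk (g' x'))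
  exact e.toEquiv.nontrivial

/-- a quasi-flat morphism locally of finite presentation is universally open -/
theorem universallyOpen {X Y : Scheme.{u}} (f : X ⟶ Y) (hf : FDesc.IsQuasiFlat f)
    [LocallyOfFinitePresentation f] : UniversallyOpen f := by
  refine ⟨MorphismProperty.universally_mk' _ _ fun {T} h _ => ?_⟩
  have hq : FDesc.IsQuasiFlat (pullback.fst h f) :=
    isQuasiFlat_of_isPullback f h (pullback.snd h f) (pullback.fst h f)
      (IsPullback.of_hasPullback h f).flip hf
  exact isOpenMap_of_generalizingMap _ (generalizingMap _ hq)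

end Groth.Agent.Lib.Helper7.QuasiFlat
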