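import Mathlib.Topology.Sets.Opens
import Mathlib.Topology.NoetherianSpace
import Mathlib.Topology.LocallyClosed
import Mathlib.Topology.Constructions

set_option autoImplicit false
universe u

namespace Groth.Agent.Lib.Helper7

/-- unbundled quasi-homeomorphism condition -/
def QH {X Y : Type u} [TopologicalSpace X] [TopologicalSpace Y] (f : X → Y) : Prop :=
  (∀ U₁ U₂ : Set Y, IsOpen U₁ → IsOpen U₂ → f ⁻¹' U₁ = f ⁻¹' U₂ → U₁ = U₂) ∧
    (∀ V : Set X, IsOpen V → ∃ U : Set Y, IsOpen U ∧ f ⁻¹' U = V)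

/-- locally quasi-constructible -/
def LQC {Y : Type u} [TopologicalSpace Y] (Z : Set Y) : Prop :=
  ∀ y : Y, ∃ U : Set Y, IsOpen U ∧ y ∈ U ∧
    ∃ T : Set (Set Y), T.Finite ∧ (∀ t ∈ T, IsLocallyClosed t) ∧ U ∩ Z = ⋃₀ T

variable {X Y : Type u} [TopologicalSpace X] [TopologicalSpace Y] {f : X → Y}

theorem QH.of_bijective (hf : Continuous f)
    (hq : Function.Bijective (fun U : TopologicalSpace.Opens Y =>
      (⟨f ⁻¹' (U : Set Y), U.isOpen.preimage hf⟩ : TopologicalSpace.Opens X))) : QH f := by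
  constructor
  · intro U₁ U₂ h₁ h₂ h
    have := @hq.1 ⟨U₁, h₁⟩ ⟨U₂, h₂⟩ (TopologicalSpace.Opens.ext h)
    exact congrArg (fun U : TopologicalSpace.Opens Y => (U : Set Y)) this
  · intro V hV
    obtain ⟨U, hU⟩ := hq.2 ⟨V, hV⟩
    exact ⟨U, U.isOpen, congrArg (fun U : TopologicalSpace.Opens X => (U : Set X)) hU⟩

theorem QH.mono (hq : QH f) {U₁ U₂ : Set Y} (h₁ : IsOpen U₁) (h₂ : IsOpen U₂)
    (h : f ⁻¹' U₁ ⊆ f ⁻¹' U₂) : U₁ ⊆ U₂ := by
  have : U₁ ∪ U₂ = U₂ := hq.1 _ _ (h₁.union h₂) h₂ (by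
    rw [Set.preimage_union]; exact Set.union_eq_self_of_subset_left h)
  rw [← this]; exact Set.subset_union_left

theorem QH.nonempty_preimage (hq : QH f) {Z : Set Y} (hZ : IsLocallyClosed Z) (hne : Z.Nonempty) :
    (f ⁻¹' Z).Nonempty := by
  obtain ⟨U, F, hU, hF, rfl⟩ := hZ
  by_contra hcon
  rw [Set.not_nonempty_iff_eq_empty] at hcon
  have h1 : f ⁻¹' U ⊆ f ⁻¹' Fᶜ := by
    intro x hx hxF
    have : x ∈ f ⁻¹' (U ∩ F) := ⟨hx, hxF⟩
    rw [hcon] at this
    exact this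
  have h2 := hq.mono hU hF.isOpen_compl h1
  obtain ⟨y, hyU, hyF⟩ := hne
  exact h2 hyU hyF

theorem LQC.inter_open {Z U : Set Y} (hZ : LQC Z) (hU : IsOpen U) : LQC (U ∩ Z) := by
  intro y
  obtain ⟨W, hW, hyW, T, hT, hTl, hWT⟩ := hZ y
  refine ⟨W, hW, hyW, (fun t => U ∩ t) '' T, hT.image _, ?_, ?_⟩
  · rintro _ ⟨t, ht, rfl⟩
    exact hU.isLocallyClosed.inter (hTl t ht)
  · rw [Set.sUnion_image, ← Set.inter_iUnion₂, ← Set.sUnion_eq_biUnion, ← hWT]
    ext z
    simp only [Set.mem_inter_iff]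
    tauto

theorem QH.restrict (hq : QH f) {Y' : Set Y} (hY' : LQC Y') : QH (Y'.restrictPreimage f) := by
  constructor
  · intro U₁ U₂ hU₁ hU₂ h
    obtain ⟨O₁, hO₁, rfl⟩ := isOpen_induced_iff.mp hU₁
    obtain ⟨O₂, hO₂, rfl⟩ := isOpen_induced_iff.mp hU₂
    have key : ∀ (A B : Set Y), IsOpen A → IsOpen B →
        (∀ x : X, f x ∈ Y' → f x ∈ A → f x ∈ B) → ∀ y ∈ Y', y ∈ A → y ∈ B := by
      intro A B hA hB hAB y hyY hyA
      by_contra hyB
      obtain ⟨W, hW, hyW, T, hT, hTl, hWT⟩ := hY' y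
      have hy : y ∈ W ∩ Y' := ⟨hyW, hyY⟩
      rw [hWT] at hy
      obtain ⟨t, ht, hyt⟩ := hy
      have hlc : IsLocallyClosed (t ∩ (A ∩ Bᶜ)) :=
        (hTl t ht).inter (hA.isLocallyClosed.inter hB.isClosed_compl.isLocallyClosed)
      obtain ⟨x, hxt, hxA, hxB⟩ := hq.nonempty_preimage hlc ⟨y, hyt, hyA, hyB⟩
      have hxY : f x ∈ W ∩ Y' := by rw [hWT]; exact ⟨t, ht, hxt⟩
      exact hxB (hAB x hxY.2 hxA)
    ext ⟨y, hy⟩
    simp only [Set.mem_preimage]
    constructor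
    · refine key O₁ O₂ hO₁ hO₂ (fun x hx hx1 => ?_) y hy
      have : (⟨x, hx⟩ : f ⁻¹' Y') ∈ Y'.restrictPreimage f ⁻¹' (Subtype.val ⁻¹' O₁) := hx1
      rw [h] at this
      exact this
    · refine key O₂ O₁ hO₂ hO₁ (fun x hx hx1 => ?_) y hy
      have : (⟨x, hx⟩ : f ⁻¹' Y') ∈ Y'.restrictPreimage f ⁻¹' (Subtype.val ⁻¹' O₂) := hx1
      rw [← h] at this
      exact this
  · intro V hV
    obtain ⟨O, hO, rfl⟩ := isOpen_induced_iff.mp hV
    obtain ⟨U, hU, rfl⟩ := hq.2 O hO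
    exact ⟨Subtype.val ⁻¹' U, hU.preimage continuous_subtype_val, rfl⟩

theorem QH.compactSpace_iff (hq : QH f) (hf : Continuous f) : CompactSpace Y ↔ CompactSpace X := by
  constructor
  · intro hY
    rw [← isCompact_univ_iff, isCompact_iff_finite_subcover]
    intro ι V hV hcov
    have hex : ∀ i, ∃ U : Set Y, IsOpen U ∧ f ⁻¹' U = V i := fun i => hq.2 _ (hV i)
    choose U hUo hU using hex
    have hcovY : (Set.univ : Set Y) ⊆ ⋃ i, U i := by
      apply hq.mono isOpen_univ (isOpen_iUnion hUo)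
      rw [Set.preimage_iUnion]
      simp only [hU]
      simpa using hcov
    obtain ⟨t, ht⟩ := isCompact_univ.elim_finite_subcover U hUo hcovY
    refine ⟨t, ?_⟩
    intro x _
    have := ht (Set.mem_univ (f x))
    simp only [Set.mem_iUnion] at this ⊢
    obtain ⟨i, hi, hx⟩ := this
    refine ⟨i, hi, ?_⟩
    rw [← hU i]; exact hx
  · intro hX
    rw [← isCompact_univ_iff, isCompact_iff_finite_subcover]
    intro ι U hU hcov
    obtain ⟨t, ht⟩ := isCompact_univ.elim_finite_subcover (fun i => f ⁻¹' U i)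
      (fun i => (hU i).preimage hf) (by
        intro x _
        have := hcov (Set.mem_univ (f x))
        simpa using this)
    refine ⟨t, ?_⟩
    apply hq.mono isOpen_univ (isOpen_biUnion fun i _ => hU i)
    rw [Set.preimage_iUnion₂]
    exact ht

theorem QH.continuous_restrict (hf : Continuous f) (Y' : Set Y) :
    Continuous (Y'.restrictPreimage f) := hf.restrictPreimage

theorem QH.isCompact_iff (hq : QH f) (hf : Continuous f) {Y' : Set Y} (hY' : LQC Y') :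
    IsCompact Y' ↔ IsCompact (f ⁻¹' Y') := by
  rw [isCompact_iff_compactSpace, isCompact_iff_compactSpace]
  exact (hq.restrict hY').compactSpace_iff hf.restrictPreimage

theorem LQC.of_isOpen {U : Set Y} (hU : IsOpen U) : LQC U := by
  intro y
  exact ⟨Set.univ, isOpen_univ, trivial, {U}, Set.finite_singleton _,
    by simpa using hU.isLocallyClosed, by simp⟩

theorem QH.noetherianSpace_iff (hq : QH f) (hf : Continuous f) :
    TopologicalSpace.NoetherianSpace Y ↔ TopologicalSpace.NoetherianSpace X := by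
  rw [TopologicalSpace.noetherianSpace_iff_opens, TopologicalSpace.noetherianSpace_iff_opens]
  constructor
  · intro h V
    obtain ⟨U, hU, hUV⟩ := hq.2 V V.isOpen
    rw [← hUV, ← hq.isCompact_iff hf (LQC.of_isOpen hU)]
    exact h ⟨U, hU⟩
  · intro h U
    rw [hq.isCompact_iff hf (LQC.of_isOpen U.isOpen)]
    exact h ⟨f ⁻¹' U, U.isOpen.preimage hf⟩

end Groth.Agent.Lib.Helper7
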