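import Mathlib.RingTheory.LocalRing.ResidueField.Ideal
import Mathlib.RingTheory.TensorProduct.Basic
import Mathlib.RingTheory.Spectrum.Prime.RingHom
import Mathlib.Algebra.CharP.Lemmas
import Mathlib.Algebra.CharP.Algebra
import Mathlib.RingTheory.Localization.FractionRing

/-!
# Base change of radicial ring maps
-/

set_option autoImplicit false
set_option linter.unusedVariables false
set_option linter.style.haveILetI false

namespace Groth.Agent.Lib.Helper7.RadBC

open TensorProduct

universe u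

/-- The subring of elements with an `e^n`-th power in `B`. -/
def powSubring {A : Type*} [CommRing A] (e : ℕ) [ExpChar A e] (B : Subring A) : Subring A where
  carrier := {x | ∃ n : ℕ, x ^ e ^ n ∈ B}
  mul_mem' := by
    rintro x y ⟨n, hn⟩ ⟨m, hm⟩
    refine ⟨n + m, ?_⟩
    have h1 : x ^ e ^ (n + m) = (x ^ e ^ n) ^ e ^ m := by rw [pow_add, pow_mul]
    have h2 : y ^ e ^ (n + m) = (y ^ e ^ m) ^ e ^ n := by rw [add_comm, pow_add, pow_mul]
    rw [mul_pow, h1, h2]
    exact B.mul_mem (B.pow_mem hn _) (B.pow_mem hm _)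
  one_mem' := ⟨0, by simp⟩
  add_mem' := by
    rintro x y ⟨n, hn⟩ ⟨m, hm⟩
    refine ⟨n + m, ?_⟩
    have h1 : x ^ e ^ (n + m) = (x ^ e ^ n) ^ e ^ m := by rw [pow_add, pow_mul]
    have h2 : y ^ e ^ (n + m) = (y ^ e ^ m) ^ e ^ n := by rw [add_comm, pow_add, pow_mul]
    rw [add_pow_expChar_pow, h1, h2]
    exact B.add_mem (B.pow_mem hn _) (B.pow_mem hm _)
  zero_mem' := ⟨0, by simp⟩
  neg_mem' := by
    rintro x ⟨n, hn⟩
    refine ⟨n, ?_⟩
    rw [neg_pow]
    exact B.mul_mem (B.pow_mem (B.neg_mem B.one_mem) _) hn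

theorem exists_pow_eq {R S R' : Type u} [CommRing R] [CommRing S] [CommRing R'] [Algebra R S]
    [Algebra R R'] {A K' KS k : Type*} [CommRing A] [CommRing K'] [CommRing KS] [CommRing k]
    (e : ℕ) [ExpChar A e]
    (ψ : R' ⊗[R] S →+* A) (ι : K' →+* A) (μ : KS →+* A) (m₁ : k →+* KS) (m₃ : k →+* K')
    (a' : R' →+* K') (aS : S →+* KS)
    (h1 : ∀ r', ψ (r' ⊗ₜ 1) = ι (a' r')) (h2 : ∀ s, ψ (1 ⊗ₜ s) = μ (aS s))
    (hsq : μ.comp m₁ = ι.comp m₃)
    (hpi : ∀ x : KS, ∃ n : ℕ, x ^ e ^ n ∈ Set.range m₁) (t : R' ⊗[R] S) :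
    ∃ (n : ℕ) (y : K'), ψ t ^ e ^ n = ι y := by
  have key : ∀ t, ψ t ∈ powSubring e ι.range := by
    intro t
    induction t using TensorProduct.induction_on with
    | zero => rw [map_zero]; exact Subring.zero_mem _
    | tmul r' s =>
      have : r' ⊗ₜ[R] s = (r' ⊗ₜ 1) * (1 ⊗ₜ s) := by simp
      rw [this, map_mul]
      refine Subring.mul_mem _ ⟨0, ?_⟩ ?_
      · rw [h1]
        simp
      · obtain ⟨n, z, hz⟩ := hpi (aS s)
        refine ⟨n, m₃ z, ?_⟩
        rw [h2, ← map_pow, ← hz]
        exact (DFunLike.congr_fun hsq z).symm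
    | add x y hx hy => rw [map_add]; exact Subring.add_mem _ hx hy
  obtain ⟨n, y, hy⟩ := key t
  exact ⟨n, y, hy.symm⟩

theorem main {R S R' : Type u} [CommRing R] [CommRing S] [CommRing R'] [Algebra R S]
    [Algebra R R']
    (hinj : Function.Injective (PrimeSpectrum.comap (algebraMap R S)))
    (hpi : ∀ (q : Ideal S) [q.IsPrime] (x : q.ResidueField), ∃ n : ℕ,
      x ^ (ringExpChar (q.comap (algebraMap R S)).ResidueField) ^ n ∈
        Set.range (Ideal.ResidueField.map (q.comap (algebraMap R S)) q (algebraMap R S) rfl)) :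
    Function.Injective (PrimeSpectrum.comap (algebraMap R' (R' ⊗[R] S))) ∧
      ∀ (q' : Ideal (R' ⊗[R] S)) [q'.IsPrime] (x : q'.ResidueField), ∃ n : ℕ,
        x ^ (ringExpChar (q'.comap (algebraMap R' (R' ⊗[R] S))).ResidueField) ^ n ∈
          Set.range (Ideal.ResidueField.map (q'.comap (algebraMap R' (R' ⊗[R] S))) q'
            (algebraMap R' (R' ⊗[R] S)) rfl) := by
  set g : R' →+* R' ⊗[R] S := algebraMap R' (R' ⊗[R] S) with hg
  set h : S →+* R' ⊗[R] S :=
    (Algebra.TensorProduct.includeRight : S →ₐ[R] R' ⊗[R] S).toRingHom with hh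
  have hcomm : g.comp (algebraMap R R') = h.comp (algebraMap R S) := by
    ext r
    simp [hg, hh, Algebra.algebraMap_eq_smul_one]
  have hg1 : ∀ r', g r' = r' ⊗ₜ[R] (1 : S) := fun r' => rfl
  have hh1 : ∀ s, h s = (1 : R') ⊗ₜ[R] s := fun s => rfl
  constructor
  · intro Q₁ Q₂ h12
    have heq : Q₁.asIdeal.comap g = Q₂.asIdeal.comap g := congrArg PrimeSpectrum.asIdeal h12
    set p' := Q₁.asIdeal.comap g with hp'
    have hp2 : p' = Q₂.asIdeal.comap g := heq
    set q := Q₁.asIdeal.comap h with hq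
    have hq2 : q = Q₂.asIdeal.comap h := by
      have : (⟨Q₁.asIdeal.comap h, inferInstance⟩ : PrimeSpectrum S) =
          ⟨Q₂.asIdeal.comap h, inferInstance⟩ := by
        apply hinj
        apply PrimeSpectrum.ext
        change (Q₁.asIdeal.comap h).comap (algebraMap R S) =
          (Q₂.asIdeal.comap h).comap (algebraMap R S)
        rw [Ideal.comap_comap, Ideal.comap_comap, ← hcomm, ← Ideal.comap_comap,
          ← Ideal.comap_comap]
        exact congrArg _ heq
      exact congrArg PrimeSpectrum.asIdeal this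
    set p := q.comap (algebraMap R S) with hp
    have hpp' : p = p'.comap (algebraMap R R') := by
      rw [hp, hq, hp', Ideal.comap_comap, Ideal.comap_comap, hcomm]
    set e := ringExpChar p.ResidueField with he
    haveI : ExpChar p.ResidueField e := ringExpChar.expChar _
    let m₁ := Ideal.ResidueField.map p q (algebraMap R S) rfl
    let m₃ := Ideal.ResidueField.map p p' (algebraMap R R') hpp'
    let ι₁ := Ideal.ResidueField.map p' Q₁.asIdeal g rfl
    let ι₂ := Ideal.ResidueField.map p' Q₂.asIdeal g hp2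
    let μ₁ := Ideal.ResidueField.map q Q₁.asIdeal h rfl
    let μ₂ := Ideal.ResidueField.map q Q₂.asIdeal h hq2
    haveI : ExpChar Q₁.asIdeal.ResidueField e :=
      expChar_of_injective_ringHom (ι₁.comp m₃).injective e
    haveI : ExpChar Q₂.asIdeal.ResidueField e :=
      expChar_of_injective_ringHom (ι₂.comp m₃).injective e
    have hall : ∀ t : R' ⊗[R] S, ∃ (n : ℕ) (y : p'.ResidueField),
        algebraMap _ Q₁.asIdeal.ResidueField t ^ e ^ n = ι₁ y ∧
        algebraMap _ Q₂.asIdeal.ResidueField t ^ e ^ n = ι₂ y := by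
      intro t
      have H1 : ∀ r' : R', ((algebraMap _ Q₁.asIdeal.ResidueField).prod
          (algebraMap _ Q₂.asIdeal.ResidueField)) (r' ⊗ₜ[R] (1 : S)) =
          (ι₁.prod ι₂) (algebraMap R' p'.ResidueField r') := by
        intro r'
        refine Prod.ext ?_ ?_
        · exact (Ideal.ResidueField.map_algebraMap p' Q₁.asIdeal g rfl r').symm
        · exact (Ideal.ResidueField.map_algebraMap p' Q₂.asIdeal g hp2 r').symm
      have H2 : ∀ s : S, ((algebraMap _ Q₁.asIdeal.ResidueField).prod
          (algebraMap _ Q₂.asIdeal.ResidueField)) ((1 : R') ⊗ₜ[R] s) =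
          (μ₁.prod μ₂) (algebraMap S q.ResidueField s) := by
        intro s
        refine Prod.ext ?_ ?_
        · exact (Ideal.ResidueField.map_algebraMap q Q₁.asIdeal h rfl s).symm
        · exact (Ideal.ResidueField.map_algebraMap q Q₂.asIdeal h hq2 s).symm
      have H3 : (μ₁.prod μ₂).comp m₁ = (ι₁.prod ι₂).comp m₃ := by
        apply Ideal.ResidueField.ringHom_ext
        ext r
        · simp only [RingHom.comp_apply, RingHom.prod_apply, m₁, m₃, μ₁, ι₁,
            Ideal.ResidueField.map_algebraMap]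
          exact congrArg _ (DFunLike.congr_fun hcomm r).symm
        · simp only [RingHom.comp_apply, RingHom.prod_apply, m₁, m₃, μ₂, ι₂,
            Ideal.ResidueField.map_algebraMap]
          exact congrArg _ (DFunLike.congr_fun hcomm r).symm
      obtain ⟨n, y, hy⟩ := exists_pow_eq
        (A := Q₁.asIdeal.ResidueField × Q₂.asIdeal.ResidueField) e
        ((algebraMap _ Q₁.asIdeal.ResidueField).prod (algebraMap _ Q₂.asIdeal.ResidueField))
        (ι₁.prod ι₂) (μ₁.prod μ₂) m₁ m₃ (algebraMap R' p'.ResidueField)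
        (algebraMap S q.ResidueField) H1 H2 H3 (hpi q) t
      exact ⟨n, y, congrArg Prod.fst hy, congrArg Prod.snd hy⟩
    have hiff : ∀ t, t ∈ Q₁.asIdeal ↔ t ∈ Q₂.asIdeal := by
      intro t
      obtain ⟨n, y, h1, h2⟩ := hall t
      have hne : e ^ n ≠ 0 := pow_ne_zero _ (expChar_ne_zero p.ResidueField e)
      rw [← Ideal.algebraMap_residueField_eq_zero (I := Q₁.asIdeal),
        ← Ideal.algebraMap_residueField_eq_zero (I := Q₂.asIdeal),
        ← pow_eq_zero_iff hne, h1,
        ← pow_eq_zero_iff (a := algebraMap _ Q₂.asIdeal.ResidueField t) hne, h2,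
        map_eq_zero, map_eq_zero]
    exact PrimeSpectrum.ext (Ideal.ext hiff)
  · intro Q _ x
    set p' := Q.comap g with hp'
    set q := Q.comap h with hq
    set p := q.comap (algebraMap R S) with hp
    have hpp' : p = p'.comap (algebraMap R R') := by
      rw [hp, hq, hp', Ideal.comap_comap, Ideal.comap_comap, hcomm]
    set e := ringExpChar p.ResidueField with he
    haveI : ExpChar p.ResidueField e := ringExpChar.expChar _
    let m₁ := Ideal.ResidueField.map p q (algebraMap R S) rfl
    let m₃ := Ideal.ResidueField.map p p' (algebraMap R R') hpp'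
    let ι₁ := Ideal.ResidueField.map p' Q g rfl
    let μ₁ := Ideal.ResidueField.map q Q h rfl
    haveI : ExpChar p'.ResidueField e := expChar_of_injective_ringHom m₃.injective e
    haveI : ExpChar Q.ResidueField e :=
      expChar_of_injective_ringHom (ι₁.comp m₃).injective e
    have he' : ringExpChar p'.ResidueField = e := ringExpChar.eq _ e
    rw [he']
    have hall : ∀ t : R' ⊗[R] S, ∃ (n : ℕ) (y : p'.ResidueField),
        algebraMap _ Q.ResidueField t ^ e ^ n = ι₁ y := by
      intro t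
      refine exists_pow_eq (A := Q.ResidueField) e (algebraMap _ Q.ResidueField)
        ι₁ μ₁ m₁ m₃ (algebraMap R' p'.ResidueField)
        (algebraMap S q.ResidueField) ?_ ?_ ?_ (hpi q) t
      · intro r'
        exact (Ideal.ResidueField.map_algebraMap p' Q g rfl r').symm
      · intro s
        exact (Ideal.ResidueField.map_algebraMap q Q h rfl s).symm
      · apply Ideal.ResidueField.ringHom_ext
        ext r
        simp only [RingHom.comp_apply, m₁, m₃, μ₁, ι₁, Ideal.ResidueField.map_algebraMap]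
        exact congrArg _ (DFunLike.congr_fun hcomm r).symm
    obtain ⟨a, b, hb, rfl⟩ := IsFractionRing.div_surjective (A := (R' ⊗[R] S) ⧸ Q) x
    obtain ⟨a, rfl⟩ := Ideal.Quotient.mk_surjective a
    obtain ⟨b, rfl⟩ := Ideal.Quotient.mk_surjective b
    rw [Ideal.algebraMap_quotient_residueField_mk, Ideal.algebraMap_quotient_residueField_mk]
    obtain ⟨n, y, hy⟩ := hall a
    obtain ⟨m, z, hz⟩ := hall b
    refine ⟨n + m, y ^ e ^ m / z ^ e ^ n, ?_⟩
    have h1 : ∀ w : Q.ResidueField, w ^ e ^ (n + m) = (w ^ e ^ n) ^ e ^ m := fun w => by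
      rw [pow_add, pow_mul]
    have h2 : ∀ w : Q.ResidueField, w ^ e ^ (n + m) = (w ^ e ^ m) ^ e ^ n := fun w => by
      rw [add_comm, pow_add, pow_mul]
    change ι₁ _ = _
    rw [map_div₀, map_pow, map_pow, ← hy, ← hz, div_pow, h1, h2]

end Groth.Agent.Lib.Helper7.RadBC
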