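import Groth.Agent.Lib.Helper7.NoetherNormInt
import Mathlib.RingTheory.AlgebraicIndependent.TranscendenceBasis
import Mathlib.RingTheory.LocalRing.ResidueField.Ideal

/-!
# Refined Noether normalization for polynomial rings
-/

set_option autoImplicit false
set_option linter.unusedVariables false
set_option linter.style.haveILetI false
set_option linter.style.longLine false
set_option maxSynthPendingDepth 3

namespace Groth.Agent.Lib.Helper7.RefNN

open MvPolynomial

universe u

variable {k : Type u} [Field k] {n : ℕ}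

/-- evaluating the `finSuccEquiv` image at `X 0` recovers the polynomial -/
theorem eval₂_finSuccEquiv (p : MvPolynomial (Fin (n + 1)) k) :
    Polynomial.eval₂ (rename Fin.succ : MvPolynomial (Fin n) k →ₐ[k] _).toRingHom (X 0)
      (finSuccEquiv k n p) = p := by
  have h : ((Polynomial.eval₂AlgHom (rename Fin.succ : MvPolynomial (Fin n) k →ₐ[k]
      MvPolynomial (Fin (n + 1)) k) (X 0) (fun _ => Commute.all _ _)).comp
      (finSuccEquiv k n).toAlgHom) = AlgHom.id k _ := by
    apply MvPolynomial.algHom_ext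
    intro i
    refine Fin.cases ?_ (fun j => ?_) i
    · simp [finSuccEquiv_X_zero]
    · simp [finSuccEquiv_X_succ]
  exact DFunLike.congr_fun h p

/-- The substitution `X 0 ↦ g`, `X (i+1) ↦ X (i+1)`. -/
noncomputable def psi (g : MvPolynomial (Fin (n + 1)) k) :
    MvPolynomial (Fin (n + 1)) k →ₐ[k] MvPolynomial (Fin (n + 1)) k :=
  aeval (Fin.cases g (fun i => X i.succ))

theorem psi_X_zero (g : MvPolynomial (Fin (n + 1)) k) : psi g (X 0) = g := by
  simp [psi]

theorem psi_X_succ (g : MvPolynomial (Fin (n + 1)) k) (i : Fin n) :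
    psi g (X i.succ) = X i.succ := by
  simp [psi]

theorem psi_comp_rename (g : MvPolynomial (Fin (n + 1)) k) :
    (psi g).comp (rename Fin.succ : MvPolynomial (Fin n) k →ₐ[k] _) = rename Fin.succ := by
  apply MvPolynomial.algHom_ext
  intro i
  simp [psi_X_succ]

theorem psi_isIntegral (g : MvPolynomial (Fin (n + 1)) k)
    (hu : IsUnit (finSuccEquiv k n g).leadingCoeff)
    (hd : 0 < (finSuccEquiv k n g).natDegree) : (psi g).toRingHom.IsIntegral := by
  classical
  set rs : MvPolynomial (Fin n) k →+* MvPolynomial (Fin (n + 1)) k :=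
    (rename Fin.succ : MvPolynomial (Fin n) k →ₐ[k] _).toRingHom with hrs
  have hrsinj : Function.Injective rs := rename_injective _ (Fin.succ_injective n)
  set G := finSuccEquiv k n g with hG
  -- `X 0` is integral
  have hX0 : (psi g).toRingHom.IsIntegralElem (X 0) := by
    set H₀ : Polynomial (MvPolynomial (Fin (n + 1)) k) := G.map rs - Polynomial.C (X 0) with hH₀
    have hdeg : (Polynomial.C (X 0 : MvPolynomial (Fin (n + 1)) k)).degree < (G.map rs).degree := by
      rw [Polynomial.degree_map_eq_of_injective hrsinj]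
      refine lt_of_le_of_lt Polynomial.degree_C_le ?_
      rw [Polynomial.degree_eq_natDegree (fun h0 => by rw [h0] at hd; simp at hd)]
      exact_mod_cast hd
    have hlc : H₀.leadingCoeff = rs G.leadingCoeff := by
      rw [hH₀, Polynomial.leadingCoeff_sub_of_degree_lt hdeg,
        Polynomial.leadingCoeff_map_of_injective hrsinj]
    have hunit : IsUnit H₀.leadingCoeff := by
      rw [hlc]
      exact hu.map rs
    refine ⟨hunit.unit⁻¹ • H₀, Polynomial.monic_of_isUnit_leadingCoeff_inv_smul hunit, ?_⟩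
    have hcomp : (psi g).toRingHom.comp rs = rs := by
      have := psi_comp_rename g
      exact congrArg (fun φ : MvPolynomial (Fin n) k →ₐ[k] _ => φ.toRingHom) this
    have h1 : Polynomial.eval₂ (psi g).toRingHom (X 0) H₀ = 0 := by
      rw [hH₀, Polynomial.eval₂_sub, Polynomial.eval₂_map, hcomp, Polynomial.eval₂_C]
      have := eval₂_finSuccEquiv g
      rw [this]
      change g - psi g (X 0) = 0
      rw [psi_X_zero, sub_self]
    rw [Units.smul_def, Polynomial.eval₂_smul, h1, mul_zero]
  intro x
  induction x using MvPolynomial.induction_on with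
  | C a =>
    have : (C a : MvPolynomial (Fin (n + 1)) k) = (psi g).toRingHom (C a) := by simp [psi]
    rw [this]
    exact (psi g).toRingHom.isIntegralElem_map
  | add p q hp hq => exact RingHom.IsIntegralElem.add _ hp hq
  | mul_X p i hp =>
    refine RingHom.IsIntegralElem.mul _ hp ?_
    refine Fin.cases hX0 (fun j => ?_) i
    have : (X j.succ : MvPolynomial (Fin (n + 1)) k) = (psi g).toRingHom (X j.succ) :=
      (psi_X_succ g j).symm
    rw [this]
    exact (psi g).toRingHom.isIntegralElem_map

/-- extension of `φ'` to one more variable (`X 0` fixed) -/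
noncomputable def ext (φ' : MvPolynomial (Fin n) k →ₐ[k] MvPolynomial (Fin n) k) :
    MvPolynomial (Fin (n + 1)) k →ₐ[k] MvPolynomial (Fin (n + 1)) k :=
  aeval (Fin.cases (X 0) (fun i => rename Fin.succ (φ' (X i))))

theorem ext_X_zero (φ' : MvPolynomial (Fin n) k →ₐ[k] MvPolynomial (Fin n) k) :
    ext φ' (X 0) = X 0 := by
  simp [ext]

theorem ext_X_succ (φ' : MvPolynomial (Fin n) k →ₐ[k] MvPolynomial (Fin n) k) (i : Fin n) :
    ext φ' (X i.succ) = rename Fin.succ (φ' (X i)) := by
  simp [ext]

theorem ext_comp_rename (φ' : MvPolynomial (Fin n) k →ₐ[k] MvPolynomial (Fin n) k) :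
    (ext φ').comp (rename Fin.succ : MvPolynomial (Fin n) k →ₐ[k] _) =
      (rename Fin.succ : MvPolynomial (Fin n) k →ₐ[k] _).comp φ' := by
  apply MvPolynomial.algHom_ext
  intro i
  simp [ext_X_succ]

theorem ext_isIntegral (φ' : MvPolynomial (Fin n) k →ₐ[k] MvPolynomial (Fin n) k)
    (h : φ'.toRingHom.IsIntegral) : (ext φ').toRingHom.IsIntegral := by
  set rs : MvPolynomial (Fin n) k →+* MvPolynomial (Fin (n + 1)) k :=
    (rename Fin.succ : MvPolynomial (Fin n) k →ₐ[k] _).toRingHom with hrs
  have hcomp : (ext φ').toRingHom.comp rs = rs.comp φ'.toRingHom :=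
    congrArg (fun φ : MvPolynomial (Fin n) k →ₐ[k] _ => φ.toRingHom) (ext_comp_rename φ')
  intro x
  induction x using MvPolynomial.induction_on with
  | C a =>
    have : (C a : MvPolynomial (Fin (n + 1)) k) = (ext φ').toRingHom (C a) := by simp [ext]
    rw [this]
    exact (ext φ').toRingHom.isIntegralElem_map
  | add p q hp hq => exact RingHom.IsIntegralElem.add _ hp hq
  | mul_X p i hp =>
    refine RingHom.IsIntegralElem.mul _ hp ?_
    refine Fin.cases ?_ (fun j => ?_) i
    · have : (X 0 : MvPolynomial (Fin (n + 1)) k) = (ext φ').toRingHom (X 0) :=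
        (ext_X_zero φ').symm
      rw [this]
      exact (ext φ').toRingHom.isIntegralElem_map
    · obtain ⟨p, hpm, hp⟩ := h (X j)
      refine ⟨p.map rs, hpm.map rs, ?_⟩
      have hX : (X j.succ : MvPolynomial (Fin (n + 1)) k) = rs (X j) := by simp [hrs]
      rw [Polynomial.eval₂_map, hcomp, hX, ← Polynomial.hom_eval₂, hp, map_zero]

/-- the evaluation `X 0 ↦ 0`, `X (i+1) ↦ X i` -/
noncomputable def ev : MvPolynomial (Fin (n + 1)) k →ₐ[k] MvPolynomial (Fin n) k :=
  aeval (Fin.cases 0 X)

theorem sub_rename_ev_mem (p : MvPolynomial (Fin (n + 1)) k) :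
    p - rename Fin.succ (ev p) ∈ Ideal.span {(X 0 : MvPolynomial (Fin (n + 1)) k)} := by
  have h : (Ideal.Quotient.mkₐ k (Ideal.span {(X 0 : MvPolynomial (Fin (n + 1)) k)})).comp
      ((rename Fin.succ : MvPolynomial (Fin n) k →ₐ[k] _).comp ev) =
      Ideal.Quotient.mkₐ k (Ideal.span {(X 0 : MvPolynomial (Fin (n + 1)) k)}) := by
    apply MvPolynomial.algHom_ext
    intro i
    refine Fin.cases ?_ (fun j => ?_) i
    · simp only [AlgHom.comp_apply, ev, aeval_X, Fin.cases_zero, map_zero,
        Ideal.Quotient.mkₐ_eq_mk]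
      symm
      rw [Ideal.Quotient.eq_zero_iff_mem]
      exact Ideal.mem_span_singleton_self _
    · simp [ev]
  have := DFunLike.congr_fun h p
  simp only [AlgHom.comp_apply, Ideal.Quotient.mkₐ_eq_mk] at this
  exact Ideal.Quotient.eq.1 this.symm

theorem comap_eq (I : Ideal (MvPolynomial (Fin (n + 1)) k))
    (φ₁ : MvPolynomial (Fin (n + 1)) k →ₐ[k] MvPolynomial (Fin (n + 1)) k)
    (φ' : MvPolynomial (Fin n) k →ₐ[k] MvPolynomial (Fin n) k)
    (h0 : φ₁ (X 0) ∈ I)
    (hcomp : φ₁.comp (rename Fin.succ : MvPolynomial (Fin n) k →ₐ[k] _) =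
      (rename Fin.succ : MvPolynomial (Fin n) k →ₐ[k] _).comp φ')
    (s' : Set (Fin n))
    (hs' : (I.comap (rename Fin.succ : MvPolynomial (Fin n) k →ₐ[k] _)).comap φ' =
      Ideal.span (X '' s')) :
    I.comap φ₁ = Ideal.span (X '' (insert 0 (Fin.succ '' s'))) := by
  have hcomp' : ∀ q, φ₁ (rename Fin.succ q) = rename Fin.succ (φ' q) :=
    fun q => DFunLike.congr_fun hcomp q
  apply le_antisymm
  · intro p hp
    rw [Ideal.mem_comap] at hp
    have h1 := sub_rename_ev_mem p
    have h2 : φ₁ (p - rename Fin.succ (ev p)) ∈ I := by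
      obtain ⟨a, ha⟩ := Ideal.mem_span_singleton'.1 h1
      rw [← ha, map_mul]
      exact Ideal.mul_mem_left _ _ h0
    have h3 : φ₁ (rename Fin.succ (ev p)) ∈ I := by
      have : φ₁ (rename Fin.succ (ev p)) = φ₁ p - φ₁ (p - rename Fin.succ (ev p)) := by
        rw [map_sub]
        ring
      rw [this]
      exact Ideal.sub_mem _ hp h2
    rw [hcomp'] at h3
    have h4 : ev p ∈ Ideal.span (X '' s') := by
      rw [← hs', Ideal.mem_comap, Ideal.mem_comap]
      exact h3
    have h5 : rename Fin.succ (ev p) ∈ Ideal.span (X '' (insert 0 (Fin.succ '' s'))) := by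
      have := Ideal.mem_map_of_mem (rename Fin.succ : MvPolynomial (Fin n) k →ₐ[k]
        MvPolynomial (Fin (n + 1)) k) h4
      rw [Ideal.map_span] at this
      refine Ideal.span_mono ?_ this
      rintro _ ⟨_, ⟨i, hi, rfl⟩, rfl⟩
      exact ⟨i.succ, Set.mem_insert_of_mem _ ⟨i, hi, rfl⟩, by simp⟩
    have h6 : p - rename Fin.succ (ev p) ∈ Ideal.span (X '' (insert 0 (Fin.succ '' s'))) := by
      refine Ideal.span_mono ?_ h1
      rintro _ rfl
      exact ⟨0, Set.mem_insert _ _, rfl⟩
    have := Ideal.add_mem _ h6 h5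
    rwa [sub_add_cancel] at this
  · rw [Ideal.span_le]
    rintro _ ⟨i, hi, rfl⟩
    rw [SetLike.mem_coe, Ideal.mem_comap]
    rcases hi with rfl | ⟨j, hj, rfl⟩
    · exact h0
    · have : (X j.succ : MvPolynomial (Fin (n + 1)) k) = rename Fin.succ (X j) := by simp
      rw [this, hcomp']
      have h7 : (X j : MvPolynomial (Fin n) k) ∈ Ideal.span (X '' s') :=
        Ideal.subset_span ⟨j, hj, rfl⟩
      rw [← hs', Ideal.mem_comap, Ideal.mem_comap] at h7
      exact h7

theorem id_isIntegral (m : ℕ) :
    (AlgHom.id k (MvPolynomial (Fin m) k)).toRingHom.IsIntegral :=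
  RingHom.isIntegral_of_surjective _ (fun x => ⟨x, rfl⟩)

theorem exists_adapted : ∀ (n : ℕ) (I : Ideal (MvPolynomial (Fin n) k)), I ≠ ⊤ →
    ∃ (s : Set (Fin n)) (φ : MvPolynomial (Fin n) k →ₐ[k] MvPolynomial (Fin n) k),
      φ.toRingHom.IsIntegral ∧ I.comap φ = Ideal.span (X '' s) := by
  intro n
  induction n with
  | zero =>
    intro I hI
    refine ⟨∅, AlgHom.id k _, id_isIntegral 0, ?_⟩
    have hbot : I = ⊥ := by
      rw [eq_bot_iff]
      intro x hx
      rw [Ideal.mem_bot]
      by_contra hx0
      apply hI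
      have hxC : x = C (coeff 0 x) := MvPolynomial.eq_C_of_isEmpty x
      have hc : coeff 0 x ≠ 0 := by
        intro h0
        rw [h0, map_zero] at hxC
        exact hx0 hxC
      have hu : IsUnit x := by
        rw [hxC]
        exact (isUnit_iff_ne_zero.2 hc).map C
      exact Ideal.eq_top_of_isUnit_mem _ hx hu
    rw [hbot, Set.image_empty, Ideal.span_empty]
    ext x
    simp [Ideal.mem_comap]
  | succ n ih =>
    intro I hI
    by_cases hbot : I = ⊥
    · refine ⟨∅, AlgHom.id k _, id_isIntegral _, ?_⟩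
      rw [hbot, Set.image_empty, Ideal.span_empty]
      ext x
      simp [Ideal.mem_comap]
    · obtain ⟨f, hfI, hf0⟩ := Submodule.exists_mem_ne_zero_of_ne_bot hbot
      set Tf := NNInt.T f with hTf
      set g := Tf f with hg
      set I₁ := I.comap (Tf.symm : MvPolynomial (Fin (n + 1)) k →ₐ[k] _) with hI₁def
      have hgI₁ : g ∈ I₁ := by
        rw [hI₁def, Ideal.mem_comap, hg]
        have : (Tf.symm : MvPolynomial (Fin (n + 1)) k →ₐ[k] _) (Tf f) = f :=
          Tf.symm_apply_apply f
        rw [this]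
        exact hfI
      have hI₁ : I₁ ≠ ⊤ := by
        intro h
        apply hI
        rw [Ideal.eq_top_iff_one] at h ⊢
        rw [hI₁def, Ideal.mem_comap, map_one] at h
        exact h
      have hu : IsUnit (finSuccEquiv k n g).leadingCoeff := NNInt.T_leadingcoeff_isUnit f hf0
      have hd : 0 < (finSuccEquiv k n g).natDegree := by
        by_contra hd0
        have hd0 : (finSuccEquiv k n g).natDegree = 0 := by omega
        have hG : finSuccEquiv k n g = Polynomial.C ((finSuccEquiv k n g).coeff 0) :=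
          Polynomial.eq_C_of_natDegree_eq_zero hd0
        have hlc : (finSuccEquiv k n g).leadingCoeff = (finSuccEquiv k n g).coeff 0 := by
          rw [Polynomial.leadingCoeff, hd0]
        have hGu : IsUnit (finSuccEquiv k n g) := by
          rw [hG]
          exact Polynomial.isUnit_C.2 (hlc ▸ hu)
        have hgu : IsUnit g := by
          have := hGu.map (finSuccEquiv k n).symm
          simpa using this
        exact hI₁ (Ideal.eq_top_of_isUnit_mem _ hgI₁ hgu)
      set I' := I₁.comap (rename Fin.succ : MvPolynomial (Fin n) k →ₐ[k] _) with hI'def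
      have hI' : I' ≠ ⊤ := by
        intro h
        apply hI₁
        rw [Ideal.eq_top_iff_one] at h ⊢
        rw [hI'def, Ideal.mem_comap, map_one] at h
        exact h
      obtain ⟨s', φ', hφ'int, hφ'⟩ := ih I' hI'
      set φ₁ := (psi g).comp (ext φ') with hφ₁
      have hφ₁int : φ₁.toRingHom.IsIntegral :=
        RingHom.IsIntegral.trans _ _ (ext_isIntegral φ' hφ'int) (psi_isIntegral g hu hd)
      have h0 : φ₁ (X 0) ∈ I₁ := by
        rw [hφ₁, AlgHom.comp_apply, ext_X_zero, psi_X_zero]
        exact hgI₁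
      have hcomp : φ₁.comp (rename Fin.succ : MvPolynomial (Fin n) k →ₐ[k] _) =
          (rename Fin.succ : MvPolynomial (Fin n) k →ₐ[k] _).comp φ' := by
        rw [hφ₁, AlgHom.comp_assoc, ext_comp_rename, ← AlgHom.comp_assoc, psi_comp_rename]
      have hc := comap_eq I₁ φ₁ φ' h0 hcomp s' hφ'
      refine ⟨insert 0 (Fin.succ '' s'),
        (Tf.symm : MvPolynomial (Fin (n + 1)) k →ₐ[k] _).comp φ₁, ?_, ?_⟩
      · exact RingHom.IsIntegral.trans _ _ hφ₁int
          (RingHom.isIntegral_of_surjective _ Tf.symm.surjective)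
      · rw [← hc, hI₁def]
        ext x
        simp only [Ideal.mem_comap, AlgHom.comp_apply]

section trdeg

open Classical in
/-- kill the variables in `s` -/
noncomputable def eps (s : Set (Fin n)) :
    MvPolynomial (Fin n) k →ₐ[k] MvPolynomial {i : Fin n // i ∉ s} k :=
  aeval (fun i => if h : i ∈ s then 0 else X ⟨i, h⟩)

theorem eps_X_mem (s : Set (Fin n)) {i : Fin n} (h : i ∈ s) : eps (k := k) s (X i) = 0 := by
  simp [eps, h]

theorem eps_X_notMem (s : Set (Fin n)) {i : Fin n} (h : i ∉ s) :
    eps (k := k) s (X i) = X ⟨i, h⟩ := by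
  simp [eps, h]

theorem eps_comp_rename (s : Set (Fin n)) :
    (eps (k := k) s).comp (rename (Subtype.val : {i : Fin n // i ∉ s} → Fin n)) =
      AlgHom.id k _ := by
  apply MvPolynomial.algHom_ext
  rintro ⟨i, hi⟩
  simp [eps_X_notMem s hi]

theorem eps_eq_zero_of_mem_span (s : Set (Fin n)) {p : MvPolynomial (Fin n) k}
    (hp : p ∈ Ideal.span (X '' s : Set (MvPolynomial (Fin n) k))) : eps s p = 0 := by
  have : Ideal.span (X '' s : Set (MvPolynomial (Fin n) k)) ≤ RingHom.ker (eps (k := k) s) := by
    rw [Ideal.span_le]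
    rintro _ ⟨i, hi, rfl⟩
    exact eps_X_mem s hi
  exact this hp

theorem sub_rename_eps_mem (s : Set (Fin n)) (p : MvPolynomial (Fin n) k) :
    p - rename Subtype.val (eps s p) ∈
      Ideal.span (X '' s : Set (MvPolynomial (Fin n) k)) := by
  have h : (Ideal.Quotient.mkₐ k (Ideal.span (X '' s : Set (MvPolynomial (Fin n) k)))).comp
      ((rename (Subtype.val : {i : Fin n // i ∉ s} → Fin n)).comp (eps s)) =
      Ideal.Quotient.mkₐ k (Ideal.span (X '' s : Set (MvPolynomial (Fin n) k))) := by
    apply MvPolynomial.algHom_ext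
    intro i
    by_cases hi : i ∈ s
    · simp only [AlgHom.comp_apply, eps_X_mem s hi, map_zero, Ideal.Quotient.mkₐ_eq_mk]
      symm
      rw [Ideal.Quotient.eq_zero_iff_mem]
      exact Ideal.subset_span ⟨i, hi, rfl⟩
    · simp [eps_X_notMem s hi]
  have := DFunLike.congr_fun h p
  simp only [AlgHom.comp_apply, Ideal.Quotient.mkₐ_eq_mk] at this
  exact Ideal.Quotient.eq.1 this.symm

theorem trdeg_residueField_eq (q : Ideal (MvPolynomial (Fin n) k)) [q.IsPrime]
    (s : Set (Fin n)) (φ : MvPolynomial (Fin n) k →ₐ[k] MvPolynomial (Fin n) k)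
    (hint : φ.toRingHom.IsIntegral) (hcomap : q.comap φ = Ideal.span (X '' s)) :
    Algebra.trdeg k q.ResidueField = Cardinal.lift.{u} (Cardinal.mk {i : Fin n // i ∉ s}) := by
  classical
  set S := MvPolynomial {i : Fin n // i ∉ s} k with hS
  set alg : MvPolynomial (Fin n) k →ₐ[k] q.ResidueField :=
    IsScalarTower.toAlgHom k (MvPolynomial (Fin n) k) q.ResidueField with halg
  set θ : S →ₐ[k] q.ResidueField :=
    alg.comp (φ.comp (rename (Subtype.val : {i : Fin n // i ∉ s} → Fin n))) with hθ
  have hθinj : Function.Injective θ := by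
    rw [injective_iff_map_eq_zero]
    intro p hp
    have h1 : φ (rename Subtype.val p) ∈ q := by
      rw [← Ideal.algebraMap_residueField_eq_zero]
      exact hp
    have h2 : rename Subtype.val p ∈ Ideal.span (X '' s : Set (MvPolynomial (Fin n) k)) := by
      rw [← hcomap, Ideal.mem_comap]
      exact h1
    have h3 := eps_eq_zero_of_mem_span s h2
    have h4 : eps s (rename Subtype.val p) = p :=
      DFunLike.congr_fun (eps_comp_rename (k := k) s) p
    rw [← h4, h3]
  -- `alg ∘ φ = θ ∘ ε`
  have hfac : ∀ c : MvPolynomial (Fin n) k, alg (φ c) = θ (eps s c) := by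
    intro c
    have h1 := sub_rename_eps_mem s c
    rw [← hcomap, Ideal.mem_comap, map_sub] at h1
    have h2 : alg (φ c - φ (rename Subtype.val (eps s c))) = 0 :=
      Ideal.algebraMap_residueField_eq_zero.2 h1
    rw [map_sub, sub_eq_zero] at h2
    rw [h2]
    rfl
  letI : Algebra S q.ResidueField := θ.toRingHom.toAlgebra
  haveI : IsScalarTower k S q.ResidueField := IsScalarTower.of_algebraMap_eq fun c => by
    rw [RingHom.algebraMap_toAlgebra]
    exact (θ.commutes c).symm
  haveI : FaithfulSMul S q.ResidueField :=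
    (faithfulSMul_iff_algebraMap_injective S q.ResidueField).2 hθinj
  have hamap : ∀ p : S, algebraMap S q.ResidueField p = θ p := fun p => rfl
  -- elements of the image of the polynomial ring are integral over `S`
  have hint' : ∀ z : MvPolynomial (Fin n) k, IsIntegral S (alg z) := by
    intro z
    obtain ⟨p, hpm, hp⟩ := hint z
    refine ⟨p.map (eps s).toRingHom, hpm.map _, ?_⟩
    rw [Polynomial.eval₂_map]
    have hc : (algebraMap S q.ResidueField).comp (eps s).toRingHom =
        alg.toRingHom.comp φ.toRingHom := RingHom.ext fun c => (hfac c).symm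
    have h5 := Polynomial.hom_eval₂ p φ.toRingHom alg.toRingHom z
    rw [hp, map_zero] at h5
    rw [hc]
    exact h5.symm
  haveI : Algebra.IsAlgebraic S q.ResidueField := by
    refine ⟨fun w => ?_⟩
    obtain ⟨a, b, hb, rfl⟩ := IsFractionRing.div_surjective (A := MvPolynomial (Fin n) k ⧸ q) w
    obtain ⟨a, rfl⟩ := Ideal.Quotient.mk_surjective a
    obtain ⟨b, rfl⟩ := Ideal.Quotient.mk_surjective b
    rw [Ideal.algebraMap_quotient_residueField_mk, Ideal.algebraMap_quotient_residueField_mk,
      div_eq_mul_inv]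
    exact ((hint' a).isAlgebraic).mul ((hint' b).isAlgebraic).inv
  have h1 := trdeg_add_eq k S (A := q.ResidueField)
  have h0 : Algebra.trdeg S q.ResidueField = 0 := trdeg_eq_zero
  rw [h0, add_zero, MvPolynomial.trdeg_of_isDomain] at h1
  exact h1.symm

end trdeg

theorem main (n r : ℕ) (q : Ideal (MvPolynomial (Fin n) k)) [q.IsPrime]
    (hr : Algebra.trdeg k q.ResidueField = r) :
    ∃ φ : MvPolynomial (Fin n) k →ₐ[k] MvPolynomial (Fin n) k, φ.toRingHom.Finite ∧
      q.comap φ = Ideal.span (Set.range fun i : {i : Fin n // r ≤ (i : ℕ)} =>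
        (X (i : Fin n) : MvPolynomial (Fin n) k)) := by
  classical
  obtain ⟨s, φ, hint, hcomap⟩ := exists_adapted n q (Ideal.IsPrime.ne_top inferInstance)
  have htr := trdeg_residueField_eq q s φ hint hcomap
  rw [hr] at htr
  have hcard : Fintype.card {i : Fin n // i ∉ s} = r := by
    have : (r : Cardinal.{u}) = ((Fintype.card {i : Fin n // i ∉ s} : ℕ) : Cardinal.{u}) := by
      rw [htr, Cardinal.mk_fintype, Cardinal.lift_natCast]
    exact_mod_cast this.symm
  have hrn : r ≤ n := by
    rw [← hcard]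
    exact (Fintype.card_subtype_le _).trans (by simp)
  have hc2 : Fintype.card {i : Fin n // (i : ℕ) < r} = Fintype.card {i : Fin n // i ∉ s} := by
    rw [Fintype.card_fin_lt_of_le hrn, hcard]
  let e : {i : Fin n // (i : ℕ) < r} ≃ {i : Fin n // i ∉ s} := Fintype.equivOfCardEq hc2
  let σ : Equiv.Perm (Fin n) := e.extendSubtype
  have hσ : ∀ i : Fin n, σ i ∈ s ↔ r ≤ (i : ℕ) := by
    intro i
    constructor
    · intro h
      by_contra hlt
      push Not at hlt
      exact (e.extendSubtype_mem i hlt) h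
    · intro h
      by_contra hns
      exact e.extendSubtype_not_mem i (by omega) hns
  refine ⟨φ.comp (rename σ), ?_, ?_⟩
  · have hint2 : (φ.comp (rename σ : MvPolynomial (Fin n) k →ₐ[k] _)).toRingHom.IsIntegral :=
      RingHom.IsIntegral.trans (rename σ : MvPolynomial (Fin n) k →ₐ[k] _).toRingHom
        φ.toRingHom
        (RingHom.isIntegral_of_surjective _ (renameEquiv k σ).surjective) hint
    have hft : (φ.comp (rename σ : MvPolynomial (Fin n) k →ₐ[k] _)).toRingHom.FiniteType := by
      have h1 : ((φ.comp (rename σ : MvPolynomial (Fin n) k →ₐ[k] _)).toRingHom.comp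
          (C : k →+* MvPolynomial (Fin n) k)).FiniteType := by
        have h2 : (φ.comp (rename σ : MvPolynomial (Fin n) k →ₐ[k] _)).toRingHom.comp
            (C : k →+* MvPolynomial (Fin n) k) = algebraMap k (MvPolynomial (Fin n) k) := by
          ext c
          simp
        rw [h2]
        exact RingHom.finiteType_algebraMap.2 inferInstance
      exact h1.of_comp_finiteType
    exact hint2.to_finite hft
  · have h1 : q.comap (φ.comp (rename σ : MvPolynomial (Fin n) k →ₐ[k] _)) =
        (q.comap φ).comap (renameEquiv k σ).toRingEquiv := by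
      ext x
      simp only [Ideal.mem_comap, AlgHom.comp_apply]
      rfl
    rw [h1, hcomap, ← Ideal.map_symm, Ideal.map_span]
    congr 1
    ext y
    constructor
    · rintro ⟨_, ⟨i, hi, rfl⟩, rfl⟩
      refine ⟨⟨σ.symm i, (hσ _).1 (by simpa using hi)⟩, ?_⟩
      change X (σ.symm i) = rename σ.symm (X i)
      simp
    · rintro ⟨⟨i, hi⟩, rfl⟩
      refine ⟨X (σ i), ⟨σ i, (hσ i).2 hi, rfl⟩, ?_⟩
      change rename σ.symm (X (σ i)) = X i
      simp

end Groth.Agent.Lib.Helper7.RefNN
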