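import Mathlib
import Groth.Prelude.Def_RegImm
import Groth.Agent.Lib.Helper7.QRegSpread
import Groth.Agent.Lib.Helper5.RegSpreadSch
import Groth.Agent.Lib.Helper5.LciS
import Groth.Agent.Lib.Helper5.RegImmB
import Groth.Agent.Lib.Helper5.KosH1C
import Groth.Agent.S2103
import Groth.Agent.S5802

/-!
# The four kinds of regular immersion at a point agree on a locally Noetherian scheme (helper7)
-/

set_option autoImplicit false
universe u
open CategoryTheory CategoryTheory.Limits AlgebraicGeometry TopologicalSpace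

namespace Groth.Agent.Lib.Helper7.RegAtKind

open RingTheory.Sequence

section Seq

variable {R : Type u} [CommRing R] (rs : List R)

theorem koszul_of_regular (h : RegImm.Kind.regular.Seq R rs) : RegImm.Kind.koszul.Seq R rs :=
  fun n hn => Groth.Agent.Lib.Helper5.RegImmB.isKoszulRegularSeq_of_isWeaklyRegular rs
    (h : IsRegular R rs).toIsWeaklyRegular n hn

theorem h1_of_koszul (h : RegImm.Kind.koszul.Seq R rs) : RegImm.Kind.h1.Seq R rs :=
  (Groth.Agent.Lib.Helper5.KosH1.isH1Regular_iff_isZero rs).mpr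
    ((h : LCI.IsKoszulRegularSeq R rs) (-1) (by decide))

theorem quasi_of_h1 (h : RegImm.Kind.h1.Seq R rs) : RegImm.Kind.quasi.Seq R rs :=
  Groth.Agent.S2103.result rs.get (h : CAlgX.IsH1Regular rs.get)

theorem seq_of_regular (k : RegImm.Kind) (h : RegImm.Kind.regular.Seq R rs) : k.Seq R rs := by
  cases k
  · exact h
  · exact koszul_of_regular rs h
  · exact h1_of_koszul rs (koszul_of_regular rs h)
  · exact quasi_of_h1 rs (h1_of_koszul rs (koszul_of_regular rs h))

theorem quasi_of_seq (k : RegImm.Kind) (h : k.Seq R rs) : RegImm.Kind.quasi.Seq R rs := by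
  cases k
  · exact quasi_of_h1 rs (h1_of_koszul rs (koszul_of_regular rs h))
  · exact quasi_of_h1 rs (h1_of_koszul rs h)
  · exact quasi_of_h1 rs h
  · exact h

end Seq

variable {X Z : Scheme.{u}} (i : Z ⟶ X) (z : Z)

theorem at_of_regular (k : RegImm.Kind)
    (h : RegImm.IsRegularImmersionAt RegImm.Kind.regular i z) :
    RegImm.IsRegularImmersionAt k i z := by
  obtain ⟨U, hzU, hc, rs, hrs, hker⟩ := h
  exact ⟨U, hzU, hc, rs, seq_of_regular rs k hrs, hker⟩

theorem at_quasi_of_at (k : RegImm.Kind) (h : RegImm.IsRegularImmersionAt k i z) :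
    RegImm.IsRegularImmersionAt RegImm.Kind.quasi i z := by
  obtain ⟨U, hzU, hc, rs, hrs, hker⟩ := h
  exact ⟨U, hzU, hc, rs, quasi_of_seq rs k hrs, hker⟩

/-- on a locally Noetherian scheme, quasi-regular at a point implies regular at the point. -/
theorem at_regular_of_quasi [IsLocallyNoetherian X]
    (h : RegImm.IsRegularImmersionAt RegImm.Kind.quasi i z) :
    RegImm.IsRegularImmersionAt RegImm.Kind.regular i z := by
  obtain ⟨⟨U, hU⟩, hz, hc, rs, hrs, hker⟩ := h
  have hN : IsNoetherianRing Γ(X, U) := IsLocallyNoetherian.component_noetherian ⟨U, hU⟩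
  haveI : IsClosedImmersion (i ∣_ U) := hc
  have hle : RingHom.ker (i.app U).hom ≤ (hU.primeIdealOf ⟨i z, hz⟩).asIdeal :=
    Groth.Agent.Lib.Helper5.Lci.ker_le_primeIdealOf i hU
      (Groth.Agent.Lib.Helper5.RegImmA.isAffineOpen_preimage_of_restrict i hU) z hz
  have hrs' : CAlgX.IsQuasiRegular rs.get := hrs
  obtain ⟨g, hg, hS⟩ := Groth.Agent.Lib.Helper7.QRegSpread.exists_away_weaklyRegular_of_qr
    (hU.primeIdealOf ⟨i z, hz⟩).asIdeal rs hrs' (hker ▸ hle)
  obtain ⟨hU₁, hc₁, hz₁, loc₁, -, hk₁⟩ :=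
    Groth.Agent.Lib.Helper5.RegSpreadSch.step i hU z hz g hg
  refine ⟨⟨X.basicOpen g, hU₁⟩, hz₁, hc₁,
    rs.map (algebraMap Γ(X, U) Γ(X, X.basicOpen g)), ?_, ?_⟩
  · have hreg : RingTheory.Sequence.IsRegular Γ(X, X.basicOpen g)
        (rs.map (algebraMap Γ(X, U) Γ(X, X.basicOpen g))) := by
      refine Groth.Agent.Lib.Helper5.RegComp.isRegular_of_weaklyRegular_of_ne_top
        (hS Γ(X, X.basicOpen g)) ?_
      rw [← Ideal.map_ofList, ← hker, ← hk₁]
      intro htop
      haveI : IsClosedImmersion (i ∣_ X.basicOpen g) := hc₁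
      have h2 := Groth.Agent.Lib.Helper5.Lci.ker_le_primeIdealOf i hU₁
        (Groth.Agent.Lib.Helper5.RegImmA.isAffineOpen_preimage_of_restrict i hU₁) z hz₁
      rw [htop] at h2
      exact (hU₁.primeIdealOf ⟨i z, hz₁⟩).isPrime.ne_top (top_le_iff.mp h2)
    exact hreg
  · rw [hk₁, hker, Ideal.map_ofList]

theorem at_regular_of_at [IsLocallyNoetherian X] (k : RegImm.Kind)
    (h : RegImm.IsRegularImmersionAt k i z) :
    RegImm.IsRegularImmersionAt RegImm.Kind.regular i z :=
  at_regular_of_quasi i z (at_quasi_of_at i z k h)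

theorem at_of_at [IsLocallyNoetherian X] (k k' : RegImm.Kind)
    (h : RegImm.IsRegularImmersionAt k i z) : RegImm.IsRegularImmersionAt k' i z :=
  at_of_regular i z k' (at_regular_of_at i z k h)

end Groth.Agent.Lib.Helper7.RegAtKind
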