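import Mathlib
import Groth.Prelude.Def_Models

/-!
# Sections of a regular scheme over an affine open form a regular ring (helper7)
-/

set_option autoImplicit false
universe u

namespace Groth.Agent.Lib.Helper7.RegSchAff

open AlgebraicGeometry CategoryTheory

/-- On a regular scheme (all stalks regular local), the ring of sections over an affine open with
Noetherian coordinate ring is a regular ring. -/
theorem isRegularRing_of_isRegularScheme {Y : Scheme.{u}} (hY : Models.IsRegularScheme Y)
    {V : Y.Opens} (hV : IsAffineOpen V) [IsNoetherianRing Γ(Y, V)] : IsRegularRing Γ(Y, V) := by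
  rw [isRegularRing_iff]
  intro p hp
  have hmem : hV.fromSpec ⟨p, hp⟩ ∈ V := (hV.isoSpec.inv _).2
  letI : Algebra Γ(Y, V) (Y.presheaf.stalk (hV.fromSpec ⟨p, hp⟩)) :=
    TopCat.Presheaf.algebra_section_stalk Y.presheaf ⟨hV.fromSpec ⟨p, hp⟩, hmem⟩
  haveI : IsLocalization.AtPrime (Y.presheaf.stalk (hV.fromSpec ⟨p, hp⟩)) p :=
    hV.isLocalization_stalk' ⟨p, hp⟩ hmem
  haveI : IsRegularLocalRing (Y.presheaf.stalk (hV.fromSpec ⟨p, hp⟩)) := hY _
  exact IsRegularLocalRing.of_ringEquiv
    (IsLocalization.algEquiv p.primeCompl (Y.presheaf.stalk (hV.fromSpec ⟨p, hp⟩))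
      (Localization.AtPrime p)).toRingEquiv

end Groth.Agent.Lib.Helper7.RegSchAff
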