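import Mathlib.RingTheory.RegularLocalRing.Defs
import Mathlib.RingTheory.Ideal.Cotangent
import Mathlib.RingTheory.Length
import Mathlib.RingTheory.LocalRing.Quotient

/-!
# Transversal quotients of a regular local ring are regular

If `A` is a regular local ring and `P + Q = 𝔪` with `dim A/P + dim A/Q ≥ dim A`, then `A/P` and
`A/Q` are regular local rings.
-/

set_option autoImplicit false
set_option linter.unusedVariables false
set_option linter.style.haveILetI false

universe u

namespace Groth.Agent.Lib.Helper7.RegSplit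

open IsLocalRing

theorem length_cotangentSpace (R : Type u) [CommRing R] [IsLocalRing R] [IsNoetherianRing R] :
    Module.length R (CotangentSpace R) = ((maximalIdeal R).spanFinrank : ℕ∞) := by
  rw [Module.length_eq_of_surjective (R := ResidueField R) (S := R) (M := CotangentSpace R)
    IsLocalRing.residue_surjective, Module.length_eq_finrank,
    spanFinrank_maximalIdeal_eq_finrank_cotangentSpace]

theorem exists_nat_of_le' (x : WithBot ℕ∞) (m : ℕ) (h0 : 0 ≤ x) (h : x ≤ (m : WithBot ℕ∞)) :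
    ∃ z : ℕ, x = z ∧ z ≤ m := by
  have hne : x ≠ ⊥ := by
    rintro rfl
    simp at h0
  obtain ⟨e, rfl⟩ := WithBot.ne_bot_iff_exists.1 hne
  have h' : e ≤ (m : ℕ∞) := by exact_mod_cast h
  have het : e ≠ ⊤ := by
    rintro rfl
    simp at h'
  obtain ⟨z, rfl⟩ := ENat.ne_top_iff_exists.1 het
  refine ⟨z, rfl, ?_⟩
  exact_mod_cast h'

section

variable {A : Type u} [CommRing A] [IsLocalRing A] (P : Ideal A) [IsLocalRing (A ⧸ P)]

theorem comap_maximalIdeal_quotient :
    (maximalIdeal (A ⧸ P)).comap (Ideal.Quotient.mk P) = maximalIdeal A := by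
  haveI : IsLocalHom (Ideal.Quotient.mk P) :=
    IsLocalHom.of_surjective _ Ideal.Quotient.mk_surjective
  ext x
  rw [Ideal.mem_comap, mem_maximalIdeal, mem_maximalIdeal, mem_nonunits_iff, mem_nonunits_iff,
    isUnit_map_iff]

/-- the map on cotangent spaces induced by `A → A/P` -/
noncomputable def cotMap : CotangentSpace A →ₗ[A] CotangentSpace (A ⧸ P) :=
  Ideal.mapCotangent (maximalIdeal A) (maximalIdeal (A ⧸ P)) (Algebra.ofId A (A ⧸ P))
    (fun x hx => by
      have : x ∈ (maximalIdeal (A ⧸ P)).comap (Ideal.Quotient.mk P) := by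
        rw [comap_maximalIdeal_quotient]; exact hx
      exact this)

theorem cotMap_toCotangent (x : maximalIdeal A) (h : Ideal.Quotient.mk P x.1 ∈ maximalIdeal (A ⧸ P)) :
    cotMap P ((maximalIdeal A).toCotangent x) =
      (maximalIdeal (A ⧸ P)).toCotangent ⟨Ideal.Quotient.mk P x.1, h⟩ := rfl

end

theorem isRegularLocalRing_quotient_of_sup_eq {A : Type u} [CommRing A] [IsRegularLocalRing A]
    (P Q : Ideal A) (hPQ : P ⊔ Q = maximalIdeal A)
    (hdim : ringKrullDim A ≤ ringKrullDim (A ⧸ P) + ringKrullDim (A ⧸ Q)) :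
    IsRegularLocalRing (A ⧸ P) ∧ IsRegularLocalRing (A ⧸ Q) := by
  have hP : P ≤ maximalIdeal A := hPQ ▸ le_sup_left
  have hQ : Q ≤ maximalIdeal A := hPQ ▸ le_sup_right
  haveI : Nontrivial (A ⧸ P) := Ideal.Quotient.nontrivial_iff.2
    (fun h => (maximalIdeal.isMaximal A).ne_top (top_le_iff.1 (h ▸ hP)))
  haveI : Nontrivial (A ⧸ Q) := Ideal.Quotient.nontrivial_iff.2
    (fun h => (maximalIdeal.isMaximal A).ne_top (top_le_iff.1 (h ▸ hQ)))
  haveI : IsLocalRing (A ⧸ P) := IsLocalRing.of_surjective' (Ideal.Quotient.mk P)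
    Ideal.Quotient.mk_surjective
  haveI : IsLocalRing (A ⧸ Q) := IsLocalRing.of_surjective' (Ideal.Quotient.mk Q)
    Ideal.Quotient.mk_surjective
  -- the combined map on cotangent spaces is surjective
  let φ : CotangentSpace A →ₗ[A] CotangentSpace (A ⧸ P) × CotangentSpace (A ⧸ Q) :=
    (cotMap P).prod (cotMap Q)
  have hφ : Function.Surjective φ := by
    rintro ⟨β, γ⟩
    obtain ⟨⟨b, hb⟩, rfl⟩ := (maximalIdeal (A ⧸ P)).toCotangent_surjective β
    obtain ⟨⟨c, hc⟩, rfl⟩ := (maximalIdeal (A ⧸ Q)).toCotangent_surjective γ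
    obtain ⟨y', rfl⟩ := Ideal.Quotient.mk_surjective b
    obtain ⟨x', rfl⟩ := Ideal.Quotient.mk_surjective c
    have hy' : y' ∈ maximalIdeal A := by
      rw [← comap_maximalIdeal_quotient P]; exact hb
    have hx' : x' ∈ maximalIdeal A := by
      rw [← comap_maximalIdeal_quotient Q]; exact hc
    rw [← hPQ] at hy' hx'
    obtain ⟨p1, hp1, q1, hq1, rfl⟩ := Submodule.mem_sup.1 hy'
    obtain ⟨p2, hp2, q2, hq2, rfl⟩ := Submodule.mem_sup.1 hx'
    have hz : q1 + p2 ∈ maximalIdeal A := Ideal.add_mem _ (hQ hq1) (hP hp2)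
    refine ⟨(maximalIdeal A).toCotangent ⟨q1 + p2, hz⟩, ?_⟩
    have e1 : Ideal.Quotient.mk P (q1 + p2) = Ideal.Quotient.mk P (p1 + q1) := by
      rw [map_add, map_add, Ideal.Quotient.eq_zero_iff_mem.2 hp2,
        Ideal.Quotient.eq_zero_iff_mem.2 hp1, add_zero, zero_add]
    have e2 : Ideal.Quotient.mk Q (q1 + p2) = Ideal.Quotient.mk Q (p2 + q2) := by
      rw [map_add, map_add, Ideal.Quotient.eq_zero_iff_mem.2 hq1,
        Ideal.Quotient.eq_zero_iff_mem.2 hq2, add_zero, zero_add]
    show (cotMap P ((maximalIdeal A).toCotangent ⟨q1 + p2, hz⟩),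
      cotMap Q ((maximalIdeal A).toCotangent ⟨q1 + p2, hz⟩)) = _
    rw [cotMap_toCotangent P ⟨q1 + p2, hz⟩ (by rw [e1]; exact hb),
      cotMap_toCotangent Q ⟨q1 + p2, hz⟩ (by rw [e2]; exact hc)]
    refine Prod.ext ?_ ?_
    · exact congrArg (maximalIdeal (A ⧸ P)).toCotangent (Subtype.ext e1)
    · exact congrArg (maximalIdeal (A ⧸ Q)).toCotangent (Subtype.ext e2)
  have hlen := Module.length_le_of_surjective φ hφ
  rw [Module.length_prod,
    Module.length_eq_of_surjective (S := A) (R := A ⧸ P) (M := CotangentSpace (A ⧸ P))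
      Ideal.Quotient.mk_surjective,
    Module.length_eq_of_surjective (S := A) (R := A ⧸ Q) (M := CotangentSpace (A ⧸ Q))
      Ideal.Quotient.mk_surjective,
    length_cotangentSpace, length_cotangentSpace, length_cotangentSpace] at hlen
  have hlen' : (maximalIdeal (A ⧸ P)).spanFinrank + (maximalIdeal (A ⧸ Q)).spanFinrank ≤
      (maximalIdeal A).spanFinrank := by exact_mod_cast hlen
  have hA : ((maximalIdeal A).spanFinrank : WithBot ℕ∞) = ringKrullDim A :=
    IsRegularLocalRing.spanFinrank_maximalIdeal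
  have hB := ringKrullDim_le_spanFinrank_maximalIdeal (A ⧸ P)
  have hC := ringKrullDim_le_spanFinrank_maximalIdeal (A ⧸ Q)
  obtain ⟨v, hv, hv'⟩ := exists_nat_of_le' _ _ ringKrullDim_nonneg_of_nontrivial hB
  obtain ⟨w, hw, hw'⟩ := exists_nat_of_le' _ _ ringKrullDim_nonneg_of_nontrivial hC
  rw [← hA, hv, hw] at hdim
  have hdim' : (maximalIdeal A).spanFinrank ≤ v + w := by exact_mod_cast hdim
  constructor
  · apply IsRegularLocalRing.of_spanFinrank_maximalIdeal_le
    rw [hv]
    have : (maximalIdeal (A ⧸ P)).spanFinrank ≤ v := by omega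
    exact_mod_cast this
  · apply IsRegularLocalRing.of_spanFinrank_maximalIdeal_le
    rw [hw]
    have : (maximalIdeal (A ⧸ Q)).spanFinrank ≤ w := by omega
    exact_mod_cast this

end Groth.Agent.Lib.Helper7.RegSplit
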