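import Mathlib
import Groth.Agent.Lib.Helper7.FibrewiseDenseVanish

/-!
# Principal relative Cartier divisors in `R ⊗[k] A` avoiding points (helper7)
-/

set_option autoImplicit false
universe u
open TensorProduct

namespace Groth.Agent.Lib.Helper7.RelCartierAvoid

open Groth.Agent.Lib.Helper7.FibrewiseDenseVanish

section NZD

variable {k A : Type u} [Field k] [IsAlgClosed k] [CommRing A] [Algebra k A] [IsDomain A]

/-- the localisation map `R ⊗ A → R_q ⊗ A` -/
noncomputable def locMap (R : Type u) [CommRing R] [Algebra k R] (q : Ideal R) [q.IsPrime] :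
    R ⊗[k] A →ₐ[k] (Localization.AtPrime q) ⊗[k] A :=
  Algebra.TensorProduct.map (IsScalarTower.toAlgHom k R (Localization.AtPrime q)) (AlgHom.id k A)

theorem locMap_sum {R : Type u} [CommRing R] [Algebra k R] (q : Ideal R) [q.IsPrime]
    {ι : Type u} (𝒞 : Module.Basis ι k A) (b : ι →₀ R) :
    locMap (k := k) (A := A) R q (b.sum fun i r => r ⊗ₜ[k] 𝒞 i) =
      (b.mapRange (algebraMap R (Localization.AtPrime q)) (map_zero _)).sum fun i r => r ⊗ₜ[k] 𝒞 i := by
  rw [Finsupp.sum_mapRange_index (fun i => by simp), map_finsuppSum]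
  refine Finsupp.sum_congr fun i _ => ?_
  simp [locMap]

/-- if `h` is nonzero on the closed fibre of every localisation at a maximal ideal, it is a
non-zero-divisor. -/
theorem eq_zero_of_mul_eq_zero {R : Type u} [CommRing R] [Algebra k R] (h f : R ⊗[k] A)
    (hm : h * f = 0)
    (hπ : ∀ (q : Ideal R) [q.IsPrime], q.IsMaximal →
      piRes (k := k) (A := A) (R' := Localization.AtPrime q) (locMap R q h) ≠ 0) : f = 0 := by
  classical
  by_contra hf0
  let 𝒞 := Module.Basis.ofVectorSpace k A
  obtain ⟨c, hc⟩ := TensorProduct.eq_repr_basis_right 𝒞 f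
  let 𝔞 : Ideal R := Ideal.torsionOf R (R ⊗[k] A) f
  have h𝔞 : 𝔞 ≠ ⊤ := by
    rw [Ideal.ne_top_iff_one]
    intro h1
    rw [Ideal.mem_torsionOf_iff, one_smul] at h1
    exact hf0 h1
  obtain ⟨q, hqmax, h𝔞q⟩ := Ideal.exists_le_maximal 𝔞 h𝔞
  haveI hqp : q.IsPrime := hqmax.isPrime
  let c' : _ →₀ Localization.AtPrime q := c.mapRange (algebraMap R (Localization.AtPrime q)) (map_zero _)
  have hmul : locMap R q h * (c'.sum fun i r => r ⊗ₜ[k] 𝒞 i) = 0 := by
    rw [← locMap_sum, hc, ← map_mul, hm, map_zero]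
  have hc'0 := coeff_zero_of_mul_eq_zero 𝒞 (locMap R q h) (hπ q hqmax) c' hmul
  have hex : ∀ i ∈ c.support, ∃ s : R, s ∉ q ∧ s * c i = 0 := by
    intro i _
    have h1 : algebraMap R (Localization.AtPrime q) (c i) = 0 := by
      have := DFunLike.congr_fun hc'0 i
      simpa [c'] using this
    obtain ⟨⟨s, hs⟩, hs0⟩ := (IsLocalization.map_eq_zero_iff q.primeCompl (Localization.AtPrime q) (c i)).mp h1
    exact ⟨s, hs, hs0⟩
  choose! s hs hs0 using hex
  have hSq : (∏ i ∈ c.support, s i) ∉ q := by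
    intro h
    obtain ⟨i, hi, hmem⟩ := (hqp.prod_mem_iff).mp h
    exact hs i hi hmem
  have hSf : (∏ i ∈ c.support, s i) • f = 0 := by
    rw [← hc, Finsupp.sum, Finset.smul_sum]
    refine Finset.sum_eq_zero fun i hi => ?_
    rw [TensorProduct.smul_tmul', smul_eq_mul, ← Finset.mul_prod_erase _ _ hi, mul_comm (s i), mul_assoc,
      hs0 i hi, mul_zero, zero_tmul]
  exact hSq (h𝔞q ((Ideal.mem_torsionOf_iff _ _).mpr hSf))

/-- the closed-fibre reduction of `Σ b_i ⊗ 𝒞_i` vanishes only if every `b_i` lies in `q` -/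
theorem mem_of_piRes_locMap_eq_zero {R : Type u} [CommRing R] [Algebra k R] (q : Ideal R) [q.IsPrime]
    {ι : Type u} (𝒞 : Module.Basis ι k A) (b : ι →₀ R)
    (h0 : piRes (k := k) (A := A) (R' := Localization.AtPrime q)
      (locMap R q (b.sum fun i r => r ⊗ₜ[k] 𝒞 i)) = 0) (j : ι) : b j ∈ q := by
  classical
  rw [locMap_sum] at h0
  have h1 : ((b.mapRange (algebraMap R (Localization.AtPrime q)) (map_zero _)).mapRange
      (algebraMap (Localization.AtPrime q) (IsLocalRing.ResidueField (Localization.AtPrime q)))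
      (map_zero _)).sum (fun i r => r ⊗ₜ[k] 𝒞 i) = 0 := by
    rw [← h0, Finsupp.sum_mapRange_index (fun i => by simp), map_finsuppSum]
    refine Finsupp.sum_congr fun i _ => ?_
    simp [piRes]
  have h2 := TensorProduct.sum_tmul_basis_right_eq_zero 𝒞 _ h1
  have h3 := DFunLike.congr_fun h2 j
  simp only [Finsupp.mapRange_apply, Finsupp.coe_zero, Pi.zero_apply] at h3
  rw [IsLocalRing.ResidueField.algebraMap_eq, IsLocalRing.residue_eq_zero_iff] at h3
  by_contra hj
  have : IsUnit (algebraMap R (Localization.AtPrime q) (b j)) :=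
    IsLocalization.map_units (Localization.AtPrime q) (⟨b j, hj⟩ : q.primeCompl)
  exact h3 this

/-- an element with a unit coefficient is a non-zero-divisor. -/
theorem eq_zero_of_mul_eq_zero_of_isUnit_coeff {R : Type u} [CommRing R] [Algebra k R]
    {ι : Type u} (𝒞 : Module.Basis ι k A) (b : ι →₀ R) (i₀ : ι) (hb : IsUnit (b i₀))
    (f : R ⊗[k] A) (hm : (b.sum fun i r => r ⊗ₜ[k] 𝒞 i) * f = 0) : f = 0 := by
  refine eq_zero_of_mul_eq_zero _ f hm ?_
  intro q _ hqmax h0
  have := mem_of_piRes_locMap_eq_zero q 𝒞 b h0 i₀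
  exact hqmax.ne_top (Ideal.eq_top_of_isUnit_mem _ this hb)

end NZD

section FlatCoker

variable {R F C : Type*} [CommRing R] [AddCommGroup F] [Module R F]
  [AddCommGroup C] [Module R C]

theorem exists_of_mem_smul_top (I : Ideal R) (z : F) (hz : z ∈ I • (⊤ : Submodule R F)) :
    ∃ w : I ⊗[R] F, TensorProduct.lid R F (I.subtype.rTensor F w) = z := by
  induction hz using Submodule.smul_induction_on' with
  | smul r hr m _ => exact ⟨(⟨r, hr⟩ : I) ⊗ₜ m, by simp⟩
  | add x _ y _ hx hy =>
    obtain ⟨w1, h1⟩ := hx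
    obtain ⟨w2, h2⟩ := hy
    exact ⟨w1 + w2, by rw [map_add, map_add, h1, h2]⟩

theorem lid_rTensor_mem (I : Ideal R) (w : I ⊗[R] F) :
    TensorProduct.lid R F (I.subtype.rTensor F w) ∈ I • (⊤ : Submodule R F) := by
  induction w using TensorProduct.induction_on with
  | zero => simp
  | tmul r m =>
    simp only [LinearMap.rTensor_tmul, Submodule.subtype_apply, TensorProduct.lid_tmul]
    exact Submodule.smul_mem_smul r.2 Submodule.mem_top
  | add x y hx hy => rw [map_add, map_add]; exact Submodule.add_mem _ hx hy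

theorem flat_of_forall_ideal [Module.Flat R F] (u : F →ₗ[R] F) (p : F →ₗ[R] C) (hp : Function.Surjective p)
    (hex : Function.Exact u p)
    (hJ : ∀ (J : Ideal R) (z : F), u z ∈ J • (⊤ : Submodule R F) → z ∈ J • (⊤ : Submodule R F)) :
    Module.Flat R C := by
  rw [Module.Flat.iff_rTensor_injective']
  intro I
  rw [injective_iff_map_eq_zero]
  intro x hx
  obtain ⟨y, rfl⟩ := LinearMap.lTensor_surjective I hp x
  have hinj : Function.Injective (I.subtype.rTensor F) :=
    Module.Flat.rTensor_preserves_injective_linearMap _ Subtype.val_injective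
  set y₁ := I.subtype.rTensor F y with hy₁
  have h1 : (p.lTensor R) y₁ = 0 := by
    rw [hy₁, ← LinearMap.comp_apply, LinearMap.lTensor_comp_rTensor, ← LinearMap.rTensor_comp_lTensor,
      LinearMap.comp_apply]
    exact hx
  have hexR : Function.Exact (u.lTensor R) (p.lTensor R) := lTensor_exact R hex hp
  obtain ⟨z₁, hz₁⟩ := (hexR y₁).mp h1
  set z := TensorProduct.lid R F z₁ with hz
  have hgen : ∀ t : R ⊗[R] F, u (TensorProduct.lid R F t) = TensorProduct.lid R F (u.lTensor R t) := by
    intro t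
    induction t using TensorProduct.induction_on with
    | zero => simp
    | tmul r m => simp
    | add a b ha hb => simp only [map_add, ha, hb]
  have huz : u z = TensorProduct.lid R F y₁ := by
    rw [← hz₁, hz, hgen]
  have hzmem : z ∈ I • (⊤ : Submodule R F) := by
    apply hJ I z
    rw [huz]
    exact lid_rTensor_mem I y
  obtain ⟨w, hw⟩ := exists_of_mem_smul_top I z hzmem
  have hw' : I.subtype.rTensor F w = z₁ := (TensorProduct.lid R F).injective (hw.trans hz)
  have h2 : I.subtype.rTensor F (u.lTensor I w) = I.subtype.rTensor F y := by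
    rw [← LinearMap.comp_apply, LinearMap.rTensor_comp_lTensor, ← LinearMap.lTensor_comp_rTensor,
      LinearMap.comp_apply, hw', hz₁]
  have h3 : u.lTensor I w = y := hinj h2
  rw [← h3]
  exact (lTensor_exact I hex hp).apply_apply_eq_zero w

end FlatCoker


section Quot

variable {k A : Type u} [Field k] [CommRing A] [Algebra k A]
variable {R : Type u} [CommRing R] [Algebra k R]

/-- reduction modulo an ideal of the coefficient ring -/
noncomputable def quotMap (J : Ideal R) : R ⊗[k] A →ₐ[k] (R ⧸ J) ⊗[k] A :=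
  Algebra.TensorProduct.map (Ideal.Quotient.mkₐ k J) (AlgHom.id k A)

theorem quotMap_sum (J : Ideal R) {ι : Type u} (𝒞 : Module.Basis ι k A) (b : ι →₀ R) :
    quotMap (k := k) (A := A) J (b.sum fun i r => r ⊗ₜ[k] 𝒞 i) =
      (b.mapRange (Ideal.Quotient.mk J) (map_zero _)).sum fun i r => r ⊗ₜ[k] 𝒞 i := by
  rw [Finsupp.sum_mapRange_index (fun i => by simp), map_finsuppSum]
  refine Finsupp.sum_congr fun i _ => ?_
  simp [quotMap]

theorem mem_smul_top_of_quotMap_eq_zero (J : Ideal R) (z : R ⊗[k] A)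
    (hz : quotMap (k := k) (A := A) J z = 0) : z ∈ J • (⊤ : Submodule R (R ⊗[k] A)) := by
  classical
  let 𝒞 := Module.Basis.ofVectorSpace k A
  obtain ⟨c, rfl⟩ := TensorProduct.eq_repr_basis_right 𝒞 z
  rw [quotMap_sum] at hz
  have h2 := TensorProduct.sum_tmul_basis_right_eq_zero 𝒞 _ hz
  rw [Finsupp.sum]
  refine Submodule.sum_mem _ fun i _ => ?_
  have h3 := DFunLike.congr_fun h2 i
  simp only [Finsupp.mapRange_apply, Finsupp.coe_zero, Pi.zero_apply] at h3
  have h4 : c i ∈ J := Ideal.Quotient.eq_zero_iff_mem.mp h3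
  have h5 : c i ⊗ₜ[k] 𝒞 i = c i • ((1 : R) ⊗ₜ[k] 𝒞 i) := by
    rw [TensorProduct.smul_tmul', smul_eq_mul, mul_one]
  show c i ⊗ₜ[k] 𝒞 i ∈ _
  rw [h5]
  exact Submodule.smul_mem_smul h4 Submodule.mem_top

theorem quotMap_eq_zero_of_mem_smul_top (J : Ideal R) (z : R ⊗[k] A)
    (hz : z ∈ J • (⊤ : Submodule R (R ⊗[k] A))) : quotMap (k := k) (A := A) J z = 0 := by
  induction hz using Submodule.smul_induction_on' with
  | smul r hr m _ =>
    induction m using TensorProduct.induction_on with
    | zero => simp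
    | tmul x a =>
      rw [TensorProduct.smul_tmul', smul_eq_mul]
      simp only [quotMap, Algebra.TensorProduct.map_tmul, Ideal.Quotient.mkₐ_eq_mk, map_mul]
      rw [Ideal.Quotient.eq_zero_iff_mem.mpr hr, zero_mul, zero_tmul]
    | add x y hx hy => rw [smul_add, map_add, hx trivial, hy trivial, add_zero]
  | add x _ y _ hx hy => rw [map_add, hx, hy, add_zero]

variable [IsAlgClosed k] [IsDomain A]

theorem mem_smul_top_of_mul_mem {ι : Type u} (𝒞 : Module.Basis ι k A) (b : ι →₀ R) (i₀ : ι)
    (hb : IsUnit (b i₀)) (J : Ideal R) (z : R ⊗[k] A)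
    (h : (b.sum fun i r => r ⊗ₜ[k] 𝒞 i) * z ∈ J • (⊤ : Submodule R (R ⊗[k] A))) :
    z ∈ J • (⊤ : Submodule R (R ⊗[k] A)) := by
  apply mem_smul_top_of_quotMap_eq_zero
  have h1 := quotMap_eq_zero_of_mem_smul_top J _ h
  rw [map_mul, quotMap_sum] at h1
  refine eq_zero_of_mul_eq_zero_of_isUnit_coeff 𝒞 _ i₀ ?_ _ h1
  rw [Finsupp.mapRange_apply]
  exact hb.map (Ideal.Quotient.mk J)

end Quot


section Main

variable (k : Type u) [Field k] [IsAlgClosed k]
    (A : Type u) [CommRing A] [Algebra k A] [IsDomain A]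

/-- evaluation at a `k`-point -/
noncomputable abbrev ev (R : Type u) [CommRing R] [Algebra k R] (z : A →ₐ[k] k) : R ⊗[k] A →ₐ[k] R :=
  Algebra.TensorProduct.lift (AlgHom.id k R) ((Algebra.ofId k R).comp z) (fun _ _ => Commute.all _ _)

theorem ev_map {R R' : Type u} [CommRing R] [Algebra k R] [CommRing R'] [Algebra k R'] (g : R →ₐ[k] R')
    (z : A →ₐ[k] k) (t : R ⊗[k] A) :
    ev k A R' z (Algebra.TensorProduct.map g (AlgHom.id k A) t) = g (ev k A R z t) := by
  induction t using TensorProduct.induction_on with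
  | zero => simp
  | tmul r a => simp [ev, Algebra.ofId_apply]
  | add x y hx hy => rw [map_add, map_add, hx, hy, map_add, map_add]

theorem main (Z : Finset (A →ₐ[k] k))
    (R : Type u) [CommRing R] [Algebra k R]
    (U : TopologicalSpace.Opens (PrimeSpectrum (R ⊗[k] A)))
    (hZ : ∀ z ∈ Z, ∀ q : PrimeSpectrum R, PrimeSpectrum.comap (ev k A R z).toRingHom q ∈ U)
    (hsurj : ∀ q : PrimeSpectrum R, ∃ P ∈ U,
      PrimeSpectrum.comap (Algebra.TensorProduct.includeLeftRingHom : R →+* R ⊗[k] A) P = q)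
    (p : PrimeSpectrum R) :
    ∃ r : R, r ∉ p.asIdeal ∧
      ∃ f : (Localization.Away r) ⊗[k] A,
        f ∈ nonZeroDivisors ((Localization.Away r) ⊗[k] A) ∧
        Module.Flat (Localization.Away r) ((Localization.Away r) ⊗[k] A ⧸ Ideal.span {f}) ∧
        (∀ z ∈ Z, IsUnit (ev k A (Localization.Away r) z f)) ∧
        (∀ P : PrimeSpectrum ((Localization.Away r) ⊗[k] A), f ∉ P.asIdeal →
          PrimeSpectrum.comap (Algebra.TensorProduct.map
            (IsScalarTower.toAlgHom k R (Localization.Away r)) (AlgHom.id k A)).toRingHom P ∈ U) := by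
  classical
  -- the ideal of the complement of `U`
  let I : Ideal (R ⊗[k] A) := PrimeSpectrum.vanishingIdeal ((U : Set (PrimeSpectrum (R ⊗[k] A)))ᶜ)
  have hIU : ∀ P : PrimeSpectrum (R ⊗[k] A), ¬ I ≤ P.asIdeal → P ∈ U := by
    intro P hP
    by_contra hPU
    apply hP
    intro x hx
    exact (PrimeSpectrum.mem_vanishingIdeal _ _).mp hx P hPU
  have hUI : ∀ P : PrimeSpectrum (R ⊗[k] A), P ∈ U → ¬ I ≤ P.asIdeal := by
    intro P hPU hle
    have h1 : P ∈ PrimeSpectrum.zeroLocus (I : Set (R ⊗[k] A)) := hle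
    have hcl : IsClosed ((U : Set (PrimeSpectrum (R ⊗[k] A)))ᶜ) := U.isOpen.isClosed_compl
    rw [PrimeSpectrum.zeroLocus_vanishingIdeal_eq_closure, hcl.closure_eq] at h1
    exact h1 hPU
  -- the primes to avoid
  haveI : IsDomain ((R ⧸ p.asIdeal) ⊗[k] A) := Groth.Agent.Lib.Helper22.GeomIrr.isDomain_tensor
  let Q₀ : Ideal (R ⊗[k] A) := RingHom.ker (quotMap (k := k) (A := A) p.asIdeal)
  haveI hQ₀ : Q₀.IsPrime := RingHom.ker_isPrime _
  let Q : Option (A →ₐ[k] k) → Ideal (R ⊗[k] A) := fun o =>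
    match o with
    | none => Q₀
    | some z => (PrimeSpectrum.comap (ev k A R z).toRingHom p).asIdeal
  have hQprime : ∀ o, (Q o).IsPrime := by
    intro o
    cases o with
    | none => exact hQ₀
    | some z => exact (PrimeSpectrum.comap (ev k A R z).toRingHom p).isPrime
  have hnot : ∀ o ∈ Finset.insertNone Z, ¬ I ≤ Q o := by
    intro o ho
    cases o with
    | none =>
      obtain ⟨P, hPU, hPq⟩ := hsurj p
      intro hle
      apply hUI P hPU
      refine hle.trans ?_
      have hsub : ∀ t : R ⊗[k] A, t ∈ p.asIdeal • (⊤ : Submodule R (R ⊗[k] A)) → t ∈ P.asIdeal := by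
        intro t h1
        induction h1 using Submodule.smul_induction_on' with
        | smul r hr m _ =>
          have h2 : (Algebra.TensorProduct.includeLeftRingHom : R →+* R ⊗[k] A) r ∈ P.asIdeal := by
            have h5 := congrArg PrimeSpectrum.asIdeal hPq
            have h6 : r ∈ (PrimeSpectrum.comap (Algebra.TensorProduct.includeLeftRingHom : R →+* R ⊗[k] A) P).asIdeal := by
              rw [h5]; exact hr
            exact h6
          have h3 : r • m = (Algebra.TensorProduct.includeLeftRingHom : R →+* R ⊗[k] A) r * m := by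
            rw [Algebra.smul_def]; rfl
          rw [h3]
          exact P.asIdeal.mul_mem_right _ h2
        | add x _ y _ hx hy => exact P.asIdeal.add_mem hx hy
      intro t ht
      exact hsub t (mem_smul_top_of_quotMap_eq_zero p.asIdeal t ht)
    | some z =>
      have hz : z ∈ Z := by simpa using ho
      exact hUI _ (hZ z hz p)
  -- prime avoidance
  have havoid : ¬ ((I : Set (R ⊗[k] A)) ⊆ ⋃ o ∈ (↑(Finset.insertNone Z) : Set (Option (A →ₐ[k] k))), Q o) := by
    rw [Ideal.subset_union_prime (none : Option (A →ₐ[k] k)) none (fun o _ _ _ => hQprime o)]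
    rintro ⟨o, ho, hle⟩
    exact hnot o ho hle
  rw [Set.not_subset] at havoid
  obtain ⟨f₀, hf₀I, hf₀⟩ := havoid
  simp only [Set.mem_iUnion, not_exists] at hf₀
  have hf₀Q₀ : quotMap (k := k) (A := A) p.asIdeal f₀ ≠ 0 := by
    intro h0
    exact hf₀ none (by simp) h0
  have hf₀z : ∀ z ∈ Z, ev k A R z f₀ ∉ p.asIdeal := by
    intro z hz hmem
    exact hf₀ (some z) (by simpa using hz) hmem
  -- coefficients
  let 𝒞 := Module.Basis.ofVectorSpace k A
  obtain ⟨b, hb⟩ := TensorProduct.eq_repr_basis_right 𝒞 f₀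
  obtain ⟨i₀, hi₀⟩ : ∃ i₀, b i₀ ∉ p.asIdeal := by
    by_contra hcon
    push Not at hcon
    apply hf₀Q₀
    rw [← hb, quotMap_sum]
    have : b.mapRange (Ideal.Quotient.mk p.asIdeal) (map_zero _) = 0 := by
      ext i
      simp only [Finsupp.mapRange_apply, Finsupp.coe_zero, Pi.zero_apply]
      exact Ideal.Quotient.eq_zero_iff_mem.mpr (hcon i)
    rw [this, Finsupp.sum_zero_index]
  -- the denominator
  let r : R := b i₀ * ∏ z ∈ Z, ev k A R z f₀
  have hr : r ∉ p.asIdeal := by
    intro h
    rcases p.isPrime.mem_or_mem h with h | h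
    · exact hi₀ h
    · obtain ⟨z, hz, hmem⟩ := (p.isPrime.prod_mem_iff).mp h
      exact hf₀z z hz hmem
  refine ⟨r, hr, ?_⟩
  let φ : R ⊗[k] A →ₐ[k] (Localization.Away r) ⊗[k] A :=
    Algebra.TensorProduct.map (IsScalarTower.toAlgHom k R (Localization.Away r)) (AlgHom.id k A)
  let b' : _ →₀ Localization.Away r := b.mapRange (algebraMap R (Localization.Away r)) (map_zero _)
  have hφf : φ f₀ = b'.sum fun i x => x ⊗ₜ[k] 𝒞 i := by
    rw [← hb, Finsupp.sum_mapRange_index (fun i => by simp), map_finsuppSum]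
    refine Finsupp.sum_congr fun i _ => ?_
    simp [φ]
  have hrunit : IsUnit (algebraMap R (Localization.Away r) r) := IsLocalization.Away.algebraMap_isUnit r
  have hb'unit : IsUnit (b' i₀) := by
    have : algebraMap R (Localization.Away r) r = b' i₀ * algebraMap R (Localization.Away r) (∏ z ∈ Z, ev k A R z f₀) := by
      simp [r, b', map_mul]
    rw [this] at hrunit
    exact isUnit_of_mul_isUnit_left hrunit
  refine ⟨φ f₀, ?_, ?_, ?_, ?_⟩
  · -- non-zero-divisor
    rw [mem_nonZeroDivisors_iff_right]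
    intro x hx
    rw [mul_comm, hφf] at hx
    exact eq_zero_of_mul_eq_zero_of_isUnit_coeff 𝒞 b' i₀ hb'unit x hx
  · -- flat quotient
    let T' := (Localization.Away r) ⊗[k] A
    let u : T' →ₗ[Localization.Away r] T' := LinearMap.mulLeft (Localization.Away r) (φ f₀)
    let pr : T' →ₗ[Localization.Away r] T' ⧸ Ideal.span {φ f₀} :=
      (Ideal.Quotient.mkₐ (Localization.Away r) (Ideal.span {φ f₀})).toLinearMap
    refine flat_of_forall_ideal u pr Ideal.Quotient.mk_surjective ?_ ?_
    · intro x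
      constructor
      · intro hx
        have h1 : x ∈ Ideal.span {φ f₀} := Ideal.Quotient.eq_zero_iff_mem.mp hx
        obtain ⟨a, ha⟩ := Ideal.mem_span_singleton'.mp h1
        exact ⟨a, by simp [u, LinearMap.mulLeft_apply, ← ha, mul_comm]⟩
      · rintro ⟨a, rfl⟩
        apply Ideal.Quotient.eq_zero_iff_mem.mpr
        exact Ideal.mem_span_singleton'.mpr ⟨a, by simp [u, LinearMap.mulLeft_apply, mul_comm]⟩
    · intro J z hz
      have hz' : (b'.sum fun i x => x ⊗ₜ[k] 𝒞 i) * z ∈ J • (⊤ : Submodule (Localization.Away r) T') := by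
        rw [← hφf]; exact hz
      exact mem_smul_top_of_mul_mem 𝒞 b' i₀ hb'unit J z hz'
  · intro z hz
    rw [ev_map]
    have : algebraMap R (Localization.Away r) r =
        algebraMap R (Localization.Away r) (ev k A R z f₀) *
          algebraMap R (Localization.Away r) (b i₀ * ∏ z' ∈ Z.erase z, ev k A R z' f₀) := by
      rw [← map_mul]
      congr 1
      simp only [r]
      rw [← Finset.mul_prod_erase Z _ hz]
      ring
    rw [this] at hrunit
    exact isUnit_of_mul_isUnit_left hrunit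
  · intro P hP
    apply hIU
    intro hle
    exact hP (hle hf₀I)


end Main

end Groth.Agent.Lib.Helper7.RelCartierAvoid
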