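import Groth.Prelude.Def_W4stktopologysheavesBas

/-!
# Sheaves on a basis: the sheaf condition can be checked on a cofinal system of coverings
-/

set_option autoImplicit false
set_option linter.unusedSectionVars false
set_option linter.unusedVariables false

namespace Groth.Agent.Lib.Helper7.SheafBasis

open TopologicalSpace

universe u

variable {X : Type u} [TopologicalSpace X] {B : Set (Opens X)}
  (hB : Opens.IsBasis B) (F : ShB.Pre B)
  (C : ∀ U : B, Set (ShB.Cover B)) (hCU : ∀ U, ∀ c ∈ C U, c.U = U)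
  (hC : ∀ (U : B) (ι : Type u) (V : ι → B), (∀ i, (V i : Opens X) ≤ (U : Opens X)) →
    (U : Opens X) ≤ ⨆ i, (V i : Opens X) →
    ∃ c ∈ C U, ∀ i' : c.ι, ∃ i, (c.V i' : Opens X) ≤ (V i : Opens X))
  (H : ∀ U, ∀ c ∈ C U, ShB.GluesUniquely F c)

include hCU hC H in
/-- separatedness -/
lemma sep (U : B) (ι : Type u) (V : ι → B) (hV : ∀ i, (V i : Opens X) ≤ (U : Opens X))
    (hcov : (U : Opens X) ≤ ⨆ i, (V i : Opens X)) (t t' : F.obj U)
    (h : ∀ i, F.res (hV i) t = F.res (hV i) t') : t = t' := by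
  obtain ⟨c, hc, href⟩ := hC U ι V hV hcov
  have hcU := hCU U c hc
  subst hcU
  have hG := H c.U c hc (fun i' => F.res (c.V_le i') t) (fun i j k => by
    rw [F.res_comp, F.res_comp])
  obtain ⟨t₀, _, huniq⟩ := hG
  have h1 : t = t₀ := huniq t (fun _ => rfl)
  have h2 : t' = t₀ := huniq t' (fun i' => by
    obtain ⟨i, hi⟩ := href i'
    have e1 : F.res (c.V_le i') t' = F.res hi (F.res (hV i) t') := by rw [F.res_comp]
    have e2 : F.res (c.V_le i') t = F.res hi (F.res (hV i) t) := by rw [F.res_comp]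
    rw [e1, e2, h i])
  rw [h1, h2]

include hB hCU hC H in
/-- a compatible family agrees on every member of the basis inside an intersection -/
lemma agree (c : ShB.Cover B) (s : ∀ i, F.obj (c.V i))
    (hs : ∀ i j k, F.res (c.W_le_left i j k) (s i) = F.res (c.W_le_right i j k) (s j))
    (i j : c.ι) (W' : B) (hi : (W' : Opens X) ≤ (c.V i : Opens X))
    (hj : (W' : Opens X) ≤ (c.V j : Opens X)) : F.res hi (s i) = F.res hj (s j) := by
  refine sep F C hCU hC H W' (Σ k : c.κ i j, {B' : B // (B' : Opens X) ≤ (W' : Opens X) ⊓ (c.W i j k : Opens X)})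
    (fun p => p.2.1) (fun p => p.2.2.trans inf_le_left) ?_ _ _ ?_
  · intro x hx
    have hx2 : x ∈ (c.V i : Opens X) ⊓ (c.V j : Opens X) := ⟨hi hx, hj hx⟩
    have hx3 := c.W_cover i j hx2
    rw [Opens.mem_iSup] at hx3
    obtain ⟨k, hk⟩ := hx3
    have hx4 : x ∈ (W' : Opens X) ⊓ (c.W i j k : Opens X) := ⟨hx, hk⟩
    obtain ⟨B', hB', hxB', hle⟩ := Opens.isBasis_iff_nbhd.1 hB hx4
    rw [Opens.mem_iSup]
    exact ⟨⟨k, ⟨⟨B', hB'⟩, hle⟩⟩, hxB'⟩
  · rintro ⟨k, ⟨B', hle⟩⟩
    have hW : (B' : Opens X) ≤ (c.W i j k : Opens X) := hle.trans inf_le_right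
    have e1 : F.res (hle.trans inf_le_left) (F.res hi (s i)) =
        F.res hW (F.res (c.W_le_left i j k) (s i)) := by
      rw [F.res_comp, F.res_comp]
    have e2 : F.res (hle.trans inf_le_left) (F.res hj (s j)) =
        F.res hW (F.res (c.W_le_right i j k) (s j)) := by
      rw [F.res_comp, F.res_comp]
    change F.res (hle.trans inf_le_left) (F.res hi (s i)) =
      F.res (hle.trans inf_le_left) (F.res hj (s j))
    rw [e1, e2, hs]

include hB hCU hC H in
theorem gluesUniquely (c : ShB.Cover B) : ShB.GluesUniquely F c := by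
  intro s hs
  have hagree := agree hB F C hCU hC H c s hs
  obtain ⟨U, ι, V, V_le, V_cover, κ, W, Wl, Wr, Wc⟩ := c
  simp only at s hs hagree ⊢
  obtain ⟨c', hc', href⟩ := hC U ι V V_le V_cover
  have hU' := hCU U c' hc'
  subst hU'
  choose α hα using href
  have hs' : ∀ i' j' k', F.res (c'.W_le_left i' j' k') (F.res (hα i') (s (α i'))) =
      F.res (c'.W_le_right i' j' k') (F.res (hα j') (s (α j'))) := by
    intro i' j' k'
    rw [F.res_comp, F.res_comp]
    exact hagree (α i') (α j') (c'.W i' j' k') _ _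
  obtain ⟨t, ht, htu⟩ := H c'.U c' hc' (fun i' => F.res (hα i') (s (α i'))) hs'
  refine ⟨t, ?_, ?_⟩
  · intro i
    refine sep F C hCU hC H (V i)
      (Σ i' : c'.ι, {B' : B // (B' : Opens X) ≤ (V i : Opens X) ⊓ (c'.V i' : Opens X)})
      (fun p => p.2.1) (fun p => p.2.2.trans inf_le_left) ?_ _ _ ?_
    · intro x hx
      have hx2 := c'.V_cover (V_le i hx)
      rw [Opens.mem_iSup] at hx2
      obtain ⟨i', hi'⟩ := hx2
      have hx4 : x ∈ (V i : Opens X) ⊓ (c'.V i' : Opens X) := ⟨hx, hi'⟩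
      obtain ⟨B', hB', hxB', hle⟩ := Opens.isBasis_iff_nbhd.1 hB hx4
      rw [Opens.mem_iSup]
      exact ⟨⟨i', ⟨⟨B', hB'⟩, hle⟩⟩, hxB'⟩
    · rintro ⟨i', ⟨B', hle⟩⟩
      have h1 : (B' : Opens X) ≤ (V i : Opens X) := hle.trans inf_le_left
      have h2 : (B' : Opens X) ≤ (c'.V i' : Opens X) := hle.trans inf_le_right
      have e1 : F.res h1 (F.res (V_le i) t) = F.res h2 (F.res (c'.V_le i') t) := by
        rw [F.res_comp, F.res_comp]
      change F.res h1 (F.res (V_le i) t) = F.res h1 (s i)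
      rw [e1, ht i', F.res_comp]
      exact hagree (α i') i B' _ _
  · intro t₂ ht₂
    apply htu
    intro i'
    have e1 : F.res (c'.V_le i') t₂ = F.res (hα i') (F.res (V_le (α i')) t₂) := by
      rw [F.res_comp]
    rw [e1, ht₂]

end Groth.Agent.Lib.Helper7.SheafBasis
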