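import Groth.Agent.Lib.Helper12.DepthLocCoh
import Groth.Agent.Lib.Helper12.NoetherianAux
import Groth.Agent.Lib.Helper2.R0S1
import Groth.Agent.Lib.Helper21.DepthKit1
import Mathlib.RingTheory.Ideal.KrullsHeightTheorem
import Mathlib.RingTheory.Ideal.GoingDown
import Mathlib.RingTheory.Flat.Localization

/-!
# Serre's condition `(S_k)` descends along faithfully flat maps
-/

set_option autoImplicit false
set_option linter.unusedVariables false
set_option linter.style.haveILetI false

universe u

namespace Groth.Agent.Lib.Helper7.SkDesc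

open IsLocalRing RingTheory.Sequence Groth.Agent.Lib.Helper12

section local_

variable {A : Type u} [CommRing A] [IsLocalRing A] [IsNoetherianRing A]
variable {B : Type u} [CommRing B] [IsLocalRing B] [IsNoetherianRing B] [Algebra A B]
  [Module.FaithfullyFlat A B]

theorem not_isSMulRegular_map_of_pow_le (n : ℕ)
    (hpow : maximalIdeal B ^ n ≤ (maximalIdeal A).map (algebraMap A B)) (rs : List A) (z : A)
    (hz : z ∉ Ideal.ofList rs) (hz' : ∀ a ∈ maximalIdeal A, a * z ∈ Ideal.ofList rs) :
    ∀ y ∈ maximalIdeal B, ¬ IsSMulRegular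
      (B ⧸ (Ideal.ofList (rs.map (algebraMap A B)) • ⊤ : Submodule B B)) y := by
  intro y hy hreg
  have hregn : IsSMulRegular
      (B ⧸ (Ideal.ofList (rs.map (algebraMap A B)) • ⊤ : Submodule B B)) (y ^ n) := hreg.pow n
  have hyn : y ^ n ∈ (maximalIdeal A).map (algebraMap A B) := hpow (Ideal.pow_mem_pow hy n)
  have hJ : Ideal.ofList (rs.map (algebraMap A B)) = (Ideal.ofList rs).map (algebraMap A B) :=
    (Ideal.map_ofList _ _).symm
  have h1 : algebraMap A B z ∉ (Ideal.ofList rs).map (algebraMap A B) := by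
    intro h
    apply hz
    rw [← Ideal.comap_map_eq_self_of_faithfullyFlat (B := B) (Ideal.ofList rs)]
    exact h
  have h2 : y ^ n * algebraMap A B z ∈ (Ideal.ofList rs).map (algebraMap A B) := by
    have hle : (maximalIdeal A).map (algebraMap A B) ≤
        Submodule.comap (LinearMap.mulRight B (algebraMap A B z))
          ((Ideal.ofList rs).map (algebraMap A B)) := by
      rw [Ideal.map_le_iff_le_comap]
      intro a ha
      show algebraMap A B a * algebraMap A B z ∈ (Ideal.ofList rs).map (algebraMap A B)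
      rw [← map_mul]
      exact Ideal.mem_map_of_mem _ (hz' a ha)
    exact hle hyn
  have h3 : (y ^ n) • (Submodule.Quotient.mk (algebraMap A B z) :
      B ⧸ (Ideal.ofList (rs.map (algebraMap A B)) • ⊤ : Submodule B B)) = (y ^ n) • 0 := by
    rw [smul_zero, ← Submodule.Quotient.mk_smul, Submodule.Quotient.mk_eq_zero, smul_top_eq_self,
      hJ]
    exact h2
  have h4 := hregn h3
  rw [Submodule.Quotient.mk_eq_zero, smul_top_eq_self, hJ] at h4
  exact h1 h4

theorem regDepth_le_of_pow_le (n : ℕ)
    (hpow : maximalIdeal B ^ n ≤ (maximalIdeal A).map (algebraMap A B)) :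
    regDepth (maximalIdeal B) B ≤ regDepth (maximalIdeal A) A := by
  by_cases htop : regDepth (maximalIdeal A) A = ⊤
  · rw [htop]
    exact le_top
  · have hlt : regDepth (maximalIdeal A) A < ⊤ := lt_top_iff_ne_top.mpr htop
    unfold regDepth at hlt
    rw [iSup_subtype'] at hlt
    haveI : Nonempty {rs : List A // IsWeaklyRegular A rs ∧ ∀ r ∈ rs, r ∈ maximalIdeal A} :=
      ⟨⟨[], IsWeaklyRegular.nil A A, by simp⟩⟩
    obtain ⟨⟨rs, hrs1, hrs2⟩, hrs⟩ := ENat.exists_eq_iSup_of_lt_top hlt
    have hmax : ∀ y ∈ maximalIdeal A,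
        ¬ IsSMulRegular (A ⧸ (Ideal.ofList rs • ⊤ : Submodule A A)) y := by
      intro y hy hreg
      have hw : IsWeaklyRegular A (rs ++ [y]) := by
        rw [isWeaklyRegular_append_iff, isWeaklyRegular_singleton_iff]
        exact ⟨hrs1, hreg⟩
      have hm : ∀ r ∈ rs ++ [y], r ∈ maximalIdeal A := by
        intro r hr
        rcases List.mem_append.mp hr with h | h
        · exact hrs2 r h
        · rw [List.mem_singleton] at h
          rw [h]
          exact hy
      have : (((rs ++ [y]).length : ℕ) : ℕ∞) ≤ (rs.length : ℕ∞) := by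
        rw [hrs]
        exact le_iSup (fun x : {rs : List A // IsWeaklyRegular A rs ∧
          ∀ r ∈ rs, r ∈ maximalIdeal A} => ((x.1.length : ℕ) : ℕ∞)) ⟨rs ++ [y], hw, hm⟩
      rw [List.length_append, List.length_singleton] at this
      exact absurd (Nat.cast_le.mp this) (by omega)
    obtain ⟨z, hz, hz'⟩ := exists_socle_of_forall_not_isSMulRegular rs hmax
    have hmaxB := not_isSMulRegular_map_of_pow_le n hpow rs z hz hz'
    have hIM : maximalIdeal B • (⊤ : Submodule B B) < ⊤ := by
      rw [smul_top_eq_self]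
      exact lt_top_iff_ne_top.mpr (maximalIdeal.isMaximal B).ne_top
    unfold regDepth
    apply iSup₂_le
    rintro ss ⟨hss1, hss2⟩
    refine le_iSup₂_of_le rs ⟨hrs1, hrs2⟩ ?_
    have hreg : IsRegular B ss := IsRegular.of_isWeaklyRegular_of_mem_maximalIdeal B hss2 hss1
    have := length_le_of_forall_not_isSMulRegular (maximalIdeal B) B hIM
      (rs.map (algebraMap A B)) hrs1.of_flat hmaxB ss hreg hss2
    rw [List.length_map] at this
    exact Nat.cast_le.mpr this

theorem depth_le_of_pow_le (n : ℕ)
    (hpow : maximalIdeal B ^ n ≤ (maximalIdeal A).map (algebraMap A B)) :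
    LocCoh.depth B B ≤ LocCoh.depth A A := by
  rw [locCoh_depth_self, locCoh_depth_self]
  exact regDepth_le_of_pow_le n hpow

end local_

section global_

open Groth.Agent.Lib.Helper2.R0S1 Groth.Agent.Lib.Helper21.DepthKit

variable {R : Type u} [CommRing R] {S : Type u} [CommRing S] [Algebra R S]
  [Module.FaithfullyFlat R S]

/-- a prime of `S` minimal over `pS` lies over `p` -/
theorem exists_minimal_liesOver (p : Ideal R) [hp : p.IsPrime] :
    ∃ q : Ideal S, q ∈ (p.map (algebraMap R S)).minimalPrimes ∧
      q.comap (algebraMap R S) = p := by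
  have hne : p.map (algebraMap R S) ≠ ⊤ := by
    intro h
    have := Ideal.comap_map_eq_self_of_faithfullyFlat (B := S) p
    rw [h, Ideal.comap_top] at this
    exact hp.ne_top this.symm
  obtain ⟨q, hq⟩ := Ideal.nonempty_minimalPrimes hne
  refine ⟨q, hq, ?_⟩
  haveI : q.IsPrime := hq.1.1
  have hle : p ≤ q.comap (algebraMap R S) := Ideal.map_le_iff_le_comap.1 hq.1.2
  haveI : (q.comap (algebraMap R S)).IsPrime := Ideal.comap_isPrime _ _
  haveI : q.LiesOver (q.comap (algebraMap R S)) := ⟨rfl⟩
  obtain ⟨P, hPq, hPprime, hPover⟩ :=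
    Ideal.exists_ideal_le_liesOver_of_le (p := p) (q := q.comap (algebraMap R S)) q hle
  have hPp : P.comap (algebraMap R S) = p := hPover.over.symm
  have hpP : p.map (algebraMap R S) ≤ P := by
    rw [Ideal.map_le_iff_le_comap, hPp]
  have : q ≤ P := hq.2 ⟨hPprime, hpP⟩ hPq
  have hqP : q = P := le_antisymm this hPq
  rw [hqP]
  exact hPp

theorem hasSk_of_faithfullyFlat [IsNoetherianRing S] [IsNoetherianRing R] (k : ℕ)
    (hS : LocCoh.HasSk k S S) : LocCoh.HasSk k R R := by
  intro p _
  obtain ⟨q, hqmin, hqp⟩ := exists_minimal_liesOver (S := S) p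
  haveI : q.IsPrime := hqmin.1.1
  haveI : q.LiesOver p := ⟨hqp.symm⟩
  letI := Localization.AtPrime.algebraOfLiesOver p q
  haveI : Module.Flat (Localization.AtPrime p) (Localization.AtPrime q) := inferInstance
  haveI : IsLocalHom (algebraMap (Localization.AtPrime p) (Localization.AtPrime q)) :=
    Localization.isLocalHom_localRingHom _ _ _ _
  haveI : Module.FaithfullyFlat (Localization.AtPrime p) (Localization.AtPrime q) :=
    Module.FaithfullyFlat.of_flat_of_isLocalHom
  have hmapmax : (maximalIdeal (Localization.AtPrime p)).map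
      (algebraMap (Localization.AtPrime p) (Localization.AtPrime q)) =
      (p.map (algebraMap R S)).map (algebraMap S (Localization.AtPrime q)) := by
    rw [← Localization.AtPrime.map_eq_maximalIdeal, Ideal.map_map, Ideal.map_map,
      ← IsScalarTower.algebraMap_eq, ← IsScalarTower.algebraMap_eq]
  have hrad : maximalIdeal (Localization.AtPrime q) ≤
      ((maximalIdeal (Localization.AtPrime p)).map
        (algebraMap (Localization.AtPrime p) (Localization.AtPrime q))).radical := by
    rw [Ideal.radical_eq_sInf]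
    apply le_sInf
    rintro J ⟨hJle, hJprime⟩
    have h1 : p.map (algebraMap R S) ≤ J.comap (algebraMap S (Localization.AtPrime q)) := by
      rw [← Ideal.map_le_iff_le_comap, ← hmapmax]
      exact hJle
    have h2 : J.comap (algebraMap S (Localization.AtPrime q)) ≤ q :=
      (Ideal.comap_mono (IsLocalRing.le_maximalIdeal hJprime.ne_top)).trans_eq
        Localization.AtPrime.under_maximalIdeal
    have h3 : q ≤ J.comap (algebraMap S (Localization.AtPrime q)) :=
      hqmin.2 ⟨Ideal.comap_isPrime _ _, h1⟩ h2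
    rw [← Localization.AtPrime.map_eq_maximalIdeal]
    exact (Ideal.map_mono h3).trans Ideal.map_comap_le
  obtain ⟨n, hn⟩ := Ideal.exists_pow_le_of_le_radical_of_fg hrad (IsNoetherian.noetherian _)
  have hdepth := depth_le_of_pow_le n hn
  have hSq := hS q
  rw [supportDim_loc] at hSq ⊢
  have hht : p.height ≤ q.height := by
    rw [Ideal.height_eq_height_add_of_liesOver_of_hasGoingDown p q]
    exact le_self_add
  calc min (k : WithBot ℕ∞) (p.height : WithBot ℕ∞)
      ≤ min (k : WithBot ℕ∞) (q.height : WithBot ℕ∞) :=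
        min_le_min le_rfl (WithBot.coe_le_coe.2 hht)
    _ ≤ ((LocCoh.depth (Localization.AtPrime q) (LocalizedModule q.primeCompl S) : ℕ∞) :
          WithBot ℕ∞) := hSq
    _ = ((LocCoh.depth (Localization.AtPrime q) (Localization.AtPrime q) : ℕ∞) : WithBot ℕ∞) := by
        rw [depth_congr (locEquiv q)]
    _ ≤ ((LocCoh.depth (Localization.AtPrime p) (Localization.AtPrime p) : ℕ∞) : WithBot ℕ∞) :=
        WithBot.coe_le_coe.2 hdepth
    _ = _ := by rw [depth_congr (locEquiv p)]

end global_

end Groth.Agent.Lib.Helper7.SkDesc
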