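import Groth.Agent.Lib.Helper7.TopDimComponents
import Mathlib.Topology.Sober

/-!
# Chains of points under specialization and the topological Krull dimension
-/

set_option autoImplicit false
set_option linter.unusedVariables false
set_option linter.style.haveILetI false

namespace Groth.Agent.Lib.Helper7.SpecChain

open TopologicalSpace Topology

variable {X : Type*} [TopologicalSpace X]

/-- A chain of points: `x (i+1)` strictly specializes to `x i` (so `x 0` is the most special). -/
def IsPtChain {m : ℕ} (x : Fin (m + 1) → X) : Prop :=
  ∀ i : Fin m, x i.succ ⤳ x i.castSucc ∧ ¬ x i.castSucc ⤳ x i.succ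

theorem IsPtChain.specializes_zero {m : ℕ} {x : Fin (m + 1) → X} (h : IsPtChain x) :
    ∀ i : Fin (m + 1), x i ⤳ x 0 := by
  intro i
  induction i using Fin.induction with
  | zero => exact specializes_rfl
  | succ i ih => exact (h i).1.trans ih

theorem IsPtChain.last_specializes {m : ℕ} {x : Fin (m + 1) → X} (h : IsPtChain x) :
    ∀ i : Fin (m + 1), x (Fin.last m) ⤳ x i := by
  intro i
  induction i using Fin.reverseInduction with
  | last => exact specializes_rfl
  | cast i ih => exact ih.trans (h i).1

/-- The dimension of a closed subset of a quasi-sober space is bounded by the lengths of chains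
of points in it. -/
theorem dim_le_of_chains [QuasiSober X] (T : Set X) (hT : IsClosed T) (n : WithBot ℕ∞)
    (h : ∀ (m : ℕ) (x : Fin (m + 1) → X), (∀ i, x i ∈ T) → IsPtChain x → (m : WithBot ℕ∞) ≤ n) :
    topologicalKrullDim ↥T ≤ n := by
  haveI : QuasiSober ↥T := hT.isClosedEmbedding_subtypeVal.quasiSober
  unfold topologicalKrullDim Order.krullDim
  apply iSup_le
  intro p
  let g : Fin (p.length + 1) → ↥T := fun i => (p i).isIrreducible.genericPoint
  have hg : ∀ i, IsGenericPoint (g i) ((p i : IrreducibleCloseds ↥T) : Set ↥T) := fun i =>
    (p i).isIrreducible.isGenericPoint_genericPoint (p i).isClosed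
  refine h p.length (fun i => (g i).1) (fun i => (g i).2) ?_
  intro i
  have hlt : p i.castSucc < p i.succ := p.step i
  have hle : ((p i.castSucc : IrreducibleCloseds ↥T) : Set ↥T) ⊆
      ((p i.succ : IrreducibleCloseds ↥T) : Set ↥T) := hlt.le
  constructor
  · rw [← subtype_specializes_iff]
    apply (hg i.succ).specializes
    apply hle
    exact (hg i.castSucc).mem
  · intro hsp
    rw [← subtype_specializes_iff] at hsp
    apply hlt.not_ge
    show ((p i.succ : IrreducibleCloseds ↥T) : Set ↥T) ⊆
      ((p i.castSucc : IrreducibleCloseds ↥T) : Set ↥T)
    rw [← (hg i.succ).def, ← (hg i.castSucc).def]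
    exact hsp.closure_subset

/-- A chain of points in `T` gives a lower bound for the dimension of `T`. -/
theorem le_dim_of_chain (T : Set X) (hT : IsClosed T) {m : ℕ} (x : Fin (m + 1) → X)
    (hx : ∀ i, x i ∈ T) (hc : IsPtChain x) : (m : WithBot ℕ∞) ≤ topologicalKrullDim ↥T := by
  let p : LTSeries (IrreducibleCloseds X) :=
    { length := m
      toFun := fun i => ⟨closure {x i}, isIrreducible_singleton.closure, isClosed_closure⟩
      step := by
        intro i
        show (⟨closure {x i.castSucc}, isIrreducible_singleton.closure, isClosed_closure⟩ :
          IrreducibleCloseds X) < ⟨closure {x i.succ}, isIrreducible_singleton.closure,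
            isClosed_closure⟩
        rw [lt_iff_le_not_ge]
        constructor
        · show closure {x i.castSucc} ⊆ closure {x i.succ}
          exact (hc i).1.closure_subset
        · intro hle
          apply (hc i).2
          rw [specializes_iff_mem_closure]
          have hle' : closure {x i.succ} ⊆ closure {x i.castSucc} := hle
          exact hle' (subset_closure rfl) }
  have hlast : (p.last : Set X) ⊆ T := by
    show closure {x (Fin.last m)} ⊆ T
    exact (hT.closure_subset_iff).2 (Set.singleton_subset_iff.2 (hx _))
  exact Groth.Agent.Lib.Helper7.TopDimComp.length_le_of_last_subset T p hlast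

end Groth.Agent.Lib.Helper7.SpecChain
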