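import Groth.Agent.Lib.Helper7.StalkFree
import Mathlib.AlgebraicGeometry.Properties

/-!
# The annihilator of the stalks of a coherent module with full support on a reduced scheme
-/

set_option autoImplicit false
set_option linter.unusedVariables false
set_option linter.style.haveILetI false

universe u

namespace Groth.Agent.Lib.Helper7.StalkFree

open AlgebraicGeometry CategoryTheory CategoryTheory.Limits Opposite TopologicalSpace
open Groth.Agent.Lib.Helper29.QCohStalk Groth.Agent.Lib.Helper28.QCohLoc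
open Groth.Agent.Lib.Helper29.FreeIso

theorem annihilator_stalk_eq_bot (X : Scheme.{u}) [IsReduced X] (F : X.Modules) (hF : Coh.IsCoh F)
    (hsupp : CohB1.support F = Set.univ) (x : X) :
    Module.annihilator (X.presheaf.stalk x) (F.presheaf.stalk x) = ⊥ := by
  classical
  haveI : F.IsQuasicoherent := hF.1
  haveI : SheafOfModules.IsFiniteType.{u} (R := X.ringCatSheaf) F := hF.2
  obtain ⟨U₀, hU₀', hx, -⟩ := (Opens.isBasis_iff_nbhd.1 X.isBasis_affineOpens)
    (show x ∈ (⊤ : X.Opens) from trivial)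
  have hU₀ : IsAffineOpen U₀ := hU₀'
  have hloc := isLocOn_of_isQuasicoherent F hU₀
  haveI : Module.Finite Γ(X, U₀) Γ(F, U₀) :=
    Groth.Agent.Lib.Helper28.FinType.finite_of_isAffineOpen F hU₀
  obtain ⟨S, hS⟩ := (Module.Finite.fg_top : (⊤ : Submodule Γ(X, U₀) Γ(F, U₀)).FG)
  rw [eq_bot_iff]
  intro a ha
  rw [Module.mem_annihilator] at ha
  obtain ⟨s, g, hgunit, hsg⟩ := stalk_affine_surj hU₀ x hx a
  have h1 : ∀ m : Γ(F, U₀), ∃ t : Γ(X, U₀), IsUnit (X.presheaf.germ U₀ x hx t) ∧ t • (s • m) = 0 := by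
    intro m
    apply exists_smul_eq_zero_of_gm_eq_zero F hU₀ hloc x hx
    rw [gm_smul, ← hsg, mul_comm, mul_smul, ha, smul_zero]
  choose t ht htm using h1
  have h2 : ∀ m : Γ(F, U₀), ((∏ m' ∈ S, t m') * s) • m = 0 := by
    intro m
    have hm : m ∈ Submodule.span Γ(X, U₀) (S : Set Γ(F, U₀)) := by rw [hS]; trivial
    induction hm using Submodule.span_induction with
    | mem y hy =>
      rw [← Finset.mul_prod_erase S t hy, mul_comm (t y), mul_assoc, mul_smul, mul_smul, htm y,
        smul_zero]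
    | zero => exact smul_zero _
    | add y z _ _ hy hz => rw [smul_add, hy, hz, add_zero]
    | smul b y _ hy => rw [smul_comm, hy, smul_zero]
  have h3 : X.basicOpen ((∏ m' ∈ S, t m') * s) = ⊥ := by
    rw [eq_bot_iff]
    intro y hy
    exfalso
    have hyU : y ∈ U₀ := X.basicOpen_le _ hy
    have hunit : IsUnit (X.presheaf.germ U₀ y hyU ((∏ m' ∈ S, t m') * s)) :=
      (Scheme.mem_basicOpen _ _ _ hyU).1 hy
    have hy' : y ∈ CohB1.support F := by rw [hsupp]; trivial
    apply hy'
    refine ⟨fun μ ν => ?_⟩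
    have hz : ∀ μ : F.presheaf.stalk y, μ = 0 := by
      intro μ
      obtain ⟨s', m, hs', hsm⟩ := exists_germ_smul_eq F hU₀ hloc y hyU μ
      have h4 := congrArg (gm F U₀ y hyU) (h2 m)
      rw [gm_smul, gm_zero] at h4
      have h5 : gm F U₀ y hyU m = 0 := eq_zero_of_isUnit_smul hunit h4
      rw [h5] at hsm
      exact eq_zero_of_isUnit_smul hs' hsm
    rw [hz μ, hz ν]
  rw [basicOpen_eq_bot_iff] at h3
  have h4 := congrArg (X.presheaf.germ U₀ x hx) h3
  rw [map_mul, map_zero] at h4
  have htu : IsUnit (X.presheaf.germ U₀ x hx (∏ m' ∈ S, t m')) := by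
    rw [map_prod]
    exact (IsUnit.prod_iff).2 fun m _ => ht m
  have h5 := (htu.mul_right_eq_zero).1 h4
  rw [h5] at hsg
  exact (hgunit.mul_left_eq_zero).1 hsg

end Groth.Agent.Lib.Helper7.StalkFree
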