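import Mathlib
import Groth.Agent.Lib.Helper7.TorRigid
import Groth.Agent.Lib.Helper8.TorBal6
import Groth.Agent.S0563
import Groth.Agent.S14414

/-!
# Vanishing of `Tor_i(A/I, A/J)` for two Cohen–Macaulay quotients of a regular local ring
meeting properly
-/

set_option autoImplicit false
set_option backward.isDefEq.respectTransparency false
set_option backward.defeqAttrib.useBackward true
set_option linter.unusedVariables false

universe u

namespace Groth.Agent.Lib.Helper7.TorVanishCM

open CategoryTheory Limits IsLocalRing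
open Groth.Agent.Lib.Helper21.TorLES Groth.Agent.Lib.Helper7.TorRigid
open scoped Pointwise

variable {A : Type u} [CommRing A] [IsRegularLocalRing A]

/-- modules killed by an ideal -/
def Killed (I : Ideal A) (M : ModuleCat.{u} A) : Prop := ∀ (m : M) (r : A), r ∈ I → r • m = 0

lemma killed_quot (I : Ideal A) (M : ModuleCat.{u} A) (x : A) (h : Killed I M) :
    Killed I (quot M x) := by
  intro m r hr
  obtain ⟨m', rfl⟩ := Submodule.mkQ_surjective _ m
  rw [← map_smul, h m' r hr, map_zero]

lemma killed_quotient (I : Ideal A) : Killed I (ModuleCat.of A (A ⧸ I)) := by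
  intro m r hr
  obtain ⟨m', rfl⟩ := Ideal.Quotient.mk_surjective m
  show r • (Ideal.Quotient.mk I m') = 0
  rw [← Ideal.Quotient.mk_eq_mk, ← Submodule.Quotient.mk_smul, Submodule.Quotient.mk_eq_zero]
  exact I.mul_mem_right _ hr

/-- power-torsion of `H_i(P ⊗ M)` when `X` is killed by `I`, `M` by `I'`, and `I ⊔ I'` is
`𝔪`-primary. -/
lemma pow_smul_eq_zero (I I' : Ideal A)
    (hprim : ∀ x ∈ maximalIdeal A, ∃ k : ℕ, x ^ k ∈ I ⊔ I')
    {X : ModuleCat.{u} A} (P : ProjectiveResolution X) (hX : Killed I X)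
    (M : ModuleCat.{u} A) (hM : Killed I' M) (i : ℕ) (x : A) (hx : x ∈ maximalIdeal A)
    (z : HH P M i) : ∃ k : ℕ, x ^ k • z = 0 := by
  obtain ⟨k, hk⟩ := hprim x hx
  refine ⟨k, ?_⟩
  obtain ⟨p, hp, q, hq, hpq⟩ := Submodule.mem_sup.1 hk
  rw [← hpq, add_smul, smul_eq_zero_of_first P M p (fun y => hX y p hp) i z,
    smul_eq_zero_of_second P M q (fun m => hM m q hq) i z, add_zero]

/-- Step A: `Tor_t(A/I_W, M') = 0` for `t > a - w` when `M'` is killed by `I_V`. -/
theorem isZero_tor_of_killed (a w : ℕ) (ha : ringKrullDim A = a) (IV IW : Ideal A)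
    (hprim : ∀ x ∈ maximalIdeal A, ∃ k : ℕ, x ^ k ∈ IV ⊔ IW)
    (ys : List A) (hys : ∀ y ∈ ys, y ∈ maximalIdeal A)
    (hreg : RingTheory.Sequence.IsWeaklyRegular (A ⧸ IW) ys) (hw : ys.length = w)
    (M' : ModuleCat.{u} A) (hM' : Killed IV M') (t : ℕ) (ht : a - w < t) :
    IsZero (((Tor (ModuleCat.{u} A) t).obj (ModuleCat.of A (A ⧸ IW))).obj M') := by
  let N : ModuleCat.{u} A := ModuleCat.of A (A ⧸ IW)
  let P := ProjectiveResolution.of M'
  have h0 : ∀ N' : ModuleCat.{u} A, ∀ i, a < i → IsZero (HH P N' i) := by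
    intro N' i hi
    obtain ⟨e⟩ := tor_iso_homology_left i M' N' P
    refine IsZero.of_iso ?_ e.symm
    haveI : HasProjectiveDimensionLE N' a := Groth.Agent.S0563.result A a ha N'
    exact Groth.Agent.S14414.result A M' N' a i hi
  have key : IsZero (HH P N t) := by
    by_cases hat : a < t
    · exact h0 N t hat
    · exact isZero_of_isWeaklyRegular P a (maximalIdeal A) (Killed IW)
        (fun N' _ i hi => h0 N' i hi)
        (fun N' x h => killed_quot IW N' x h)
        (fun N' hN' i x hx z => pow_smul_eq_zero IV IW hprim P hM' N' hN' i x hx z)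
        ys hys N (killed_quotient IW) hreg t (by
          rw [hw]
          have h1' : t ≤ a := not_lt.1 hat
          omega)
  obtain ⟨e⟩ := tor_iso_homology_left t M' N P
  have h1 : IsZero (((Tor (ModuleCat.{u} A) t).obj M').obj N) := IsZero.of_iso key e
  obtain ⟨b⟩ := Groth.Agent.Lib.Helper8.TorBal6.main A t
  exact IsZero.of_iso h1 ((b.app N).app M')

/-- Vanishing of the higher `Tor` of two quotients of a regular local ring of dimension `a`
carrying regular sequences of lengths `v`, `w` with `a ≤ v + w` and `𝔪`-primary sum. -/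
theorem isZero_tor (a v w : ℕ) (ha : ringKrullDim A = a) (IV IW : Ideal A)
    (hprim : ∀ x ∈ maximalIdeal A, ∃ k : ℕ, x ^ k ∈ IV ⊔ IW)
    (xs : List A) (hxs : ∀ x ∈ xs, x ∈ maximalIdeal A)
    (hregV : RingTheory.Sequence.IsWeaklyRegular (A ⧸ IV) xs) (hv : xs.length = v)
    (ys : List A) (hys : ∀ y ∈ ys, y ∈ maximalIdeal A)
    (hregW : RingTheory.Sequence.IsWeaklyRegular (A ⧸ IW) ys) (hw : ys.length = w)
    (havw : a ≤ v + w) (t : ℕ) (ht : 1 ≤ t) :
    IsZero (((Tor (ModuleCat.{u} A) t).obj (ModuleCat.of A (A ⧸ IW))).obj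
      (ModuleCat.of A (A ⧸ IV))) := by
  let N : ModuleCat.{u} A := ModuleCat.of A (A ⧸ IW)
  let M : ModuleCat.{u} A := ModuleCat.of A (A ⧸ IV)
  let P := ProjectiveResolution.of N
  have hprim' : ∀ x ∈ maximalIdeal A, ∃ k : ℕ, x ^ k ∈ IW ⊔ IV := by
    intro x hx
    obtain ⟨k, hk⟩ := hprim x hx
    exact ⟨k, by rwa [sup_comm]⟩
  have h1 : ∀ M' : ModuleCat.{u} A, Killed IV M' → ∀ i, a - w < i → IsZero (HH P M' i) := by
    intro M' hM' i hi
    obtain ⟨e⟩ := tor_iso_homology_left i N M' P
    refine IsZero.of_iso ?_ e.symm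
    exact isZero_tor_of_killed a w ha IV IW hprim ys hys hregW hw M' hM' i hi
  obtain ⟨e⟩ := tor_iso_homology_left t N M P
  refine IsZero.of_iso ?_ e
  by_cases hct : a - w < t
  · exact h1 M (killed_quotient IV) t hct
  · exact isZero_of_isWeaklyRegular P (a - w) (maximalIdeal A) (Killed IV) h1
      (fun M' x h => killed_quot IV M' x h)
      (fun M' hM' i x hx z => pow_smul_eq_zero IW IV hprim' P (killed_quotient IW) M' hM' i x hx z)
      xs hxs M (killed_quotient IV) hregV t (by
        rw [hv]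
        have h1' : t ≤ a - w := not_lt.1 hct
        have h2' : a - w ≤ v := by omega
        omega)

end Groth.Agent.Lib.Helper7.TorVanishCM
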