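import Groth.Prelude.Def_Curves
import Mathlib.RingTheory.MvPolynomial.Homogeneous
import Mathlib.Algebra.MvPolynomial.Rename
import Mathlib.Algebra.MvPolynomial.Eval
import Mathlib.LinearAlgebra.Basis.Defs
import Mathlib.LinearAlgebra.FiniteDimensional.Basic
import Mathlib.LinearAlgebra.Dimension.Free

/-!
# Restriction of scalars for forms (helper7)

Tools for the Tsen–Lang cluster: given a finite extension `L/K` with basis `ω`, a form `f` over `L`
in variables `σ` gives forms `comp ω f l` over `K` in variables `σ × ι`, with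
`f (∑ y_{jl} ω_l) = ∑_l (comp ω f l)(y) ω_l`.
-/

set_option autoImplicit false
set_option linter.unusedSectionVars false

namespace Groth.Agent.Lib.Helper7.TL

open MvPolynomial

section coord

variable {K : Type*} {L : Type*} [CommRing K] [CommRing L] [Algebra K L] {τ : Type*}

/-- apply a `K`-linear functional coefficientwise -/
noncomputable def coordMap (φ : L →ₗ[K] K) (p : MvPolynomial τ L) : MvPolynomial τ K :=
  AddMonoidAlgebra.map φ.toAddMonoidHom p

lemma coeff_coordMap (φ : L →ₗ[K] K) (p : MvPolynomial τ L) (m : τ →₀ ℕ) :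
    coeff m (coordMap φ p) = φ (coeff m p) := rfl

lemma coordMap_add (φ : L →ₗ[K] K) (p q : MvPolynomial τ L) :
    coordMap φ (p + q) = coordMap φ p + coordMap φ q := by
  ext m; simp [coeff_coordMap]

lemma coordMap_monomial (φ : L →ₗ[K] K) (m : τ →₀ ℕ) (a : L) :
    coordMap φ (monomial m a) = monomial m (φ a) := by
  classical
  ext m'
  rw [coeff_coordMap, coeff_monomial, coeff_monomial]
  split_ifs <;> simp

lemma coordMap_isHomogeneous (φ : L →ₗ[K] K) {p : MvPolynomial τ L} {n : ℕ}
    (hp : p.IsHomogeneous n) : (coordMap φ p).IsHomogeneous n := by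
  intro d hd
  apply hp
  intro h
  apply hd
  rw [coeff_coordMap, h, map_zero]

lemma eval_coordMap (φ : L →ₗ[K] K) (p : MvPolynomial τ L) (y : τ → K) :
    eval y (coordMap φ p) = φ (eval (fun t => algebraMap K L (y t)) p) := by
  induction p using MvPolynomial.induction_on' with
  | monomial m a =>
    rw [coordMap_monomial, eval_monomial, eval_monomial]
    have : (m.prod fun n e => (algebraMap K L (y n)) ^ e) =
        algebraMap K L (m.prod fun n e => y n ^ e) := by
      rw [Finsupp.prod, Finsupp.prod, map_prod]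
      simp
    rw [this, mul_comm a, ← Algebra.smul_def, map_smul, smul_eq_mul, mul_comm]
  | add p q hp hq =>
    rw [coordMap_add, map_add, map_add, map_add, hp, hq]

end coord

section subst

variable {K : Type*} {L : Type*} [Field K] [Field L] [Algebra K L] {σ : Type*} {ι : Type*}
  [Fintype ι] (ω : Module.Basis ι K L)

/-- substitute `x_j = ∑_l ω_l y_{jl}` -/
noncomputable def subst : MvPolynomial σ L →ₐ[L] MvPolynomial (σ × ι) L :=
  aeval (fun j => ∑ l, C (ω l) * X (j, l))

lemma subst_isHomogeneous {f : MvPolynomial σ L} {d : ℕ} (hf : f.IsHomogeneous d) :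
    (subst ω f).IsHomogeneous d := by
  have := hf.aeval (fun j => ∑ l, C (ω l) * X ((j, l) : σ × ι))
    (n := 1) (fun j => IsHomogeneous.sum _ _ _ (fun l _ => (isHomogeneous_X _ _).C_mul _))
  rwa [one_mul] at this

/-- the point of `L^σ` attached to a point of `K^(σ × ι)` -/
noncomputable def xOf (y : σ × ι → K) : σ → L := fun j => ∑ l, y (j, l) • ω l

lemma xOf_eq_zero {y : σ × ι → K} (h : xOf ω y = 0) : y = 0 := by
  funext ⟨j, l⟩
  have h1 : ∑ l, y (j, l) • ω l = 0 := congrFun h j
  exact Fintype.linearIndependent_iff.1 ω.linearIndependent _ h1 l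

lemma eval_subst (f : MvPolynomial σ L) (y : σ × ι → K) :
    eval (fun t => algebraMap K L (y t)) (subst ω f) = eval (xOf ω y) f := by
  have h : ((aeval (fun t => algebraMap K L (y t)) : MvPolynomial (σ × ι) L →ₐ[L] L).comp
      (subst ω)) = aeval (xOf ω y) := by
    apply MvPolynomial.algHom_ext
    intro j
    simp only [AlgHom.comp_apply, subst, aeval_X, map_sum, map_mul, aeval_C, xOf]
    refine Finset.sum_congr rfl fun l _ => ?_
    rw [Algebra.algebraMap_self, RingHom.id_apply, Algebra.smul_def, mul_comm]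
  have h2 := AlgHom.congr_fun h f
  simpa [MvPolynomial.aeval_eq_eval] using h2

/-- the `l`-th coordinate form -/
noncomputable def comp (f : MvPolynomial σ L) (l : ι) : MvPolynomial (σ × ι) K :=
  coordMap (ω.coord l) (subst ω f)

lemma comp_isHomogeneous {f : MvPolynomial σ L} {d : ℕ} (hf : f.IsHomogeneous d) (l : ι) :
    (comp ω f l).IsHomogeneous d :=
  coordMap_isHomogeneous _ (subst_isHomogeneous ω hf)

lemma eval_comp (f : MvPolynomial σ L) (l : ι) (y : σ × ι → K) :
    eval y (comp ω f l) = ω.repr (eval (xOf ω y) f) l := by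
  rw [comp, eval_coordMap, eval_subst]; rfl

lemma eval_eq_sum_comp (f : MvPolynomial σ L) (y : σ × ι → K) :
    eval (xOf ω y) f = ∑ l, eval y (comp ω f l) • ω l := by
  conv_lhs => rw [← ω.sum_repr (eval (xOf ω y) f)]
  refine Finset.sum_congr rfl fun l _ => ?_
  rw [eval_comp]

end subst

section fintype

variable {K : Type*} [Field K]

/-- the `C_i` property for systems, with arbitrary finite index types -/
theorem isCi_fintype {i : ℕ} (hK : Curves.IsCi K i) {R N : Type*} [Fintype R] [Fintype N]
    (f : R → MvPolynomial N K) (d : R → ℕ) (hf : ∀ ρ, (f ρ).IsHomogeneous (d ρ))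
    (hd : ∀ ρ, 0 < d ρ) (hlt : (∑ ρ, d ρ ^ i) < Fintype.card N) :
    ∃ a : N → K, a ≠ 0 ∧ ∀ ρ, eval a (f ρ) = 0 := by
  classical
  let eR := Fintype.equivFin R
  let eN := Fintype.equivFin N
  obtain ⟨a', ha', hz⟩ := hK (Fintype.card R) (Fintype.card N)
    (fun ρ' => rename eN (f (eR.symm ρ'))) (fun ρ' => d (eR.symm ρ'))
    (fun ρ' => IsHomogeneous.rename_isHomogeneous (hf _)) (fun ρ' => hd _)
    (by rw [Equiv.sum_comp eR.symm (fun ρ => d ρ ^ i)]; exact hlt)
  refine ⟨a' ∘ eN, ?_, fun ρ => ?_⟩
  · intro h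
    apply ha'
    funext t
    have := congrFun h (eN.symm t)
    simpa using this
  · have := hz (eR ρ)
    rwa [eval_rename, Equiv.symm_apply_apply] at this

/-- the `C_r` property for single forms, with an arbitrary finite index type -/
theorem isCr_fintype {r : ℕ} (hK : Curves.IsCr K r) {N : Type*} [Fintype N]
    (f : MvPolynomial N K) (d : ℕ) (hf : f.IsHomogeneous d)
    (hd : 0 < d) (hlt : d ^ r < Fintype.card N) :
    ∃ a : N → K, a ≠ 0 ∧ eval a f = 0 := by
  classical
  let eN := Fintype.equivFin N
  obtain ⟨a', ha', hz⟩ := hK (Fintype.card N) d (rename eN f) (IsHomogeneous.rename_isHomogeneous hf) hd hlt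
  refine ⟨a' ∘ eN, ?_, ?_⟩
  · intro h
    apply ha'
    funext t
    have := congrFun h (eN.symm t)
    simpa using this
  · rwa [eval_rename] at hz

end fintype

end Groth.Agent.Lib.Helper7.TL
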