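import Groth.Agent.Lib.Helper7.TsenLang

set_option autoImplicit false
set_option linter.unusedSectionVars false
set_option linter.style.haveILetI false

namespace Groth.Agent.Lib.Helper7.TL

open MvPolynomial

/-- scaling the argument of a form -/
lemma eval_smul_of_isHomogeneous {K : Type*} [CommRing K] {ι : Type*} [Fintype ι]
    {F : MvPolynomial ι K} {d : ℕ} (hF : F.IsHomogeneous d) (t : K) (x : ι → K) :
    eval (fun i => t * x i) F = t ^ d * eval x F := by
  classical
  rw [eval_eq', eval_eq', Finset.mul_sum]
  refine Finset.sum_congr rfl fun s hs => ?_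
  have hdeg : d = ∑ i, s i := by
    rw [hF.degree_eq_sum_deg_support hs]
    exact Finset.sum_subset (Finset.subset_univ _) (fun i _ hi => by simpa using hi)
  simp only [mul_pow, Finset.prod_mul_distrib, Finset.prod_pow_eq_pow_sum, ← hdeg]
  ring

/-- a multiplicative map on a division algebra over a `C_2` field which is given by a form of degree
`d` in `d ^ 2` coordinates is surjective -/
theorem surjective_of_isCi_two {K : Type*} [Field K] (hK : Curves.IsCi K 2)
    {D : Type*} [DivisionRing D] [Algebra K D] [FiniteDimensional K D]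
    (d : ℕ) (hd : Module.finrank K D = d ^ 2) (N : D →* K)
    {ι : Type*} [Fintype ι] (b : Module.Basis ι K D)
    (F : MvPolynomial ι K) (hF : F.IsHomogeneous d)
    (hNF : ∀ x : ι → K, N (∑ i, x i • b i) = MvPolynomial.eval x F) :
    Function.Surjective N := by
  classical
  have hdpos : 0 < d := by
    rcases Nat.eq_zero_or_pos d with h | h
    · exfalso
      have hpos : 0 < Module.finrank K D := Module.finrank_pos
      rw [hd, h] at hpos
      simp at hpos
    · exact h
  have hcard : Fintype.card ι = d ^ 2 := by rw [← hd, Module.finrank_eq_card_basis b]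
  have hNne : ∀ y : D, y ≠ 0 → N y ≠ 0 := by
    intro y hy h0
    have : N (y * y⁻¹) = 1 := by rw [mul_inv_cancel₀ hy, map_one]
    rw [map_mul, h0, zero_mul] at this
    exact zero_ne_one this
  intro c
  -- the form `F(x) - c t^d`
  let G : MvPolynomial (ι ⊕ Unit) K :=
    rename Sum.inl F - C c * (X (Sum.inr ())) ^ d
  have hG : G.IsHomogeneous d := by
    apply IsHomogeneous.sub
    · exact IsHomogeneous.rename_isHomogeneous hF
    · have := (isHomogeneous_C (ι ⊕ Unit) c).mul ((isHomogeneous_X K (Sum.inr () : ι ⊕ Unit)).pow d)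
      simpa using this
  obtain ⟨a, ha, hz⟩ := isCi_fintype hK (R := Unit) (N := ι ⊕ Unit) (fun _ => G) (fun _ => d)
    (fun _ => hG) (fun _ => hdpos)
    (by simp [hcard])
  have hz' : eval (a ∘ Sum.inl) F = c * (a (Sum.inr ())) ^ d := by
    have := hz ()
    simp only [G, map_sub, eval_rename, map_mul, eval_C, map_pow, eval_X, sub_eq_zero] at this
    exact this
  set x : ι → K := a ∘ Sum.inl with hx
  set t : K := a (Sum.inr ()) with ht
  have hy : N (∑ i, x i • b i) = c * t ^ d := by rw [hNF, hz']
  have ht0 : t ≠ 0 := by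
    intro h0
    rw [h0, zero_pow (Nat.pos_iff_ne_zero.1 hdpos), mul_zero] at hy
    have hy0 : (∑ i, x i • b i) = 0 := by
      by_contra hne
      exact hNne _ hne hy
    have hx0 : ∀ i, x i = 0 := Fintype.linearIndependent_iff.1 b.linearIndependent x hy0
    apply ha
    funext j
    rcases j with i | u
    · exact hx0 i
    · cases u; exact h0
  refine ⟨∑ i, (t⁻¹ * x i) • b i, ?_⟩
  rw [hNF, eval_smul_of_isHomogeneous hF, hz', inv_pow]
  field_simp

end Groth.Agent.Lib.Helper7.TL
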