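import Groth.Agent.Lib.Helper7.ValFlatScheme
import Mathlib

/-!
# Valuative criterion of flatness at a point (EGA IV 11.8.1), scheme form (helper7)
-/

set_option backward.isDefEq.respectTransparency.types false
set_option autoImplicit false
set_option linter.unusedVariables false
set_option linter.style.haveILetI false
set_option maxHeartbeats 1600000
universe u
open AlgebraicGeometry CategoryTheory Limits TensorProduct TopologicalSpace

namespace Groth.Agent.Lib.Helper7.FlatChart

open Groth.Agent.Lib.Helper24.PtFlat

theorem flat_stalkMap_iff_forall_dvr {X Y : Scheme.{u}} (f : X ⟶ Y) [LocallyOfFinitePresentation f]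
    (x : X) [IsNoetherianRing (Y.presheaf.stalk (f.base x))]
    [_root_.IsReduced (Y.presheaf.stalk (f.base x))] :
    (f.stalkMap x).hom.Flat ↔
      ∀ (A' : Type u) [CommRing A'] [IsDomain A'] [IsDiscreteValuationRing A']
        (φ : (Y.presheaf.stalk (f.base x) : Type u) →+* A') [IsLocalHom φ],
        ∀ x' : ↥(pullback f (Spec.map (CommRingCat.ofHom φ) ≫ Y.fromSpecStalk (f.base x))),
          (pullback.fst f _).base x' = x →
          (pullback.snd f _).base x' = IsLocalRing.closedPoint A' →
          ((pullback.snd f (Spec.map (CommRingCat.ofHom φ) ≫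
            Y.fromSpecStalk (f.base x))).stalkMap x').hom.Flat := by
  constructor
  · intro h A' _ _ _ φ _ x' hx'1 hx'2
    refine flat_stalkMap_baseChange (IsPullback.of_hasPullback f _) x' ?_
    exact flat_stalkMap_of_eq_point f hx'1.symm h
  · intro H
    set j := Y.fromSpecStalk (f.base x) with hj
    obtain ⟨x₁, hx₁, hx₁'⟩ : ∃ x₁ : ↥(pullback f j), pullback.fst f j x₁ = x ∧
        pullback.snd f j x₁ = IsLocalRing.closedPoint (Y.presheaf.stalk (f.base x)) :=
      exists_point_over_stalk f x
    haveI : LocallyOfFiniteType (pullback.snd f j) := inferInstance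
    have hf₁ : ((pullback.snd f j).stalkMap x₁).hom.Flat := by
      refine flat_stalkMap_of_forall_dvr_local (O := Y.presheaf.stalk (f.base x))
        (pullback.snd f j) x₁ hx₁' ?_
      intro R _ _ _ φ _ x'' h1 h2
      set e := pullbackLeftPullbackSndIso f j (Spec.map (CommRingCat.ofHom φ)) with he
      have hy1 : pullback.fst f (Spec.map (CommRingCat.ofHom φ) ≫ j) (e.hom x'') = x :=
        (pullbackLeftPullbackSndIso_hom_fst_apply f j (Spec.map (CommRingCat.ofHom φ)) x'').trans
          ((congrArg (pullback.fst f j) h1).trans hx₁)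
      have hy2 : pullback.snd f (Spec.map (CommRingCat.ofHom φ) ≫ j) (e.hom x'') =
          IsLocalRing.closedPoint R :=
        (pullbackLeftPullbackSndIso_hom_snd_apply f j (Spec.map (CommRingCat.ofHom φ)) x'').trans h2
      have h3 := H R φ (e.hom x'') hy1 hy2
      have h4 : (e.hom.stalkMap x'').hom.Flat := Flat.stalkMap e.hom x''
      have h5 := flat_stalkMap_comp e.hom (pullback.snd f (Spec.map (CommRingCat.ofHom φ) ≫ j))
        x'' h4 h3
      exact flat_stalkMap_of_eq (pullbackLeftPullbackSndIso_hom_snd f j
        (Spec.map (CommRingCat.ofHom φ))).symm x'' h5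
    -- descend along `Spec O_{Y,y} ⟶ Y`
    have h6 : (j.stalkMap (pullback.snd f j x₁)).hom.Flat := Flat.stalkMap j _
    have h7 := flat_stalkMap_comp (pullback.snd f j) j x₁ hf₁ h6
    have h8 : ((pullback.fst f j ≫ f).stalkMap x₁).hom.Flat :=
      flat_stalkMap_of_eq pullback.condition x₁ h7
    have h9 : ((pullback.fst f j).stalkMap x₁).hom.Flat := Flat.stalkMap _ _
    have h10 := flat_stalkMap_of_comp (pullback.fst f j) f x₁ h9 h8
    exact flat_stalkMap_of_eq_point f hx₁ h10

end Groth.Agent.Lib.Helper7.FlatChart
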