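import Groth.Agent.Lib.Helper7.ValFlatWeak
import Groth.Agent.Lib.Helper7.ValFlatChart
import Groth.Agent.Lib.Helper7.FlatChartLocal
import Groth.Agent.Lib.Helper7.FlatAdicFamily
import Groth.Agent.Lib.Helper24.PtFlat.Basic
import Mathlib

/-!
# Valuative criterion of flatness at a point, scheme form over a local base (helper7)
-/

set_option backward.isDefEq.respectTransparency.types false
set_option autoImplicit false
set_option linter.unusedVariables false
set_option linter.style.haveILetI false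
set_option maxHeartbeats 1600000
universe u
open AlgebraicGeometry CategoryTheory Limits TensorProduct TopologicalSpace

namespace Groth.Agent.Lib.Helper7.FlatChart

open Groth.Agent.Lib.Helper7.FlatTestLocal Groth.Agent.Lib.Helper7.AffPts
  Groth.Agent.Lib.lead.StalkDimIneq Groth.Agent.Lib.Helper24.PtFlat

/-- flatness of the stalk map of `X ×_S S'' ⟶ S''` at `x''` from that of `X ×_S S' ⟶ S'` at the
image of `x''`. -/
theorem flat_stalkMap_pullback_comp {X S S' S'' : Scheme.{u}} (f : X ⟶ S) (g : S' ⟶ S) (h : S'' ⟶ S')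
    (x'' : ↥(pullback f (h ≫ g)))
    (H : ((pullback.snd f g).stalkMap
      (pullback.map f (h ≫ g) f g (𝟙 X) h (𝟙 S) (by simp) (by simp) x'')).hom.Flat) :
    ((pullback.snd f (h ≫ g)).stalkMap x'').hom.Flat := by
  set k := pullback.map f (h ≫ g) f g (𝟙 X) h (𝟙 S) (by simp) (by simp) with hk
  have hk1 : k ≫ pullback.fst f g = pullback.fst f (h ≫ g) :=
    (pullback.lift_fst _ _ _).trans (Category.comp_id _)
  have hk2 : k ≫ pullback.snd f g = pullback.snd f (h ≫ g) ≫ h := pullback.lift_snd _ _ _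
  have hbig : IsPullback (k ≫ pullback.fst f g) (pullback.snd f (h ≫ g)) f (h ≫ g) := by
    rw [hk1]; exact IsPullback.of_hasPullback _ _
  have hleft : IsPullback k (pullback.snd f (h ≫ g)) (pullback.snd f g) h :=
    IsPullback.of_right hbig hk2 (IsPullback.of_hasPullback f g)
  exact flat_stalkMap_baseChange hleft x'' H

/-- transport of a ring-flatness statement along a ring isomorphism of the base. -/
theorem flat_tensor_of_ringEquiv {A T T' N : Type u} [CommRing A] [CommRing T] [CommRing T']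
    [Algebra A T] [Algebra A T'] [AddCommGroup N] [Module A N] (e : T ≃+* T')
    (he : ∀ a, e (algebraMap A T a) = algebraMap A T' a)
    [Module.Flat T (T ⊗[A] N)] : Module.Flat T' (T' ⊗[A] N) := by
  letI : Algebra T T' := e.toRingHom.toAlgebra
  haveI : IsScalarTower A T T' := IsScalarTower.of_algebraMap_eq (fun a => (he a).symm)
  haveI : Module.Flat T' (T' ⊗[T] (T ⊗[A] N)) := inferInstance
  exact Module.Flat.of_linearEquiv (AlgebraTensorModule.cancelBaseChange A T T' T' N).symm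


open Groth.Agent.Lib.Helper7.ValFlatWeak in
/-- **Valuative criterion of flatness at a point over a reduced Noetherian local base**: it
suffices that, for every discrete valuation ring `R` and local homomorphism `O → R`, the base
change to `Spec R` is flat at the points over `x₁` and the closed point. -/
theorem flat_stalkMap_of_forall_dvr_local {O : CommRingCat.{u}} [IsLocalRing O] [IsNoetherianRing O]
    [IsReduced O]
    {X₁ : Scheme.{u}} (f₁ : X₁ ⟶ Spec O) [LocallyOfFiniteType f₁] (x₁ : X₁)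
    (hx₁ : f₁ x₁ = IsLocalRing.closedPoint O)
    (hflat : ∀ (R : Type u) [CommRing R] [IsDomain R] [IsDiscreteValuationRing R]
      (φ : (O : Type u) →+* R) [IsLocalHom φ]
      (x' : ↥(pullback f₁ (Spec.map (CommRingCat.ofHom φ)))),
      pullback.fst f₁ (Spec.map (CommRingCat.ofHom φ)) x' = x₁ →
      pullback.snd f₁ (Spec.map (CommRingCat.ofHom φ)) x' = IsLocalRing.closedPoint R →
      ((pullback.snd f₁ (Spec.map (CommRingCat.ofHom φ))).stalkMap x').hom.Flat) :
    (f₁.stalkMap x₁).hom.Flat := by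
  classical
  obtain ⟨UX, hUX', hxUX, -⟩ := (Opens.isBasis_iff_nbhd.1 X₁.isBasis_affineOpens)
    (show x₁ ∈ (⊤ : X₁.Opens) from trivial)
  have hUX : IsAffineOpen UX := hUX'
  have hUS : IsAffineOpen (⊤ : (Spec O).Opens) := isAffineOpen_top _
  have hUSX : UX ≤ f₁ ⁻¹ᵁ ⊤ := fun _ _ => trivial
  let eO : Γ(Spec O, ⊤) ≃+* O := (Scheme.ΓSpecIso O).commRingCatIsoToRingEquiv
  haveI : IsLocalRing Γ(Spec O, ⊤) := eO.symm.isLocalRing
  haveI : IsNoetherianRing Γ(Spec O, ⊤) := isNoetherianRing_of_ringEquiv O eO.symm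
  haveI : IsReduced Γ(Spec O, ⊤) := isReduced_of_injective eO.toRingHom eO.injective
  letI algRA : Algebra Γ(Spec O, ⊤) Γ(X₁, UX) := (f₁.appLE ⊤ UX hUSX).hom.toAlgebra
  haveI : Algebra.FiniteType Γ(Spec O, ⊤) Γ(X₁, UX) :=
    LocallyOfFiniteType.finiteType_appLE f₁ hUS hUX hUSX
  haveI : IsNoetherianRing Γ(X₁, UX) :=
    Algebra.FiniteType.isNoetherianRing Γ(Spec O, ⊤) Γ(X₁, UX)
  rw [Groth.Agent.Lib.Helper21.FlatDesc.flat_stalkMap_iff ⊤ hUS UX hUX hUSX hxUX]
  set q := (hUX.primeIdealOf ⟨x₁, hxUX⟩).asIdeal with hq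
  have hqR : q.comap (algebraMap Γ(Spec O, ⊤) Γ(X₁, UX)) =
      IsLocalRing.maximalIdeal Γ(Spec O, ⊤) := by
    have h1 := primeIdealOf_map f₁ hUX hUS hUSX ⟨x₁, hxUX⟩
    have h2 := (primeIdealOf_top_eq_maximalIdeal_iff (f₁ x₁)).2 hx₁
    exact h1.symm.trans h2
  haveI : (q.comap (algebraMap Γ(Spec O, ⊤) Γ(X₁, UX))).IsPrime := Ideal.comap_isPrime _ _
  haveI hloc1 : IsLocalHom eO.toRingHom := ⟨fun a ha => (MulEquiv.isUnit_map eO.toMulEquiv).1 ha⟩
  haveI hloc2 : IsLocalHom eO.symm.toRingHom :=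
    ⟨fun a ha => (MulEquiv.isUnit_map eO.symm.toMulEquiv).1 ha⟩
  refine flat_localized_of_forall_dvr_art (A := Γ(Spec O, ⊤)) (B := Γ(X₁, UX)) Γ(X₁, UX) q ?_
  intro R _ _ _ _ hcomap n hn
  rw [hqR] at hcomap
  -- the local homomorphism `O → R`
  let φ : (O : Type u) →+* R := (algebraMap Γ(Spec O, ⊤) R).comp eO.symm.toRingHom
  haveI hlocA : IsLocalHom (algebraMap Γ(Spec O, ⊤) R) := by
    refine ⟨fun a ha => ?_⟩
    by_contra hu
    have hm : a ∈ IsLocalRing.maximalIdeal Γ(Spec O, ⊤) := (IsLocalRing.mem_maximalIdeal a).mpr hu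
    rw [← hcomap, Ideal.mem_comap] at hm
    exact ((IsLocalRing.mem_maximalIdeal _).mp hm) ha
  haveI hlocφ : IsLocalHom φ := RingHom.isLocalHom_comp _ _
  have hφ : ∀ a : Γ(Spec O, ⊤), φ (eO a) = algebraMap Γ(Spec O, ⊤) R a := by
    intro a
    show algebraMap Γ(Spec O, ⊤) R (eO.symm (eO a)) = _
    rw [eO.symm_apply_apply]
  -- the Artinian test ring
  let Tq : Type u := R ⧸ (IsLocalRing.maximalIdeal R) ^ n
  let π : CommRingCat.of R ⟶ CommRingCat.of Tq :=
    CommRingCat.ofHom (Ideal.Quotient.mk ((IsLocalRing.maximalIdeal R) ^ n))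
  let ψ₀ : O ⟶ CommRingCat.of R := CommRingCat.ofHom φ
  let ψ : O ⟶ CommRingCat.of Tq := ψ₀ ≫ π
  let T : Type u := Γ(Spec (CommRingCat.of Tq), ⊤)
  let eT : T ≃+* Tq := (Scheme.ΓSpecIso (CommRingCat.of Tq)).commRingCatIsoToRingEquiv
  letI algT : Algebra Γ(Spec O, ⊤) T := ((Spec.map ψ).appLE ⊤ ⊤ le_top).hom.toAlgebra
  have hmapT : ∀ (a : Γ(Spec O, ⊤)), eT (algebraMap Γ(Spec O, ⊤) T a) =
      Ideal.Quotient.mk ((IsLocalRing.maximalIdeal R) ^ n) (φ (eO a)) := by
    intro a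
    exact ΓSpecIso_appLE_top ψ a
  have hkerT : ∀ (a : Γ(Spec O, ⊤)), a ∈ RingHom.ker (algebraMap Γ(Spec O, ⊤) T) ↔
      φ (eO a) ∈ (IsLocalRing.maximalIdeal R) ^ n := by
    intro a
    rw [RingHom.mem_ker, ← (map_eq_zero_iff eT eT.injective), hmapT,
      Ideal.Quotient.eq_zero_iff_mem]
  have hne : (IsLocalRing.maximalIdeal R) ^ n ≠ ⊤ := by
    intro h
    have h1 : (IsLocalRing.maximalIdeal R) ^ n ≤ IsLocalRing.maximalIdeal R :=
      Ideal.pow_le_self hn.ne'
    rw [h] at h1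
    exact (IsLocalRing.maximalIdeal.isMaximal R).ne_top (top_le_iff.1 h1)
  haveI : Nontrivial Tq := Ideal.Quotient.nontrivial_iff.2 hne
  haveI : IsLocalRing Tq :=
    IsLocalRing.of_surjective' (Ideal.Quotient.mk _) Ideal.Quotient.mk_surjective
  haveI : IsLocalRing T := eT.symm.isLocalRing
  have hUT : IsAffineOpen (⊤ : (Spec (CommRingCat.of Tq)).Opens) := isAffineOpen_top _
  have hUST : (⊤ : (Spec (CommRingCat.of Tq)).Opens) ≤ (Spec.map ψ) ⁻¹ᵁ ⊤ := le_top
  set K := RingHom.ker (algebraMap Γ(Spec O, ⊤) T) with hK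
  have hKne : K ≠ ⊤ := RingHom.ker_ne_top _
  haveI : Nontrivial (Γ(Spec O, ⊤) ⧸ K) := Ideal.Quotient.nontrivial_iff.2 hKne
  haveI : IsLocalRing (Γ(Spec O, ⊤) ⧸ K) :=
    IsLocalRing.of_surjective' (Ideal.Quotient.mk K) Ideal.Quotient.mk_surjective
  have hnil : IsNilpotent (IsLocalRing.maximalIdeal (Γ(Spec O, ⊤) ⧸ K)) := by
    refine isNilpotent_maximalIdeal_quotient K n (fun a ha => ?_)
    rw [hK, hkerT]
    have h1 : (IsLocalRing.maximalIdeal Γ(Spec O, ⊤)).map (φ.comp eO.toRingHom) ≤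
        IsLocalRing.maximalIdeal R := IsLocalRing.map_maximalIdeal_le _
    have h2 := Ideal.mem_map_of_mem (φ.comp eO.toRingHom) ha
    rw [Ideal.map_pow] at h2
    exact Ideal.pow_right_mono h1 _ h2
  letI algKT : Algebra (Γ(Spec O, ⊤) ⧸ K) T :=
    (Ideal.Quotient.lift K (algebraMap Γ(Spec O, ⊤) T) (fun a ha => ha)).toAlgebra
  haveI : IsScalarTower Γ(Spec O, ⊤) (Γ(Spec O, ⊤) ⧸ K) T :=
    IsScalarTower.of_algebraMap_eq (fun _ => rfl)
  have key : Module.Flat T (T ⊗[Γ(Spec O, ⊤)] LocalizedModule q.primeCompl Γ(X₁, UX)) := by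
    refine flat_tensor_localized_of_forall_flat_stalkMap' f₁ (Spec.map ψ) hUX hUS hUT hUSX
      hUST (Rbar := Γ(Spec O, ⊤) ⧸ K) hnil Ideal.Quotient.mk_surjective x₁ hxUX rfl rfl ?_
    intro x' h1 hx' h2
    have hcl : pullback.snd f₁ (Spec.map ψ) x' = IsLocalRing.closedPoint Tq :=
      (primeIdealOf_top_eq_maximalIdeal_iff (R := CommRingCat.of Tq) _).1 h2
    have hψ : Spec.map ψ = Spec.map π ≫ Spec.map ψ₀ := Spec.map_comp _ _
    have key' : ∀ (g' : Spec (CommRingCat.of Tq) ⟶ Spec O),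
        g' = Spec.map π ≫ Spec.map ψ₀ → ∀ x' : ↥(pullback f₁ g'),
        pullback.fst f₁ g' x' = x₁ → pullback.snd f₁ g' x' = IsLocalRing.closedPoint Tq →
        ((pullback.snd f₁ g').stalkMap x').hom.Flat := by
      rintro g' rfl x' h1 h2
      apply flat_stalkMap_pullback_comp f₁ (Spec.map ψ₀) (Spec.map π) x'
      have hk1 : pullback.map f₁ (Spec.map π ≫ Spec.map ψ₀) f₁ (Spec.map ψ₀) (𝟙 X₁)
          (Spec.map π) (𝟙 _) (by simp) (by simp) ≫ pullback.fst f₁ (Spec.map ψ₀) =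
          pullback.fst f₁ (Spec.map π ≫ Spec.map ψ₀) :=
        (pullback.lift_fst _ _ _).trans (Category.comp_id _)
      have hk2 : pullback.map f₁ (Spec.map π ≫ Spec.map ψ₀) f₁ (Spec.map ψ₀) (𝟙 X₁)
          (Spec.map π) (𝟙 _) (by simp) (by simp) ≫ pullback.snd f₁ (Spec.map ψ₀) =
          pullback.snd f₁ (Spec.map π ≫ Spec.map ψ₀) ≫ Spec.map π :=
        pullback.lift_snd _ _ _
      apply hflat R φ
      · rw [← Scheme.Hom.comp_apply, hk1]
        exact h1
      · rw [← Scheme.Hom.comp_apply, hk2, Scheme.Hom.comp_apply, h2]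
        haveI : IsLocalHom π.hom :=
          IsLocalHom.of_surjective _ Ideal.Quotient.mk_surjective
        exact Spec_closedPoint
    exact key' _ hψ x' h1 hcl
  haveI := key
  refine flat_tensor_of_ringEquiv (A := Γ(Spec O, ⊤)) (T := T) (T' := Tq) eT (fun a => ?_)
  rw [hmapT, hφ]
  rfl

end Groth.Agent.Lib.Helper7.FlatChart
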