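import Mathlib
import Groth.Agent.Lib.lead.ValFlatF

/-!
# Valuative criterion of flatness, weak (Artinian-level) hypothesis (helper7)

Copies of the lead's `ValFlatB/C/F` chain in which the hypothesis "`R ⊗ N` is flat over the discrete
valuation ring `R`" is replaced by "`(R/𝔪ⁿ) ⊗ N` is flat over `R/𝔪ⁿ` for all `n > 0`".  The latter
can be checked at the points over the closed point only (one-fibre test over an Artinian base).
-/

set_option autoImplicit false
set_option linter.style.haveILetI false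
set_option linter.unusedSectionVars false
universe u
open TensorProduct

namespace Groth.Agent.Lib.Helper7.ValFlatWeak

open Groth.Agent.Lib.lead.ValFlatA Groth.Agent.Lib.lead.ValFlatB Groth.Agent.Lib.lead.ValFlatC
  Groth.Agent.Lib.lead.ValFlatD Groth.Agent.Lib.lead.ValFlatE Groth.Agent.Lib.lead.ValFlatF
open Groth.Agent.Lib.Helper7.FlatIdealComplete

attribute [local instance] Algebra.TensorProduct.rightAlgebra

open Groth.Agent.Lib.Helper7.FlatIdealComplete in
/-- the flatness property holds modulo the contraction of `𝔪_R^n`, for a discrete valuation ring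
`R` over `C` on which the module becomes flat. -/
theorem flatProp_comap_pow_art (C S : Type u) [CommRing C] [IsLocalRing C] [IsNoetherianRing C]
    [CommRing S] [Algebra C S] [IsNoetherianRing S]
    (M' : Type u) [AddCommGroup M'] [Module S M'] [Module C M'] [IsScalarTower C S M']
    [Module.Finite S M']
    (R : Type u) [CommRing R] [IsDomain R] [IsDiscreteValuationRing R] [Algebra C R]
    [IsLocalHom (algebraMap C R)] (n : ℕ) (hn : 0 < n)
    [Module.Flat (R ⧸ IsLocalRing.maximalIdeal R ^ n)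
      ((R ⧸ IsLocalRing.maximalIdeal R ^ n) ⊗[C] M')] :
    FlatProp C S M' ((IsLocalRing.maximalIdeal R ^ n).comap (algebraMap C R)) := by
  intro Q _ hQ
  set J : Ideal C := (IsLocalRing.maximalIdeal R ^ n).comap (algebraMap C R) with hJ
  let A' := R ⧸ IsLocalRing.maximalIdeal R ^ n
  let ψ : C ⧸ J →+* A' := Ideal.quotientMap (IsLocalRing.maximalIdeal R ^ n) (algebraMap C R) le_rfl
  letI : Algebra (C ⧸ J) A' := ψ.toAlgebra
  haveI : IsScalarTower C (C ⧸ J) A' := IsScalarTower.of_algebraMap_eq (fun x => rfl)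
  have hinj : Function.Injective (algebraMap (C ⧸ J) A') := Ideal.quotientMap_injective
  have hmC : ∀ c ∈ IsLocalRing.maximalIdeal C, algebraMap C R c ∈ IsLocalRing.maximalIdeal R := by
    intro c hc
    rw [IsLocalRing.mem_maximalIdeal, mem_nonunits_iff] at hc ⊢
    exact fun hu => hc (isUnit_of_map_unit (algebraMap C R) c hu)
  have hJle : J ≤ IsLocalRing.maximalIdeal C := by
    intro c hc
    rw [IsLocalRing.mem_maximalIdeal, mem_nonunits_iff]
    intro hu
    have h1 : algebraMap C R c ∈ IsLocalRing.maximalIdeal R ^ n := hc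
    have h2 : algebraMap C R c ∈ IsLocalRing.maximalIdeal R :=
      Ideal.pow_le_self (Nat.pos_iff_ne_zero.mp hn) h1
    exact (IsLocalRing.mem_maximalIdeal _).mp h2 (hu.map _)
  have hpow : IsLocalRing.maximalIdeal C ^ n ≤ J := by
    rw [hJ, ← Ideal.map_le_iff_le_comap, Ideal.map_pow]
    apply Ideal.pow_right_mono
    rw [Ideal.map_le_iff_le_comap]
    exact hmC
  let 𝔫 : Ideal (C ⧸ J) := (IsLocalRing.maximalIdeal C).map (Ideal.Quotient.mk J)
  haveI h𝔫 : 𝔫.IsMaximal := by
    rcases Ideal.map_eq_top_or_isMaximal_of_surjective (Ideal.Quotient.mk J)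
      Ideal.Quotient.mk_surjective (IsLocalRing.maximalIdeal.isMaximal C) with h | h
    · exfalso
      have h1 : (1 : C ⧸ J) ∈ (IsLocalRing.maximalIdeal C).map (Ideal.Quotient.mk J) := by
        rw [h]; trivial
      obtain ⟨c, hc, hc1⟩ := (Ideal.mem_map_iff_of_surjective (Ideal.Quotient.mk J)
        Ideal.Quotient.mk_surjective).mp h1
      have h2 : c - 1 ∈ J := by
        rw [← Ideal.Quotient.eq_zero_iff_mem, map_sub, hc1, map_one, sub_self]
      have h3 : (1 : C) ∈ IsLocalRing.maximalIdeal C := by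
        have := sub_mem hc (hJle h2)
        simpa using this
      exact (IsLocalRing.maximalIdeal.isMaximal C).ne_top
        ((Ideal.eq_top_iff_one _).mpr h3)
    · exact h
  have hnil : IsNilpotent 𝔫 := by
    refine ⟨n, ?_⟩
    rw [Ideal.zero_eq_bot, ← Ideal.map_pow, eq_bot_iff, Ideal.map_le_iff_le_comap]
    intro c hc
    rw [Ideal.mem_comap, Ideal.mem_bot, Ideal.Quotient.eq_zero_iff_mem]
    exact hpow hc
  -- flatness over `A'`
  haveI h1 : Module.Flat A' (A' ⊗[C] M') := inferInstance
  haveI h2 : Module.Flat A' (A' ⊗[C] LocalizedModule Q.primeCompl M') :=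
    Groth.Agent.Lib.Helper21.FlatDesc.flat_baseChange_of_isLocalizedModule (A := C) (B := S)
      (F := M') Q.primeCompl (LocalizedModule.mkLinearMap Q.primeCompl M')
  haveI h3 : Module.Flat A' (A' ⊗[C ⧸ J] ((C ⧸ J) ⊗[C] LocalizedModule Q.primeCompl M')) :=
    Module.Flat.of_linearEquiv (AlgebraTensorModule.cancelBaseChange C (C ⧸ J) A' A'
      (LocalizedModule Q.primeCompl M'))
  exact flat_of_injective_of_nilpotent hinj 𝔫 hnil _

open Groth.Agent.Lib.Helper7.FlatIdealComplete in
/-- the smallest flattening ideal lies in the kernel of `C → R`. -/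
theorem le_ker_of_forall_art (C S : Type u) [CommRing C] [IsLocalRing C] [IsNoetherianRing C]
    [CommRing S] [Algebra C S] [IsNoetherianRing S]
    (M' : Type u) [AddCommGroup M'] [Module S M'] [Module C M'] [IsScalarTower C S M']
    [Module.Finite S M']
    (R : Type u) [CommRing R] [IsDomain R] [IsDiscreteValuationRing R] [Algebra C R]
    [IsLocalHom (algebraMap C R)]
    (hR : ∀ n : ℕ, 0 < n → Module.Flat (R ⧸ IsLocalRing.maximalIdeal R ^ n)
      ((R ⧸ IsLocalRing.maximalIdeal R ^ n) ⊗[C] M')) (I : Ideal C)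
    (hmin : ∀ J : Ideal C, FlatProp C S M' J → I ≤ J) :
    I ≤ RingHom.ker (algebraMap C R) := by
  intro c hc
  rw [RingHom.mem_ker]
  have h1 : algebraMap C R c ∈ ⨅ n : ℕ, IsLocalRing.maximalIdeal R ^ n := by
    rw [Ideal.mem_iInf]
    intro n
    rcases Nat.eq_zero_or_pos n with rfl | hn
    · rw [pow_zero, Ideal.one_eq_top]; trivial
    · haveI := hR n hn
      exact hmin _ (flatProp_comap_pow_art C S M' R n hn) hc
  rw [Ideal.iInf_pow_eq_bot_of_isLocalRing _ Ideal.IsPrime.ne_top'] at h1
  exact h1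


section Vloc

variable (A C S₀ S : Type u) [CommRing A] [IsLocalRing A] [IsNoetherianRing A]
  [CommRing C] [IsLocalRing C] [IsNoetherianRing C]
  [IsAdicComplete (IsLocalRing.maximalIdeal C) C]
  [Algebra A C] [Module.FaithfullyFlat A C]
  [CommRing S₀] [IsLocalRing S₀] [Algebra A S₀] [IsLocalHom (algebraMap A S₀)]
  [CommRing S] [IsNoetherianRing S] [Algebra A S] [Algebra C S] [Algebra S₀ S]
  [IsScalarTower A C S] [IsScalarTower A S₀ S] [Algebra.IsPushout A C S₀ S]
  (N : Type u) [AddCommGroup N] [Module A N] [Module S₀ N] [IsScalarTower A S₀ N]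
  [Module.Finite S₀ N]

include A in
/-- Step 3: the smallest flattening ideal is nilpotent. -/
theorem exists_nilpotent_flatProp_art
    (hdvr : ∀ (R : Type u) [CommRing R] [IsDomain R] [IsDiscreteValuationRing R] [Algebra A R]
      [IsLocalHom (algebraMap A R)] (n : ℕ), 0 < n →
      Module.Flat (R ⧸ IsLocalRing.maximalIdeal R ^ n)
        ((R ⧸ IsLocalRing.maximalIdeal R ^ n) ⊗[A] N)) :
    ∃ (I : Ideal C) (n : ℕ), I ^ (n + 1) = ⊥ ∧ FlatProp C S (S ⊗[S₀] N) I := by
  obtain ⟨I, hIm, hIflat, hImin⟩ := main C S (S ⊗[S₀] N)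
  have hprime : ∀ P : Ideal C, P.IsPrime → I ≤ P := by
    intro P hPp
    by_cases hP : P = IsLocalRing.maximalIdeal C
    · rw [hP]; exact hIm
    · obtain ⟨R, _, _, _, φ, hloc, hker⟩ := exists_dvr_ker_eq C P hP
      letI : Algebra C R := φ.toAlgebra
      letI : Algebra A R := (φ.comp (algebraMap A C)).toAlgebra
      haveI : IsScalarTower A C R := IsScalarTower.of_algebraMap_eq (fun x => rfl)
      haveI : IsLocalHom (algebraMap C R) := hloc
      haveI : IsLocalHom (algebraMap A R) := by
        change IsLocalHom (φ.comp (algebraMap A C))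
        exact RingHom.isLocalHom_comp _ _
      have hRn : ∀ n : ℕ, 0 < n → Module.Flat (R ⧸ IsLocalRing.maximalIdeal R ^ n)
          ((R ⧸ IsLocalRing.maximalIdeal R ^ n) ⊗[C] (S ⊗[S₀] N)) := by
        intro n hn
        haveI := hdvr R n hn
        let T := R ⧸ IsLocalRing.maximalIdeal R ^ n
        haveI : IsScalarTower A C T := IsScalarTower.of_algebraMap_eq (fun x => rfl)
        let e0 : S ⊗[S₀] N ≃ₗ[C] C ⊗[A] N := Algebra.IsPushout.cancelBaseChange A C S₀ S N
        let e1 : T ⊗[C] (S ⊗[S₀] N) ≃ₗ[T] T ⊗[C] (C ⊗[A] N) :=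
          AlgebraTensorModule.congr (LinearEquiv.refl T T) e0
        let e2 : T ⊗[C] (C ⊗[A] N) ≃ₗ[T] T ⊗[A] N :=
          AlgebraTensorModule.cancelBaseChange A C T T N
        exact Module.Flat.of_linearEquiv (e1 ≪≫ₗ e2)
      have := le_ker_of_forall_art C S (S ⊗[S₀] N) R hRn I hImin
      change I ≤ RingHom.ker φ at this
      rwa [hker] at this
  have hnil : I ≤ nilradical C := by
    rw [nilradical_eq_sInf]
    exact le_sInf fun P hP => hprime P hP
  have h1 : IsNilpotent (nilradical C) := IsNoetherianRing.isNilpotent_nilradical C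
  obtain ⟨n, hn⟩ := h1
  refine ⟨I, n, ?_, hIflat⟩
  rw [eq_bot_iff, ← Ideal.zero_eq_bot, ← hn]
  exact (Ideal.pow_le_pow_right (Nat.le_succ n)).trans (Ideal.pow_right_mono hnil n)

include C S S₀ in
/-- **Valuative criterion, local form.** -/
theorem vloc_art
    (hmax : IsLocalRing.maximalIdeal C = (IsLocalRing.maximalIdeal A).map (algebraMap A C))
    (f : A) (hf : f ∈ nonZeroDivisors A) (hT : TorsCond A N f)
    (hdvr : ∀ (R : Type u) [CommRing R] [IsDomain R] [IsDiscreteValuationRing R] [Algebra A R]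
      [IsLocalHom (algebraMap A R)] (n : ℕ), 0 < n →
      Module.Flat (R ⧸ IsLocalRing.maximalIdeal R ^ n)
        ((R ⧸ IsLocalRing.maximalIdeal R ^ n) ⊗[A] N)) : Module.Flat A N := by
  obtain ⟨I, n, hIn, hIflat⟩ := exists_nilpotent_flatProp_art A C S₀ S N hdvr
  -- `S₀ → S` is faithfully flat
  haveI hsymm : Algebra.IsPushout A S₀ C S := Algebra.IsPushout.symm inferInstance
  haveI hff : Module.FaithfullyFlat S₀ S :=
    Module.FaithfullyFlat.of_linearEquiv S₀ (S₀ ⊗[A] C)
      (Algebra.IsPushout.equiv A S₀ C S).toLinearEquiv.symm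
  obtain ⟨Q₀, hQ₀p, hQ₀⟩ :=
    Ideal.exists_isPrime_liesOver_of_faithfullyFlat (B := S) (IsLocalRing.maximalIdeal S₀)
  -- `Q₀` lies over the maximal ideal of `C`
  have hQ₀C : Q₀.comap (algebraMap C S) = IsLocalRing.maximalIdeal C := by
    symm
    apply (IsLocalRing.maximalIdeal.isMaximal C).eq_of_le (Ideal.comap_ne_top _ hQ₀p.ne_top)
    rw [hmax, Ideal.map_le_iff_le_comap]
    intro a ha
    rw [Ideal.mem_comap, Ideal.mem_comap, ← IsScalarTower.algebraMap_apply,
      IsScalarTower.algebraMap_apply A S₀ S, ← Ideal.mem_comap]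
    have hover : IsLocalRing.maximalIdeal S₀ = Q₀.comap (algebraMap S₀ S) := hQ₀.over
    rw [← hover]
    rw [IsLocalRing.mem_maximalIdeal, mem_nonunits_iff] at ha ⊢
    exact fun hu => ha (isUnit_of_map_unit (algebraMap A S₀) a hu)
  set X := LocalizedModule Q₀.primeCompl (S ⊗[S₀] N) with hX
  haveI hflatI : Module.Flat (C ⧸ I) ((C ⧸ I) ⊗[C] X) := hIflat Q₀ hQ₀C
  -- the torsion condition
  have hf' : algebraMap A C f ∈ nonZeroDivisors C := algebraMap_mem_nonZeroDivisors_of_flat f hf
  have hT1 : TorsCond C (C ⊗[A] N) (algebraMap A C f) := torsCond_baseChange f N hT C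
  have hT2 : TorsCond C (S ⊗[S₀] N) (algebraMap A C f) :=
    torsCond_of_linearEquiv _ (Algebra.IsPushout.cancelBaseChange A C S₀ S N).symm hT1
  have hT3 : TorsCond C X (algebraMap A C f) :=
    torsCond_of_isLocalizedModule _ Q₀.primeCompl
      (LocalizedModule.mkLinearMap Q₀.primeCompl (S ⊗[S₀] N)) hT2
  haveI hXC : Module.Flat C X :=
    flat_of_nilpotent_of_torsCond n C (algebraMap A C f) hf' I hIn X hT3
  haveI hXA : Module.Flat A X := Module.Flat.trans A C X
  -- descend along `S₀ → S_{Q₀}`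
  let T := Localization.AtPrime Q₀
  haveI : Module.Flat S₀ S := inferInstance
  haveI : Module.Flat S₀ T := Module.Flat.trans S₀ S T
  haveI : IsLocalHom (algebraMap S₀ T) := by
    constructor
    intro s hs
    by_contra hnu
    have h1 : s ∈ IsLocalRing.maximalIdeal S₀ := (IsLocalRing.mem_maximalIdeal s).mpr hnu
    have hover : IsLocalRing.maximalIdeal S₀ = Q₀.comap (algebraMap S₀ S) := hQ₀.over
    rw [hover, Ideal.mem_comap] at h1
    have h2 : algebraMap S T (algebraMap S₀ S s) ∈ IsLocalRing.maximalIdeal T :=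
      (IsLocalization.AtPrime.to_map_mem_maximal_iff T Q₀ _).2 h1
    rw [← IsScalarTower.algebraMap_apply] at h2
    exact (IsLocalRing.mem_maximalIdeal _).mp h2 hs
  haveI : Module.FaithfullyFlat S₀ T := Module.FaithfullyFlat.of_flat_of_isLocalHom
  let e1 : T ⊗[S] (S ⊗[S₀] N) ≃ₗ[T] X :=
    (IsLocalizedModule.isBaseChange Q₀.primeCompl T
      (LocalizedModule.mkLinearMap Q₀.primeCompl (S ⊗[S₀] N))).equiv
  let e2 : T ⊗[S] (S ⊗[S₀] N) ≃ₗ[T] T ⊗[S₀] N :=
    AlgebraTensorModule.cancelBaseChange S₀ S T T N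
  let e : X ≃ₗ[A] T ⊗[S₀] N := ((e1.symm ≪≫ₗ e2).restrictScalars S).restrictScalars A
  haveI : Module.Flat A (T ⊗[S₀] N) := Module.Flat.of_linearEquiv e.symm
  exact flat_of_flat_tensor_of_faithfullyFlat A S₀ T N

end Vloc

section

variable {A B : Type u} [CommRing A] [CommRing B] [Algebra A B]
  (M : Type u) [AddCommGroup M] [Module B M] [Module A M] [IsScalarTower A B M]

/-- the valuative criterion at a prime `q` of `B`, assuming only that the local ring of the base at
`q ∩ A` is reduced, and testing only discrete valuation rings centred at `q ∩ A`. -/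
theorem flat_localized_of_forall_dvr_art [IsNoetherianRing A] [Algebra.FiniteType A B]
    [Module.Finite B M] (q : Ideal B) [q.IsPrime]
    [IsReduced (Localization.AtPrime (q.comap (algebraMap A B)))]
    (H : ∀ (R : Type u) [CommRing R] [IsDomain R] [IsDiscreteValuationRing R] [Algebra A R],
      (IsLocalRing.maximalIdeal R).comap (algebraMap A R) = q.comap (algebraMap A B) →
      ∀ n : ℕ, 0 < n → Module.Flat (R ⧸ IsLocalRing.maximalIdeal R ^ n)
        ((R ⧸ IsLocalRing.maximalIdeal R ^ n) ⊗[A] LocalizedModule q.primeCompl M)) :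
    Module.Flat A (LocalizedModule q.primeCompl M) := by
  set p := q.comap (algebraMap A B) with hp
  let Ap := Localization.AtPrime p
  let Bq := Localization.AtPrime q
  let N := LocalizedModule q.primeCompl M
  letI := locAlgebra p q rfl
  haveI := locAlgebra_tower p q rfl
  letI := locModule M p q rfl
  haveI := locModule_tower M p q rfl
  haveI := locModule_tower' M p q rfl
  haveI : IsLocalHom (algebraMap Ap Bq) :=
    Localization.isLocalHom_localRingHom p q (algebraMap A B) rfl
  let C := AdicCompletion (IsLocalRing.maximalIdeal Ap) Ap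
  haveI : IsNoetherianRing C := Groth.Agent.Lib.Helper12.AnUnram.isNoetherianRing_cpl Ap
  haveI : Module.FaithfullyFlat Ap C := Groth.Agent.Lib.Helper12.AnUnram.faithfullyFlat_cpl Ap
  haveI : Algebra.EssFiniteType A Bq := Algebra.EssFiniteType.comp A B Bq
  haveI : Algebra.EssFiniteType Ap Bq := Algebra.EssFiniteType.of_comp A Ap Bq
  haveI : IsNoetherianRing (C ⊗[Ap] Bq) := Algebra.EssFiniteType.isNoetherianRing C (C ⊗[Ap] Bq)
  haveI : Module.Finite Bq N := Module.Finite.of_isLocalizedModule q.primeCompl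
    (LocalizedModule.mkLinearMap q.primeCompl M)
  obtain ⟨f, hf, hflat⟩ := exists_forall_flat' (A := A) (B := B) M p
  have hT0 : TorsCond A M f := torsCond_of_forall_flat M f hflat
  have hT1 : TorsCond A N f :=
    torsCond_of_isLocalizedModule f q.primeCompl (LocalizedModule.mkLinearMap q.primeCompl M) hT0
  have hT2 : TorsCond Ap (Ap ⊗[A] N) (algebraMap A Ap f) := torsCond_baseChange f N hT1 Ap
  have hT3 : TorsCond Ap N (algebraMap A Ap f) :=
    torsCond_of_linearEquiv _ (selfBaseChange A p N) hT2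
  have hf' : algebraMap A Ap f ∈ nonZeroDivisors Ap :=
    algebraMap_mem_nonZeroDivisors_of_notMem p f hf
  have key : Module.Flat Ap N := by
    refine vloc_art Ap C Bq (C ⊗[Ap] Bq) N AdicCompletion.maximalIdeal_eq_map _ hf' hT3 ?_
    intro R _ _ _ _ _ n hn
    letI : Algebra A R := ((algebraMap Ap R).comp (algebraMap A Ap)).toAlgebra
    haveI : IsScalarTower A Ap R := IsScalarTower.of_algebraMap_eq (fun _ => rfl)
    have hcomap : (IsLocalRing.maximalIdeal R).comap (algebraMap A R) = p := by
      have h1 : (IsLocalRing.maximalIdeal R).comap (algebraMap Ap R) =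
          IsLocalRing.maximalIdeal Ap := by
        ext z
        rw [Ideal.mem_comap, IsLocalRing.mem_maximalIdeal, IsLocalRing.mem_maximalIdeal,
          mem_nonunits_iff, mem_nonunits_iff]
        exact ⟨fun h hu => h (hu.map _), fun h hu => h (isUnit_of_map_unit _ z hu)⟩
      have h2 : algebraMap A R = (algebraMap Ap R).comp (algebraMap A Ap) := rfl
      rw [h2, ← Ideal.comap_comap, h1]
      exact IsLocalization.AtPrime.under_maximalIdeal Ap p
    let T := R ⧸ IsLocalRing.maximalIdeal R ^ n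
    haveI : Module.Flat T (T ⊗[A] N) := H R hcomap n hn
    haveI : IsScalarTower A Ap T := IsScalarTower.of_algebraMap_eq (fun _ => rfl)
    let e1 : T ⊗[Ap] (Ap ⊗[A] N) ≃ₗ[T] T ⊗[Ap] N :=
      AlgebraTensorModule.congr (LinearEquiv.refl T T) (selfBaseChange A p N)
    let e2 : T ⊗[Ap] (Ap ⊗[A] N) ≃ₗ[T] T ⊗[A] N :=
      AlgebraTensorModule.cancelBaseChange A Ap T T N
    exact Module.Flat.of_linearEquiv (e1.symm ≪≫ₗ e2)
  exact (Module.flat_iff_of_isLocalization Ap p.primeCompl N).mp key

end

end Groth.Agent.Lib.Helper7.ValFlatWeak
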