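import Mathlib
import Groth.Agent.Lib.Helper7.ValFP
import Groth.Agent.Lib.Helper7.ZeroMEMain
import Groth.Agent.Lib.Helper2.FlatCrit

/-!
# Helper7 — ValZeroME: Stacks 00ME over a valuation ring for finite modules over a local ring
essentially of finite type (EGA IV 11.3.7 over a valuation ring)
-/

set_option autoImplicit false

namespace Groth.Agent.Lib.Helper7.ValZeroME

open Function IsLocalRing MvPolynomial

universe u

section Single

variable {A : Type*} [CommRing A] [IsDomain A] [ValuationRing A]

/-- over a valuation ring, an element of `I • ⊤` is a single product. -/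
theorem exists_smul_of_mem_smul_top {N : Type*} [AddCommGroup N] [Module A N] (I : Ideal A)
    {x : N} (hx : x ∈ I • (⊤ : Submodule A N)) : ∃ t ∈ I, ∃ n : N, x = t • n := by
  refine Submodule.smul_induction_on hx ?_ ?_
  · intro r hr n _
    exact ⟨r, hr, n, rfl⟩
  · rintro a b ⟨t, ht, n, rfl⟩ ⟨t', ht', n', rfl⟩
    rcases ValuationRing.dvd_total t t' with ⟨s, rfl⟩ | ⟨s, rfl⟩
    · exact ⟨t, ht, n + s • n', by rw [smul_add, mul_smul]⟩
    · exact ⟨t', ht', s • n + n', by rw [smul_add, mul_smul]⟩

end Single

section Main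

variable {A B : Type u} [CommRing A] [IsDomain A] [ValuationRing A] [CommRing B] [IsLocalRing B]
  [Algebra A B] [IsLocalHom (algebraMap A B)] [Algebra.EssFiniteType A B]
  {N M : Type u} [AddCommGroup N] [Module B N] [Module A N] [IsScalarTower A B N]
  [Module.Finite B N]
  [AddCommGroup M] [Module B M] [Module A M] [IsScalarTower A B M] [Module.Finite B M]
  [Module.Flat A M]

theorem torsionFree_of_flat (a : A) (m : M) (ha : a ≠ 0) (h : a • m = 0) : m = 0 := by
  have hreg : IsSMulRegular M a :=
    Module.Flat.isSMulRegular_of_nonZeroDivisors (mem_nonZeroDivisors_of_ne_zero ha)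
  exact hreg.right_eq_zero_of_smul h

set_option maxHeartbeats 800000 in
/-- injectivity. -/
theorem injective_of_injective_mod (u : N →ₗ[B] M)
    (hu : ∀ x : N, u x ∈ maximalIdeal A • (⊤ : Submodule A M) →
      x ∈ maximalIdeal A • (⊤ : Submodule A N)) : Injective u := by
  haveI : Module.Finite B (LinearMap.range u) := Module.Finite.range u
  haveI : Module.FinitePresentation B (LinearMap.range u) :=
    Groth.Agent.Lib.Helper7.ValFP.finitePresentation_of_torsionFree (A := A) (B := B)
      (LinearMap.range u) (by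
        intro a x ha hax
        apply Subtype.ext
        have h1 : a • (x : M) = 0 := congrArg Subtype.val hax
        exact torsionFree_of_flat a _ ha h1)
  have hQfg : (LinearMap.ker u).FG := by
    have := Module.FinitePresentation.fg_ker (R := B) (M := N) (N := LinearMap.range u)
      u.rangeRestrict u.surjective_rangeRestrict
    rwa [LinearMap.ker_rangeRestrict] at this
  have hle : LinearMap.ker u ≤ maximalIdeal B • LinearMap.ker u := by
    intro x hx
    have h0 : u x ∈ maximalIdeal A • (⊤ : Submodule A M) := by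
      rw [LinearMap.mem_ker.1 hx]
      exact zero_mem _
    obtain ⟨t, ht, n, rfl⟩ := exists_smul_of_mem_smul_top _ (hu x h0)
    by_cases ht0 : t = 0
    · rw [ht0, zero_smul]
      exact zero_mem _
    · have h1 : t • u n = 0 := by
        rw [← LinearMap.map_smul_of_tower]
        exact LinearMap.mem_ker.1 hx
      have h2 : n ∈ LinearMap.ker u := LinearMap.mem_ker.2 (torsionFree_of_flat t _ ht0 h1)
      rw [← algebraMap_smul B t n]
      refine Submodule.smul_mem_smul ?_ h2
      exact map_nonunit (algebraMap A B) t ht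
  rw [← LinearMap.ker_eq_bot]
  exact Submodule.eq_bot_of_le_smul_of_le_jacobson_bot (maximalIdeal B) _ hQfg hle
    (maximalIdeal_le_jacobson ⊥)

set_option maxHeartbeats 1600000 in
set_option synthInstance.maxHeartbeats 200000 in
/-- flatness of the cokernel. -/
theorem flat_coker_of_injective_mod (u : N →ₗ[B] M)
    (hu : ∀ x : N, u x ∈ maximalIdeal A • (⊤ : Submodule A M) →
      x ∈ maximalIdeal A • (⊤ : Submodule A N)) : Module.Flat A (M ⧸ LinearMap.range u) := by
  classical
  obtain ⟨σ, hσ⟩ := (Algebra.essFiniteType_iff A B).1 inferInstance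
  let g : MvPolynomial ↥(σ : Set B) A →ₐ[A] B := aeval (Subtype.val : ↥(σ : Set B) → B)
  have hrange : Algebra.adjoin A (σ : Set B) = g.range := Algebra.adjoin_eq_range A _
  let 𝔮 : Ideal (MvPolynomial ↥(σ : Set B) A) := (maximalIdeal B).comap g
  haveI h𝔮 : 𝔮.IsPrime := Ideal.comap_isPrime _ _
  have hunit : ∀ y : 𝔮.primeCompl, IsUnit (g.toRingHom y) := fun y => by
    have h1 : g y ∉ maximalIdeal B := y.2
    rwa [mem_maximalIdeal, mem_nonunits_iff, not_not] at h1
  letI aPB : Algebra (MvPolynomial ↥(σ : Set B) A) B := g.toRingHom.toAlgebra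
  letI aSB : Algebra (Localization.AtPrime 𝔮) B := (IsLocalization.lift hunit).toAlgebra
  haveI tPSB : IsScalarTower (MvPolynomial ↥(σ : Set B) A) (Localization.AtPrime 𝔮) B :=
    IsScalarTower.of_algebraMap_eq fun p => (IsLocalization.lift_eq hunit p).symm
  haveI tAPB : IsScalarTower A (MvPolynomial ↥(σ : Set B) A) B :=
    IsScalarTower.of_algebraMap_eq fun a => by
      show _ = g (algebraMap A _ a)
      rw [AlgHom.commutes]
  haveI tASB : IsScalarTower A (Localization.AtPrime 𝔮) B :=
    IsScalarTower.of_algebraMap_eq fun a => by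
      rw [IsScalarTower.algebraMap_apply A (MvPolynomial ↥(σ : Set B) A) (Localization.AtPrime 𝔮),
        ← IsScalarTower.algebraMap_apply (MvPolynomial ↥(σ : Set B) A) (Localization.AtPrime 𝔮) B,
        ← IsScalarTower.algebraMap_apply A (MvPolynomial ↥(σ : Set B) A) B]
  have hsurj : Surjective (algebraMap (Localization.AtPrime 𝔮) B) := by
    intro b
    obtain ⟨t, htT, htu, hbt⟩ := hσ b
    rw [hrange] at htT hbt
    obtain ⟨p', rfl⟩ := htT
    obtain ⟨p, hp⟩ := hbt
    have hp' : p' ∈ 𝔮.primeCompl := by
      show ¬ (g p' ∈ maximalIdeal B)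
      rw [mem_maximalIdeal, mem_nonunits_iff, not_not]
      exact htu
    refine ⟨IsLocalization.mk' (Localization.AtPrime 𝔮) p ⟨p', hp'⟩, ?_⟩
    show IsLocalization.lift hunit (IsLocalization.mk' _ p ⟨p', hp'⟩) = b
    rw [IsLocalization.lift_mk'_spec]
    exact hp.trans (mul_comm _ _)
  haveI hlocAS : IsLocalHom (algebraMap A (Localization.AtPrime 𝔮)) := ⟨fun a ha => by
    have h1 : IsUnit (algebraMap (Localization.AtPrime 𝔮) B (algebraMap A _ a)) := ha.map _
    rw [← IsScalarTower.algebraMap_apply] at h1
    exact isUnit_of_map_unit (algebraMap A B) a h1⟩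
  haveI hessS : Algebra.EssFiniteType A (Localization.AtPrime 𝔮) := by
    haveI : Algebra.EssFiniteType (MvPolynomial ↥(σ : Set B) A) (Localization.AtPrime 𝔮) :=
      Algebra.EssFiniteType.of_isLocalization (Localization.AtPrime 𝔮) 𝔮.primeCompl
    exact Algebra.EssFiniteType.comp A (MvPolynomial ↥(σ : Set B) A) (Localization.AtPrime 𝔮)
  haveI hfinSB : Module.Finite (Localization.AtPrime 𝔮) B :=
    Module.Finite.of_surjective (Algebra.linearMap (Localization.AtPrime 𝔮) B) hsurj
  -- module structures over `S`
  letI mSM : Module (Localization.AtPrime 𝔮) M :=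
    Module.compHom M (algebraMap (Localization.AtPrime 𝔮) B)
  haveI tSBM : IsScalarTower (Localization.AtPrime 𝔮) B M :=
    IsScalarTower.of_algebraMap_smul fun _ _ => rfl
  haveI tASM : IsScalarTower A (Localization.AtPrime 𝔮) M :=
    IsScalarTower.of_algebraMap_smul fun a x => by
      show algebraMap (Localization.AtPrime 𝔮) B (algebraMap A _ a) • x = a • x
      rw [← IsScalarTower.algebraMap_apply, algebraMap_smul]
  letI mSI : Module (Localization.AtPrime 𝔮) (LinearMap.range u) :=
    Module.compHom _ (algebraMap (Localization.AtPrime 𝔮) B)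
  haveI tSBI : IsScalarTower (Localization.AtPrime 𝔮) B (LinearMap.range u) :=
    IsScalarTower.of_algebraMap_smul fun _ _ => rfl
  haveI tASI : IsScalarTower A (Localization.AtPrime 𝔮) (LinearMap.range u) :=
    IsScalarTower.of_algebraMap_smul fun a x => by
      show algebraMap (Localization.AtPrime 𝔮) B (algebraMap A _ a) • x = a • x
      rw [← IsScalarTower.algebraMap_apply, algebraMap_smul]
  haveI : Module.Finite B (LinearMap.range u) := Module.Finite.range u
  haveI : Module.Finite (Localization.AtPrime 𝔮) M := Module.Finite.trans B M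
  haveI : Module.Finite (Localization.AtPrime 𝔮) (LinearMap.range u) :=
    Module.Finite.trans B (LinearMap.range u)
  haveI hfpM : Module.FinitePresentation (Localization.AtPrime 𝔮) M :=
    Groth.Agent.Lib.Helper7.ValFP.finitePresentation_of_torsionFree (A := A)
      (B := Localization.AtPrime 𝔮) M (fun a m ha h => torsionFree_of_flat a m ha h)
  haveI hfpI : Module.FinitePresentation (Localization.AtPrime 𝔮) (LinearMap.range u) :=
    Groth.Agent.Lib.Helper7.ValFP.finitePresentation_of_torsionFree (A := A)
      (B := Localization.AtPrime 𝔮) (LinearMap.range u) (by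
        intro a x ha hax
        apply Subtype.ext
        have h1 : a • (x : M) = 0 := congrArg Subtype.val hax
        exact torsionFree_of_flat a _ ha h1)
  let ι : LinearMap.range u →ₗ[Localization.AtPrime 𝔮] M :=
    { toFun := Subtype.val
      map_add' := fun _ _ => rfl
      map_smul' := fun _ _ => rfl }
  have hι : ∀ x : LinearMap.range u,
      ι x ∈ (maximalIdeal A).map (algebraMap A (Localization.AtPrime 𝔮)) •
        (⊤ : Submodule (Localization.AtPrime 𝔮) M) →
      x ∈ (maximalIdeal A).map (algebraMap A (Localization.AtPrime 𝔮)) •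
        (⊤ : Submodule (Localization.AtPrime 𝔮) (LinearMap.range u)) := by
    intro x hx
    have h1 : (x : M) ∈ maximalIdeal A • (⊤ : Submodule A M) :=
      Groth.Agent.Lib.Helper2.FlatCrit.mem_smul_top_of_mem_map_smul_top (maximalIdeal A) hx
    obtain ⟨n, hn⟩ := x.2
    have h2 : n ∈ maximalIdeal A • (⊤ : Submodule A N) := hu n (hn ▸ h1)
    have h3 : u.rangeRestrict n ∈ maximalIdeal A • (⊤ : Submodule A (LinearMap.range u)) := by
      refine Submodule.smul_induction_on h2 ?_ ?_
      · intro r hr y _
        rw [LinearMap.map_smul_of_tower]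
        exact Submodule.smul_mem_smul hr Submodule.mem_top
      · intro a b ha hb
        rw [map_add]
        exact add_mem ha hb
    have h4 : u.rangeRestrict n = x := Subtype.ext hn
    rw [h4] at h3
    exact Groth.Agent.Lib.Helper2.FlatCrit.mem_map_smul_top_of_mem_smul_top (maximalIdeal A) h3
  obtain ⟨-, hflat⟩ := Groth.Agent.Lib.Helper7.ZeroME.injective_and_flat_coker_essFP A
    (Localization.AtPrime 𝔮) (MvPolynomial ↥(σ : Set B) A) 𝔮.primeCompl (LinearMap.range u) M ι hι
  -- transfer
  rw [Module.Flat.flat_iff_torsion_eq_bot_of_isBezout, eq_bot_iff]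
  rintro x ⟨⟨a, ha⟩, hax⟩
  obtain ⟨y, rfl⟩ := Submodule.Quotient.mk_surjective _ x
  have ha0 : a ≠ 0 := nonZeroDivisors.ne_zero ha
  have h1 : a • y ∈ LinearMap.range u := by
    rw [← Submodule.Quotient.mk_eq_zero, Submodule.Quotient.mk_smul]
    exact hax
  have h2 : a • y ∈ LinearMap.range ι := ⟨⟨a • y, h1⟩, rfl⟩
  have hreg : IsSMulRegular (M ⧸ LinearMap.range ι) a :=
    Module.Flat.isSMulRegular_of_nonZeroDivisors ha
  have h3 : (Submodule.Quotient.mk y : M ⧸ LinearMap.range ι) = 0 := by
    apply hreg.right_eq_zero_of_smul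
    rw [← Submodule.Quotient.mk_smul]
    exact (Submodule.Quotient.mk_eq_zero _).2 h2
  obtain ⟨z, hz⟩ := (Submodule.Quotient.mk_eq_zero _).1 h3
  rw [Submodule.mem_bot]
  refine (Submodule.Quotient.mk_eq_zero _).2 ?_
  rw [← hz]
  exact z.2

end Main

end Groth.Agent.Lib.Helper7.ValZeroME
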