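import Groth.Agent.S0020
import Groth.Agent.Lib.Helper2.CechGeoA4
import Groth.Agent.Lib.Helper6.SheafCoh
import Groth.Agent.Lib.Helper28.QCohGlobal

/-!
# Modules with zero-dimensional support on a locally Noetherian scheme are flasque
-/

set_option autoImplicit false

universe u

open CategoryTheory CategoryTheory.Limits AlgebraicGeometry Opposite TopologicalSpace

namespace Groth.Agent.Lib.Helper7.ZeroDimSupport

open Groth.Agent.Lib.Helper28.QCohLoc

section top

variable {X : Scheme.{u}} [IsLocallyNoetherian X]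

/-- a closed set of closed points meets every affine open in a finite set -/
theorem finite_preimage (Z : Set X) (hZ : IsClosed Z) (h0 : ∀ x ∈ Z, IsClosed ({x} : Set X))
    (W : X.affineOpens) : (Subtype.val ⁻¹' Z : Set {x : X // x ∈ W.1}).Finite := by
  haveI : IsNoetherianRing Γ(X, W.1) := IsLocallyNoetherian.component_noetherian W
  haveI : NoetherianSpace {x : X // x ∈ W.1} := noetherianSpace_of_isAffineOpen W.1 W.2
  haveI : QuasiSober {x : X // x ∈ W.1} :=
    inferInstanceAs (QuasiSober (W.1 : Scheme.{u}))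
  have hcl : IsClosed (Subtype.val ⁻¹' Z : Set {x : X // x ∈ W.1}) :=
    hZ.preimage continuous_subtype_val
  obtain ⟨S, hSfin, hScl, hSirr, hS⟩ := NoetherianSpace.exists_finite_set_isClosed_irreducible hcl
  have hsing : ∀ t ∈ S, (t : Set {x : X // x ∈ W.1}).Finite := by
    intro t ht
    obtain ⟨x, hx⟩ := QuasiSober.sober (hSirr t ht) (hScl t ht)
    have hxt : x ∈ t := hx.mem
    have hxZ : (x : X) ∈ Z := by
      have h1 : t ⊆ (Subtype.val ⁻¹' Z : Set {x : X // x ∈ W.1}) := by
        rw [hS]
        exact Set.subset_sUnion_of_mem ht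
      exact h1 hxt
    have hclx : IsClosed ({x} : Set {x : X // x ∈ W.1}) := by
      have h2 := (h0 _ hxZ).preimage
        (continuous_subtype_val (p := fun y => y ∈ W.1))
      convert h2 using 1
      ext y
      exact ⟨fun h => congrArg Subtype.val h, fun h => Subtype.ext h⟩
    rw [← hx.def, hclx.closure_eq]
    exact Set.finite_singleton x
  rw [hS]
  exact hSfin.sUnion hsing

/-- every subset of a closed set of closed points is closed -/
theorem isClosed_of_subset (Z : Set X) (hZ : IsClosed Z) (h0 : ∀ x ∈ Z, IsClosed ({x} : Set X))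
    (T : Set X) (hT : T ⊆ Z) : IsClosed T := by
  have hcov : TopologicalSpace.IsOpenCover (fun W : X.affineOpens => (W.1 : Opens X)) :=
    iSup_affineOpens_eq_top X
  rw [hcov.isClosed_iff_coe_preimage]
  intro W
  have hfin : (Subtype.val ⁻¹' T : Set {x : X // x ∈ W.1}).Finite :=
    (finite_preimage Z hZ h0 W).subset (Set.preimage_mono hT)
  have h1 : (Subtype.val ⁻¹' T : Set {x : X // x ∈ W.1}) =
      ⋃ x ∈ (Subtype.val ⁻¹' T : Set {x : X // x ∈ W.1}), {x} := by
    ext y
    simp
  change IsClosed (Subtype.val ⁻¹' T : Set {x : X // x ∈ W.1})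
  rw [h1]
  refine hfin.isClosed_biUnion (fun x hx => ?_)
  have h2 := (h0 _ (hT hx)).preimage
    (continuous_subtype_val (p := fun y => y ∈ W.1))
  convert h2 using 1
  ext y
  exact ⟨fun h => congrArg Subtype.val h, fun h => Subtype.ext h⟩

end top

section sheaf

variable {X : Scheme.{u}} (M : X.Modules)

/-- sections over an open set missing the support vanish -/
theorem eq_zero_of_disjoint_support (V : X.Opens)
    (hV : ∀ x ∈ V, x ∉ CohB1.support M) (s : Γ(M, V)) : s = 0 := by
  refine TopCat.Presheaf.section_ext (⟨M.presheaf, M.isSheaf⟩ : TopCat.Sheaf Ab X) V s 0 ?_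
  intro x hx
  have hsub : Subsingleton (M.presheaf.stalk x) := by
    have := hV x hx
    unfold CohB1.support at this
    simpa using this
  exact Subsingleton.elim _ _

/-- a module with closed support consisting of closed points is flasque -/
theorem surjective_res [IsLocallyNoetherian X] (hcl : IsClosed (CohB1.support M))
    (h0 : ∀ x ∈ CohB1.support M, IsClosed ({x} : Set X)) (U : X.Opens) :
    Function.Surjective (res M (le_top : U ≤ ⊤)) := by
  intro s
  have hT : IsClosed (CohB1.support M ∩ (U : Set X)) :=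
    isClosed_of_subset _ hcl h0 _ Set.inter_subset_left
  let W : X.Opens := ⟨(CohB1.support M ∩ (U : Set X))ᶜ, hT.isOpen_compl⟩
  let V : Bool → X.Opens := fun b => Bool.rec W U b
  have hcover : (⊤ : X.Opens) ≤ iSup V := by
    intro x _
    by_cases hx : x ∈ U
    · exact Opens.mem_iSup.2 ⟨true, hx⟩
    · exact Opens.mem_iSup.2 ⟨false, fun h => hx h.2⟩
  let sf : ∀ b, Γ(M, V b) := fun b => Bool.rec (motive := fun b => Γ(M, V b)) (0 : Γ(M, W)) s b
  have hzero : ∀ (V' : X.Opens), V' ≤ U → V' ≤ W → ∀ t : Γ(M, V'), t = 0 := by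
    intro V' h1 h2 t
    refine eq_zero_of_disjoint_support M V' (fun x hx hsupp => ?_) t
    exact h2 hx ⟨hsupp, h1 hx⟩
  have hcompat : ∀ i j, res M (inf_le_left : V i ⊓ V j ≤ V i) (sf i) =
      res M (inf_le_right : V i ⊓ V j ≤ V j) (sf j) := by
    intro i j
    cases i <;> cases j
    · rfl
    · exact (hzero (V false ⊓ V true) inf_le_right inf_le_left _).trans
        (hzero (V false ⊓ V true) inf_le_right inf_le_left _).symm
    · exact (hzero (V true ⊓ V false) inf_le_left inf_le_right _).trans
        (hzero (V true ⊓ V false) inf_le_left inf_le_right _).symm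
    · rfl
  obtain ⟨x, hx⟩ := exists_gluing M V ⊤ (fun _ => le_top) hcover sf hcompat
  exact ⟨x, hx true⟩

theorem isFlasque [IsLocallyNoetherian X] (hcl : IsClosed (CohB1.support M))
    (h0 : ∀ x ∈ CohB1.support M, IsClosed ({x} : Set X)) :
    TopCat.Sheaf.IsFlasque (Coh.toAb M) :=
  (Groth.Agent.Lib.Helper2.CechGeoA4.isFlasque_iff M).2 (surjective_res M hcl h0)

end sheaf

end Groth.Agent.Lib.Helper7.ZeroDimSupport
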