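import Mathlib
import Groth.Agent.Lib.Helper7.ZeroMEMain
import Groth.Agent.Lib.Helper17.StalkExact
import Groth.Agent.Lib.Helper21.FlatDescQ4
import Groth.Agent.Lib.Helper29.FPFree

/-!
# Helper7 — ZeroMEScheme: scheme form of Stacks 00ME / EGA IV 11.3.7

* `fibre_injective_of_flat_coker`: the easy converse, for any ideal.
* `cokernelStalkEquiv`: the stalk of `Coker u` is the cokernel of the stalk map.
* `stalk_injective_and_flat_coker_iff`: the pointwise equivalence for `f : X ⟶ Y` locally of finite
  presentation and `u : F' ⟶ F` between finitely presented modules with `F` flat over `Y` at `x`.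
-/

set_option autoImplicit false

namespace Groth.Agent.Lib.Helper7.ZeroME

open TensorProduct Function IsLocalRing
open AlgebraicGeometry CategoryTheory Limits
open Groth.Agent.Lib.Helper17.StalkExact

universe u

section Converse

set_option maxHeartbeats 1600000 in
set_option synthInstance.maxHeartbeats 200000 in
/-- if `u` is injective with `R`-flat cokernel then `u` is injective modulo every ideal of `R`. -/
theorem fibre_injective_of_flat_coker {R S : Type u} [CommRing R] [CommRing S] [Algebra R S]
    {M N : Type u} [AddCommGroup M] [Module S M] [Module R M] [IsScalarTower R S M]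
    [AddCommGroup N] [Module S N] [Module R N] [IsScalarTower R S N]
    (u : M →ₗ[S] N) (hinj : Injective u) [Module.Flat R (N ⧸ LinearMap.range u)] (I : Ideal R)
    (x : M) (hx : u x ∈ I.map (algebraMap R S) • (⊤ : Submodule S N)) :
    x ∈ I.map (algebraMap R S) • (⊤ : Submodule S M) := by
  have h1 : u x ∈ I • (⊤ : Submodule R N) :=
    Groth.Agent.Lib.Helper2.FlatCrit.mem_smul_top_of_mem_map_smul_top I hx
  set π : N →ₗ[S] N ⧸ LinearMap.range u := (LinearMap.range u).mkQ with hπ
  have hex : Exact u π := LinearMap.exact_map_mkQ_range u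
  have hπs : Surjective π := Submodule.mkQ_surjective _
  have hlt : Injective ((u.restrictScalars R).lTensor (R ⧸ I)) :=
    Groth.Agent.Lib.Helper21.FlatDesc.lTensor_injective_of_flat_coker
      (u.restrictScalars R) (π.restrictScalars R) hinj hex hπs (R ⧸ I)
  have h2 : (u.restrictScalars R).lTensor (R ⧸ I) ((1 : R ⧸ I) ⊗ₜ[R] x) = 0 := by
    rw [LinearMap.lTensor_tmul]
    exact (Groth.Agent.Lib.Helper2.FlatCrit.one_tmul_eq_zero_iff I (u x)).2 h1
  have h3 : (1 : R ⧸ I) ⊗ₜ[R] x = 0 := hlt (by rw [h2, map_zero])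
  exact Groth.Agent.Lib.Helper2.FlatCrit.mem_map_smul_top_of_mem_smul_top I
    ((Groth.Agent.Lib.Helper2.FlatCrit.one_tmul_eq_zero_iff I x).1 h3)

end Converse

section CokerStalk

variable {X : Scheme.{u}} {F F' : X.Modules}

/-- the stalk of the cokernel is the cokernel of the stalk map. -/
noncomputable def cokernelStalkEquiv (u : F' ⟶ F) (x : X) :
    (F.presheaf.stalk x ⧸ LinearMap.range (stalkLinearMap u x)) ≃ₗ[X.presheaf.stalk x]
      (cokernel u).presheaf.stalk x :=
  Function.Exact.linearEquivOfSurjective (f := stalkLinearMap u x)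
    (g := stalkLinearMap (cokernel.π u) x)
    (stalkHom_exact_of_exact (ShortComplex.mk u (cokernel.π u) (cokernel.condition u))
      (ShortComplex.exact_cokernel u) x)
    (stalkHom_surjective_of_epi (cokernel.π u) x)

end CokerStalk

section Pointwise

open Groth.Agent.Lib.Helper21.FlatDesc

set_option maxHeartbeats 1600000 in
set_option synthInstance.maxHeartbeats 200000 in
/-- **EGA IV 11.3.7, pointwise scheme form.** -/
theorem stalk_injective_and_flat_coker_iff {X Y : Scheme.{u}} (f : X ⟶ Y)
    [LocallyOfFinitePresentation f] (F F' : X.Modules)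
    [SheafOfModules.IsFinitePresentation.{u} (R := X.ringCatSheaf) F]
    [SheafOfModules.IsFinitePresentation.{u} (R := X.ringCatSheaf) F'] (u : F' ⟶ F) (x : X)
    (hflat : FlatMod.IsFlatOverAt f F x) :
    (Function.Injective (stalkLinearMap u x) ∧ FlatMod.IsFlatOverAt f (cokernel u) x) ↔
      ∀ m : F'.presheaf.stalk x,
        stalkLinearMap u x m ∈
          (Ideal.map (f.stalkMap x).hom (maximalIdeal (Y.presheaf.stalk (f x)))) •
            (⊤ : Submodule (X.presheaf.stalk x) (F.presheaf.stalk x)) →
        m ∈ (Ideal.map (f.stalkMap x).hom (maximalIdeal (Y.presheaf.stalk (f x)))) •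
            (⊤ : Submodule (X.presheaf.stalk x) (F'.presheaf.stalk x)) := by
  letI aRS : Algebra (Y.presheaf.stalk (f x)) (X.presheaf.stalk x) := (f.stalkMap x).hom.toAlgebra
  haveI : IsLocalHom (algebraMap (Y.presheaf.stalk (f x)) (X.presheaf.stalk x)) :=
    inferInstanceAs (IsLocalHom (f.stalkMap x).hom)
  obtain ⟨C₀, _, a, b, TC, hab, ha, hloc⟩ := essFP_stalkMap f x
  letI aRC₀ : Algebra (Y.presheaf.stalk (f x)) C₀ := a.toAlgebra
  letI aC₀S : Algebra C₀ (X.presheaf.stalk x) := b.toAlgebra
  haveI twC : IsScalarTower (Y.presheaf.stalk (f x)) C₀ (X.presheaf.stalk x) :=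
    IsScalarTower.of_algebraMap_eq fun r => by
      show (f.stalkMap x).hom r = b (a r)
      rw [hab]; rfl
  haveI : Algebra.FinitePresentation (Y.presheaf.stalk (f x)) C₀ := ha
  haveI := hloc
  -- module structures over the base
  letI mRN : Module (Y.presheaf.stalk (f x)) (F.presheaf.stalk x) := FlatMod.moduleStalkOver f F x
  haveI tN : IsScalarTower (Y.presheaf.stalk (f x)) (X.presheaf.stalk x) (F.presheaf.stalk x) :=
    IsScalarTower.of_algebraMap_smul fun _ _ => rfl
  letI mRM : Module (Y.presheaf.stalk (f x)) (F'.presheaf.stalk x) := FlatMod.moduleStalkOver f F' x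
  haveI tM : IsScalarTower (Y.presheaf.stalk (f x)) (X.presheaf.stalk x) (F'.presheaf.stalk x) :=
    IsScalarTower.of_algebraMap_smul fun _ _ => rfl
  letI mRC : Module (Y.presheaf.stalk (f x)) ((cokernel u).presheaf.stalk x) :=
    FlatMod.moduleStalkOver f (cokernel u) x
  haveI tC : IsScalarTower (Y.presheaf.stalk (f x)) (X.presheaf.stalk x)
      ((cokernel u).presheaf.stalk x) :=
    IsScalarTower.of_algebraMap_smul fun _ _ => rfl
  haveI : Module.FinitePresentation (X.presheaf.stalk x) (F.presheaf.stalk x) :=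
    Groth.Agent.Lib.Helper29.FPFree.fp_stalk F x
  haveI : Module.FinitePresentation (X.presheaf.stalk x) (F'.presheaf.stalk x) :=
    Groth.Agent.Lib.Helper29.FPFree.fp_stalk F' x
  haveI hflatN : Module.Flat (Y.presheaf.stalk (f x)) (F.presheaf.stalk x) := hflat
  constructor
  · rintro ⟨hinj, hfl⟩ m hm
    haveI hflC : Module.Flat (Y.presheaf.stalk (f x)) ((cokernel u).presheaf.stalk x) := hfl
    haveI : Module.Flat (Y.presheaf.stalk (f x))
        (F.presheaf.stalk x ⧸ LinearMap.range (stalkLinearMap u x)) :=
      Module.Flat.of_linearEquiv ((cokernelStalkEquiv u x).restrictScalars (Y.presheaf.stalk (f x)))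
    exact fibre_injective_of_flat_coker (stalkLinearMap u x) hinj
      (maximalIdeal (Y.presheaf.stalk (f x))) m hm
  · intro h
    obtain ⟨h1, h2⟩ := injective_and_flat_coker_essFP (Y.presheaf.stalk (f x)) (X.presheaf.stalk x)
      C₀ TC (F'.presheaf.stalk x) (F.presheaf.stalk x) (stalkLinearMap u x) h
    refine ⟨h1, ?_⟩
    haveI := h2
    show Module.Flat (Y.presheaf.stalk (f x)) ((cokernel u).presheaf.stalk x)
    exact Module.Flat.of_linearEquiv
      ((cokernelStalkEquiv u x).symm.restrictScalars (Y.presheaf.stalk (f x)))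

end Pointwise

end Groth.Agent.Lib.Helper7.ZeroME
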